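import Groth.Agent.SpProper61.DenseScheme
import Groth.Agent.SpFP87.OverField
import Groth.Agent.S9795
import Groth.Agent.S9797
import Groth.Agent.S10482

/-!
Spaces of dimension zero.
-/

universe u

set_option autoImplicit false
set_option backward.isDefEq.respectTransparency false

open CategoryTheory CategoryTheory.Limits AlgebraicGeometry Topology
open AlgSp Groth.Agent.SpFP87 Groth.Agent.SpPts86

namespace Groth.Agent.SpProper61

variable {S : Scheme.{u}}

theorem dim_chart_le {X : Space S} {U : Over S} {a : (yon S).obj U ⟶ X.obj} (ha : RepWith @Etale a) :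
    topologicalKrullDim ↥U.left ≤ dim X.obj :=
  le_iSup_of_le (α := WithBot ℕ∞) U (le_iSup_of_le a (le_iSup_of_le ha le_rfl))

theorem maximal_of_dim_le_zero {U : Scheme.{u}} (h : topologicalKrullDim ↥U ≤ 0) (u : U) :
    ∀ w : U, w ⤳ u → w = u := by
  refine (SpFP87.dim_stalk_eq_zero_iff u).1 ?_
  rw [ringKrullDim_stalk_eq_coheight]
  refine le_antisymm (le_trans ?_ h) ((WithBot.coe_le_coe).2 bot_le)
  rw [SpFP87.topologicalKrullDim_eq_iSup]
  exact le_iSup (α := WithBot ℕ∞) (fun y : ↥U => ((Order.coheight y : ℕ∞) : WithBot ℕ∞)) u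

theorem exists_iso_of_open_subschemes {X : Space S}
    (H : ∀ x : Points X.obj, ∃ (M : Over S) (j : (yon S).obj M ⟶ X.obj), RepWith @IsOpenImmersion j ∧
      x ∈ Set.range (Points.ofPt j)) : ∃ U : Over S, Nonempty ((yon S).obj U ≅ X.obj) := by
  obtain ⟨X', j, hj, hrep, hT⟩ := exists_open_subscheme_containing X Set.univ (fun x _ => H x)
  have : Mono j.hom := mono_of_repWith_le isOpenImmersion_le_monomorphisms hj
  obtain ⟨k, hk⟩ := exists_factor_of_range_subset hj (𝟙 X.obj) (fun x _ => hT (Set.mem_univ x))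
  have : IsIso j.hom := ⟨k, by rw [← cancel_mono j.hom, Category.assoc, hk, Category.comp_id, Category.id_comp], hk⟩
  obtain ⟨U, ⟨r⟩⟩ := hrep.has_representation
  exact ⟨U, ⟨AlgSp.isoOfRepresentableBy r ≪≫ asIso j.hom⟩⟩

theorem repWith_etale_iso {X : Space S} {U : Over S} (e : (yon S).obj U ≅ X.obj) : RepWith @Etale e.hom :=
  (MorphismProperty.arrow_mk_iso_iff (RepWith @Etale)
    (Arrow.isoMk (Iso.refl _) e (by simp) : Arrow.mk (𝟙 ((yon S).obj U)) ≅ Arrow.mk e.hom)).1 (repWith_id _ U)

theorem isSeparated_scheme_of_qs_dim_zero [QuasiSeparatedSpace ↥S] (X : Space S) (hqs : IsQuasiSeparatedSp X.obj)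
    (hd : dim X.obj ≤ 0) :
    ∃ (U : Over S) (_ : (yon S).obj U ≅ X.obj), U.left.IsSeparated ∧
      ∀ V : U.left.Opens, IsCompact (V : Set ↥U.left) → IsAffineOpen V := by
  obtain ⟨U, ⟨e⟩⟩ := exists_iso_of_open_subschemes (X := X) fun x => by
    refine exists_open_subscheme_nhd_codimZero hqs x ?_
    obtain ⟨U, a, ha, has⟩ := X.property.atlas
    obtain ⟨u, hu⟩ := surjective_ofPt has x
    exact ⟨U, a, u, ha, hu, (SpFP87.dim_stalk_eq_zero_iff u).2
      (maximal_of_dim_le_zero ((dim_chart_le ha).trans hd) u)⟩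
  have hUd : topologicalKrullDim ↥U.left ≤ 0 := (dim_chart_le (repWith_etale_iso e)).trans hd
  have hU : RepWith @QuasiCompact (Limits.diag ((yon S).obj U)) := by
    have h : RepWith @QuasiCompact (Limits.diag X.obj) := hqs
    refine (MorphismProperty.arrow_mk_iso_iff (RepWith @QuasiCompact)
      (Arrow.isoMk e (prod.mapIso e e) ?_ : Arrow.mk (Limits.diag ((yon S).obj U)) ≅ Arrow.mk (Limits.diag X.obj))).2 h
    apply Limits.prod.hom_ext <;> simp
  have : QuasiSeparated U.hom := ⟨(repWith_diag_yon_iff (@QuasiCompact : MorphismProperty Scheme.{u}) U).1 hU⟩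
  have : QuasiSeparatedSpace ↥U.left := quasiSeparatedSpace_of_quasiSeparated U.hom
  have := S9795.result U.left hUd
  exact ⟨U, e, this, fun V hV => S9797.result U.left hUd V hV⟩

section Field

variable {k : Type u} [Field k] {X : Space (Spec (CommRingCat.of k))}

theorem exists_scheme_discrete_of_dim_zero
    (p : X.obj ⟶ (yon (Spec (CommRingCat.of k))).obj (Over.mk (𝟙 _))) (hp : LocP @LocallyOfFiniteType p)
    (hd : dim X.obj ≤ 0) :
    ∃ (U : Over (Spec (CommRingCat.of k))) (_ : (yon (Spec (CommRingCat.of k))).obj U ≅ X.obj),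
      IsLocallyNoetherian U.left ∧ DiscreteTopology ↥U.left ∧ LocallyOfFiniteType U.hom := by
  obtain ⟨U₀, ⟨e⟩⟩ := exists_iso_of_open_subschemes (X := X) fun x => by
    obtain ⟨U, a, hU, ha, hxa⟩ := exists_affine_chart_containing X.property {x} (Set.finite_singleton x)
    obtain ⟨u, hu⟩ := hxa rfl
    have := hU
    obtain ⟨_, _⟩ := chart_over_field p hp ha
    have hdU := (dim_chart_le ha).trans hd
    have : DiscreteTopology ↥U.left := discreteTopology_of_dim_le_zero hdU
    have : Finite ↥U.left := finite_of_compact_of_discrete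
    obtain ⟨g, hg⟩ := (yon _).map_surjective (a ≫ p)
    have : LocallyOfFiniteType g.left := hp a (𝟙 _) g ha (repWith_id _ _) (by rw [Category.comp_id]; exact hg.symm)
    have : IsAffine (Spec (CommRingCat.of k)) := inferInstance
    have : CompactSpace ↥(Over.mk (𝟙 (Spec (CommRingCat.of k)))).left :=
      inferInstanceAs (CompactSpace ↥(Spec (CommRingCat.of k)))
    have : IsAffine (Over.mk (𝟙 (Spec (CommRingCat.of k)))).left :=
      inferInstanceAs (IsAffine (Spec (CommRingCat.of k)))
    have : QuasiSeparatedSpace ↥(Over.mk (𝟙 (Spec (CommRingCat.of k)))).left :=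
      inferInstanceAs (QuasiSeparatedSpace ↥(Spec (CommRingCat.of k)))
    have : QuasiCompact g.left := (quasiCompact_iff_compactSpace g.left).2 inferInstance
    have : LocallyQuasiFinite g.left := by
      refine LocallyQuasiFinite.of_finite_preimage_singleton g.left fun y => Set.toFinite _
    obtain ⟨R, t, s, sq⟩ := exists_isPullback_yon X.property.diag a a
    obtain ⟨W, q₁, q₂, sqW⟩ := exists_isPullback_yon (IsAlgSpace.yon_obj _).diag ((yon _).map g) ((yon _).map g)
    have hsW := isPullback_left_of_yon sqW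
    have : QuasiCompact q₂.left := MorphismProperty.of_isPullback (P := @QuasiCompact) hsW ‹_›
    have : LocallyQuasiFinite q₂.left := MorphismProperty.of_isPullback (P := @LocallyQuasiFinite) hsW ‹_›
    have : Finite ↥W.left := by
      refine Set.finite_univ_iff.1 ?_
      refine (Set.Finite.biUnion (Set.finite_univ (α := ↥U.left)) fun v _ => q₂.left.finite_preimage_singleton v).subset
        fun z _ => Set.mem_biUnion (Set.mem_univ _) rfl
    obtain ⟨w, hw⟩ := (yon _).map_surjective (sqW.lift ((yon _).map t) ((yon _).map s)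
      (by rw [hg, ← Category.assoc, ← Category.assoc, sq.w]))
    have hwp : w ≫ q₁ = t := (yon _).map_injective (by rw [Functor.map_comp, hw, sqW.lift_fst])
    have hwq : w ≫ q₂ = s := (yon _).map_injective (by rw [Functor.map_comp, hw, sqW.lift_snd])
    have : Mono w := ⟨fun {T} g₁ g₂ e => (yon _).map_injective (sq.hom_ext
      (by rw [← Functor.map_comp, ← Functor.map_comp, ← hwp, ← Category.assoc, e, Category.assoc])
      (by rw [← Functor.map_comp, ← Functor.map_comp, ← hwq, ← Category.assoc, e, Category.assoc]))⟩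
    have : Mono w.left := Groth.Agent.SpFP87.mono_left_of_mono w
    have : Finite ↥R.left := Finite.of_injective w.left (injective_of_mono w.left)
    have : CompactSpace ↥R.left := Finite.compactSpace
    have : QuasiCompact s.left := (quasiCompact_iff_compactSpace s.left).2 inferInstance
    obtain ⟨M, j, hj, hm⟩ := exists_open_subscheme_at_maximal ha sq (maximal_of_dim_le_zero hdU u)
    exact ⟨M, j, hj, hu ▸ hm⟩
  obtain ⟨hN, _⟩ := chart_over_field p hp (repWith_etale_iso e)
  obtain ⟨g, hg⟩ := (yon _).map_surjective (e.hom ≫ p)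
  have hl : LocallyOfFiniteType g.left :=
    hp e.hom (𝟙 _) g (repWith_etale_iso e) (repWith_id _ _) (by rw [Category.comp_id]; exact hg.symm)
  have hgw : g.left = U₀.hom := by simpa using Over.w g
  exact ⟨U₀, e, hN, discreteTopology_of_dim_le_zero ((dim_chart_le (repWith_etale_iso e)).trans hd), hgw ▸ hl⟩

theorem isSeparated_scheme_of_lft_dim_zero
    (p : X.obj ⟶ (yon (Spec (CommRingCat.of k))).obj (Over.mk (𝟙 _))) (hp : LocP @LocallyOfFiniteType p)
    (hd : dim X.obj ≤ 0) :
    ∃ (U : Over (Spec (CommRingCat.of k))) (_ : (yon (Spec (CommRingCat.of k))).obj U ≅ X.obj), U.left.IsSeparated ∧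
      ∀ V : U.left.Opens, IsCompact (V : Set ↥U.left) → IsAffineOpen V := by
  obtain ⟨U, e, hN, hdisc, -⟩ := exists_scheme_discrete_of_dim_zero p hp hd
  have : QuasiSeparatedSpace ↥U.left :=
    ⟨fun A B _ hA _ hB => ((isCompact_iff_finite.1 hA).inter_of_left B).isCompact⟩
  have hUd : topologicalKrullDim ↥U.left ≤ 0 := (dim_chart_le (repWith_etale_iso e)).trans hd
  exact ⟨U, e, S9795.result U.left hUd, fun V hV => @S9797.result U.left (S9795.result U.left hUd) hUd V hV⟩

theorem lqf_field_iff (p : X.obj ⟶ (yon (Spec (CommRingCat.of k))).obj (Over.mk (𝟙 _))) :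
    LocP (@LocallyQuasiFinite ⊓ @LocallyOfFiniteType : MorphismProperty Scheme.{u}) p ↔
      ∃ (U : Over (Spec (CommRingCat.of k))) (_ : (yon (Spec (CommRingCat.of k))).obj U ≅ X.obj),
        ∀ u : ↥U.left, ∃ V : U.left.Opens,
        u ∈ V ∧ IsAffineOpen V ∧ IsArtinianRing ↥Γ(U.left, V) ∧ IsLocalRing ↥Γ(U.left, V) ∧
          IsFinite (V.ι ≫ U.hom) := by
  constructor
  · intro h
    obtain ⟨hl, hd⟩ := (S10482.result k X p).1 h
    obtain ⟨U, e, hN, hdisc, hlU⟩ := exists_scheme_discrete_of_dim_zero p hl hd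
    have := hN; have := hdisc
    have : IsLocallyArtinian U.left :=
      IsLocallyArtinian.iff_isLocallyNoetherian_and_discreteTopology.2 ⟨hN, hdisc⟩
    refine ⟨U, e, fun u => ?_⟩
    let V : U.left.Opens := ⟨{u}, isOpen_discrete _⟩
    obtain ⟨O, hO, huO, hle⟩ := exists_isAffineOpen_mem_and_subset (x := u) (U := V) (Set.mem_singleton u)
    have hV : IsAffineOpen V := by
      have : O = V := le_antisymm hle fun z hz => (Set.mem_singleton_iff.1 hz) ▸ huO
      rwa [this] at hO
    have hA : IsArtinianRing ↥Γ(U.left, V) := IsLocallyArtinian.isArtinianRing_presheaf_obj ⟨V, hV⟩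
    have hsub : Subsingleton ↥V.toScheme := ⟨fun a b =>
      Subtype.ext ((Set.mem_singleton_iff.1 a.2).trans (Set.mem_singleton_iff.1 b.2).symm)⟩
    refine ⟨V, Set.mem_singleton u, hV, hA, ?_, ?_⟩
    · have : Subsingleton (PrimeSpectrum ↥Γ(U.left, V)) := ⟨fun a b => hV.fromSpec.injective (by
        have h1 : ∀ z, hV.fromSpec z = u := fun z => Set.mem_singleton_iff.1 (hV.range_fromSpec.le ⟨z, rfl⟩)
        rw [h1, h1])⟩
      obtain ⟨q, hq⟩ : u ∈ Set.range hV.fromSpec := hV.range_fromSpec.ge (Set.mem_singleton u)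
      have : Nontrivial ↥Γ(U.left, V) := PrimeSpectrum.nonempty_iff_nontrivial.1 ⟨q⟩
      exact IsLocalRing.of_unique_max_ideal ⟨q.asIdeal, IsArtinianRing.isMaximal_of_isPrime q.asIdeal, fun m hm =>
        congrArg PrimeSpectrum.asIdeal (Subsingleton.elim (⟨m, hm.isPrime⟩ : PrimeSpectrum _) q)⟩
    · have : IsAffine V.toScheme := hV
      have : LocallyOfFiniteType U.hom := hlU
      have : QuasiCompact (V.ι ≫ U.hom) := (quasiCompact_iff_compactSpace _).2 inferInstance
      have : LocallyQuasiFinite (V.ι ≫ U.hom) :=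
        LocallyQuasiFinite.of_finite_preimage_singleton _ fun y => Set.toFinite _
      exact IsFinite.of_locallyQuasiFinite _
  · rintro ⟨U, e, hV⟩
    choose V huV hVa hVA hVl hVf using hV
    have key : (@LocallyQuasiFinite ⊓ @LocallyOfFiniteType : MorphismProperty Scheme.{u}) U.hom := by
      have : IsZariskiLocalAtSource ((@LocallyQuasiFinite : MorphismProperty Scheme.{u}) ⊓ @LocallyOfFiniteType) :=
        inferInstance
      refine (IsZariskiLocalAtSource.iff_of_iSup_eq_top (fun u : ↥U.left => V u)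
        (top_le_iff.1 fun z _ => TopologicalSpace.Opens.mem_iSup.2 ⟨z, huV z⟩)).2 fun u => ?_
      have := hVf u
      exact ⟨inferInstance, inferInstance⟩
    intro U' V' a b g ha hb w
    have hπ : RepWith (@LocallyQuasiFinite ⊓ @LocallyOfFiniteType : MorphismProperty Scheme.{u})
        ((yon (Spec (CommRingCat.of k))).map (Over.homMk U.hom : U ⟶ Over.mk (𝟙 _))) :=
      (repWith_yon_map_iff _ _).2 key
    have hpe : e.hom ≫ p = (yon (Spec (CommRingCat.of k))).map (Over.homMk U.hom : U ⟶ Over.mk (𝟙 _)) := by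
      obtain ⟨g₀, hg₀⟩ := (yon (Spec (CommRingCat.of k))).map_surjective (e.hom ≫ p)
      rw [← hg₀]
      congr 1
      exact Over.OverMorphism.ext (by simpa using Over.w g₀)
    have hp' : RepWith (@LocallyQuasiFinite ⊓ @LocallyOfFiniteType : MorphismProperty Scheme.{u}) p := by
      rw [← MorphismProperty.cancel_left_of_respectsIso (RepWith _) e.hom, hpe]
      exact hπ
    exact locP_of_repWith X.property.diag (IsAlgSpace.yon_obj _) hp' a b g ha hb w

end Field

end Groth.Agent.SpProper61
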