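import Groth.Agent.SpProper61.QfFinite
import Groth.Agent.SpPts86.QFFinite
import Groth.Agent.SpPts86.ResTrdeg
import Groth.Agent.SpPts86.Codim
import Groth.Agent.SpFP87.NoethDesc

/-!
Quasi-finiteness over points of codimension at most one.
-/

universe u

set_option autoImplicit false
set_option backward.isDefEq.respectTransparency false

open CategoryTheory CategoryTheory.Limits AlgebraicGeometry Topology
open AlgSp Groth.Agent.SpFP87 Groth.Agent.SpPts86

namespace Groth.Agent.SpProper61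

theorem quasiFiniteAt_iff_nearPt {U V : Scheme.{u}} (h : U ⟶ V) [LocallyOfFiniteType h] (u : U) :
    h.QuasiFiniteAt u ↔ QfAt U V h u := by
  refine Iff.trans ?_ (nearPt_lqf_iff h u).symm
  constructor
  · intro hq
    obtain ⟨z, hz, hfz, he, -⟩ := E4O.exists_fibreDimAt_eq h u
    have hzu : z = u := by
      obtain ⟨a, rfl⟩ := (h.range_fiberι (h u)).ge hfz
      have hs : a ⤳ h.asFiber u := (h.fiberι (h u)).isEmbedding.isInducing.specializes_iff.1
        (by rw [Scheme.Hom.fiberι_asFiber]; exact hz)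
      rw [show a = h.asFiber u from hs.mem_open hq.isClopen_singleton_asFiber.2 rfl]
      exact Scheme.Hom.fiberι_asFiber h u
    rw [he, hzu, VarGal.fdeg_eq_zero_of_quasiFiniteAt h hq]
  · intro hu
    refine VarGal.quasiFiniteAt_of_fdeg_eq_zero h u fun z hz e => ?_
    have := (E4O.fdeg_le_fibreDimAt hz e).trans hu
    exact Nat.le_zero.1 (Nat.cast_le.1 this)

theorem fdeg_eq_zero_of_qfAt {U V : Scheme.{u}} (h : U ⟶ V) [LocallyOfFiniteType h] (u : U)
    (hu : QfAt U V h u) : E4O.fdeg h u = 0 :=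
  VarGal.fdeg_eq_zero_of_quasiFiniteAt h ((quasiFiniteAt_iff_nearPt h u).2 hu)

theorem qfAt_of_codim_le_one {U V : Scheme.{u}} [IsLocallyNoetherian V] (h : U ⟶ V) [LocallyOfFiniteType h]
    (u : U) (hdim : ringKrullDim ↥(V.presheaf.stalk (h u)) ≤ 1)
    (hgen : ∀ η : U, η ⤳ u → (∀ w : U, w ⤳ η → w = η) → E4O.fdeg h η = 0) : QfAt U V h u := by
  refine (quasiFiniteAt_iff_nearPt h u).1 (VarGal.quasiFiniteAt_of_fdeg_eq_zero h u fun z hz hfz => ?_)
  obtain ⟨η, hηz, hη⟩ := VarGal.exists_maximal_generization_top z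
  have hη0 := hgen η (hηz.trans hz) hη
  by_cases he : h η = h z
  · exact Nat.le_zero.1 (hη0 ▸ E4O.fdeg_le hηz he)
  · have : IsNoetherianRing ↥(V.presheaf.stalk (h z)) := inferInstance
    have h1 := VarGal.fdeg_add_one_le h hηz he
    rw [hη0, hfz] at h1
    have h2 : ((E4O.fdeg h z + 1 : ℕ) : WithBot ℕ∞) ≤ ((1 : ℕ) : WithBot ℕ∞) :=
      h1.trans (by push_cast; rw [zero_add]; exact hdim)
    exact Nat.le_zero.1 (Nat.le_of_add_le_add_right (Nat.cast_le.1 h2))

/-- A maximal point of a locally noetherian scheme has a neighbourhood of specializations of it. -/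
theorem exists_nhd_specializes {U : Scheme.{u}} [IsLocallyNoetherian U] {η : U}
    (hη : ∀ w : U, w ⤳ η → w = η) : ∃ O : Set U, IsOpen O ∧ η ∈ O ∧ ∀ z ∈ O, η ⤳ z := by
  obtain ⟨V, hV, hηV, -⟩ := exists_isAffineOpen_mem_and_subset (x := η) (U := ⊤) trivial
  have : IsAffine V.toScheme := hV
  have : IsNoetherian V.toScheme := ⟨⟩
  have hfin := TopologicalSpace.NoetherianSpace.finite_irreducibleComponents (α := V.toScheme)
  let e : V.toScheme := ⟨η, hηV⟩
  let K : Set V.toScheme := ⋃ Z ∈ {Z ∈ irreducibleComponents V.toScheme | e ∉ Z}, Z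
  have hK : IsClosed K := (hfin.subset fun Z hZ => hZ.1).isClosed_biUnion fun Z hZ =>
    isClosed_of_mem_irreducibleComponents _ hZ.1
  refine ⟨V.ι '' Kᶜ, V.ι.isOpenEmbedding.isOpenMap _ hK.isOpen_compl, ⟨e, ?_, rfl⟩, ?_⟩
  · simp only [K, Set.mem_compl_iff, Set.mem_iUnion, not_exists]
    exact fun Z hZ => hZ.2
  · rintro _ ⟨z, hz, rfl⟩
    have hC := irreducibleComponent_mem_irreducibleComponents z
    have heC : e ∈ irreducibleComponent z := by
      by_contra hh
      exact hz (Set.mem_biUnion ⟨hC, hh⟩ mem_irreducibleComponent)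
    obtain ⟨ζ, hζ⟩ := QuasiSober.sober hC.1 (isClosed_of_mem_irreducibleComponents _ hC)
    have e1 : V.ι ζ = η := hη _ ((hζ.specializes heC).map V.ι.continuous)
    exact e1 ▸ (hζ.specializes mem_irreducibleComponent).map V.ι.continuous

variable {S : Scheme.{u}} {X Y : Space S}

/-- The common core: quasi-finiteness over a point of codimension at most one follows from vanishing
of the degree at the maximal points of a chart above it. -/
theorem hasAtMor_qf_of_codim_le_one (f : X ⟶ Y) (hf : LocP @LocallyOfFiniteType f.hom)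
    (hY : IsLocNoethSp Y.obj) (y : Points Y.obj)
    (hy : HasAt (fun U u => ringKrullDim ↥(U.presheaf.stalk u) ≤ 1) Y.obj y)
    (H : ∀ (U V : Over S) (a : (yon S).obj U ⟶ X.obj) (b : (yon S).obj V ⟶ Y.obj) (h : U ⟶ V) (η : ↥U.left),
      RepWith @Etale a → RepWith @Etale b → a ≫ f.hom = (yon S).map h ≫ b →
      IsLocallyNoetherian U.left → LocallyOfFiniteType h.left →
      (∀ w : ↥U.left, w ⤳ η → w = η) → Points.map f.hom (Points.ofPt a η) ⤳ y → E4O.fdeg h.left η = 0)
    (x : Points X.obj) (hx : Points.map f.hom x = y) : HasAtMor QfAt f.hom x := by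
  obtain ⟨U, V, a, b, h, u, ha, hb, w, hu⟩ := exists_diagram_through X.property Y.property f.hom x
  have : LocallyOfFiniteType h.left := hf a b h ha hb w
  have : IsLocallyNoetherian V.left := isLocallyNoetherian_chart Y.property hY hb
  have hv : Points.ofPt b (h.left u) = y := by rw [← hx, ← hu, Points.map_ofPt, w, ofPt_comp]
  have hd : ringKrullDim ↥(V.left.presheaf.stalk (h.left u)) ≤ 1 :=
    forall_chart_of_hasAt Y.property (Q := fun U u => ringKrullDim ↥(U.presheaf.stalk u) ≤ 1)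
      (fun g hg a => by have := hg; rw [ringKrullDim_stalk_etale g a]) hy hb hv
  refine ⟨U, V, a, b, h, u, ha, hb, w, hu, qfAt_of_codim_le_one h.left u hd fun η hηu hη => ?_⟩
  refine H U V a b h η ha hb w (LocallyOfFiniteType.isLocallyNoetherian h.left) ‹_› hη ?_
  rw [← hx, ← hu]
  exact (hηu.map (Points.continuous_ofPt a)).map (Points.continuous_map f.hom)

theorem hasAt_codimZero_ofPt {F : Sp S} {U : Over S} {a : (yon S).obj U ⟶ F} (ha : RepWith @Etale a) {η : ↥U.left}
    (hη : ∀ w : ↥U.left, w ⤳ η → w = η) :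
    HasAt (fun U u => ringKrullDim ↥(U.presheaf.stalk u) = 0) F (Points.ofPt a η) :=
  ⟨U, a, η, ha, rfl, (SpFP87.dim_stalk_eq_zero_iff η).2 hη⟩

theorem hasAtMor_qf_of_trdeg (f : X ⟶ Y) (hf : LocP @LocallyOfFiniteType f.hom)
    (hY : IsLocNoethSp Y.obj) (y : Points Y.obj)
    (hy : HasAt (fun U u => ringKrullDim ↥(U.presheaf.stalk u) ≤ 1) Y.obj y)
    (h : ∀ x : Points X.obj, HasAt (fun U u => ringKrullDim ↥(U.presheaf.stalk u) = 0) X.obj x →
      Points.map f.hom x ⤳ y → HasAtMor (fun _ _ h u => Dual3.resTrdeg h u = 0) f.hom x)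
    (x : Points X.obj) (hx : Points.map f.hom x = y) : HasAtMor QfAt f.hom x := by
  refine hasAtMor_qf_of_codim_le_one f hf hY y hy ?_ x hx
  intro U V a b g η ha hb w _ hl hη hsp
  have := hl
  have h0 : Dual3.resTrdeg g.left η = 0 := forall_diagram_of_hasAtMor X.property Y.property
    (Q := fun _ _ h u => Dual3.resTrdeg h u = 0) (etInv_resTrdeg (· = 0))
    (h _ (hasAt_codimZero_ofPt ha hη) hsp) ha hb w rfl
  rw [resTrdeg_eq_fdeg] at h0
  exact_mod_cast h0

theorem etInv_qfAt : EtInv QfAt.{u} :=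
  etInv_nearPt ((@LocallyQuasiFinite : MorphismProperty Scheme.{u}) ⊓ @LocallyOfFiniteType)

theorem hasAtMor_qf_of_dense (f : X ⟶ Y) (hf : LocP @LocallyOfFiniteType f.hom)
    (hY : IsLocNoethSp Y.obj) (y : Points Y.obj)
    (hy : HasAt (fun U u => ringKrullDim ↥(U.presheaf.stalk u) ≤ 1) Y.obj y)
    (h : Dense {x : Points X.obj | HasAtMor QfAt f.hom x})
    (x : Points X.obj) (hx : Points.map f.hom x = y) : HasAtMor QfAt f.hom x := by
  refine hasAtMor_qf_of_codim_le_one f hf hY y hy ?_ x hx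
  intro U V a b g η ha hb w hN hl hη _
  have := hl; have := hN
  obtain ⟨O, hO, hηO, hOs⟩ := exists_nhd_specializes hη
  obtain ⟨_, ⟨z, hzO, rfl⟩, hz⟩ := h.inter_open_nonempty _ (isOpenMap_ofPt ha O hO) ⟨_, η, hηO, rfl⟩
  obtain ⟨W, hzW, hW⟩ := forall_diagram_of_hasAtMor X.property Y.property etInv_qfAt hz ha hb w rfl
  exact fdeg_eq_zero_of_qfAt g.left η ⟨W, (hOs z hzO).mem_open W.isOpen hzW, hW⟩

theorem hasAtMor_qf_of_codimZero (f : X ⟶ Y) (hf : LocP @LocallyOfFiniteType f.hom)
    (hY : IsLocNoethSp Y.obj) (y : Points Y.obj)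
    (hy : HasAt (fun U u => ringKrullDim ↥(U.presheaf.stalk u) ≤ 1) Y.obj y)
    (h : ∀ x : Points X.obj, HasAt (fun U u => ringKrullDim ↥(U.presheaf.stalk u) = 0) X.obj x →
      HasAtMor QfAt f.hom x)
    (x : Points X.obj) (hx : Points.map f.hom x = y) : HasAtMor QfAt f.hom x := by
  refine hasAtMor_qf_of_codim_le_one f hf hY y hy ?_ x hx
  intro U V a b g η ha hb w _ hl hη _
  have := hl
  exact fdeg_eq_zero_of_qfAt g.left η
    (forall_diagram_of_hasAtMor X.property Y.property etInv_qfAt (h _ (hasAt_codimZero_ofPt ha hη)) ha hb w rfl)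

/-- Finiteness over a neighbourhood, in the form with the projection to the open as first leg. -/
theorem exists_finite_nhd' (f : X ⟶ Y) (y : Points Y.obj) (hf : IsProperMor f.hom)
    (hq : ∀ x : Points X.obj, Points.map f.hom x = y → HasAtMor QfAt f.hom x) :
    ∃ (Y' : Space S) (j : Y' ⟶ Y), RepWith @IsOpenImmersion j.hom ∧ y ∈ Set.range (Points.map j.hom) ∧
      ∀ (P : Space S) (fst : P ⟶ Y') (snd : P ⟶ X), IsPullback fst.hom snd.hom j.hom f.hom →
        IsFiniteMor fst.hom := by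
  obtain ⟨V, j, h1, h2, h3⟩ := exists_finite_nhd f y hf hq
  exact ⟨V, j, h1, h2, fun P fst snd sq => h3 P snd fst sq.flip⟩

end Groth.Agent.SpProper61
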