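import Groth.Agent.SpProper61.CodimOne
import Groth.Agent.SpPts86.HasAtMorBC
import Groth.Agent.SpPts86.Compact
import Groth.Agent.SpPts86.QCMor
import Groth.Agent.SpFP87.EtLocInst
import Groth.Agent.SpFP87.MonoPoint

/-!
Finiteness of the set of points of a fibre product above a pair of points.
-/

universe u

set_option autoImplicit false
set_option backward.isDefEq.respectTransparency false

open CategoryTheory CategoryTheory.Limits AlgebraicGeometry Topology
open AlgSp Groth.Agent.SpFP87 Groth.Agent.SpPts86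

namespace Groth.Agent.SpProper61

variable {S : Scheme.{u}} {X Y Z W : Space S}

theorem finite_pair_of_qfAt (f : X ⟶ Y) (g : Z ⟶ Y) (p : W ⟶ X) (q : W ⟶ Z)
    (hW : IsPullback p.hom q.hom f.hom g.hom) (x : Points X.obj) (z : Points Z.obj)
    (hft : IsFiniteTypeMor f.hom) (hf : HasAtMor QfAt f.hom x) :
    {w : Points W.obj | Points.map p.hom w = x ∧ Points.map q.hom w = z}.Finite := by
  induction z using Points.ind with
  | h r =>
  let T : Over S := r.pt
  let gT : (yon S).obj T ⟶ Y.obj := r.toHom ≫ g.hom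
  have sq := IsPullback.of_hasPullback f.hom gT
  have hXk := isAlgSpace_of_isPullback sq X.property (IsAlgSpace.yon_obj T) Y.property.diag
  let φ : pullback f.hom gT ⟶ W.obj := hW.lift (pullback.fst f.hom gT) (pullback.snd f.hom gT ≫ r.toHom)
    (by rw [Category.assoc]; exact sq.w)
  have hφp : φ ≫ p.hom = pullback.fst f.hom gT := hW.lift_fst _ _ _
  have hφq : φ ≫ q.hom = pullback.snd f.hom gT ≫ r.toHom := hW.lift_snd _ _ _
  have sqφ : IsPullback φ (pullback.snd f.hom gT) q.hom r.toHom :=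
    IsPullback.of_right (by rw [hφp]; exact sq) hφq hW
  have : CompactSpace ↥T.left := inferInstanceAs (CompactSpace (PrimeSpectrum r.K))
  have := compactSpace_points_yon T
  have := compactSpace_of_isQuasiCompactMor hft.2 (IsAlgSpace.yon_obj T) sq
  obtain ⟨U, c, hU, hc, hcs⟩ := exists_affine_chart_of_compactSpace hXk
  obtain ⟨h, hh⟩ := (yon S).map_surjective (c ≫ pullback.snd f.hom gT)
  have w : c ≫ pullback.snd f.hom gT = (yon S).map h ≫ 𝟙 _ := by rw [Category.comp_id, hh]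
  have hlft : LocallyOfFiniteType h.left :=
    locP_baseChange sq X.property Y.property (IsAlgSpace.yon_obj T) hft.1 c (𝟙 _) h hc (repWith_id _ T) w
  have := hU
  have : IsAffine T.left := inferInstanceAs (IsAffine (Spec (CommRingCat.of r.K)))
  have : QuasiCompact h.left := (quasiCompact_iff_compactSpace h.left).2 inferInstance
  have : Subsingleton ↥T.left := inferInstanceAs (Subsingleton (PrimeSpectrum r.K))
  let t : ↥T.left := (IsLocalRing.closedPoint r.K : PrimeSpectrum r.K)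
  refine (((finite_quasiFiniteAt_fibre h.left t).image (fun u => Points.map φ (Points.ofPt c u)))).subset ?_
  rintro w' ⟨hwx, hwz⟩
  obtain ⟨s, hs, -⟩ := exists_of_isPullback sqφ w' (Points.ofPt (𝟙 _) t) (by
    rw [hwz, Points.map_ofPt, Category.id_comp]
    exact (Points.ofPt_toHom r t).symm)
  obtain ⟨u, rfl⟩ := surjective_ofPt hcs s
  refine ⟨u, ⟨Subsingleton.elim _ _, ?_⟩, hs⟩
  have hx : Points.map (pullback.fst f.hom gT) (Points.ofPt c u) = x := by
    rw [← hφp, Points.map_comp, hs, hwx]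
  obtain ⟨A, B, a, b, k, v, ha, hb, wk, hv, hqk⟩ := hf
  have := hft.1 a b k ha hb wk
  have h0 : HasAtMor (fun _ _ h u => FlatMor.fibreDimAt h u ≤ ((0 : ℕ) : WithBot ℕ∞)) f.hom
      (Points.map (pullback.fst f.hom gT) (Points.ofPt c u)) := by
    rw [hx]
    exact ⟨A, B, a, b, k, v, ha, hb, wk, hv, (nearPt_lqf_iff k.left v).1 hqk⟩
  exact forall_diagram_of_hasAtMor hXk (IsAlgSpace.yon_obj T)
    (Q := fun _ _ h u => FlatMor.fibreDimAt h u ≤ ((0 : ℕ) : WithBot ℕ∞))
    (etInv_fibreDim (· ≤ ((0 : ℕ) : WithBot ℕ∞)))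
    ((hasAtMor_fibreDim_baseChange (· ≤ ((0 : ℕ) : WithBot ℕ∞)) sq X.property Y.property
      (IsAlgSpace.yon_obj T) hft.1 _).2 h0) hc (repWith_id _ T) w rfl

theorem discreteTopology_of_lqf_subsingleton {A B : Scheme.{u}} (f : A ⟶ B) [LocallyQuasiFinite f]
    [LocallyOfFiniteType f] [Subsingleton ↥B] : DiscreteTopology ↥A := by
  refine discreteTopology_iff_isOpen_singleton.2 fun a => ?_
  have := locallyQuasiFinite_iff_isDiscrete_preimage_singleton.1 ‹_› (f a)
  rw [show f ⁻¹' {f a} = Set.univ from Set.eq_univ_of_forall fun z => Subsingleton.elim _ _,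
    isDiscrete_univ_iff] at this
  exact isOpen_discrete _

/-- Finitely many points of `E` lie over a point of an etale chart, for `E` its pullback to a field over a
monomorphic point. -/
theorem finite_over_chart_point {V D E T K : Over S} [IsAffine V.left] [Subsingleton ↥T.left] [IsAffine T.left]
    [Subsingleton ↥K.left] [IsAffine K.left] {d₁ : D ⟶ V} {d₂ : D ⟶ K} [Mono d₁.left] [Etale d₂.left]
    {c : E ⟶ D} {e₂ : E ⟶ T} {k : T ⟶ K} (sq : IsPullback c.left e₂.left d₂.left k.left) (v : ↥V.left) :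
    {e : ↥E.left | d₁.left (c.left e) = v}.Finite := by
  by_cases hv : ∃ e, d₁.left (c.left e) = v
  swap
  · convert Set.finite_empty
    ext e
    simp only [Set.mem_setOf_eq, Set.mem_empty_iff_false, iff_false]
    exact fun he => hv ⟨e, he⟩
  obtain ⟨e₀, he₀⟩ := hv
  have hsub : {e : ↥E.left | d₁.left (c.left e) = v} ⊆ c.left ⁻¹' {c.left e₀} := fun e he =>
    injective_of_mono d₁.left (he.trans he₀.symm)
  refine Set.Finite.subset ?_ hsub
  have : LocallyQuasiFinite d₂.left := etale_locallyQuasiFinite d₂.left ‹_›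
  have := discreteTopology_of_lqf_subsingleton d₂.left
  have : Etale e₂.left := MorphismProperty.of_isPullback (P := @Etale) sq ‹_›
  have : LocallyQuasiFinite e₂.left := etale_locallyQuasiFinite e₂.left ‹_›
  have := discreteTopology_of_lqf_subsingleton e₂.left
  have : QuasiCompact c.left := MorphismProperty.of_isPullback (P := @QuasiCompact) sq.flip inferInstance
  exact (QuasiCompact.isCompact_preimage (f := c.left) _ (isOpen_discrete _) isCompact_singleton).finite_of_discrete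

theorem exists_affine_diagram (f : X ⟶ Y) (x : Points X.obj) :
    ∃ (U V : Over S) (a : (yon S).obj U ⟶ X.obj) (b : (yon S).obj V ⟶ Y.obj) (h : U ⟶ V) (u : ↥U.left),
      IsAffine U.left ∧ IsAffine V.left ∧ RepWith @Etale a ∧ RepWith @Etale b ∧
      a ≫ f.hom = (yon S).map h ≫ b ∧ Points.ofPt a u = x := by
  obtain ⟨U₀, V₀, a₀, b₀, h₀, u₀, ha₀, hb₀, w₀, hu₀⟩ := exists_diagram_through X.property Y.property f.hom x
  obtain ⟨O, hO, hvO, hb⟩ := exists_affine_subchart hb₀ (h₀.left u₀)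
  obtain ⟨O', hO', huO', hOO'⟩ := exists_isAffineOpen_mem_and_subset (x := u₀) (U := h₀.left ⁻¹ᵁ O) hvO
  let U : Over S := Over.mk (O'.ι ≫ U₀.hom)
  let iU : U ⟶ U₀ := Over.homMk O'.ι rfl
  let V : Over S := Over.mk (O.ι ≫ V₀.hom)
  let h : U ⟶ V := Over.homMk (h₀.left.resLE O O' hOO') (by
    show h₀.left.resLE O O' hOO' ≫ O.ι ≫ V₀.hom = O'.ι ≫ U₀.hom
    rw [Scheme.Hom.resLE_comp_ι_assoc, Over.w h₀])
  have hh : h ≫ (Over.homMk O.ι rfl : V ⟶ V₀) = iU ≫ h₀ :=
    Over.OverMorphism.ext (Scheme.Hom.resLE_comp_ι _ _)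
  refine ⟨U, V, (yon S).map iU ≫ a₀, _, h, (⟨u₀, huO'⟩ : O'.toScheme), hO', hO,
    (repWith_isMultiplicative (S := S) @Etale).comp_mem _ _
      ((repWith_yon_map_iff _ _).2 (inferInstanceAs (Etale O'.ι))) ha₀, hb, ?_, ?_⟩
  · rw [Category.assoc, w₀, ← Category.assoc, ← Category.assoc, ← Functor.map_comp, ← Functor.map_comp, hh]
  · rw [ofPt_comp]; exact hu₀

theorem finite_pair_of_mono (f : X ⟶ Y) (g : Z ⟶ Y) (p : W ⟶ X) (q : W ⟶ Z)
    (hW : IsPullback p.hom q.hom f.hom g.hom) (x : Points X.obj) (z : Points Z.obj)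
    (hxz : Points.map f.hom x = Points.map g.hom z)
    (hy : ∃ r : FieldPt Y.obj, Points.mk r = Points.map g.hom z ∧ Mono r.toHom)
    (hg : HasAtMor QfAt g.hom z) :
    {w : Points W.obj | Points.map p.hom w = x ∧ Points.map q.hom w = z}.Finite := by
  obtain ⟨y₀, hy₀, hmono⟩ := hy
  obtain ⟨U, V, a, b, h, u, hU, hV, ha, hb, wg, hu⟩ := exists_affine_diagram g z
  have := hU; have := hV
  obtain ⟨W₁, hW₁, hlqf, hlft⟩ := forall_diagram_of_hasAtMor Z.property Y.property etInv_qfAt hg ha hb wg hu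
  induction x using Points.ind with
  | h r =>
  rw [Points.map_mk, ← hy₀, Points.mk_eq_mk_iff] at hxz
  obtain ⟨Ω, _, str, aΩ, bΩ, hab⟩ := hxz
  let T : Over S := Over.mk str
  let ρ : (yon S).obj T ⟶ X.obj := (yon S).map aΩ ≫ r.toHom
  have hρ : ρ ≫ f.hom = (yon S).map bΩ ≫ y₀.toHom := by
    rw [Category.assoc, ← FieldPt.toHom_map]
    apply (J S).uliftYonedaEquiv.injective
    have e1 := (J S).uliftYonedaEquiv_naturality (r.map f.hom).toHom aΩ
    have e2 := (J S).uliftYonedaEquiv_naturality y₀.toHom bΩ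
    rw [← e1, ← e2, FieldPt.uliftYonedaEquiv_toHom, FieldPt.uliftYonedaEquiv_toHom]
    exact hab
  let t : ↥T.left := (IsLocalRing.closedPoint Ω : PrimeSpectrum Ω)
  have ht : Points.ofPt ρ t = Points.mk r := by
    rw [ofPt_comp]; exact Points.ofPt_toHom r _
  -- the pullbacks
  obtain ⟨D, d₁, d₂, sqD⟩ := exists_isPullback_yon Y.property.diag b y₀.toHom
  obtain ⟨E, c, e₂, sqE⟩ := exists_isPullback_yon (IsAlgSpace.yon_obj y₀.pt).diag ((yon S).map d₂) ((yon S).map bΩ)
  have hd₂ : Etale d₂.left := etale_snd_of_isPullback sqD hb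
  have : Mono ((yon S).map d₁) := sqD.mono_fst_of_mono
  have : Mono d₁ := (yon S).mono_of_mono_map this
  have := Groth.Agent.SpFP87.mono_left_of_mono d₁
  have : IsAffine T.left := inferInstanceAs (IsAffine (Spec (CommRingCat.of Ω)))
  have : Subsingleton ↥T.left := inferInstanceAs (Subsingleton (PrimeSpectrum Ω))
  have : IsAffine y₀.pt.left := inferInstanceAs (IsAffine (Spec (CommRingCat.of y₀.K)))
  have : Subsingleton ↥y₀.pt.left := inferInstanceAs (Subsingleton (PrimeSpectrum y₀.K))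
  have hK : {e : ↥E.left | d₁.left (c.left e) = h.left u}.Finite :=
    finite_over_chart_point (isPullback_left_of_yon sqE) (h.left u)
  obtain ⟨G, gU, gE, sqG⟩ := exists_isPullback_yon (IsAlgSpace.yon_obj V).diag ((yon S).map h) ((yon S).map (c ≫ d₁))
  have sqEb : IsPullback ((yon S).map (c ≫ d₁)) ((yon S).map e₂) b (ρ ≫ f.hom) := by
    rw [Functor.map_comp, hρ]
    exact sqE.paste_horiz sqD
  have sqGb : IsPullback ((yon S).map gU) ((yon S).map gE ≫ (yon S).map e₂) (a ≫ g.hom) (ρ ≫ f.hom) := by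
    rw [wg]
    exact sqG.paste_vert sqEb
  let ψ : (yon S).obj G ⟶ W.obj := hW.lift (((yon S).map gE ≫ (yon S).map e₂) ≫ ρ) ((yon S).map gU ≫ a)
    (by rw [Category.assoc, Category.assoc]; exact sqGb.w.symm)
  -- quasi-finiteness of the projection
  have hsG := isPullback_left_of_yon sqG
  have : LocallyOfFiniteType (W₁.ι ≫ h.left) := hlft
  have : QuasiCompact h.left := (quasiCompact_iff_compactSpace h.left).2 inferInstance
  have : QuasiCompact gE.left := MorphismProperty.of_isPullback (P := @QuasiCompact) hsG ‹_›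
  obtain ⟨W₂, hW₂a, huW₂, hW₂le⟩ := exists_isAffineOpen_mem_and_subset (x := u) (U := W₁) hW₁
  have : IsAffine W₂.toScheme := hW₂a
  let m : W₂.toScheme ⟶ V.left := W₂.ι ≫ h.left
  have : LocallyOfFiniteType m := by
    show LocallyOfFiniteType (W₂.ι ≫ h.left)
    rw [← Scheme.homOfLE_ι U.left hW₂le, Category.assoc]
    infer_instance
  have : QuasiCompact m := (quasiCompact_iff_compactSpace m).2 inferInstance
  let n : (gU.left ⁻¹ᵁ W₂).toScheme ⟶ E.left := (gU.left ⁻¹ᵁ W₂).ι ≫ gE.left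
  have sqn : IsPullback (gU.left ∣_ W₂) n m (c ≫ d₁).left :=
    (isPullback_morphismRestrict gU.left W₂).paste_vert hsG
  have : LocallyOfFiniteType n := MorphismProperty.of_isPullback (P := @LocallyOfFiniteType) sqn ‹_›
  have : QuasiCompact n := MorphismProperty.of_isPullback (P := @QuasiCompact) sqn ‹_›
  have h0 : FlatMor.fibreDimAt m (⟨u, huW₂⟩ : W₂.toScheme) ≤ ((0 : ℕ) : WithBot ℕ∞) := by
    refine (nearPt_lqf_iff m _).1 ⟨⊤, trivial, ?_⟩
    have e : m = U.left.homOfLE hW₂le ≫ W₁.ι ≫ h.left := by rw [← Category.assoc, Scheme.homOfLE_ι]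
    rw [e]
    exact ⟨inferInstance, inferInstance⟩
  refine ((hK.biUnion fun e _ => finite_quasiFiniteAt_fibre n e).image
    (fun γ => Points.ofPt ψ ((gU.left ⁻¹ᵁ W₂).ι γ))).subset ?_
  rintro w ⟨hwx, hwz⟩
  have sq₁ := IsPullback.of_hasPullback p.hom ρ
  obtain ⟨s, hs, -⟩ := exists_of_isPullback sq₁ w (Points.ofPt (𝟙 _) t) (by
    rw [hwx, Points.map_ofPt, Category.id_comp, ht])
  have sq₂ := IsPullback.of_hasPullback (pullback.fst p.hom ρ ≫ q.hom) a
  obtain ⟨s', hs', hs'u⟩ := exists_of_isPullback sq₂ s (Points.ofPt (𝟙 _) u) (by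
    rw [Points.map_comp, hs, hwz, Points.map_ofPt, Category.id_comp, hu])
  let ℓ := sqGb.lift (pullback.snd (pullback.fst p.hom ρ ≫ q.hom) a)
    (pullback.fst (pullback.fst p.hom ρ ≫ q.hom) a ≫ pullback.snd p.hom ρ) (by
      rw [← Category.assoc, ← sq₂.w, Category.assoc, Category.assoc, ← hW.w, Category.assoc,
        ← reassoc_of% sq₁.w])
  have hℓ : ℓ ≫ ψ = pullback.fst (pullback.fst p.hom ρ ≫ q.hom) a ≫ pullback.fst p.hom ρ := by
    apply hW.hom_ext
    · rw [Category.assoc, hW.lift_fst, ← Category.assoc, sqGb.lift_snd, Category.assoc, Category.assoc, sq₁.w]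
    · rw [Category.assoc, hW.lift_snd, ← Category.assoc, sqGb.lift_fst, Category.assoc, sq₂.w]
  have hℓ1 : ℓ ≫ (yon S).map gU = pullback.snd (pullback.fst p.hom ρ ≫ q.hom) a := sqGb.lift_fst _ _ _
  let γ := Points.toScheme G (Points.map ℓ s')
  have hγ : Points.ofScheme G γ = Points.map ℓ s' := Points.ofScheme_toScheme G _
  have hγu : gU.left γ = u := by
    refine ((Points.toScheme_ofScheme U _).symm.trans (congrArg (Points.toScheme U) ?_)).trans (Points.toScheme_ofScheme U u)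
    show Points.ofPt (𝟙 ((yon S).obj U)) (gU.left γ) = Points.ofPt (𝟙 ((yon S).obj U)) u
    rw [← hs'u, ← hℓ1, Points.map_comp, ← hγ,
      Points.map_ofPt, Category.id_comp, ofPt_yon_map]
  have hγW : γ ∈ gU.left ⁻¹ᵁ W₂ := by
    show gU.left γ ∈ W₂
    rw [hγu]; exact huW₂
  refine ⟨⟨γ, hγW⟩, Set.mem_biUnion (x := gE.left γ) ?_ ⟨rfl, ?_⟩, ?_⟩
  · show d₁.left (c.left (gE.left γ)) = h.left u
    rw [← hγu, ← Scheme.Hom.comp_apply, ← Scheme.Hom.comp_apply, ← Scheme.Hom.comp_apply,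
      ← Over.comp_left, hsG.w, Over.comp_left]
  · rw [FibDim94.fibreDimAt_eq_of_isPullback sqn]
    rwa [show (gU.left ∣_ W₂) (⟨γ, hγW⟩ : (gU.left ⁻¹ᵁ W₂).toScheme) = (⟨u, huW₂⟩ : W₂.toScheme) from
      Subtype.ext (by rw [morphismRestrict_base_coe]; exact hγu)]
  · show Points.ofPt ψ γ = w
    rw [Points.ofPt_eq_map_ofScheme, hγ, ← Points.map_comp, hℓ, Points.map_comp, hs', hs]

end Groth.Agent.SpProper61
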