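import Groth.Agent.SpProper61.GenericFinite
import Groth.Agent.SpProper61.FibreProdFin
import Groth.Agent.SpProper61.CodimOne
import Groth.Agent.SpPts86.QCQS
import Groth.Agent.SpPts86.DecentFib
import Groth.Agent.SpPts86.DiagProps
import Groth.Agent.SpPts86.Proper
import Groth.Agent.SpPts86.Graph

/-!
Finite fibres over codimension zero points of quasi-separated spaces.
-/

universe u

set_option autoImplicit false
set_option backward.isDefEq.respectTransparency false

open CategoryTheory CategoryTheory.Limits AlgebraicGeometry Topology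
open AlgSp Groth.Agent.SpFP87 Groth.Agent.SpPts86

namespace Groth.Agent.SpProper61

variable {S : Scheme.{u}}

theorem qfAt_of_finite_fibre {U V : Scheme.{u}} (h : U ⟶ V) [LocallyOfFiniteType h] (u : U)
    (hfin : (h ⁻¹' {h u}).Finite) : QfAt U V h u := by
  refine (quasiFiniteAt_iff_nearPt h u).1 ?_
  rw [Scheme.Hom.quasiFiniteAt_iff_isOpen_singleton_asFiber]
  have : Finite ↥(h.fiber (h u)) := by
    have := hfin.to_subtype
    exact Finite.of_equiv _ (h.fiberHomeo (h u)).symm.toEquiv
  have : LocallyOfFiniteType (h.fiberToSpecResidueField (h u)) := MorphismProperty.pullback_snd _ _ inferInstance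
  have : JacobsonSpace ↥(Spec (V.residueField (h u))) :=
    inferInstanceAs (JacobsonSpace (PrimeSpectrum (V.residueField (h u))))
  have : JacobsonSpace ↥(h.fiber (h u)) := LocallyOfFiniteType.jacobsonSpace (h.fiberToSpecResidueField (h u))
  exact isOpen_discrete _

theorem isQuasiSeparatedMor_comp_aux {X Y Z : Sp S} {a : X ⟶ Y} {b : Y ⟶ Z}
    (ha : IsQuasiSeparatedMor a) (hb : IsQuasiSeparatedMor b) : IsQuasiSeparatedMor (a ≫ b) := by
  change RepWith @QuasiCompact (pullback.diagonal (a ≫ b))
  rw [diagonal_comp_eq]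
  exact MorphismProperty.comp_mem (W := RepWith (@QuasiCompact : MorphismProperty Scheme.{u})) _ _
    ha (repWith_mapDesc a a b hb)

theorem qs_to_terminal {X : Sp S} (h : IsQuasiSeparatedSp X) {T : Over S} (hT : IsTerminal ((yon S).obj T))
    (π : X ⟶ (yon S).obj T) : IsQuasiSeparatedMor π := by
  let e : pullback π π ⟶ X ⨯ X := prod.lift (pullback.fst π π) (pullback.snd π π)
  have : IsIso e := ⟨pullback.lift prod.fst prod.snd (hT.hom_ext _ _),
    by
      apply pullback.hom_ext
      · rw [Category.assoc, pullback.lift_fst, prod.lift_fst, Category.id_comp]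
      · rw [Category.assoc, pullback.lift_snd, prod.lift_snd, Category.id_comp],
    by
      apply Limits.prod.hom_ext
      · rw [Category.assoc, prod.lift_fst, pullback.lift_fst, Category.id_comp]
      · rw [Category.assoc, prod.lift_snd, pullback.lift_snd, Category.id_comp]⟩
  have hd : Limits.diag X = pullback.diagonal π ≫ e := by
    apply Limits.prod.hom_ext
    · rw [Category.assoc, prod.lift_fst, prod.lift_fst, pullback.diagonal_fst]
    · rw [Category.assoc, prod.lift_snd, prod.lift_snd, pullback.diagonal_snd]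
  change RepWith @QuasiCompact (Limits.diag X) at h
  rw [hd, MorphismProperty.cancel_right_of_respectsIso (RepWith @QuasiCompact)] at h
  exact h

theorem qsSp_of_mor {X Y : Sp S} (f : X ⟶ Y) (hf : IsQuasiSeparatedMor f) (hY : IsQuasiSeparatedSp Y) :
    IsQuasiSeparatedSp X := by
  let T : Over S := Over.mk (𝟙 S)
  have hT : IsTerminal ((yon S).obj T) := IsTerminal.isTerminalObj (yon S) T Over.mkIdTerminal
  have h := isQuasiSeparatedMor_comp_aux hf (qs_to_terminal hY hT (hT.from Y))
  let π := f ≫ hT.from Y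
  let e : pullback π π ⟶ X ⨯ X := prod.lift (pullback.fst π π) (pullback.snd π π)
  have : IsIso e := ⟨pullback.lift prod.fst prod.snd (hT.hom_ext _ _),
    by
      apply pullback.hom_ext
      · rw [Category.assoc, pullback.lift_fst, prod.lift_fst, Category.id_comp]
      · rw [Category.assoc, pullback.lift_snd, prod.lift_snd, Category.id_comp],
    by
      apply Limits.prod.hom_ext
      · rw [Category.assoc, prod.lift_fst, pullback.lift_fst, Category.id_comp]
      · rw [Category.assoc, prod.lift_snd, pullback.lift_snd, Category.id_comp]⟩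
  have hd : Limits.diag X = pullback.diagonal π ≫ e := by
    apply Limits.prod.hom_ext
    · rw [Category.assoc, prod.lift_fst, prod.lift_fst, pullback.diagonal_fst]
    · rw [Category.assoc, prod.lift_snd, prod.lift_snd, pullback.diagonal_snd]
  show RepWith @QuasiCompact (Limits.diag X)
  rw [hd, MorphismProperty.cancel_right_of_respectsIso (RepWith @QuasiCompact)]
  exact h

theorem isQuasiSeparatedMor_of_mono {X Y : Sp S} (i : X ⟶ Y) [Mono i] : IsQuasiSeparatedMor i := by
  have : IsIso (pullback.diagonal i) := inferInstance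
  exact (MorphismProperty.arrow_iso_iff (RepWith @QuasiCompact) (Arrow.isoMk (Iso.refl X) (asIso (pullback.diagonal i))
    (by simp) : Arrow.mk (𝟙 X) ≅ Arrow.mk (pullback.diagonal i))).1 ((repWith_isMultiplicative (S := S) _).id_mem X)

theorem finite_fibre_of_finiteMor {X Y : Space S} (f : X ⟶ Y) (hf : IsFiniteMor f.hom) (y : Points Y.obj) :
    (Points.map f.hom ⁻¹' {y}).Finite := by
  induction y using Points.ind with
  | h r =>
  have hA : IsAffine r.pt.left := inferInstanceAs (IsAffine (Spec (CommRingCat.of r.K)))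
  obtain ⟨W, i, fst, sq, -, hi⟩ := hf hA r.toHom
  have : Subsingleton ↥r.pt.left := inferInstanceAs (Subsingleton (PrimeSpectrum r.K))
  let c : ↥r.pt.left := (IsLocalRing.closedPoint r.K : PrimeSpectrum r.K)
  have := hi
  have hW : Finite ↥W.left := by
    refine Set.finite_univ_iff.1 ((i.left.finite_preimage_singleton c).subset fun w _ => ?_)
    exact Subsingleton.elim (i.left w) c
  refine (Set.finite_range (Points.ofPt fst)).subset fun x hx => ?_
  obtain ⟨z, hz, -⟩ := exists_of_isPullback sq x (Points.ofPt (𝟙 _) c) (by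
    rw [show Points.map f.hom x = _ from hx, Points.map_ofPt, Category.id_comp, Points.ofPt_toHom])
  refine ⟨Points.toScheme W z, ?_⟩
  rw [Points.ofPt_eq_map_ofScheme, Points.ofScheme_toScheme, hz]

theorem finite_fibre_iff [QuasiSeparatedSpace ↥S] {X Y : Space S} (f : X ⟶ Y)
    (hqs : IsQuasiSeparatedMor f.hom) (hft : LocP @LocallyOfFiniteType f.hom)
    (hY : IsQuasiSeparatedSp Y.obj) (y : Points Y.obj)
    (hy : HasAt (fun U u => ringKrullDim ↥(U.presheaf.stalk u) = 0) Y.obj y) :
    (Points.map f.hom ⁻¹' {y}).Finite ↔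
      ∃ (X' Y' : Space S) (i : X' ⟶ X) (j : Y' ⟶ Y) (f' : X' ⟶ Y'), RepWith @IsOpenImmersion i.hom ∧
        RepWith @IsOpenImmersion j.hom ∧ f' ≫ j = i ≫ f ∧ y ∈ Set.range (Points.map j.hom) ∧
          Points.map f.hom ⁻¹' {y} ⊆ Set.range (Points.map i.hom) ∧ IsFiniteMor f'.hom := by
  constructor
  · intro hfin
    choose C hCo hCc hxC _ using fun x : Points X.obj =>
      exists_isOpen_isCompact_nhd X.property isOpen_univ (Set.mem_univ x)
    let W : Set (Points X.obj) := ⋃ x ∈ Points.map f.hom ⁻¹' {y}, C x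
    have hW : IsOpen W := isOpen_biUnion fun x _ => hCo x
    have hWc : IsCompact W := hfin.isCompact_biUnion fun x _ => hCc x
    have hι := repWith_restrictι (F := X.obj) hW
    have : Mono (restrictι X.obj W) := mono_of_repWith_le isOpenImmersion_le_monomorphisms hι
    let X₁ : Space S := ⟨restrictSheaf X.obj W, isAlgSpace_restrictSheaf X.property hW⟩
    let ι₁ : X₁ ⟶ X := ObjectProperty.homMk (restrictι X.obj W)
    have hr : Set.range (Points.map ι₁.hom) = W := range_map_restrictι hW
    have : CompactSpace (Points X₁.obj) := by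
      have he := (isEmbedding_map_of_openImmersion hι).isEmbedding
      refine ⟨he.isInducing.isCompact_iff.2 ?_⟩
      rw [Set.image_univ]
      rw [range_map_restrictι hW]; exact hWc
    have hιe : RepWith @Etale (restrictι X.obj W) :=
      repWith_mono (fun _ _ g (_ : IsOpenImmersion g) => (inferInstance : Etale g)) hι
    have hqs₁ : IsQuasiSeparatedMor (ι₁ ≫ f).hom :=
      isQuasiSeparatedMor_comp_aux (isQuasiSeparatedMor_of_mono (restrictι X.obj W)) hqs
    have hlft₁ : LocP @LocallyOfFiniteType (ι₁ ≫ f).hom :=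
      locP_comp X₁.property X.property Y.property (locP_of_repWith X₁.property.diag X.property
        (repWith_mono (fun _ _ g (_ : IsOpenImmersion g) => (inferInstance : LocallyOfFiniteType g)) hι)) hft
    have hqc₁ : IsQuasiCompactMor (ι₁ ≫ f).hom :=
      isQuasiCompactMor_of_qc_qs X₁.property Y.property hY
    have hXd : IsDecent X.obj := isDecent_of_qsSp X.property (qsSp_of_mor f.hom hqs hY)
    have hq : ∀ x' : Points X₁.obj, Points.map (ι₁ ≫ f).hom x' = y → HasAtMor QfAt (ι₁ ≫ f).hom x' := by
      intro x' hx'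
      obtain ⟨U, V, a, b, h, u, hU, hV, ha, hb, w, hu⟩ := exists_affine_diagram (ι₁ ≫ f) x'
      have := hU
      have : LocallyOfFiniteType h.left := hlft₁ a b h ha hb w
      refine ⟨U, V, a, b, h, u, ha, hb, w, hu, qfAt_of_finite_fibre h.left u ?_⟩
      have ha' : RepWith @Etale (a ≫ ι₁.hom) :=
        (repWith_isMultiplicative (S := S) @Etale).comp_mem _ _ ha hιe
      refine (hfin.biUnion fun x _ => (finite_fibres_of_isDecent X.property hXd ha' x).1).subset fun v hv => ?_
      refine Set.mem_biUnion (x := Points.ofPt (a ≫ ι₁.hom) v) ?_ rfl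
      show Points.map f.hom (Points.ofPt (a ≫ ι₁.hom) v) = y
      rw [Points.map_ofPt, Category.assoc]
      show Points.ofPt (a ≫ (ι₁ ≫ f).hom) v = y
      rw [w, ofPt_comp, show h.left v = h.left u from hv, ← ofPt_comp, ← w, ← Points.map_ofPt, hu, hx']
    obtain ⟨Y', X', j, fst, snd, hj, hyj, sq, hfinm⟩ :=
      exists_finite_nhd_of_codim_zero (ι₁ ≫ f) hqs₁ ⟨hlft₁, hqc₁⟩ y hy hq
    have hsnd : RepWith @IsOpenImmersion snd.hom := (repWith_isStableUnderBaseChange _).of_isPullback sq hj
    refine ⟨X', Y', snd ≫ ι₁, j, fst, MorphismProperty.comp_mem _ _ _ hsnd hι, hj, ?_, hyj, fun x hx => ?_, hfinm⟩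
    · apply ObjectProperty.hom_ext
      show fst.hom ≫ j.hom = (snd.hom ≫ ι₁.hom) ≫ f.hom
      rw [sq.w, Category.assoc]
      rfl
    · obtain ⟨x₁, hx₁⟩ := hr.ge (Set.mem_biUnion hx (hxC x))
      obtain ⟨y', hy'⟩ := hyj
      obtain ⟨z, -, hz⟩ := exists_of_isPullback sq y' x₁ (by
        show _ = Points.map (ι₁.hom ≫ f.hom) x₁
        rw [hy', Points.map_comp, hx₁, show Points.map f.hom x = y from hx])
      refine ⟨z, ?_⟩
      show Points.map (snd.hom ≫ ι₁.hom) z = x
      rw [Points.map_comp, hz, hx₁]
  · rintro ⟨X', Y', i, j, f', -, hj, w, ⟨y', hy'⟩, hsub, hfinm⟩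
    refine ((finite_fibre_of_finiteMor f' hfinm y').image (Points.map i.hom)).subset fun x hx => ?_
    obtain ⟨x', rfl⟩ := hsub hx
    refine ⟨x', (isEmbedding_map_of_openImmersion hj).injective ?_, rfl⟩
    have w' : f'.hom ≫ j.hom = i.hom ≫ f.hom := congrArg (fun m => m.hom) w
    rw [hy', ← Points.map_comp, w', Points.map_comp]
    exact hx

end Groth.Agent.SpProper61
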