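import Groth.Agent.SpProper61.RelCompact
import Groth.Agent.SpProper61.DimZero
import Groth.Agent.SpFP87.NormExists
import Groth.Agent.SpPts86.RedFactor
import Groth.Agent.SpPts86.QCQS
import Groth.Agent.SpFP87.EtLocInst
import Groth.Agent.Sga84.FiniteSigma
import Groth.Agent.SpFP87.ThickCart
import Groth.Agent.SpPts86.SchImagePoints
import Groth.Agent.SpProper61.FiniteFibreCodimZero

/-!
Normalizations of a space in schemes with split preimage in an affine chart are schemes.
-/

universe u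

set_option autoImplicit false
set_option backward.isDefEq.respectTransparency false

open CategoryTheory CategoryTheory.Limits AlgebraicGeometry Topology
open AlgSp Groth.Agent.SpFP87 Groth.Agent.SpPts86

namespace Groth.Agent.SpProper61

variable {S : Scheme.{u}}

theorem isQuasiSeparatedMor_of_separated_scheme {X : Space S} {W : Over S} [W.left.IsSeparated]
    (f : (yon S).obj W ⟶ X.obj) : IsQuasiSeparatedMor f := by
  obtain ⟨R, t, s, sq⟩ := exists_isPullback_yon X.property.diag f f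
  obtain ⟨V, p, q, sqV⟩ := exists_isPullback_yon (IsAlgSpace.yon_obj (Over.mk (𝟙 S))).diag
    ((yon S).map (Over.homMk W.hom : W ⟶ Over.mk (𝟙 S))) ((yon S).map (Over.homMk W.hom : W ⟶ Over.mk (𝟙 S)))
  obtain ⟨w, hw⟩ := (yon S).map_surjective (sqV.lift ((yon S).map t) ((yon S).map s) (by
    rw [← Functor.map_comp, ← Functor.map_comp]
    exact congrArg (yon S).map (Over.OverMorphism.ext (by simp [Over.w]))))
  have hwp : w ≫ p = t := (yon S).map_injective (by rw [Functor.map_comp, hw, sqV.lift_fst])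
  have hwq : w ≫ q = s := (yon S).map_injective (by rw [Functor.map_comp, hw, sqV.lift_snd])
  have : Mono w := ⟨fun {T} g₁ g₂ e => (yon S).map_injective (sq.hom_ext
    (by rw [← Functor.map_comp, ← Functor.map_comp, ← hwp, ← Category.assoc, e, Category.assoc])
    (by rw [← Functor.map_comp, ← Functor.map_comp, ← hwq, ← Category.assoc, e, Category.assoc]))⟩
  have : Mono w.left := Groth.Agent.SpFP87.mono_left_of_mono w
  have : AlgebraicGeometry.IsSeparated (W.hom ≫ terminal.from S) := by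
    rw [terminal.comp_from]; infer_instance
  have : AlgebraicGeometry.IsSeparated W.hom := AlgebraicGeometry.IsSeparated.of_comp W.hom (terminal.from S)
  have : AlgebraicGeometry.IsSeparated q.left := MorphismProperty.of_isPullback
    (P := @AlgebraicGeometry.IsSeparated) (isPullback_left_of_yon sqV)
      (show AlgebraicGeometry.IsSeparated (Over.homMk W.hom : W ⟶ Over.mk (𝟙 S)).left from
        (inferInstance : AlgebraicGeometry.IsSeparated W.hom))
  have : AlgebraicGeometry.IsSeparated s.left := by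
    rw [← hwq, Over.comp_left]; infer_instance
  obtain ⟨δ, hδ⟩ := (yon S).map_surjective (sq.lift (𝟙 ((yon S).obj W)) (𝟙 _) rfl)
  have hδs : δ ≫ s = 𝟙 W := (yon S).map_injective (by
    rw [Functor.map_comp, hδ, sq.lift_snd, CategoryTheory.Functor.map_id])
  have : IsClosedImmersion (δ.left ≫ s.left) := by
    rw [show δ.left ≫ s.left = 𝟙 W.left from congrArg CommaMorphism.left hδs]; infer_instance
  have : IsClosedImmersion δ.left := IsClosedImmersion.of_comp δ.left s.left
  have e : pullback.diagonal f = (yon S).map δ ≫ sq.isoPullback.hom := by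
    apply pullback.hom_ext
    · rw [pullback.diagonal_fst, Category.assoc, IsPullback.isoPullback_hom_fst, hδ, sq.lift_fst]
    · rw [pullback.diagonal_snd, Category.assoc, IsPullback.isoPullback_hom_snd, hδ, sq.lift_snd]
  show RepWith @QuasiCompact (pullback.diagonal f)
  rw [e]
  exact (MorphismProperty.cancel_right_of_respectsIso (RepWith @QuasiCompact) _ _).2
    ((repWith_yon_map_iff _ δ).2 (inferInstance : QuasiCompact δ.left))

theorem isIntegralMor_comp {A B C : Sp S} {f : A ⟶ B} {g : B ⟶ C} (hf : IsIntegralMor f) (hg : IsIntegralMor g) :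
    IsIntegralMor (f ≫ g) :=
  (isIntegralMor_iff _).2 ((repWith_isMultiplicative (S := S) @IsIntegralHom).comp_mem _ _
    ((isIntegralMor_iff f).1 hf) ((isIntegralMor_iff g).1 hg))

theorem isQuasiSeparatedMor_of_integral {A B : Sp S} (hA : IsAlgSpace A) {f : A ⟶ B} (hf : IsIntegralMor f) :
    IsQuasiSeparatedMor f :=
  SpPts86.repWith_mono (fun _ _ g (_ : IsClosedImmersion g) => (inferInstance : QuasiCompact g))
    (isSeparatedMor_of_repWith_le (P := @IsIntegralHom)
      (fun _ _ g (_ : IsIntegralHom g) => (inferInstance : AlgebraicGeometry.IsSeparated g)) hA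
      ((isIntegralMor_iff f).1 hf))

theorem exists_normalization_dominant [QuasiSeparatedSpace ↥S] {X : Space S} (hXs : IsQuasiSeparatedSp X.obj)
    {W : Over S} [CompactSpace ↥W.left] (f : (yon S).obj W ⟶ X.obj)
    (hqc : IsQuasiCompactMor f) (hqs : IsQuasiSeparatedMor f) :
    ∃ (Z : Space S) (ν : Z.obj ⟶ X.obj) (f' : (yon S).obj W ⟶ Z.obj), IsRelNormalization f ν f' ∧
      Dense (Set.range (Points.ofPt f')) := by
  obtain ⟨Z₀, ν, f', hZ, hn, -⟩ := exists_normalization_smoothUniv X.property (IsAlgSpace.yon_obj W) f hqc hqs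
  refine ⟨⟨Z₀, hZ⟩, ν, f', hn, ?_⟩
  have := compactSpace_points_yon W
  have hf' : IsQuasiCompactMor f' := isQuasiCompactMor_of_qc_qs (IsAlgSpace.yon_obj W) hZ
    (qsSp_of_mor ν (isQuasiSeparatedMor_of_integral hZ hn.2.1) hXs)
  obtain ⟨hC, hi⟩ := exists_isSchImage hZ f'
  obtain ⟨l, hl⟩ := hi.2.1
  have hii : IsIntegralMor (schImageι f') := (isIntegralMor_iff _).2
    (SpPts86.repWith_mono (fun _ _ g (_ : IsClosedImmersion g) => (inferInstance : IsIntegralHom g)) hi.1)
  obtain ⟨h, ⟨h1, h2⟩, -⟩ := hn.2.2 hC (schImageι f' ≫ ν) l (isIntegralMor_comp hii hn.2.1)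
    (by rw [← Category.assoc, hl, hn.1])
  have hid : h ≫ schImageι f' = 𝟙 Z₀ := (hn.2.2 hZ ν f' hn.2.1 hn.1).unique
    ⟨by rw [← Category.assoc, h1, hl], by rw [Category.assoc, h2]⟩ ⟨Category.comp_id _, Category.id_comp _⟩
  intro x
  refine closure_mono ?_ (range_subset_closure_of_isSchImage hZ hf' hi
    ⟨Points.map h x, by rw [← Points.map_comp, hid, Points.map_id]⟩)
  rintro _ ⟨y, rfl⟩
  obtain ⟨t, rfl⟩ := (Points.schemeHomeo W).surjective y
  exact ⟨t, Points.ofPt_eq_map_ofScheme f' t⟩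

theorem isClosedMap_of_integral {A B : Sp S} (hA : IsAlgSpace A) (hB : IsAlgSpace B) {f : A ⟶ B}
    (hf : IsIntegralMor f) : IsClosedMap (Points.map f) :=
  ((isIntegralMor_iff_affine_univClosed' f hA hB).1 hf).2 hB (𝟙 B) (𝟙 A) f (IsPullback.of_horiz_isIso ⟨by simp⟩)

theorem locP_smooth_of_etale {X : Space S} {U : Over S} {a : (yon S).obj U ⟶ X.obj} (ha : RepWith @Etale a) :
    LocP @Smooth a :=
  locP_of_repWith (IsAlgSpace.yon_obj U).diag X.property
    (SpPts86.repWith_mono (fun _ _ g (_ : Etale g) => (inferInstance : Smooth g)) ha)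

theorem exists_map_to_copies {P U : Over S} (r : P ⟶ U) {ι : Type u} (A : ι → P.left.Opens)
    (hcov : ∀ p, ∃ j, p ∈ A j) (hdis : ∀ i j p, p ∈ A i → p ∈ A j → i = j) :
    ∃ g : P ⟶ SpPts86.sigmaOver (fun _ : ι => U), g ≫ sigmaOut (fun _ : ι => 𝟙 U) = r ∧
      ∀ j p, p ∈ A j → g.left p ∈ Set.range (sigmaIn (fun _ : ι => U) j).left := by
  let W : ι → Over S := fun j => Over.mk ((A j).ι ≫ P.hom)
  let σ : SpPts86.sigmaOver W ⟶ P := sigmaOut fun j => (Over.homMk (A j).ι rfl : W j ⟶ P)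
  have : IsOpenImmersion σ.left := by
    refine isOpenImmersion_sigmaDesc (fun j => (W j).left) (fun j => (A j).ι) fun i j hij => ?_
    refine disjoint_iff_inf_le.2 fun p hp => hij (hdis i j p ?_ ?_)
    · exact (A i).range_ι.le hp.1
    · exact (A j).range_ι.le hp.2
  have : Surjective σ.left := ⟨fun p => by
    obtain ⟨j, hj⟩ := hcov p
    refine ⟨(sigmaIn W j).left ⟨p, hj⟩, ?_⟩
    rw [← Scheme.Hom.comp_apply, ← Over.comp_left, sigmaIn_out]
    rfl⟩
  have : IsIso σ.left := (isIso_iff_isOpenImmersion_and_surjective _).2 ⟨inferInstance, inferInstance⟩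
  have : IsIso ((Over.forget S).map σ) := inferInstanceAs (IsIso σ.left)
  have : IsIso σ := isIso_of_reflects_iso σ (Over.forget S)
  let g₀ : SpPts86.sigmaOver W ⟶ SpPts86.sigmaOver (fun _ : ι => U) :=
    sigmaOut fun j => ((Over.homMk (A j).ι rfl : W j ⟶ P) ≫ r) ≫ sigmaIn (fun _ : ι => U) j
  refine ⟨inv σ ≫ g₀, ?_, fun j p hp => ?_⟩
  · rw [← cancel_epi σ, Category.assoc, IsIso.hom_inv_id_assoc]
    apply Over.OverMorphism.ext
    refine Sigma.hom_ext _ _ fun j => ?_
    show ((sigmaIn W j ≫ g₀) ≫ sigmaOut (fun _ : ι => 𝟙 U)).left = ((sigmaIn W j ≫ σ) ≫ r).left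
    rw [sigmaIn_out, sigmaIn_out, Category.assoc, sigmaIn_out, Category.comp_id]
  · have e : σ.left ((sigmaIn W j).left ⟨p, hp⟩) = p := by
      rw [← Scheme.Hom.comp_apply, ← Over.comp_left, sigmaIn_out]; rfl
    rw [← e, ← Scheme.Hom.comp_apply σ.left, ← Over.comp_left, IsIso.hom_inv_id_assoc,
      ← Scheme.Hom.comp_apply, ← Over.comp_left, sigmaIn_out, Over.comp_left, Scheme.Hom.comp_apply]
    exact ⟨_, rfl⟩

theorem exists_scheme_integral_cover [QuasiSeparatedSpace ↥S] {X : Space S} (hXs : IsQuasiSeparatedSp X.obj)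
    {U : Over S} [IsAffine U.left] (a : (yon S).obj U ⟶ X.obj) (ha : RepWith @Etale a)
    (has : RepWith @Surjective a) {W : Over S} [CompactSpace ↥W.left] [W.left.IsSeparated]
    (f : (yon S).obj W ⟶ X.obj) (hdom : Dense (Set.range (Points.ofPt f)))
    {P : Over S} {q : P ⟶ W} {r : P ⟶ U} (sqP : IsPullback ((yon S).map q) ((yon S).map r) f a)
    {ι : Type u} [Finite ι] (A : ι → P.left.Opens) (hcov : ∀ p, ∃ j, p ∈ A j)
    (hdis : ∀ i j p, p ∈ A i → p ∈ A j → i = j)
    (hinj : ∀ j {K : Type u} [Field K] [IsAlgClosed K] {str : Spec (CommRingCat.of K) ⟶ S}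
      (p₁ p₂ : Over.mk str ⟶ P) (t : ↥(Over.mk str).left),
      p₁.left t ∈ A j → p₂.left t ∈ A j → p₁ ≫ q = p₂ ≫ q → p₁ = p₂) :
    ∃ (Y : Over S) (g : (yon S).obj Y ⟶ X.obj), RepWith @IsIntegralHom g ∧ RepWith @Surjective g ∧
      (∃ f' : (yon S).obj W ⟶ (yon S).obj Y, IsRelNormalization f g f') ∧
      ∀ y : ↥Y.left, ∃ (O : Y.left.Opens) (c : Over.mk (O.ι ≫ Y.hom) ⟶ U), y ∈ O ∧
        (yon S).map c ≫ a = (yon S).map (Over.homMk O.ι rfl : Over.mk (O.ι ≫ Y.hom) ⟶ Y) ≫ g := by
  have := compactSpace_points_yon W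
  have hfc : IsQuasiCompactMor f := isQuasiCompactMor_of_qc_qs (IsAlgSpace.yon_obj W) X.property hXs
  have hfs := isQuasiSeparatedMor_of_separated_scheme f
  obtain ⟨Z, ν, f', hn, hdense⟩ := exists_normalization_dominant hXs f hfc hfs
  obtain ⟨N, νN, c, sqN, hNaff, hνN⟩ := hn.2.1 (Z := U) ‹_› a
  have := hNaff
  obtain ⟨k, hk⟩ := (yon S).map_surjective (sqN.lift ((yon S).map q ≫ f') ((yon S).map r)
    (by rw [Category.assoc, hn.1, sqP.w]))
  have hkc : (yon S).map k ≫ c = (yon S).map q ≫ f' := by rw [hk, sqN.lift_fst]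
  have hkν : (yon S).map k ≫ (yon S).map νN = (yon S).map r := by rw [hk, sqN.lift_snd]
  have hnU : IsRelNormalization ((yon S).map r) ((yon S).map νN) ((yon S).map k) :=
    univBC_of_isRelNormalization X.property (IsAlgSpace.yon_obj W) hfc hfs Z.property hn (IsAlgSpace.yon_obj U)
      (locP_smooth_of_etale ha) ((yon S).map q) ((yon S).map r) c ((yon S).map νN) sqP sqN _ hkν hkc
  have sqK : IsPullback ((yon S).map q) ((yon S).map k) f' c :=
    IsPullback.of_bot (by rw [hkν, hn.1]; exact sqP) hkc.symm sqN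
  obtain ⟨g, hg, hgA⟩ := exists_map_to_copies r A hcov hdis
  have : IsFinite (sigmaOut (fun _ : ι => 𝟙 U) : SpPts86.sigmaOver (fun _ : ι => U) ⟶ U).left :=
    FiniteSigma84.isFinite_sigmaDesc (fun _ : ι => (𝟙 U : U ⟶ U).left)
  obtain ⟨h₀, ⟨hh1, hh2⟩, -⟩ := hnU.2.2 (IsAlgSpace.yon_obj (SpPts86.sigmaOver (fun _ : ι => U)))
    ((yon S).map (sigmaOut fun _ : ι => 𝟙 U)) ((yon S).map g)
    ((isIntegralMor_iff _).2 ((repWith_yon_map_iff _ _).2 (inferInstance : IsIntegralHom _)))
    (by rw [← Functor.map_comp, hg])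
  obtain ⟨h, rfl⟩ := (yon S).map_surjective h₀
  have hkh : k ≫ h = g := (yon S).map_injective (by rw [Functor.map_comp, hh1])
  let Nj : ι → N.left.Opens := fun j => h.left ⁻¹ᵁ (Sigma.ι (fun _ : ι => U.left) j).opensRange
  have hNcov : ∀ z, ∃ j, z ∈ Nj j := fun z => by
    obtain ⟨⟨j, w⟩, hw⟩ := (sigmaMk (fun _ : ι => U.left)).surjective (h.left z)
    exact ⟨j, w, by rw [← sigmaMk_mk]; exact hw⟩
  have hNA : ∀ j p, k.left p ∈ Nj j → p ∈ A j := fun j p hp => by
    obtain ⟨i, hi⟩ := hcov p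
    obtain ⟨w, hw⟩ := hgA i p hi
    obtain ⟨w', hw'⟩ := hp
    rw [← Scheme.Hom.comp_apply, ← Over.comp_left, hkh, ← hw] at hw'
    have : (sigmaMk (fun _ : ι => U.left)) ⟨j, w'⟩ = (sigmaMk (fun _ : ι => U.left)) ⟨i, w⟩ := by
      rw [sigmaMk_mk, sigmaMk_mk]; exact hw'
    rwa [show j = i from congrArg Sigma.fst ((sigmaMk (fun _ : ι => U.left)).injective this)]
  have hce : RepWith @Etale c := (repWith_isStableUnderBaseChange _).of_isPullback sqN.flip ha
  have hcs : RepWith @Surjective c := (repWith_isStableUnderBaseChange _).of_isPullback sqN.flip has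
  obtain ⟨Q, t, s, sqQ⟩ := exists_isPullback_yon Z.property.diag c c
  have hse : Etale s.left := etale_snd_of_isPullback sqQ hce
  have : AlgebraicGeometry.IsSeparated s.left := isSeparated_relation sqQ
  obtain ⟨δ, hδ⟩ := (yon S).map_surjective (sqQ.lift (𝟙 ((yon S).obj N)) (𝟙 _) rfl)
  have hδt : δ ≫ t = 𝟙 N := (yon S).map_injective (by
    rw [Functor.map_comp, hδ, sqQ.lift_fst, CategoryTheory.Functor.map_id])
  have hδs : δ ≫ s = 𝟙 N := (yon S).map_injective (by
    rw [Functor.map_comp, hδ, sqQ.lift_snd, CategoryTheory.Functor.map_id])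
  have hδs' : δ.left ≫ s.left = 𝟙 N.left := congrArg CommaMorphism.left hδs
  have hδt' : δ.left ≫ t.left = 𝟙 N.left := congrArg CommaMorphism.left hδt
  have : IsClosedImmersion (δ.left ≫ s.left) := by rw [hδs']; infer_instance
  have : Etale (δ.left ≫ s.left) := by rw [hδs']; infer_instance
  have : IsClosedImmersion δ.left := IsClosedImmersion.of_comp δ.left s.left
  have : Etale δ.left := Etale.of_comp δ.left s.left
  have : IsOpenImmersion δ.left := IsOpenImmersion.of_flat_of_mono δ.left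
  have hdiag : ∀ j x, t.left x ∈ Nj j → s.left x ∈ Nj j → x ∈ Set.range δ.left := by
    intro j x₀ ht₀ hs₀
    by_contra hx₀
    let O : Set ↥Q.left := (t.left ⁻¹' (Nj j : Set ↥N.left) ∩ s.left ⁻¹' (Nj j : Set ↥N.left)) ∩ (Set.range δ.left)ᶜ
    have hOo : IsOpen O := (((Nj j).isOpen.preimage t.left.continuous).inter
      ((Nj j).isOpen.preimage s.left.continuous)).inter δ.left.isClosedMap.isClosed_range.isOpen_compl
    obtain ⟨_, ⟨x, hx, rfl⟩, w, hw⟩ := hdense.inter_open_nonempty _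
      (isOpenMap_ofPt (repWith_etale_comp s hce) _ hOo) ⟨_, x₀, ⟨⟨ht₀, hs₀⟩, hx₀⟩, rfl⟩
    obtain ⟨V, v₁, v₂, sqV⟩ := exists_isPullback_yon Z.property.diag ((yon S).map s ≫ c) f'
    obtain ⟨v, hv₁, -⟩ := exists_pt_of_isPullback' sqV x w hw.symm
    obtain ⟨K, _, _, ζ, hζ⟩ : ∃ (K : Type u) (_ : Field K) (_ : IsAlgClosed K)
        (ζ : Spec (CommRingCat.of K) ⟶ V.left), ζ (IsLocalRing.closedPoint K) = v := by
      let K : Type u := AlgebraicClosure (V.left.residueField v)
      exact ⟨K, inferInstance, inferInstance,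
        Spec.map (CommRingCat.ofHom (algebraMap (V.left.residueField v) K)) ≫ V.left.fromSpecResidueField v,
        by rw [Scheme.Hom.comp_apply]; exact Scheme.fromSpecResidueField_apply _ _⟩
    let str : Spec (CommRingCat.of K) ⟶ S := ζ ≫ V.hom
    let κ : Over.mk str ⟶ V := Over.homMk ζ rfl
    let pt : ↥(Over.mk str).left := (IsLocalRing.closedPoint K : PrimeSpectrum K)
    have hκ : κ.left pt = v := hζ
    have cz : (yon S).map (κ ≫ v₁ ≫ t) ≫ c = (yon S).map (κ ≫ v₂) ≫ f' := by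
      simp only [Functor.map_comp, Category.assoc, sqQ.w]
      rw [← sqV.w]
    have cz' : (yon S).map (κ ≫ v₁ ≫ s) ≫ c = (yon S).map (κ ≫ v₂) ≫ f' := by
      simp only [Functor.map_comp, Category.assoc]
      rw [← sqV.w]
    obtain ⟨p₁, hp₁⟩ := (yon S).map_surjective (sqK.lift ((yon S).map (κ ≫ v₂)) ((yon S).map (κ ≫ v₁ ≫ t)) cz.symm)
    obtain ⟨p₂, hp₂⟩ := (yon S).map_surjective (sqK.lift ((yon S).map (κ ≫ v₂)) ((yon S).map (κ ≫ v₁ ≫ s)) cz'.symm)
    have h1q : p₁ ≫ q = κ ≫ v₂ := (yon S).map_injective (by rw [Functor.map_comp, hp₁, sqK.lift_fst])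
    have h1k : p₁ ≫ k = κ ≫ v₁ ≫ t := (yon S).map_injective (by rw [Functor.map_comp, hp₁, sqK.lift_snd])
    have h2q : p₂ ≫ q = κ ≫ v₂ := (yon S).map_injective (by rw [Functor.map_comp, hp₂, sqK.lift_fst])
    have h2k : p₂ ≫ k = κ ≫ v₁ ≫ s := (yon S).map_injective (by rw [Functor.map_comp, hp₂, sqK.lift_snd])
    have hp : p₁ = p₂ := hinj j p₁ p₂ pt
      (hNA j _ (by
        rw [← Scheme.Hom.comp_apply, ← Over.comp_left, h1k, Over.comp_left, Over.comp_left,
          Scheme.Hom.comp_apply, Scheme.Hom.comp_apply, hκ, hv₁]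
        exact hx.1.1))
      (hNA j _ (by
        rw [← Scheme.Hom.comp_apply, ← Over.comp_left, h2k, Over.comp_left, Over.comp_left,
          Scheme.Hom.comp_apply, Scheme.Hom.comp_apply, hκ, hv₁]
        exact hx.1.2))
      (h1q.trans h2q.symm)
    have hd : κ ≫ v₁ = (κ ≫ v₁ ≫ t) ≫ δ := (yon S).map_injective (sqQ.hom_ext
      (by rw [← Functor.map_comp, ← Functor.map_comp, Category.assoc (κ ≫ v₁ ≫ t), hδt, Category.comp_id,
        Category.assoc])
      (by rw [← Functor.map_comp, ← Functor.map_comp, Category.assoc (κ ≫ v₁ ≫ t), hδs, Category.comp_id,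
        Category.assoc, ← h1k, hp, h2k]))
    refine hx.2 ⟨(κ ≫ v₁ ≫ t).left pt, ?_⟩
    rw [← Scheme.Hom.comp_apply, ← Over.comp_left, ← hd, Over.comp_left, Scheme.Hom.comp_apply, hκ, hv₁]
  let M : ι → Over S := fun j => Over.mk ((Nj j).ι ≫ N.hom)
  let m : ∀ j, M j ⟶ N := fun j => Over.homMk (Nj j).ι rfl
  have hmc : ∀ j, RepWith @IsOpenImmersion ((yon S).map (m j) ≫ c) := fun j => by
    have : Etale (m j).left := inferInstanceAs (Etale (Nj j).ι)
    have : Mono (m j).left := inferInstanceAs (Mono (Nj j).ι)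
    have hje := repWith_etale_comp (m j) hce
    have : Mono ((yon S).map (m j) ≫ c) := mono_of_forall_yon fun T v₁ v₂ e => by
      obtain ⟨v₁, rfl⟩ := (yon S).map_surjective v₁
      obtain ⟨v₂, rfl⟩ := (yon S).map_surjective v₂
      obtain ⟨l, hl⟩ := (yon S).map_surjective (sqQ.lift ((yon S).map (v₁ ≫ m j)) ((yon S).map (v₂ ≫ m j))
        (by rw [Functor.map_comp, Functor.map_comp, Category.assoc, Category.assoc, e]))
      have hlt : l ≫ t = v₁ ≫ m j := (yon S).map_injective (by rw [Functor.map_comp, hl, sqQ.lift_fst])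
      have hls : l ≫ s = v₂ ≫ m j := (yon S).map_injective (by rw [Functor.map_comp, hl, sqQ.lift_snd])
      have hlr : Set.range l.left ⊆ Set.range δ.left := by
        rintro _ ⟨z, rfl⟩
        refine hdiag j _ ?_ ?_
        · rw [← Scheme.Hom.comp_apply, ← Over.comp_left, hlt]
          exact (v₁.left z).2
        · rw [← Scheme.Hom.comp_apply, ← Over.comp_left, hls]
          exact (v₂.left z).2
      have e1 := IsOpenImmersion.lift_fac δ.left l.left hlr
      congr 1
      apply Over.OverMorphism.ext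
      rw [← cancel_mono (m j).left, ← Over.comp_left, ← Over.comp_left, ← hlt, ← hls, Over.comp_left,
        Over.comp_left, ← e1, Category.assoc, Category.assoc, hδt', hδs']
    refine ⟨hje.rep, fun T V g' fst snd sq => ?_⟩
    have : Mono ((yon S).map snd) :=
      MorphismProperty.of_isPullback (P := MorphismProperty.monomorphisms (Sp S)) sq ‹_›
    have : Mono snd := (yon S).mono_of_mono_map (f := snd) ‹_›
    have : Mono snd.left := Groth.Agent.SpFP87.mono_left_of_mono snd
    have : Etale snd.left := hje.property g' fst snd sq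
    exact IsOpenImmersion.of_flat_of_mono snd.left
  have hpt : ∀ z, ∃ j, z ∈ Set.range (Points.ofPt ((yon S).map (m j) ≫ c)) := fun z => by
    obtain ⟨n, rfl⟩ := surjective_ofPt hcs z
    obtain ⟨j, hj⟩ := hNcov n
    exact ⟨j, (⟨n, hj⟩ : (Nj j).toScheme), ofPt_comp _ _ _⟩
  obtain ⟨Y, ⟨e⟩⟩ := exists_iso_of_open_subschemes fun z => ⟨_, _, hmc (hpt z).choose, (hpt z).choose_spec⟩
  refine ⟨Y, e.hom ≫ ν,
    (MorphismProperty.cancel_left_of_respectsIso (RepWith @IsIntegralHom) e.hom ν).2 ((isIntegralMor_iff ν).1 hn.2.1),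
    repWith_surjective_of_surjective_ofPt (X.property.representable_from_yon _) fun x => ?_,
    ⟨f' ≫ e.inv, by rw [Category.assoc, e.inv_hom_id_assoc, hn.1],
      (isIntegralMor_iff _).2 ((MorphismProperty.cancel_left_of_respectsIso (RepWith @IsIntegralHom) e.hom ν).2
        ((isIntegralMor_iff ν).1 hn.2.1)), fun G hG π g hπ hg => ?_⟩, fun y => ?_⟩
  · have hcl : IsClosed (Set.range (Points.map ν)) :=
      (isClosedMap_of_integral Z.property X.property hn.2.1).isClosed_range
    have hsub : Set.range (Points.ofPt f) ⊆ Set.range (Points.map ν) := by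
      rintro _ ⟨w, rfl⟩
      exact ⟨Points.ofPt f' w, by rw [Points.map_ofPt, hn.1]⟩
    obtain ⟨z, rfl⟩ := (hcl.closure_subset_iff.2 hsub) (hdom x)
    obtain ⟨y, hy⟩ := (Points.schemeHomeo Y).surjective (Points.map e.inv z)
    refine ⟨y, ?_⟩
    rw [Points.ofPt_eq_map_ofScheme, show Points.ofScheme Y y = _ from hy, ← Points.map_comp,
      e.inv_hom_id_assoc]
  · obtain ⟨h, ⟨h1, h2⟩, hu⟩ := hn.2.2 hG π g hπ hg
    refine ⟨e.hom ≫ h, ⟨by rw [Category.assoc, e.inv_hom_id_assoc, h1], by rw [Category.assoc, h2]⟩, fun m ⟨m1, m2⟩ => ?_⟩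
    rw [← hu (e.inv ≫ m) ⟨by rw [← Category.assoc, m1], by rw [Category.assoc, m2, e.inv_hom_id_assoc]⟩,
      e.hom_inv_id_assoc]
  · obtain ⟨j, hj⟩ := hpt (Points.ofPt e.hom y)
    let O : Y.left.Opens := ⟨Points.ofPt e.hom ⁻¹' Set.range (Points.ofPt ((yon S).map (m j) ≫ c)),
      (isOpenMap_ofPt (SpPts86.repWith_mono (fun _ _ g (_ : IsOpenImmersion g) => (inferInstance : Etale g))
        (hmc j))).isOpen_range.preimage (Points.continuous_ofPt _)⟩
    obtain ⟨l, hl⟩ := exists_factor_of_range_subset (hmc j)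
      ((yon S).map (Over.homMk O.ι rfl : Over.mk (O.ι ≫ Y.hom) ⟶ Y) ≫ e.hom) (by
        rintro _ ⟨x, rfl⟩
        obtain ⟨o, rfl⟩ := (Points.schemeHomeo _).surjective x
        obtain ⟨w, hw⟩ := (O.range_ι.le ⟨o, rfl⟩ : O.ι o ∈ (O : Set ↥Y.left))
        refine ⟨Points.ofScheme (M j) w, ?_⟩
        show _ = Points.map _ (Points.ofScheme _ o)
        rw [← Points.ofPt_eq_map_ofScheme, ← Points.ofPt_eq_map_ofScheme, hw, ofPt_comp]
        rfl)
    obtain ⟨l, rfl⟩ := (yon S).map_surjective l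
    refine ⟨O, l ≫ m j ≫ νN, hj, ?_⟩
    simp only [Functor.map_comp, Category.assoc, ← sqN.w]
    rw [← Category.assoc ((yon S).map (m j)), ← Category.assoc ((yon S).map l), hl, Category.assoc]

end Groth.Agent.SpProper61
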