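import Groth.Agent.SpProper61.Filtration
import Groth.Agent.SpProper61.IntegralCover

/-!
A scheme integral and surjective over a quasi-compact quasi-separated space.
-/

universe u

set_option autoImplicit false
set_option backward.isDefEq.respectTransparency false

open CategoryTheory CategoryTheory.Limits AlgebraicGeometry Topology
open AlgSp Groth.Agent.SpFP87 Groth.Agent.SpPts86

namespace Groth.Agent.SpProper61

theorem isSeparated_sigma_of_separated {ι : Type u} (X : ι → Scheme.{u}) [∀ i, (X i).IsSeparated] : (∐ X).IsSeparated := by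
  refine ⟨⟨?_⟩⟩
  let f := terminal.from (∐ X)
  change IsClosedImmersion (pullback.diagonal f)
  refine IsClosedImmersion.of_isPreimmersion _ ?_
  rw [← isOpen_compl_iff, isOpen_iff_forall_mem_open]
  intro z hz
  obtain ⟨⟨i, a⟩, ha⟩ := (sigmaMk X).surjective (pullback.fst f f z)
  obtain ⟨⟨j, b⟩, hb⟩ := (sigmaMk X).surjective (pullback.snd f f z)
  rw [sigmaMk_mk] at ha hb
  let m := pullback.map (terminal.from (X i)) (terminal.from (X j)) f f (Sigma.ι X i) (Sigma.ι X j)
    (𝟙 _) (Subsingleton.elim _ _) (Subsingleton.elim _ _)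
  have hm₁ : m ≫ pullback.fst f f = pullback.fst _ _ ≫ Sigma.ι X i := pullback.lift_fst _ _ _
  have hm₂ : m ≫ pullback.snd f f = pullback.snd _ _ ≫ Sigma.ι X j := pullback.lift_snd _ _ _
  obtain ⟨w, hw⟩ : z ∈ Set.range m := by
    rw [Scheme.Pullback.range_map]
    exact ⟨⟨a, ha⟩, ⟨b, hb⟩⟩
  let D : Set ↥(pullback (terminal.from (X i)) (terminal.from (X j))) :=
    {w' | m w' ∈ Set.range (pullback.diagonal f)}
  have hD : IsClosed D := by
    by_cases hij : i = j
    · subst hij
      have e : D = Set.range (pullback.diagonal (terminal.from (X i))) := by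
        have h1 : pullback.diagonal (terminal.from (X i)) ≫ m = Sigma.ι X i ≫ pullback.diagonal f := by
          apply pullback.hom_ext
          · rw [Category.assoc, hm₁, pullback.diagonal_fst_assoc, Category.assoc, pullback.diagonal_fst,
              Category.comp_id]
          · rw [Category.assoc, hm₂, pullback.diagonal_snd_assoc, Category.assoc, pullback.diagonal_snd,
              Category.comp_id]
        ext w'
        constructor
        · rintro ⟨y, hy⟩
          have hy' : y = Sigma.ι X i (pullback.fst (terminal.from (X i)) (terminal.from (X i)) w') := by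
            rw [← Scheme.Hom.comp_apply (pullback.fst (terminal.from (X i)) (terminal.from (X i))), ← hm₁,
              Scheme.Hom.comp_apply, ← hy, ← Scheme.Hom.comp_apply, pullback.diagonal_fst]
            rfl
          refine ⟨pullback.fst (terminal.from (X i)) (terminal.from (X i)) w', m.isOpenEmbedding.injective ?_⟩
          rw [← Scheme.Hom.comp_apply, h1, Scheme.Hom.comp_apply, ← hy', hy]
        · rintro ⟨y, rfl⟩
          exact ⟨Sigma.ι X i y, by rw [← Scheme.Hom.comp_apply, ← h1, Scheme.Hom.comp_apply]⟩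
      rw [e]
      exact (pullback.diagonal (terminal.from (X i))).isClosedMap.isClosed_range
    · have e : D = ∅ := by
        refine Set.eq_empty_of_forall_notMem fun w' ⟨y, hy⟩ => ?_
        have h1 : y = Sigma.ι X i (pullback.fst (terminal.from (X i)) (terminal.from (X j)) w') := by
          rw [← Scheme.Hom.comp_apply (pullback.fst (terminal.from (X i)) (terminal.from (X j))), ← hm₁, Scheme.Hom.comp_apply, ← hy,
            ← Scheme.Hom.comp_apply, pullback.diagonal_fst]
          rfl
        have h2 : y = Sigma.ι X j (pullback.snd (terminal.from (X i)) (terminal.from (X j)) w') := by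
          rw [← Scheme.Hom.comp_apply (pullback.snd (terminal.from (X i)) (terminal.from (X j))), ← hm₂, Scheme.Hom.comp_apply, ← hy,
            ← Scheme.Hom.comp_apply, pullback.diagonal_snd]
          rfl
        have h := h1.symm.trans h2
        rw [← sigmaMk_mk, ← sigmaMk_mk] at h
        exact hij (congrArg Sigma.fst ((sigmaMk X).injective h))
      rw [e]
      exact isClosed_empty
  refine ⟨m '' Dᶜ, ?_, m.isOpenEmbedding.isOpenMap _ hD.isOpen_compl, w, ?_, hw⟩
  · rintro _ ⟨w', hw', rfl⟩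
    exact hw'
  · change ¬ m w ∈ Set.range (pullback.diagonal f)
    rw [hw]
    exact hz

variable {S : Scheme.{u}}

theorem exists_scheme_cover_of_pieces [QuasiSeparatedSpace ↥S] {X : Space S} (hXs : IsQuasiSeparatedSp X.obj)
    {U : Over S} [IsAffine U.left] (a : (yon S).obj U ⟶ X.obj) (ha : RepWith @Etale a)
    (has : RepWith @Surjective a) {ι₀ : Type u} [Finite ι₀] (n : ι₀ → ℕ) (W : ∀ d, DTup a (Fin (n d + 1)))
    (Wc : ι₀ → Over S) [CompactSpace ↥(SpFP87.sigmaOver Wc).left] [(SpFP87.sigmaOver Wc).left.IsSeparated]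
    (emb : ∀ d, Wc d ⟶ (W d).P)
    (hC : ∀ d w, Points.ofPt ((yon S).map ((W d).π 0) ≫ a) ((emb d).left w) ∉ Uset a (n d + 2))
    (f : (yon S).obj (SpFP87.sigmaOver Wc) ⟶ X.obj)
    (hf : ∀ d, (yon S).map (sigmaIncl Wc d) ≫ f = (yon S).map (emb d) ≫ (yon S).map ((W d).π 0) ≫ a)
    (hdom : Dense (Set.range (Points.ofPt f))) :
    ∃ (Y : Over S) (g : (yon S).obj Y ⟶ X.obj), RepWith @IsIntegralHom g ∧ RepWith @Surjective g ∧
      (∃ f' : (yon S).obj (SpFP87.sigmaOver Wc) ⟶ (yon S).obj Y, IsRelNormalization f g f') ∧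
      ∀ y : ↥Y.left, ∃ (O : Y.left.Opens) (c : Over.mk (O.ι ≫ Y.hom) ⟶ U), y ∈ O ∧
        (yon S).map c ≫ a = (yon S).map (Over.homMk O.ι rfl : Over.mk (O.ι ≫ Y.hom) ⟶ Y) ≫ g := by
  classical
  obtain ⟨P, q, r, sqP⟩ := exists_isPullback_yon X.property.diag f a
  have : Etale q.left := etale_snd_of_isPullback sqP.flip ha
  let ι : Type u := Σ d : ι₀, ULift.{u} (Fin (n d + 1))
  have hσ : ∀ j : ι, ∃ σ : Wc j.1 ⟶ P, σ ≫ q = sigmaIncl Wc j.1 ∧ σ ≫ r = emb j.1 ≫ (W j.1).π j.2.down := fun j => by
    obtain ⟨σ, hσ⟩ := (yon S).map_surjective (sqP.lift ((yon S).map (sigmaIncl Wc j.1))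
      ((yon S).map (emb j.1 ≫ (W j.1).π j.2.down)) (by
        rw [hf, Functor.map_comp, Category.assoc, (W j.1).compat j.2.down 0]))
    exact ⟨σ, (yon S).map_injective (by rw [Functor.map_comp, hσ, sqP.lift_fst]),
      (yon S).map_injective (by rw [Functor.map_comp, hσ, sqP.lift_snd])⟩
  choose σ hσq hσr using hσ
  have hσo : ∀ j, IsOpenImmersion (σ j).left := fun j => by
    have := sigmaIncl_isOpenImmersion Wc j.1
    have hc : (σ j).left ≫ q.left = (sigmaIncl Wc j.1).left := congrArg CommaMorphism.left (hσq j)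
    have : Etale ((σ j).left ≫ q.left) := by rw [hc]; infer_instance
    have : Etale (σ j).left := Etale.of_comp (σ j).left q.left
    have : Mono ((σ j).left ≫ q.left) := by rw [hc]; infer_instance
    have : Mono (σ j).left := mono_of_mono _ q.left
    exact IsOpenImmersion.of_flat_of_mono _
  let A : ι → P.left.Opens := fun j => ⟨Set.range (σ j).left, (σ j).left.isOpenEmbedding.isOpen_range⟩
  refine exists_scheme_integral_cover hXs a ha has f hdom sqP A (fun p => ?_) ?_ ?_
  · obtain ⟨K, _, _, ζ, hζ⟩ : ∃ (K : Type u) (_ : Field K) (_ : IsAlgClosed K)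
        (ζ : Spec (CommRingCat.of K) ⟶ P.left), ζ (IsLocalRing.closedPoint K) = p := by
      let K : Type u := AlgebraicClosure (P.left.residueField p)
      exact ⟨K, inferInstance, inferInstance,
        Spec.map (CommRingCat.ofHom (algebraMap (P.left.residueField p) K)) ≫ P.left.fromSpecResidueField p,
        by rw [Scheme.Hom.comp_apply]; exact Scheme.fromSpecResidueField_apply _ _⟩
    let str : Spec (CommRingCat.of K) ⟶ S := ζ ≫ P.hom
    let κ : Over.mk str ⟶ P := Over.homMk ζ rfl
    let pt : ↥(Over.mk str).left := (IsLocalRing.closedPoint K : PrimeSpectrum K)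
    have hκ : κ.left pt = p := hζ
    obtain ⟨d, w, hw⟩ := exists_sigmaIncl Wc (q.left p)
    have := sigmaIncl_isOpenImmersion Wc d
    have hsub : Subsingleton ↥(Over.mk str).left := inferInstanceAs (Subsingleton (PrimeSpectrum K))
    have hrange : Set.range (κ ≫ q).left ⊆ Set.range (sigmaIncl Wc d).left := by
      rintro _ ⟨z, rfl⟩
      rw [Subsingleton.elim z pt, Over.comp_left, Scheme.Hom.comp_apply, hκ]
      exact ⟨w, hw⟩
    let l₀ := IsOpenImmersion.lift (sigmaIncl Wc d).left (κ ≫ q).left hrange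
    let l : Over.mk str ⟶ Wc d := Over.homMk l₀ (by
      rw [← Over.w (sigmaIncl Wc d), ← Category.assoc, IsOpenImmersion.lift_fac]
      exact Over.w (κ ≫ q))
    have hl : l ≫ sigmaIncl Wc d = κ ≫ q := Over.OverMorphism.ext (IsOpenImmersion.lift_fac _ _ hrange)
    have hdist : Function.Injective fun i => l ≫ emb d ≫ (W d).π i := fun i j h => by
      by_contra hij
      exact (distAt_point_iff _ pt).1 ((distAt_comp (l ≫ emb d) (W d).π pt).2 ((W d).dist _)) i j hij
        (by simpa using h)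
    have hpa : ∀ i, (yon S).map (l ≫ emb d ≫ (W d).π i) ≫ a = (yon S).map (κ ≫ r) ≫ a := fun i => by
      rw [Functor.map_comp, Functor.map_comp, Category.assoc, Category.assoc, (W d).compat i 0,
        ← hf d, ← Category.assoc, ← Functor.map_comp, hl]
      simp only [Functor.map_comp, Category.assoc, sqP.w]
    obtain ⟨i, hi⟩ : ∃ i, l ≫ emb d ≫ (W d).π i = κ ≫ r := by
      by_contra hk
      push Not at hk
      have hC : Points.ofPt (((yon S).map ((W d).π 0) ≫ a)) ((emb d).left (l.left pt)) ∉ Uset a (n d + 2) :=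
        hC d (l.left pt)
      refine hC ⟨K, inferInstance, str, Fin.snoc (fun i => l ≫ emb d ≫ (W d).π i) (κ ≫ r), ?_, ?_, fun t' => ?_⟩
      · have key : ∀ i, (yon S).map ((Fin.snoc (fun i => l ≫ emb d ≫ (W d).π i) (κ ≫ r) :
            Fin (n d + 1 + 1) → (Over.mk str ⟶ U)) i) ≫ a = (yon S).map (κ ≫ r) ≫ a := by
          intro i
          induction i using Fin.lastCases with
          | last => rw [Fin.snoc_last]
          | cast i => rw [Fin.snoc_castSucc, hpa]
        exact fun i j => (key i).trans (key j).symm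
      · refine Fin.snoc_injective_iff.2 ⟨hdist, ?_⟩
        rintro ⟨i, hi⟩
        exact hk i hi
      · rw [Subsingleton.elim t' pt,
          show (0 : Fin (n d + 1 + 1)) = (0 : Fin (n d + 1)).castSucc from Fin.castSucc_zero.symm,
          Fin.snoc_castSucc, Functor.map_comp, Functor.map_comp, Category.assoc, Category.assoc, ofPt_comp, ofPt_comp]
    refine ⟨⟨d, ⟨i⟩⟩, l.left pt, ?_⟩
    have e : l ≫ σ ⟨d, ⟨i⟩⟩ = κ := (yon S).map_injective (sqP.hom_ext
      (by rw [← Functor.map_comp, ← Functor.map_comp, Category.assoc, hσq, hl])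
      (by rw [← Functor.map_comp, ← Functor.map_comp, Category.assoc, hσr]; exact congrArg _ hi))
    rw [← Scheme.Hom.comp_apply, ← Over.comp_left, e, hκ]
  · rintro ⟨d, i⟩ ⟨d', i'⟩ p ⟨w, hw⟩ ⟨w', hw'⟩
    have e1 : (sigmaIncl Wc d).left w = (sigmaIncl Wc d').left w' := by
      rw [← hσq ⟨d, i⟩, ← hσq ⟨d', i'⟩, Over.comp_left, Over.comp_left, Scheme.Hom.comp_apply,
        Scheme.Hom.comp_apply, hw, hw']
    obtain rfl := sigmaIncl_range_eq Wc e1
    have := sigmaIncl_isOpenImmersion Wc d
    obtain rfl := (sigmaIncl Wc d).left.isOpenEmbedding.injective e1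
    suffices i = i' by rw [this]
    by_contra hne
    have hne' : i.down ≠ i'.down := fun h => hne (ULift.ext _ _ h)
    have := hσo ⟨d, i⟩
    let K : Over S := Over.mk ((Wc d).left.fromSpecResidueField w ≫ (Wc d).hom)
    let κ : K ⟶ Wc d := Over.homMk ((Wc d).left.fromSpecResidueField w) rfl
    have hrange : Set.range (κ ≫ σ ⟨d, i'⟩).left ⊆ Set.range (σ ⟨d, i⟩).left := by
      rintro _ ⟨z, rfl⟩
      refine ⟨w, ?_⟩
      rw [Over.comp_left, Scheme.Hom.comp_apply, hw, ← hw']
      exact congrArg _ (Scheme.fromSpecResidueField_apply w z).symm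
    let l : K ⟶ Wc d := Over.homMk (IsOpenImmersion.lift (σ ⟨d, i⟩).left (κ ≫ σ ⟨d, i'⟩).left hrange) (by
      rw [← Over.w (σ ⟨d, i⟩), ← Category.assoc, IsOpenImmersion.lift_fac]
      exact Over.w (κ ≫ σ ⟨d, i'⟩))
    have hl : l ≫ σ ⟨d, i⟩ = κ ≫ σ ⟨d, i'⟩ := Over.OverMorphism.ext (IsOpenImmersion.lift_fac _ _ hrange)
    have hlκ : l = κ := by
      apply Over.OverMorphism.ext
      rw [← cancel_mono (sigmaIncl Wc d).left, ← Over.comp_left, ← Over.comp_left, ← hσq ⟨d, i⟩,
        ← Category.assoc, hl, Category.assoc, hσq ⟨d, i'⟩, hσq ⟨d, i⟩]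
    rw [hlκ] at hl
    have e2 := congrArg (fun g => g ≫ r) hl
    simp only [Category.assoc, hσr] at e2
    exact (distAt_comp (emb d) (W d).π w).2 ((W d).dist _) i.down i'.down hne'
      (congrArg CommaMorphism.left e2)
  · intro j K _ _ str p₁ p₂ pt h₁ h₂ e
    have := hσo j
    have := sigmaIncl_isOpenImmersion Wc j.1
    have hsub : Subsingleton ↥(Over.mk str).left := inferInstanceAs (Subsingleton (PrimeSpectrum K))
    have lift : ∀ p : Over.mk str ⟶ P, p.left pt ∈ A j → ∃ l : Over.mk str ⟶ Wc j.1, l ≫ σ j = p := by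
      intro p hp
      have hr : Set.range p.left ⊆ Set.range (σ j).left := by
        rintro _ ⟨z, rfl⟩
        rw [Subsingleton.elim z pt]; exact hp
      exact ⟨Over.homMk (IsOpenImmersion.lift (σ j).left p.left hr) (by
        rw [← Over.w (σ j), ← Category.assoc, IsOpenImmersion.lift_fac, Over.w p]),
        Over.OverMorphism.ext (IsOpenImmersion.lift_fac _ _ hr)⟩
    obtain ⟨l₁, rfl⟩ := lift p₁ h₁
    obtain ⟨l₂, rfl⟩ := lift p₂ h₂
    have : l₁ = l₂ := by
      apply Over.OverMorphism.ext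
      rw [← cancel_mono (sigmaIncl Wc j.1).left, ← Over.comp_left, ← Over.comp_left, ← hσq j,
        ← Category.assoc, ← Category.assoc, e]
    rw [this]


theorem exists_integral_scheme_cover [QuasiSeparatedSpace ↥S] {X : Space S} (hXs : IsQuasiSeparatedSp X.obj)
    {U : Over S} [IsAffine U.left] (a : (yon S).obj U ⟶ X.obj) (ha : RepWith @Etale a)
    (has : RepWith @Surjective a) :
    ∃ (Y : Over S) (g : (yon S).obj Y ⟶ X.obj), RepWith @IsIntegralHom g ∧ RepWith @Surjective g ∧
      ∀ y : ↥Y.left, ∃ (O : Y.left.Opens) (c : Over.mk (O.ι ≫ Y.hom) ⟶ U), y ∈ O ∧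
        (yon S).map c ≫ a = (yon S).map (Over.homMk O.ι rfl : Over.mk (O.ι ≫ Y.hom) ⟶ Y) ≫ g := by
  classical
  obtain ⟨R, t, s, sq⟩ := exists_isPullback_yon X.property.diag a a
  have := compactSpace_relation_of_qs hXs sq
  obtain ⟨N, hN⟩ := exists_Uset_eq_empty ha sq
  have hqc := repWith_quasiCompact_of_relation ha has sq
  choose W hW hZ hWc using fun n => exists_dtup ha n
  let g₀ : ∀ n, (yon S).obj (W n).P ⟶ X.obj := fun n => (yon S).map ((W n).π 0) ≫ a
  let C : ∀ n, TopologicalSpace.Closeds ↥(W n).P.left := fun n =>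
    ⟨Points.ofPt (g₀ n) ⁻¹' (Uset a (n + 2))ᶜ,
      (isClosed_compl_iff.2 (isOpen_Uset ha _)).preimage (Points.continuous_ofPt _)⟩
  let I := fun n => Scheme.IdealSheafData.vanishingIdeal (C n)
  let ι₀ : Type u := ULift.{u} (Fin N)
  let Wc : ι₀ → Over S := fun d => Over.mk ((I d.down).subschemeι ≫ (W d.down).P.hom)
  let emb : ∀ d : ι₀, Wc d ⟶ (W d.down).P := fun d => Over.homMk (I d.down).subschemeι rfl
  have hemb : ∀ d, Set.range (emb d).left = (C d.down : Set ↥(W d.down).P.left) := fun d => by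
    show Set.range (I d.down).subschemeι = _
    rw [Scheme.IdealSheafData.range_subschemeι, Scheme.IdealSheafData.coe_support_vanishingIdeal]
  have : ∀ d, IsReduced (Wc d).left := fun d => SchBasics.isReduced_vanishingIdeal_subscheme _
  have : ∀ d, CompactSpace ↥(Wc d).left := fun d => by
    have := hWc d.down hqc
    have : IsClosedImmersion (emb d).left := inferInstanceAs (IsClosedImmersion (I d.down).subschemeι)
    exact QuasiCompact.compactSpace_of_compactSpace (emb d).left
  have hsep : ∀ d, (Wc d).left.IsSeparated := fun d => by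
    obtain ⟨Z, q, hZa, hqm, hql⟩ := hZ d.down
    have : IsClosedImmersion (emb d).left := inferInstanceAs (IsClosedImmersion (I d.down).subschemeι)
    have : AlgebraicGeometry.IsSeparated (terminal.from (Wc d).left) := by
      rw [← terminal.comp_from ((emb d).left ≫ q)]
      infer_instance
    exact ⟨this⟩
  let W' : Over S := SpFP87.sigmaOver Wc
  have : CompactSpace ↥W'.left := by
    have : CompactSpace ↥(∐ fun d => (Wc d).left) := (sigmaMk fun d => (Wc d).left).compactSpace
    exact this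
  have : IsReduced W'.left := by
    have : ∀ d, IsReduced ((sigmaOpenCover fun d => (Wc d).left).X d) := fun d => ‹∀ d, IsReduced (Wc d).left› d
    exact IsReduced.of_openCover _ (sigmaOpenCover fun d => (Wc d).left)
  have : W'.left.IsSeparated := isSeparated_sigma_of_separated fun d => (Wc d).left
  obtain ⟨f, hf, -⟩ := sigma_existsUnique_desc Wc (fun d => (yon S).map (emb d) ≫ g₀ d.down)
  have hsurj : Function.Surjective (Points.ofPt f) := fun x => by
    obtain ⟨n, hn, hx₁, hx₂⟩ : ∃ n, n < N ∧ x ∈ Uset a (n + 1) ∧ x ∉ Uset a (n + 2) := by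
      suffices ∀ m, x ∉ Uset a (m + 1) → ∃ n, n < m ∧ x ∈ Uset a (n + 1) ∧ x ∉ Uset a (n + 2) from
        this N (hN ▸ Set.notMem_empty x)
      intro m
      induction m with
      | zero => exact fun h => absurd (Uset_one has ▸ Set.mem_univ x) h
      | succ m ih =>
        intro h
        by_cases h' : x ∈ Uset a (m + 1)
        · exact ⟨m, Nat.lt_succ_self m, h', h⟩
        · obtain ⟨n, h1, h2⟩ := ih h'
          exact ⟨n, Nat.lt_succ_of_lt h1, h2⟩
    obtain ⟨w, hw⟩ := (mem_Uset_iff (W n) x).1 hx₁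
    obtain ⟨w', hw'⟩ := (hemb ⟨⟨n, hn⟩⟩).ge (show w ∈ (C n : Set ↥(W n).P.left) from by
      show Points.ofPt (g₀ n) w ∉ Uset a (n + 2)
      rw [hw]; exact hx₂)
    refine ⟨(sigmaIncl Wc ⟨⟨n, hn⟩⟩).left w', ?_⟩
    rw [← ofPt_comp, hf, ofPt_comp, hw']
    exact hw
  obtain ⟨Y, g, h1, h2, -, h4⟩ := exists_scheme_cover_of_pieces hXs a ha has (fun d : ι₀ => d.down.1)
    (fun d => W d.down) Wc emb (fun d w => (hemb d).le ⟨w, rfl⟩) f hf hsurj.denseRange
  exact ⟨Y, g, h1, h2, h4⟩

theorem exists_affine_chart_factor {X : Space S} [CompactSpace (Points X.obj)] {V : Over S}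
    (b : (yon S).obj V ⟶ X.obj) (hb : RepWith @Etale b) (hbs : RepWith @Surjective b) :
    ∃ (U : Over S) (c : U ⟶ V), IsAffine U.left ∧ RepWith @Etale ((yon S).map c ≫ b) ∧
      RepWith @Surjective ((yon S).map c ≫ b) := by
  let O : V.left.affineOpens → Set (Points X.obj) := fun A =>
    Points.ofPt b '' ((A.1 : V.left.Opens) : Set ↥V.left)
  have hO : (⋃ A, O A) = Set.univ := by
    refine Set.eq_univ_iff_forall.2 fun x => ?_
    obtain ⟨t, rfl⟩ := surjective_ofPt hbs x
    obtain ⟨A, hA, htA, -⟩ := exists_isAffineOpen_mem_and_subset (x := t) (U := (⊤ : V.left.Opens)) trivial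
    exact Set.mem_iUnion.2 ⟨⟨A, hA⟩, t, htA, rfl⟩
  obtain ⟨s, hsub⟩ := isCompact_univ.elim_finite_subcover O (fun A => isOpenMap_ofPt hb _ A.1.isOpen) hO.ge
  refine ⟨sigmaOpens V (fun A : s => A.1.1), sigmaOpensMap V (fun A : s => A.1.1),
    isAffine_sigmaOpens _ _ (fun A => A.1.2), sigmaOpens_chart hb _ fun x => ?_⟩
  obtain ⟨A, hA, hx⟩ := Set.mem_iUnion₂.1 (hsub (Set.mem_univ x))
  exact ⟨⟨A, hA⟩, hx⟩

end Groth.Agent.SpProper61
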