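import Groth.Agent.SpProper61.DenseScheme

/-!
Compactness of the relation of an affine chart of a quasi-separated space over a quasi-separated base.
-/

universe u

set_option autoImplicit false
set_option backward.isDefEq.respectTransparency false

open CategoryTheory CategoryTheory.Limits AlgebraicGeometry Topology
open AlgSp Groth.Agent.SpFP87 Groth.Agent.SpPts86

namespace Groth.Agent.SpProper61

variable {S : Scheme.{u}}

theorem compactSpace_relation_of_qs [QuasiSeparatedSpace ↥S] {X : Space S} (hX : IsQuasiSeparatedSp X.obj)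
    {U : Over S} [CompactSpace ↥U.left] {a : (yon S).obj U ⟶ X.obj} {R : Over S} {t s : R ⟶ U}
    (sq : IsPullback ((yon S).map t) ((yon S).map s) a a) : CompactSpace ↥R.left := by
  let π : U ⟶ Over.mk (𝟙 S) := Over.homMk U.hom
  obtain ⟨W, p, q, sqW⟩ := exists_isPullback_yon (IsAlgSpace.yon_obj (Over.mk (𝟙 S))).diag
    ((yon S).map π) ((yon S).map π)
  have : QuasiCompact U.hom := quasiCompact_of_compactSpace _
  have hs : IsPullback p.left q.left U.hom U.hom := isPullback_left_of_yon sqW
  have : QuasiCompact q.left := MorphismProperty.of_isPullback (P := @QuasiCompact) hs ‹_›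
  have : CompactSpace ↥W.left := QuasiCompact.compactSpace_of_compactSpace q.left
  let β : (yon S).obj W ⟶ X.obj ⨯ X.obj := prod.lift ((yon S).map p ≫ a) ((yon S).map q ≫ a)
  obtain ⟨Q, c, e₀, sqS⟩ := hX.rep β
  have : QuasiCompact c.left := hX.property β e₀ c sqS
  have : CompactSpace ↥Q.left := QuasiCompact.compactSpace_of_compactSpace c.left
  have hd1 : Limits.diag X.obj ≫ prod.fst = 𝟙 X.obj := prod.lift_fst _ _
  have hd2 : Limits.diag X.obj ≫ prod.snd = 𝟙 X.obj := prod.lift_snd _ _
  have hs1 : e₀ = (yon S).map (c ≫ p) ≫ a := by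
    have := congrArg (· ≫ prod.fst) sqS.w
    simp only [Category.assoc, hd1, Category.comp_id, β, prod.lift_fst] at this
    rw [this, Functor.map_comp, Category.assoc]
  have hs2 : e₀ = (yon S).map (c ≫ q) ≫ a := by
    have := congrArg (· ≫ prod.snd) sqS.w
    simp only [Category.assoc, hd2, Category.comp_id, β, prod.lift_snd] at this
    rw [this, Functor.map_comp, Category.assoc]
  obtain ⟨e, he⟩ := (yon S).map_surjective (sq.lift ((yon S).map (c ≫ p)) ((yon S).map (c ≫ q))
    (hs1.symm.trans hs2))
  obtain ⟨w, hw⟩ := (yon S).map_surjective (sqW.lift ((yon S).map t) ((yon S).map s) (by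
    rw [← Functor.map_comp, ← Functor.map_comp]
    exact congrArg (yon S).map (Over.OverMorphism.ext (by simp [π, Over.w]))))
  obtain ⟨e', he'⟩ := (yon S).map_surjective (sqS.lift ((yon S).map t ≫ a) ((yon S).map w) (by
    apply Limits.prod.hom_ext
    · simp only [Category.assoc, hd1, Category.comp_id, β, prod.lift_fst]
      rw [← Category.assoc, hw, sqW.lift_fst]
    · simp only [Category.assoc, hd2, Category.comp_id, β, prod.lift_snd]
      rw [← Category.assoc, hw, sqW.lift_snd, sq.w]))
  have hee : e' ≫ e = 𝟙 R := (yon S).map_injective (by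
    rw [Functor.map_comp, he, (yon S).map_id]
    have h1 : (yon S).map e' ≫ (yon S).map c = (yon S).map w := by rw [he', sqS.lift_snd]
    apply sq.hom_ext
    · rw [Category.assoc, sq.lift_fst, Category.id_comp, Functor.map_comp, ← Category.assoc, h1, hw,
        sqW.lift_fst]
    · rw [Category.assoc, sq.lift_snd, Category.id_comp, Functor.map_comp, ← Category.assoc, h1, hw,
        sqW.lift_snd])
  have hsurj : Function.Surjective e.left := fun x => ⟨e'.left x, by
    rw [← Scheme.Hom.comp_apply, ← Over.comp_left, hee]; rfl⟩
  exact hsurj.compactSpace e.left.continuous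

theorem repWith_quasiCompact_of_relation {X : Space S} {U : Over S} [IsAffine U.left]
    {a : (yon S).obj U ⟶ X.obj} (ha : RepWith @Etale a) (has : RepWith @Surjective a) {R : Over S} {t s : R ⟶ U}
    (sq : IsPullback ((yon S).map t) ((yon S).map s) a a) [CompactSpace ↥R.left] : RepWith @QuasiCompact a :=
  have : MorphismProperty.DescendsAlong (@QuasiCompact : MorphismProperty Scheme.{u}) fppfSurj :=
    quasiCompact_descends.{u}
  repWith_of_baseChange sq (locLift_of_atlas ha has) (X.property.representable_from_yon a)
    ((repWith_yon_map_iff _ s).2 (inferInstance : QuasiCompact s.left))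

end Groth.Agent.SpProper61
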