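import Groth.Agent.SpProper61.Filtration
import Groth.Agent.SpProper61.RelCompact
import Groth.Agent.SpPts86.QCQS

/-!
Climbing a quasi-compact quasi-separated space by elementary distinguished squares with affine corner.
-/

universe u

set_option autoImplicit false
set_option backward.isDefEq.respectTransparency false

open CategoryTheory CategoryTheory.Limits AlgebraicGeometry Topology
open AlgSp Groth.Agent.SpFP87 Groth.Agent.SpPts86

namespace Groth.Agent.SpProper61

variable {S : Scheme.{u}}

/-- `g` is one-to-one on geometric points outside `O`. -/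
def InjOutside {G : Sp S} (O : Set (Points G)) {T : Over S} (g : (yon S).obj T ⟶ G) : Prop :=
  ∀ {K : Type u} [Field K] [IsAlgClosed K] {str : Spec (CommRingCat.of K) ⟶ S} (v₁ v₂ : Over.mk str ⟶ T)
    (t : ↥(Over.mk str).left), (yon S).map v₁ ≫ g = (yon S).map v₂ ≫ g →
      Points.ofPt ((yon S).map v₁ ≫ g) t ∉ O → v₁ = v₂

theorem isIso_fst_of_injOutside {G Z : Space S} {T : Over S} (g : (yon S).obj T ⟶ G.obj) (hg : RepWith @Etale g)
    (i : Z.obj ⟶ G.obj) {O : Set (Points G.obj)} (hi : ∀ z, Points.map i z ∉ O)
    (hcov : ∀ z, Points.map i z ∈ Set.range (Points.ofPt g)) (hinj : InjOutside O g)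
    (P : Sp S) (fst : P ⟶ Z.obj) (snd : P ⟶ (yon S).obj T) (sq : IsPullback fst snd i g) : IsIso fst := by
  obtain ⟨C, c, hc, hcs⟩ := Z.property.atlas
  obtain ⟨Q, q, h, sqQ⟩ := exists_isPullback_yon G.property.diag g (c ≫ i)
  have hhe : Etale h.left := etale_snd_of_isPullback sqQ hg
  have hhs : Surjective h.left := ⟨fun x => by
    obtain ⟨v, hv⟩ := hcov (Points.ofPt c x)
    obtain ⟨y, -, hy⟩ := exists_of_isPullback sqQ (Points.ofScheme T v) (Points.ofScheme C x) (by
      rw [← Points.ofPt_eq_map_ofScheme, ← Points.ofPt_eq_map_ofScheme, hv, Points.map_ofPt])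
    obtain ⟨w, rfl⟩ := (Points.schemeHomeo Q).surjective y
    refine ⟨w, (Points.schemeHomeo C).injective ?_⟩
    show Points.ofScheme C (h.left w) = Points.ofScheme C x
    rw [← hy]
    exact (ofPt_comp h (𝟙 _) w).symm.trans (by rw [Category.comp_id, Points.ofPt_eq_map_ofScheme]; rfl)⟩
  have : IsIso (pullback.diagonal h.left) := isIso_diagonal_of_geom_injective h.left fun {K} _ _ σ₁ σ₂ hσ => by
    let str : Spec (CommRingCat.of K) ⟶ S := σ₁ ≫ Q.hom
    let G₁ : Over.mk str ⟶ Q := Over.homMk σ₁ rfl
    let G₂ : Over.mk str ⟶ Q := Over.homMk σ₂ (by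
      show σ₂ ≫ Q.hom = σ₁ ≫ Q.hom
      rw [← Over.w h, ← Category.assoc, ← hσ, Category.assoc])
    have hG : G₁ ≫ h = G₂ ≫ h := Over.OverMorphism.ext hσ
    have hcomp : ∀ H : Over.mk str ⟶ Q, (yon S).map (H ≫ q) ≫ g = ((yon S).map (H ≫ h) ≫ c) ≫ i := fun H => by
      rw [Functor.map_comp, Functor.map_comp, Category.assoc, Category.assoc, Category.assoc, sqQ.w]
    have hv : G₁ ≫ q = G₂ ≫ q := hinj (G₁ ≫ q) (G₂ ≫ q) (IsLocalRing.closedPoint K : PrimeSpectrum K)
      (by rw [hcomp, hcomp, hG]) (by rw [hcomp, ← Points.map_ofPt]; exact hi _)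
    exact congrArg (fun G : Over.mk str ⟶ Q => G.left) ((yon S).map_injective (sqQ.hom_ext
      (by rw [← Functor.map_comp, ← Functor.map_comp, hv])
      (by rw [← Functor.map_comp, ← Functor.map_comp, hG])) : G₁ = G₂)
  have : Mono h.left := pullback.isIso_diagonal_iff _ |>.1 this
  have : IsOpenImmersion h.left := IsOpenImmersion.of_flat_of_mono h.left
  have : IsIso h.left := (isIso_iff_isOpenImmersion_and_surjective _).2 ⟨inferInstance, hhs⟩
  have : IsIso ((Over.forget S).map h) := inferInstanceAs (IsIso h.left)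
  have : IsIso h := isIso_of_reflects_iso h (Over.forget S)
  obtain ⟨l, hl₁, hl₂⟩ : ∃ l : (yon S).obj Q ⟶ P, l ≫ fst = (yon S).map h ≫ c ∧ l ≫ snd = (yon S).map q :=
    ⟨sq.lift ((yon S).map h ≫ c) ((yon S).map q) (by rw [Category.assoc, sqQ.w]), sq.lift_fst _ _ _,
      sq.lift_snd _ _ _⟩
  exact isIso_of_baseChange (IsPullback.of_right (by rw [hl₂]; exact sqQ) hl₁ sq.flip) (locLift_of_atlas hc hcs)

theorem isElemDistSq_of_injOutside {G U : Space S} (k : U.obj ⟶ G.obj) (hk : RepWith @IsOpenImmersion k)
    {T : Over S} (g : (yon S).obj T ⟶ G.obj) (hg : RepWith @Etale g)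
    (hcov : ∀ x, x ∈ Set.range (Points.map k) ∪ Set.range (Points.ofPt g))
    (hinj : InjOutside (Set.range (Points.map k)) g) : IsElemDistSq k g := by
  obtain ⟨Z, i, hZ, hi⟩ := exists_isRedInduced G.property (Set.range (Points.map k))ᶜ
    (isClosed_compl_iff.2 (isOpen_range_map hk))
  have hz : ∀ z, Points.map i z ∉ Set.range (Points.map k) := fun z => hi.2.1.le ⟨z, rfl⟩
  exact ⟨hk, SpPts86.isEtaleMor_of_repWith_etale hg, Z, pullback i g, i, pullback.fst i g, pullback.snd i g, hi,
    IsPullback.of_hasPullback i g,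
    isIso_fst_of_injOutside (Z := ⟨Z, hZ⟩) g hg i hz (fun z => (hcov _).resolve_left (hz z)) hinj _ _ _
      (IsPullback.of_hasPullback i g)⟩

theorem repWith_openImmersion_of_comp {A B C : Sp S} {k : A ⟶ B} {j : B ⟶ C}
    (hj : RepWith @IsOpenImmersion j) (h : RepWith @IsOpenImmersion (k ≫ j)) : RepWith @IsOpenImmersion k := by
  have := mono_of_repWith_le isOpenImmersion_le_monomorphisms hj
  have sq : IsPullback (𝟙 A) k (k ≫ j) j := ⟨⟨Category.id_comp _⟩, ⟨PullbackCone.IsLimit.mk _ (fun c => c.fst)
    (fun c => Category.comp_id _)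
    (fun c => by rw [← cancel_mono j, Category.assoc, c.condition])
    (fun c m h1 _ => by rw [← h1]; exact (Category.comp_id _).symm)⟩⟩
  exact (repWith_isStableUnderBaseChange _).of_isPullback sq h

theorem isQuasiSeparatedSp_of_openImmersion {A B : Sp S} {j : A ⟶ B} (hj : RepWith @IsOpenImmersion j)
    (hB : IsQuasiSeparatedSp B) : IsQuasiSeparatedSp A := by
  have := mono_of_repWith_le isOpenImmersion_le_monomorphisms hj
  have w : j ≫ Limits.diag B = Limits.diag A ≫ prod.map j j := by simp
  have sq : IsPullback j (Limits.diag A) (Limits.diag B) (prod.map j j) := by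
    refine ⟨⟨w⟩, ⟨PullbackCone.IsLimit.mk _ (fun s => s.snd ≫ prod.fst) ?_ ?_ ?_⟩⟩
    · intro s
      have := congrArg (· ≫ prod.fst) s.condition
      simp only [Category.assoc, prod.lift_fst, prod.map_fst, Category.comp_id] at this
      rw [Category.assoc]
      exact this.symm
    · intro s
      have h1 := congrArg (· ≫ prod.fst) s.condition
      have h2 := congrArg (· ≫ prod.snd) s.condition
      simp only [Category.assoc, prod.lift_fst, prod.lift_snd, prod.map_fst, prod.map_snd,
        Category.comp_id] at h1 h2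
      apply Limits.prod.hom_ext
      · simp only [Category.assoc, prod.lift_fst, Category.comp_id]
      · rw [← cancel_mono j]
        simp only [Category.assoc, prod.lift_snd, Category.comp_id]
        rw [← h2, h1]
    · intro s m hm1 hm2
      rw [← hm2]
      simp only [Category.assoc, prod.lift_fst, Category.comp_id]
  exact (repWith_isStableUnderBaseChange _).of_isPullback sq hB

theorem isCompact_preimage_ofPt [QuasiSeparatedSpace ↥S] {Y : Sp S} (hY : IsAlgSpace Y)
    (hqs : IsQuasiSeparatedSp Y) {T : Over S} [CompactSpace ↥T.left] (g : (yon S).obj T ⟶ Y)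
    {O : Set (Points Y)} (hO : IsOpen O) (hc : IsCompact O) : IsCompact (Points.ofPt g ⁻¹' O) := by
  obtain ⟨V, snd, fst, sq, hs, hr⟩ := exists_isPullback_restrict hO g
  have := compactSpace_points_yon T
  have : CompactSpace (Points (restrictSheaf Y O)) := by
    rw [← isCompact_univ_iff, (isEmbedding_map_of_openImmersion (repWith_restrictι (F := Y) hO)).isEmbedding.isInducing.isCompact_iff,
      Set.image_univ, range_map_restrictι hO]
    exact hc
  have := compactSpace_of_isQuasiCompactMor (isQuasiCompactMor_of_qc_qs (f := g) (IsAlgSpace.yon_obj T) hY hqs)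
    (isAlgSpace_restrictSheaf hY hO) sq.flip
  have : CompactSpace ↥V.left := (Points.schemeHomeo V).symm.compactSpace
  rw [← hr]
  exact isCompact_range snd.left.continuous

/-- An elementary enlargement of a quasi-compact open by the image of an affine scheme. -/
structure AffStep {Y : Space S} (O O' : Set (Points Y.obj)) (T : Over S) (g : (yon S).obj T ⟶ Y.obj) : Prop where
  isOpen : IsOpen O
  isCompact : IsCompact O
  isOpen' : IsOpen O'
  isCompact' : IsCompact O'
  affine : IsAffine T.left
  etale : RepWith @Etale g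
  union : O ∪ Set.range (Points.ofPt g) = O'
  inj : InjOutside O g

theorem climb [QuasiSeparatedSpace ↥S] (Y : Space S) (hqc : IsQuasiCompactSp Y.obj)
    (hqs : IsQuasiSeparatedSp Y.obj) (Φ : Set (Points Y.obj) → Prop) {O₀ : Set (Points Y.obj)}
    (ho : IsOpen O₀) (hc : IsCompact O₀) (h₀ : Φ O₀)
    (hstep : ∀ O O' T g, O₀ ⊆ O → AffStep O O' T g → Φ O → Φ O') : Φ Set.univ := by
  classical
  have := compactSpace_points_of_isQuasiCompactSp hqc
  obtain ⟨U, a, hU, ha, has⟩ := exists_affine_chart_of_compactSpace Y.property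
  obtain ⟨R, t, s, sq⟩ := exists_isPullback_yon Y.property.diag a a
  have := compactSpace_relation_of_qs hqs sq
  obtain ⟨N, hN⟩ := exists_Uset_eq_empty ha sq
  have hqca := repWith_quasiCompact_of_relation ha has sq
  have cpt : ∀ n, IsCompact (Uset a (n + 1)) := fun n => by
    obtain ⟨W, -, -, hW⟩ := exists_dtup ha n
    have := hW hqca
    rw [show Uset a (n + 1) = Set.range (Points.ofPt ((yon S).map (W.π 0) ≫ a)) from
      Set.ext fun x => mem_Uset_iff W x]
    exact isCompact_range (Points.continuous_ofPt _)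
  have main : ∀ m n, N = n + m → Φ (O₀ ∪ Uset a (n + 1)) := by
    intro m
    induction m with
    | zero =>
      intro n hn
      rw [show n = N from hn.symm, hN, Set.union_empty]
      exact h₀
    | succ m ih =>
      intro n hn
      obtain ⟨W, V, μ, f, -, hme, hms, hf, hfm, hinv, hcp⟩ := exists_tuple_quot ha n
      have hVc : CompactSpace ↥V.left := (hcp hqca).2
      have hr : Set.range (Points.ofPt f) = Uset a (n + 1) := by
        ext x
        rw [mem_Uset_iff W, ← hfm]
        exact ⟨fun ⟨v, hv⟩ => by
          obtain ⟨w, rfl⟩ := μ.left.surjective v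
          exact ⟨w, by rw [ofPt_comp, hv]⟩, fun ⟨w, hw⟩ => ⟨μ.left w, by rw [← hw, ofPt_comp]⟩⟩
      let C : Finset V.left.affineOpens → Set (Points Y.obj) := fun s =>
        (O₀ ∪ Uset a (n + 2)) ∪ ⋃ A ∈ s, Points.ofPt f '' ((A.1 : V.left.Opens) : Set ↥V.left)
      have hCo : ∀ s, IsOpen (C s) := fun s => (ho.union (isOpen_Uset ha _)).union
        (isOpen_biUnion fun A _ => isOpenMap_ofPt hf _ A.1.isOpen)
      have hCc : ∀ s, IsCompact (C s) := fun s => (hc.union (cpt _)).union
        (s.isCompact_biUnion fun A _ => (A.2.isCompact).image (Points.continuous_ofPt f))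
      have hC : ∀ s, Φ (C s) := by
        intro s
        induction s using Finset.induction with
        | empty =>
          simp only [C, Finset.notMem_empty, Set.iUnion_false, Set.iUnion_empty, Set.union_empty]
          exact ih (n + 1) (by omega)
        | insert A s _ ihs =>
          let T : Over S := Over.mk (A.1.ι ≫ V.hom)
          let ι : T ⟶ V := Over.homMk A.1.ι rfl
          have : Etale ι.left := inferInstanceAs (Etale A.1.ι)
          refine hstep (C s) (C (insert A s)) T ((yon S).map ι ≫ f)
            (Set.subset_union_left.trans Set.subset_union_left)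
            ⟨hCo s, hCc s, hCo _, hCc _, A.2, repWith_etale_comp ι hf, ?_, ?_⟩ ihs
          · have : Set.range (Points.ofPt ((yon S).map ι ≫ f)) = Points.ofPt f '' (A.1 : Set ↥V.left) := by
              rw [← show Set.range ι.left = (A.1 : Set ↥V.left) from A.1.range_ι, ← Set.range_comp]
              exact congrArg Set.range (funext fun v => ofPt_comp ι f v)
            rw [this]
            simp only [C, Finset.set_biUnion_insert]
            ext x
            simp only [Set.mem_union]
            tauto
          · intro K _ _ str v₁ v₂ t e h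
            have hv : v₁ ≫ ι = v₂ ≫ ι := quot_point_eq W μ f hme hms hfm hinv _ _
              (by rw [Functor.map_comp, Functor.map_comp, Category.assoc, Category.assoc, e]) t
              (fun hh => h (.inl (.inr (by rw [← Category.assoc, ← Functor.map_comp]; exact hh))))
            have : Mono ι.left := inferInstanceAs (Mono A.1.ι)
            exact Over.OverMorphism.ext ((cancel_mono ι.left).1 (congrArg CommaMorphism.left hv))
      obtain ⟨s, hs⟩ := isCompact_univ.elim_finite_subcover (fun A : V.left.affineOpens => ((A.1 : V.left.Opens) : Set ↥V.left))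
        (fun A => A.1.isOpen) fun v _ => by
          obtain ⟨A, hA, hv, -⟩ := exists_isAffineOpen_mem_and_subset (x := v) (U := (⊤ : V.left.Opens)) trivial
          exact Set.mem_iUnion.2 ⟨⟨A, hA⟩, hv⟩
      convert hC s using 1
      ext x
      simp only [C, Set.mem_union, Set.mem_iUnion₂]
      constructor
      · rintro (h | h)
        · exact .inl (.inl h)
        · obtain ⟨v, rfl⟩ := hr.ge h
          obtain ⟨A, hA, hv⟩ := Set.mem_iUnion₂.1 (hs (Set.mem_univ v))
          exact .inr ⟨A, hA, v, hv, rfl⟩
      · rintro ((h | h) | ⟨A, -, v, -, rfl⟩)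
        · exact .inl h
        · exact .inr (Uset_succ_subset _ h)
        · exact .inr (hr.le ⟨v, rfl⟩)
  have := main N 0 (by omega)
  rwa [Uset_one has, Set.union_univ] at this

end Groth.Agent.SpProper61
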