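import Groth.Agent.SpProper61.SepClosed
import Groth.Agent.SpProper61.AffineSteps
import Groth.Agent.SpPts86.DiagCrit
import Groth.Agent.SpPts86.ImmDescent
import Mathlib.AlgebraicGeometry.AffineSpace

/-!
Immersions of affine schemes into affine spaces over locally separated spaces.
-/

universe u

set_option autoImplicit false
set_option backward.isDefEq.respectTransparency false

open CategoryTheory CategoryTheory.Limits AlgebraicGeometry Topology TensorProduct
open AlgSp Groth.Agent.SpFP87 Groth.Agent.SpPts86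

namespace Groth.Agent.SpProper61

section Model

variable {Z B A : Type u} [CommRing Z] [CommRing B] [CommRing A] [Algebra Z B] [Algebra Z A]

theorem exists_piece_model {M : Scheme.{u}} (φ : M ⟶ Spec (CommRingCat.of (B ⊗[Z] A))) [IsImmersion φ]
    [LocallyOfFiniteType (φ ≫ Spec.map (CommRingCat.ofHom (Algebra.TensorProduct.includeLeftRingHom : B →+* B ⊗[Z] A)))]
    (z : M) :
    ∃ (h : B ⊗[Z] A) (s : Finset A), φ z ∈ PrimeSpectrum.basicOpen h ∧ ∀ t : Finset A, s ⊆ t →
      ∃ O : (Spec (CommRingCat.of (B ⊗[Z] MvPolynomial t Z))).Opens,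
        (φ ≫ Spec.map (CommRingCat.ofHom (Algebra.TensorProduct.map (AlgHom.id Z B) (polyModel (A := Z) t)).toRingHom)) ⁻¹ᵁ O =
          φ ⁻¹ᵁ PrimeSpectrum.basicOpen h ∧
        IsImmersion ((φ ⁻¹ᵁ PrimeSpectrum.basicOpen h).ι ≫
          φ ≫ Spec.map (CommRingCat.ofHom (Algebra.TensorProduct.map (AlgHom.id Z B) (polyModel (A := Z) t)).toRingHom)) := by
  classical
  obtain ⟨_, ⟨h, rfl⟩, hzh, hhle⟩ := (PrimeSpectrum.isTopologicalBasis_basic_opens (R := B ⊗[Z] A)).exists_subset_of_mem_open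
    (show φ z ∈ (φ.coborderRange : Set _) from subset_coborder (Set.mem_range_self z)) φ.coborderRange.2
  let D : (Spec (CommRingCat.of (B ⊗[Z] A))).Opens := PrimeSpectrum.basicOpen h
  let W : M.Opens := φ ⁻¹ᵁ D
  let L := Localization.Away h
  let loc : CommRingCat.of (B ⊗[Z] A) ⟶ CommRingCat.of L := CommRingCat.ofHom (algebraMap _ L)
  have : IsOpenImmersion (Spec.map loc) := IsOpenImmersion.of_isLocalization h
  have hlocr : Set.range (Spec.map loc) = (D : Set _) := PrimeSpectrum.localization_away_comap_range L h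
  have hrW : Set.range (W.ι ≫ φ) ⊆ Set.range (Spec.map loc) := by
    rw [hlocr]
    rintro _ ⟨w, rfl⟩
    exact w.2
  let l := IsOpenImmersion.lift (Spec.map loc) (W.ι ≫ φ) hrW
  have hl : l ≫ Spec.map loc = W.ι ≫ φ := IsOpenImmersion.lift_fac _ _ _
  have : IsPreimmersion (l ≫ Spec.map loc) := by rw [hl]; infer_instance
  have : IsPreimmersion l := IsPreimmersion.of_comp l (Spec.map loc)
  have : IsClosedImmersion l := IsClosedImmersion.of_isPreimmersion l (by
    have : Set.range l = Spec.map loc ⁻¹' closure (Set.range φ) := by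
      ext x
      constructor
      · rintro ⟨w, rfl⟩
        refine subset_closure ⟨W.ι w, ?_⟩
        rw [← Scheme.Hom.comp_apply, ← hl, Scheme.Hom.comp_apply]
      · intro hx
        have hxD : Spec.map loc x ∈ (D : Set _) := hlocr.le ⟨x, rfl⟩
        obtain ⟨m, hm⟩ := (coborder_inter_closure.le ⟨hhle hxD, hx⟩ : Spec.map loc x ∈ Set.range φ)
        refine ⟨⟨m, show φ m ∈ D by rw [hm]; exact hxD⟩, (Spec.map loc).isOpenEmbedding.injective ?_⟩
        rw [← Scheme.Hom.comp_apply, hl, Scheme.Hom.comp_apply]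
        exact hm
    rw [this]
    exact isClosed_closure.preimage (Spec.map loc).continuous)
  obtain ⟨hWaff, hsurj⟩ := IsClosedImmersion.isAffine_surjective_of_isAffine (f := l)
  have := hWaff
  obtain ⟨χ, hχ⟩ := Spec.map_surjective (W.toScheme.isoSpec.inv ≫ l : Spec Γ(W.toScheme, ⊤) ⟶ Spec (CommRingCat.of L))
  have : IsClosedImmersion (Spec.map χ) := by rw [hχ]; infer_instance
  have hχs : Function.Surjective χ := by
    obtain ⟨-, hs⟩ := IsClosedImmersion.isAffine_surjective_of_isAffine (f := Spec.map χ)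
    have e : χ = (Scheme.ΓSpecIso _).inv ≫ (Spec.map χ).appTop ≫ (Scheme.ΓSpecIso _).hom := by
      rw [Scheme.ΓSpecIso_naturality, Iso.inv_hom_id_assoc]
    rw [e]
    exact ((ConcreteCategory.bijective_of_isIso (Scheme.ΓSpecIso _).hom).2.comp hs).comp
      (ConcreteCategory.bijective_of_isIso (Scheme.ΓSpecIso _).inv).2
  let G := Γ(W.toScheme, ⊤)
  let ρ : B ⊗[Z] A →+* G := χ.hom.comp (algebraMap (B ⊗[Z] A) L)
  have hρ : Spec.map (CommRingCat.ofHom ρ) = W.toScheme.isoSpec.inv ≫ W.ι ≫ φ := by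
    rw [← hl, ← Category.assoc, ← hχ, ← Spec.map_comp]
    rfl
  have hft : (ρ.comp (Algebra.TensorProduct.includeLeftRingHom : B →+* B ⊗[Z] A)).FiniteType := by
    have h1 : LocallyOfFiniteType (Spec.map (CommRingCat.ofHom
        (ρ.comp (Algebra.TensorProduct.includeLeftRingHom : B →+* B ⊗[Z] A)))) := by
      rw [CommRingCat.ofHom_comp, Spec.map_comp, hρ, Category.assoc, Category.assoc]
      infer_instance
    exact HasRingHomProperty.Spec_iff.mp h1
  algebraize [ρ.comp (Algebra.TensorProduct.includeLeftRingHom : B →+* B ⊗[Z] A)]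
  obtain ⟨gens, hgens⟩ := (inferInstance : Algebra.FiniteType B G).out
  have hnum : ∀ y : G, ∃ (d : B ⊗[Z] A) (k : ℕ), y * ρ h ^ k = ρ d := fun y => by
    obtain ⟨x, rfl⟩ := hχs y
    obtain ⟨⟨d, ⟨_, k, rfl⟩⟩, hd⟩ := IsLocalization.surj (Submonoid.powers h) x
    refine ⟨d, k, ?_⟩
    have e := congrArg χ.hom hd
    rw [map_mul] at e
    simp only [ρ, RingHom.comp_apply, ← map_pow]
    exact e
  choose num k hk using hnum
  choose s hs using fun d : B ⊗[Z] A => exists_tensor_model (A := Z) d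
  refine ⟨h, s h ∪ gens.biUnion (fun y => s (num y)), hzh, fun t ht => ?_⟩
  let μ := Algebra.TensorProduct.map (AlgHom.id Z B) (polyModel (A := Z) t)
  have lift : ∀ d, s d ⊆ t → ∃ d' : B ⊗[Z] MvPolynomial t Z, μ d' = d := fun d hd => by
    obtain ⟨d', hd'⟩ := hs d
    obtain ⟨ι, hι⟩ := range_polyModel_mono (A := Z) hd
    exact ⟨Algebra.TensorProduct.map (AlgHom.id Z B) ι d', by
      rw [← AlgHom.comp_apply, ← Algebra.TensorProduct.map_comp, hι, AlgHom.id_comp, hd']⟩
  obtain ⟨h', hh'⟩ := lift h (Finset.union_subset_left ht)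
  let L' := Localization.Away h'
  let loc' : CommRingCat.of (B ⊗[Z] MvPolynomial t Z) ⟶ CommRingCat.of L' := CommRingCat.ofHom (algebraMap _ L')
  have : IsOpenImmersion (Spec.map loc') := IsOpenImmersion.of_isLocalization h'
  have hu : IsUnit (ρ.comp μ.toRingHom h') := by
    show IsUnit (ρ (μ h'))
    rw [hh']
    exact (IsLocalization.Away.algebraMap_isUnit h).map χ.hom
  let τ : L' →+* G := IsLocalization.Away.lift h' hu
  have hτ : τ.comp (algebraMap _ L') = ρ.comp μ.toRingHom := IsLocalization.Away.lift_comp h' hu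
  have hτs : Function.Surjective τ := by
    have htop : (⊤ : Subalgebra B G) ≤
        { τ.range with algebraMap_mem' := fun b => ⟨algebraMap _ L' (Algebra.TensorProduct.includeLeftRingHom b), by
            rw [← RingHom.comp_apply τ, hτ]
            show ρ (μ (b ⊗ₜ 1)) = ρ (b ⊗ₜ 1)
            simp [μ]⟩ } := by
      rw [← hgens, Algebra.adjoin_le_iff]
      intro y hy
      obtain ⟨d', hd'⟩ := lift (num y) (fun a ha => ht (Finset.mem_union_right _ (Finset.mem_biUnion.2 ⟨y, hy, ha⟩)))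
      refine ⟨IsLocalization.mk' L' d' (⟨h' ^ k y, k y, rfl⟩ : Submonoid.powers h'), ?_⟩
      have hτa : ∀ z, τ (algebraMap _ L' z) = ρ (μ z) := fun z => RingHom.congr_fun hτ z
      apply (hu.pow (k y)).mul_left_injective
      show τ _ * ρ (μ h') ^ k y = y * ρ (μ h') ^ k y
      rw [← map_pow ρ, ← map_pow μ, ← hτa, ← map_mul τ]
      show τ (IsLocalization.mk' L' d' (⟨h' ^ k y, k y, rfl⟩ : Submonoid.powers h') *
        algebraMap _ L' ((⟨h' ^ k y, k y, rfl⟩ : Submonoid.powers h') : B ⊗[Z] MvPolynomial t Z)) = _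
      rw [IsLocalization.mk'_spec, hτa, hτa, hd', map_pow μ, hh', map_pow, hk]
    exact fun y => htop (show y ∈ (⊤ : Subalgebra B G) from trivial)
  have hWe : W.ι ≫ φ ≫ Spec.map (CommRingCat.ofHom μ.toRingHom) =
      (W.toScheme.isoSpec.hom ≫ Spec.map (CommRingCat.ofHom τ)) ≫ Spec.map loc' := by
    rw [Category.assoc, ← Spec.map_comp,
      show loc' ≫ CommRingCat.ofHom τ = CommRingCat.ofHom μ.toRingHom ≫ CommRingCat.ofHom ρ from CommRingCat.hom_ext hτ,
      Spec.map_comp, hρ]
    simp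
  refine ⟨(Spec.map loc').opensRange, ?_, ?_⟩
  · ext x
    show Spec.map (CommRingCat.ofHom μ.toRingHom) (φ x) ∈ Set.range (Spec.map loc') ↔ φ x ∈ PrimeSpectrum.basicOpen h
    let D' : (Spec (CommRingCat.of (B ⊗[Z] MvPolynomial t Z))).Opens := PrimeSpectrum.basicOpen h'
    have hr : Set.range (Spec.map loc') = (D' : Set _) := PrimeSpectrum.localization_away_comap_range L' h'
    rw [hr, ← hh']
    rfl
  · show IsImmersion (W.ι ≫ φ ≫ Spec.map (CommRingCat.ofHom μ.toRingHom))
    have : IsClosedImmersion (Spec.map (CommRingCat.ofHom τ)) := IsClosedImmersion.spec_of_surjective _ hτs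
    rw [hWe]
    infer_instance

/-- An immersion into a product with an affine scheme, of finite type over the other factor, stays an immersion
after mapping to an affine space. -/
theorem exists_immersion_model {M : Scheme.{u}} [CompactSpace M] (φ : M ⟶ Spec (CommRingCat.of (B ⊗[Z] A)))
    [IsImmersion φ]
    [LocallyOfFiniteType (φ ≫ Spec.map (CommRingCat.ofHom (Algebra.TensorProduct.includeLeftRingHom : B →+* B ⊗[Z] A)))] :
    ∃ s : Finset A, ∀ t : Finset A, s ⊆ t → IsImmersion
      (φ ≫ Spec.map (CommRingCat.ofHom (Algebra.TensorProduct.map (AlgHom.id Z B) (polyModel (A := Z) t)).toRingHom)) := by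
  classical
  choose h s hz hs using exists_piece_model φ
  obtain ⟨F, hF⟩ := isCompact_univ.elim_finite_subcover (fun z => (φ ⁻¹ᵁ PrimeSpectrum.basicOpen (h z) : Set M))
    (fun z => (φ ⁻¹ᵁ PrimeSpectrum.basicOpen (h z)).2) (fun z _ => Set.mem_iUnion.2 ⟨z, hz z⟩)
  refine ⟨F.biUnion s, fun t ht => ?_⟩
  choose O hO himm using fun y : F => hs y.1 t ((Finset.subset_biUnion_of_mem s y.2).trans ht)
  let g := φ ≫ Spec.map (CommRingCat.ofHom (Algebra.TensorProduct.map (AlgHom.id Z B) (polyModel (A := Z) t)).toRingHom)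
  let U' : (Spec (CommRingCat.of (B ⊗[Z] MvPolynomial t Z))).Opens := ⨆ y, O y
  have hrange : Set.range g ⊆ Set.range U'.ι := by
    rintro _ ⟨z, rfl⟩
    rw [Scheme.Opens.range_ι]
    obtain ⟨y, hy, hzy⟩ := Set.mem_iUnion₂.mp (hF (Set.mem_univ z))
    exact TopologicalSpace.Opens.mem_iSup.mpr ⟨⟨y, hy⟩, (hO ⟨y, hy⟩).ge hzy⟩
  let l := IsOpenImmersion.lift U'.ι g hrange
  have hl : l ≫ U'.ι = g := IsOpenImmersion.lift_fac _ _ _
  suffices IsImmersion l by
    show IsImmersion g
    rw [← hl]; infer_instance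
  refine IsZariskiLocalAtTarget.of_iSup_eq_top (P := @IsImmersion) (fun y => U'.ι ⁻¹ᵁ O y) ?_ fun y => ?_
  · rw [← Scheme.Hom.preimage_iSup]
    exact Scheme.Opens.ι_preimage_self _
  have e2 : l ⁻¹ᵁ U'.ι ⁻¹ᵁ O y = φ ⁻¹ᵁ PrimeSpectrum.basicOpen (h y.1) := by
    rw [← Scheme.Hom.comp_preimage, hl]; exact hO y
  have : IsImmersion ((l ⁻¹ᵁ U'.ι ⁻¹ᵁ O y).ι ≫ g) := by rw [e2]; exact himm y
  have : IsImmersion ((l ∣_ (U'.ι ⁻¹ᵁ O y)) ≫ (U'.ι ⁻¹ᵁ O y).ι ≫ U'.ι) := by
    rw [morphismRestrict_ι_assoc, hl]; infer_instance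
  exact IsImmersion.of_comp _ ((U'.ι ⁻¹ᵁ O y).ι ≫ U'.ι)

end Model

/-- The `ℤ`-algebra structure, in every universe. -/
@[reducible] noncomputable def ulAlg (B : Type u) [CommRing B] : Algebra (ULift.{u} ℤ) B :=
  { (inferInstance : Module (ULift.{u} ℤ) B) with
    algebraMap := ((Int.castRingHom B).comp (ULift.ringEquiv : ULift.{u} ℤ ≃+* ℤ).toRingHom)
    commutes' := fun r x => mul_comm _ _
    smul_def' := fun r x => by simp [ULift.smul_def, ULift.ringEquiv] }

attribute [local instance] ulAlg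

theorem ulHom_ext {R : Type u} [Ring R] (f g : ULift.{u} ℤ →+* R) : f = g :=
  RingHom.ext fun x => by
    obtain ⟨r⟩ := x
    exact RingHom.congr_fun (RingHom.ext_int (f.comp (ULift.ringEquiv : ULift.{u} ℤ ≃+* ℤ).symm.toRingHom)
      (g.comp (ULift.ringEquiv : ULift.{u} ℤ ≃+* ℤ).symm.toRingHom)) r

variable {S : Scheme.{u}}

theorem exists_immersion_affineSpace [QuasiSeparatedSpace ↥S] (X : Space S) (hqs : IsQuasiSeparatedSp X.obj)
    (hls : IsLocallySeparatedSp X.obj) (U : Over S) [IsAffine U.left] (f : (yon S).obj U ⟶ X.obj)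
    (hf : LocP @LocallyOfFiniteType f) :
    ∃ (n : ℕ) (i : (yon S).obj U ⟶ X.obj ⨯ (yon S).obj (Over.mk (𝔸(ULift.{u} (Fin n); S) ↘ S))),
      i ≫ prod.fst = f ∧ RepWith @IsImmersion i := by
  classical
  -- an affine chart of an open containing the image
  obtain ⟨C, c₀, hc₀, hc₀s⟩ := X.property.atlas
  let Op : C.left.affineOpens → Set (Points X.obj) := fun A => Points.ofPt c₀ '' ((A.1 : C.left.Opens) : Set ↥C.left)
  obtain ⟨F, hF⟩ := (isCompact_range (Points.continuous_ofPt f)).elim_finite_subcover Op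
    (fun A => isOpenMap_ofPt hc₀ _ A.1.isOpen) (fun x _ => by
      obtain ⟨w, rfl⟩ := surjective_ofPt hc₀s x
      obtain ⟨A, hA, hwA, -⟩ := exists_isAffineOpen_mem_and_subset (x := w) (U := (⊤ : C.left.Opens)) trivial
      exact Set.mem_iUnion.2 ⟨⟨A, hA⟩, w, hwA, rfl⟩)
  let V₀ : Over S := sigmaOpens C (fun A : F => A.1.1)
  let cm : V₀ ⟶ C := sigmaOpensMap C (fun A : F => A.1.1)
  have : IsAffine V₀.left := isAffine_sigmaOpens C _ fun A => A.1.2
  have : Etale cm.left := etale_sigmaOpensMap C _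
  let c : (yon S).obj V₀ ⟶ X.obj := (yon S).map cm ≫ c₀
  have hce : RepWith @Etale c := repWith_etale_comp cm hc₀
  have hfc : Set.range (Points.ofPt f) ⊆ Set.range (Points.ofPt c) := by
    intro x hx
    obtain ⟨A, hA, w, hw, rfl⟩ := Set.mem_iUnion₂.1 (hF hx)
    obtain ⟨v, rfl⟩ := (range_sigmaOpensMap C (fun A : F => A.1.1)).ge (Set.mem_iUnion.2 ⟨⟨A, hA⟩, hw⟩)
    exact ⟨v, ofPt_comp _ _ _⟩
  -- the fibre product
  obtain ⟨M, p, q, sq⟩ := exists_isPullback_yon X.property.diag f c
  have hcomp : CompactSpace ↥M.left := by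
    have := compactSpace_points_yon U
    have := compactSpace_points_yon V₀
    have := compactSpace_of_isQuasiCompactMor
      (isQuasiCompactMor_of_qc_qs (f := f) (IsAlgSpace.yon_obj U) X.property hqs) (IsAlgSpace.yon_obj V₀) sq
    exact (Points.schemeHomeo M).symm.compactSpace
  have himm : IsImmersion (schLift p q) := schLift_of_repWith_diag @IsImmersion hls sq
  have hlft : LocallyOfFiniteType q.left :=
    (locP_yon_map_iff q).1 (locP_baseChange sq (IsAlgSpace.yon_obj U) X.property (IsAlgSpace.yon_obj V₀) hf)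
  let B : Type u := Γ(V₀.left, ⊤)
  let A : Type u := Γ(U.left, ⊤)
  let zB := Spec.map (CommRingCat.ofHom (algebraMap (ULift.{u} ℤ) B))
  let zA := Spec.map (CommRingCat.ofHom (algebraMap (ULift.{u} ℤ) A))
  have hsub : ∀ {W : Scheme.{u}} (a b : W ⟶ Spec (CommRingCat.of (ULift.{u} ℤ))), a = b := fun a b =>
    specULiftZIsTerminal.hom_ext a b
  have sqT : IsPullback (Spec.map (CommRingCat.ofHom (Algebra.TensorProduct.includeLeftRingHom : B →+* B ⊗[(ULift.{u} ℤ)] A)))
      (Spec.map (CommRingCat.ofHom (Algebra.TensorProduct.includeRight : A →ₐ[(ULift.{u} ℤ)] B ⊗[(ULift.{u} ℤ)] A).toRingHom)) zB zA :=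
    isPullback_SpecMap_of_isPushout _ _ _ _ (CommRingCat.isPushout_tensorProduct (ULift.{u} ℤ) B A)
  let φ : M.left ⟶ Spec (CommRingCat.of (B ⊗[(ULift.{u} ℤ)] A)) :=
    sqT.lift (q.left ≫ V₀.left.isoSpec.hom) (p.left ≫ U.left.isoSpec.hom) (hsub _ _)
  have hφi : IsImmersion φ := by
    let mA := U.left.isoSpec.hom ≫ zA
    let mB := V₀.left.isoSpec.hom ≫ zB
    let md : pullback U.hom V₀.hom ⟶ pullback (U.hom ≫ terminal.from S) (V₀.hom ≫ terminal.from S) :=
      pullback.mapDesc U.hom V₀.hom (terminal.from S)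
    have : IsImmersion md := MorphismProperty.of_isPullback (P := @IsImmersion)
      (pullback_map_diagonal_isPullback U.hom V₀.hom (terminal.from S)) inferInstance
    let ψ : Spec (CommRingCat.of (B ⊗[(ULift.{u} ℤ)] A)) ⟶ pullback (U.hom ≫ terminal.from S) (V₀.hom ≫ terminal.from S) :=
      pullback.lift (Spec.map (CommRingCat.ofHom (Algebra.TensorProduct.includeRight : A →ₐ[(ULift.{u} ℤ)] B ⊗[(ULift.{u} ℤ)] A).toRingHom) ≫ U.left.isoSpec.inv)
        (Spec.map (CommRingCat.ofHom (Algebra.TensorProduct.includeLeftRingHom : B →+* B ⊗[(ULift.{u} ℤ)] A)) ≫ V₀.left.isoSpec.inv)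
        (Subsingleton.elim _ _)
    have e : φ ≫ ψ = schLift p q ≫ md := by
      apply pullback.hom_ext
      · simp [φ, ψ, md, schLift]
      · simp [φ, ψ, md, schLift]
    have : IsImmersion (φ ≫ ψ) := by rw [e]; infer_instance
    exact IsImmersion.of_comp φ ψ
  have hφl : LocallyOfFiniteType (φ ≫ Spec.map (CommRingCat.ofHom (Algebra.TensorProduct.includeLeftRingHom : B →+* B ⊗[(ULift.{u} ℤ)] A))) := by
    rw [sqT.lift_fst]; infer_instance
  obtain ⟨s, hs⟩ := exists_immersion_model φ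
  have hs' := hs s subset_rfl
  let n := s.card
  let en : ↥s ≃ Fin n := s.equivFin
  let An : Over S := Over.mk (𝔸(ULift.{u} (Fin n); S) ↘ S)
  let x : U ⟶ An := Over.homMk (AffineSpace.homOfVector U.hom fun j => (en.symm j.down).1)
    (AffineSpace.homOfVector_over _ _)
  let i : (yon S).obj U ⟶ X.obj ⨯ (yon S).obj An := prod.lift f ((yon S).map x)
  refine ⟨n, i, prod.lift_fst _ _, ?_⟩
  -- on the chart
  let P : Over S := V₀ ⨯ An
  let π₁ : P ⟶ V₀ := prod.fst
  let π₂ : P ⟶ An := prod.snd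
  let σ : M ⟶ P := prod.lift q (p ≫ x)
  have hσ₁ : σ ≫ π₁ = q := prod.lift_fst _ _
  have hσ₂ : σ ≫ π₂ = p ≫ x := prod.lift_snd _ _
  have : IsIso (prodComparison (yon S) V₀ An) := inferInstance
  have hPy : ∀ {Q : Sp S} (g₁ g₂ : Q ⟶ (yon S).obj P),
      g₁ ≫ (yon S).map π₁ = g₂ ≫ (yon S).map π₁ → g₁ ≫ (yon S).map π₂ = g₂ ≫ (yon S).map π₂ → g₁ = g₂ :=
    fun g₁ g₂ h₁ h₂ => by
      rw [← cancel_mono (prodComparison (yon S) V₀ An)]
      apply Limits.prod.hom_ext
      · rw [Category.assoc, Category.assoc, prodComparison_fst]; exact h₁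
      · rw [Category.assoc, Category.assoc, prodComparison_snd]; exact h₂
  let cP : (yon S).obj P ⟶ X.obj ⨯ (yon S).obj An := prod.lift ((yon S).map π₁ ≫ c) ((yon S).map π₂)
  have sqσ : IsPullback ((yon S).map p) ((yon S).map σ) i cP := by
    refine IsPullback.mk' ?_ (fun Q a b h1 h2 => sq.hom_ext h1 ?_) fun Q a b hab => ?_
    · apply Limits.prod.hom_ext
      · rw [Category.assoc, Category.assoc, prod.lift_fst, prod.lift_fst, sq.w, ← Category.assoc ((yon S).map σ), ← Functor.map_comp, hσ₁]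
      · rw [Category.assoc, Category.assoc, prod.lift_snd, prod.lift_snd, ← Functor.map_comp, ← Functor.map_comp, hσ₂]
    · rw [← hσ₁, Functor.map_comp, reassoc_of% h2]
    · have h1 : a ≫ f = (b ≫ (yon S).map π₁) ≫ c := by
        have := hab =≫ prod.fst
        simpa [i, cP] using this
      have h2 : a ≫ (yon S).map x = b ≫ (yon S).map π₂ := by
        have := hab =≫ prod.snd
        simpa [i, cP] using this
      refine ⟨sq.lift a (b ≫ (yon S).map π₁) h1, sq.lift_fst _ _ _, hPy _ _ ?_ ?_⟩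
      · rw [Category.assoc, ← Functor.map_comp, hσ₁, sq.lift_snd]
      · rw [Category.assoc, ← Functor.map_comp, hσ₂, Functor.map_comp, ← Category.assoc, sq.lift_fst, h2]
  -- the immersion on the chart
  let v : ↥s → Γ(P.left, ⊤) := fun a => π₂.left.appTop (AffineSpace.coord S ⟨en a⟩)
  let ev : CommRingCat.of (MvPolynomial s (ULift.{u} ℤ)) ⟶ Γ(P.left, ⊤) :=
    CommRingCat.ofHom (MvPolynomial.aeval v : MvPolynomial s (ULift.{u} ℤ) →ₐ[(ULift.{u} ℤ)] Γ(P.left, ⊤)).toRingHom
  let sqT' : IsPullback (Spec.map (CommRingCat.ofHom (Algebra.TensorProduct.includeLeftRingHom : B →+* B ⊗[(ULift.{u} ℤ)] MvPolynomial s (ULift.{u} ℤ))))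
      (Spec.map (CommRingCat.ofHom (Algebra.TensorProduct.includeRight : MvPolynomial s (ULift.{u} ℤ) →ₐ[(ULift.{u} ℤ)] B ⊗[(ULift.{u} ℤ)] MvPolynomial s (ULift.{u} ℤ)).toRingHom))
      zB (Spec.map (CommRingCat.ofHom (algebraMap (ULift.{u} ℤ) (MvPolynomial s (ULift.{u} ℤ))))) :=
    isPullback_SpecMap_of_isPushout _ _ _ _ (CommRingCat.isPushout_tensorProduct (ULift.{u} ℤ) B _)
  let Θ : P.left ⟶ Spec (CommRingCat.of (B ⊗[(ULift.{u} ℤ)] MvPolynomial s (ULift.{u} ℤ))) :=
    sqT'.lift (π₁.left ≫ V₀.left.isoSpec.hom) (P.left.toSpecΓ ≫ Spec.map ev) (hsub _ _)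
  let μ := (Algebra.TensorProduct.map (AlgHom.id (ULift.{u} ℤ) B) (polyModel (A := (ULift.{u} ℤ)) s))
  have hΘ : σ.left ≫ Θ = φ ≫ Spec.map (CommRingCat.ofHom μ.toRingHom) := by
    apply sqT'.hom_ext
    · rw [Category.assoc, sqT'.lift_fst, Category.assoc, ← Spec.map_comp,
        show CommRingCat.ofHom (Algebra.TensorProduct.includeLeftRingHom : B →+* B ⊗[(ULift.{u} ℤ)] MvPolynomial s (ULift.{u} ℤ)) ≫
          CommRingCat.ofHom μ.toRingHom = CommRingCat.ofHom (Algebra.TensorProduct.includeLeftRingHom : B →+* B ⊗[(ULift.{u} ℤ)] A) from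
          CommRingCat.hom_ext (RingHom.ext fun b => by simp [μ]), sqT.lift_fst, ← Category.assoc,
        show σ.left ≫ π₁.left = q.left from congrArg CommaMorphism.left hσ₁]
    · rw [Category.assoc, sqT'.lift_snd, Category.assoc, ← Spec.map_comp,
        show CommRingCat.ofHom (Algebra.TensorProduct.includeRight : MvPolynomial s (ULift.{u} ℤ) →ₐ[(ULift.{u} ℤ)] B ⊗[(ULift.{u} ℤ)] MvPolynomial s (ULift.{u} ℤ)).toRingHom ≫
          CommRingCat.ofHom μ.toRingHom = CommRingCat.ofHom (polyModel (A := (ULift.{u} ℤ)) s).toRingHom ≫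
            CommRingCat.ofHom (Algebra.TensorProduct.includeRight : A →ₐ[(ULift.{u} ℤ)] B ⊗[(ULift.{u} ℤ)] A).toRingHom from
          CommRingCat.hom_ext (RingHom.ext fun b => by simp [μ]), Spec.map_comp]
      rw [show φ ≫ Spec.map (CommRingCat.ofHom (Algebra.TensorProduct.includeRight : A →ₐ[(ULift.{u} ℤ)] B ⊗[(ULift.{u} ℤ)] A).toRingHom) ≫
          Spec.map (CommRingCat.ofHom (polyModel (A := (ULift.{u} ℤ)) s).toRingHom) =
          (p.left ≫ U.left.isoSpec.hom) ≫ Spec.map (CommRingCat.ofHom (polyModel (A := (ULift.{u} ℤ)) s).toRingHom) from by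
        rw [← Category.assoc, sqT.lift_snd]]
      show σ.left ≫ P.left.toSpecΓ ≫ Spec.map ev = (p.left ≫ U.left.toSpecΓ) ≫ _
      rw [Category.assoc, Scheme.toSpecΓ_naturality_assoc, Scheme.toSpecΓ_naturality_assoc, ← Spec.map_comp, ← Spec.map_comp]
      congr 2
      apply CommRingCat.hom_ext
      refine MvPolynomial.ringHom_ext (fun r => ?_) fun a => ?_
      · have key : ∀ f g : MvPolynomial s (ULift.{u} ℤ) →+* Γ(M.left, ⊤), f (MvPolynomial.C r) = g (MvPolynomial.C r) :=
          fun f g => RingHom.congr_fun (ulHom_ext (f.comp MvPolynomial.C) (g.comp MvPolynomial.C)) r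
        exact key _ _
      · have hv : σ.left.appTop (v a) = p.left.appTop a.1 := by
          show σ.left.appTop (π₂.left.appTop _) = _
          rw [← CommRingCat.comp_apply, ← Scheme.Hom.comp_appTop,
            show σ.left ≫ π₂.left = p.left ≫ x.left from congrArg CommaMorphism.left hσ₂,
            Scheme.Hom.comp_appTop, CommRingCat.comp_apply]
          congr 1
          show (AffineSpace.homOfVector U.hom _).appTop _ = _
          rw [AffineSpace.homOfVector_appTop_coord]
          simp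
        simp only [CommRingCat.hom_comp, RingHom.comp_apply, ev, CommRingCat.hom_ofHom, AlgHom.toRingHom_eq_coe,
          RingHom.coe_coe, MvPolynomial.aeval_X]
        exact hv.trans (congrArg _ (MvPolynomial.aeval_X _ a).symm)
  have hσi : IsImmersion σ.left := by
    have : IsImmersion (σ.left ≫ Θ) := by rw [hΘ]; exact hs'
    exact IsImmersion.of_comp σ.left Θ
  -- descend to the open image of the chart
  let O : Set (Points X.obj) := Set.range (Points.ofPt c)
  have hO : IsOpen O := (isOpenMap_ofPt hce).isOpen_range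
  let jO := restrictι X.obj O
  have hjO : RepWith @IsOpenImmersion jO := repWith_restrictι hO
  have := mono_of_repWith_le isOpenImmersion_le_monomorphisms hjO
  obtain ⟨f', hf'⟩ := exists_factor_of_range_subset hjO f (by
    rintro _ ⟨y, rfl⟩
    obtain ⟨w, rfl⟩ := (Points.schemeHomeo U).surjective y
    rw [range_map_restrictι hO]
    exact hfc ⟨w, Points.ofPt_eq_map_ofScheme f w⟩)
  obtain ⟨c', hc'⟩ := exists_factor_of_range_subset hjO c (by
    rintro _ ⟨y, rfl⟩
    obtain ⟨w, rfl⟩ := (Points.schemeHomeo V₀).surjective y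
    rw [range_map_restrictι hO]
    exact ⟨w, Points.ofPt_eq_map_ofScheme c w⟩)
  have hOa : IsAlgSpace (restrictSheaf X.obj O) := isAlgSpace_restrictSheaf X.property hO
  have hc'e : RepWith @Etale c' := repWith_etale_of_isEtaleMor hOa (hOa.representable_from_yon c')
    (SpPts86.isEtaleMor_of_comp (g := jO) hOa (isEtaleMor_of_openImmersion hjO)
      (by rw [hc']; exact isEtaleMor_of_repWith_etale hce))
  have hc's : RepWith @Surjective c' := repWith_surjective_of_surjective_ofPt hc'e.rep fun y => by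
    obtain ⟨w, hw⟩ := (range_map_restrictι hO).le ⟨y, rfl⟩
    exact ⟨w, injective_map_of_mono jO (by rw [Points.map_ofPt, hc', hw])⟩
  let jA : restrictSheaf X.obj O ⨯ (yon S).obj An ⟶ X.obj ⨯ (yon S).obj An := prod.map jO (𝟙 _)
  let i' : (yon S).obj U ⟶ restrictSheaf X.obj O ⨯ (yon S).obj An := prod.lift f' ((yon S).map x)
  have hi' : i' ≫ jA = i := by simp [i', jA, i, hf']
  let cP' : (yon S).obj P ⟶ restrictSheaf X.obj O ⨯ (yon S).obj An := prod.lift ((yon S).map π₁ ≫ c') ((yon S).map π₂)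
  have hcP' : cP' ≫ jA = cP := by simp [cP', jA, cP, hc']
  have sqj : IsPullback (prod.fst : restrictSheaf X.obj O ⨯ (yon S).obj An ⟶ _) jA jO (prod.fst : X.obj ⨯ (yon S).obj An ⟶ _) := by
    refine IsPullback.mk' (by simp [jA]) (fun Q a b h1 h2 => Limits.prod.hom_ext h1 ?_) fun Q a b hab =>
      ⟨prod.lift a (b ≫ prod.snd), prod.lift_fst _ _, Limits.prod.hom_ext (by simpa [jA] using hab) (by simp [jA])⟩
    have := h2 =≫ prod.snd
    simpa [jA] using this
  have hjA : RepWith @IsImmersion jA := SpPts86.repWith_mono (fun _ _ k (hk : IsOpenImmersion k) =>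
    (inferInstance : IsImmersion k)) ((repWith_isStableUnderBaseChange _).of_isPullback sqj hjO)
  have : Mono jA := mono_of_repWith_le (P := @IsImmersion) (fun _ _ k (hk : IsImmersion k) =>
    (inferInstance : Mono k)) hjA
  have sqσ' : IsPullback ((yon S).map p) ((yon S).map σ) i' cP' := by
    refine IsPullback.mk' ((cancel_mono jA).1 (by rw [Category.assoc, Category.assoc, hi', hcP']; exact sqσ.w))
      (fun Q a b h1 h2 => sqσ.hom_ext h1 h2) fun Q a b hab => ?_
    exact ⟨sqσ.lift a b (by rw [← hi', ← hcP', reassoc_of% hab]), sqσ.lift_fst _ _ _, sqσ.lift_snd _ _ _⟩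
  have sqc : IsPullback ((yon S).map π₁) cP' c' (prod.fst : restrictSheaf X.obj O ⨯ (yon S).obj An ⟶ _) := by
    refine IsPullback.mk' (by simp [cP']) (fun Q a b h1 h2 => hPy _ _ h1 ?_) fun Q a b hab => ?_
    · have := h2 =≫ prod.snd
      simpa [cP'] using this
    · let l : Q ⟶ (yon S).obj P := prod.lift a (b ≫ prod.snd) ≫ inv (prodComparison (yon S) V₀ An)
      have hl₁ : l ≫ (yon S).map π₁ = a := by
        rw [Category.assoc, inv_prodComparison_map_fst, prod.lift_fst]
      have hl₂ : l ≫ (yon S).map π₂ = b ≫ prod.snd := by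
        rw [Category.assoc, inv_prodComparison_map_snd, prod.lift_snd]
      exact ⟨l, hl₁, Limits.prod.hom_ext (by rw [Category.assoc, prod.lift_fst, reassoc_of% hl₁, hab])
        (by rw [Category.assoc, prod.lift_snd, hl₂])⟩
  have himm' : RepWith @IsImmersion i' := repWith_isImmersion_of_chart
    ((repWith_isStableUnderBaseChange _).of_isPullback sqc hc'e)
    ((repWith_isStableUnderBaseChange _).of_isPullback sqc hc's) sqσ'
  rw [← hi']
  exact (repWith_isMultiplicative (S := S) @IsImmersion).comp_mem _ _ himm' hjA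

end Groth.Agent.SpProper61
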