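import Groth.Agent.SpProper61.AffineSteps

/-!
The induction principle for quasi-compact quasi-separated spaces etale over a given one.
-/

universe u

set_option autoImplicit false
set_option backward.isDefEq.respectTransparency false

open CategoryTheory CategoryTheory.Limits AlgebraicGeometry Topology
open AlgSp Groth.Agent.SpFP87 Groth.Agent.SpPts86

namespace Groth.Agent.SpProper61

variable {S : Scheme.{u}} {X : Space S}

/-- An object etale over an object of the etale site. -/
def mkEt (W : EtSpOver X) (Z : Space S) (φ : Z.obj ⟶ W.obj.left.obj) (h : IsEtaleMor φ) : EtSpOver X :=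
  ⟨Over.mk ((ObjectProperty.homMk φ : Z ⟶ W.obj.left) ≫ W.obj.hom), isEtaleMor_comp h W.property⟩

def mkEtHom (W : EtSpOver X) (Z : Space S) (φ : Z.obj ⟶ W.obj.left.obj) (h : IsEtaleMor φ) : mkEt W Z φ h ⟶ W :=
  ObjectProperty.homMk (Over.homMk (ObjectProperty.homMk φ) rfl)

theorem isEtaleMor_of_openImmersion {A B : Sp S} {j : A ⟶ B} (hj : RepWith @IsOpenImmersion j) : IsEtaleMor j :=
  SpPts86.isEtaleMor_of_repWith_etale (repWith_mono (fun _ _ g (_ : IsOpenImmersion g) => (inferInstance : Etale g)) hj)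

theorem range_map_comp {A B C : Sp S} (f : A ⟶ B) (g : B ⟶ C) :
    Set.range (Points.map (f ≫ g)) = Points.map g '' Set.range (Points.map f) := by
  rw [← Set.range_comp]
  exact congrArg Set.range (funext (Points.map_comp f g))

theorem isQuasiCompactSp_of_isCompact_range {A B : Sp S} {j : A ⟶ B} (hA : IsAlgSpace A)
    (hj : RepWith @IsOpenImmersion j) (h : IsCompact (Set.range (Points.map j))) : IsQuasiCompactSp A := by
  have : CompactSpace (Points A) := by
    rw [← isCompact_univ_iff, (isEmbedding_map_of_openImmersion hj).isEmbedding.isInducing.isCompact_iff,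
      Set.image_univ]
    exact h
  exact isQuasiCompactSp_of_compactSpace hA

theorem map_yon_ofScheme {T T' : Over S} (φ : T ⟶ T') (t : ↥T.left) :
    Points.map ((yon S).map φ) (Points.ofScheme T t) = Points.ofScheme T' (φ.left t) := by
  rw [← Points.ofPt_eq_map_ofScheme, ← Category.comp_id ((yon S).map φ), ofPt_comp]

theorem exists_yon_iso_of_isEmpty (G : Space S) [IsEmpty (Points G.obj)] :
    ∃ T : Over S, IsAffine T.left ∧ Nonempty ((yon S).obj T ≅ G.obj) := by
  obtain ⟨C, c, hc, hcs⟩ := G.property.atlas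
  have : IsEmpty ↥C.left := ⟨fun x => isEmptyElim (Points.ofPt c x)⟩
  have : IsIso c := isIso_fst_of_injOutside (Z := G) (O := ∅) c hc (𝟙 _) (fun _ => id) (fun z => isEmptyElim z)
    (fun {K} _ _ str v₁ v₂ t _ _ => isEmptyElim (v₁.left t)) ((yon S).obj C) c (𝟙 _)
    (IsPullback.of_vert_isIso ⟨by rw [Category.comp_id, Category.id_comp]⟩)
  exact ⟨C, inferInstance, ⟨asIso c⟩⟩

theorem qcqs_of_affine_iso {A : Space S} (T : Over S) [IsAffine T.left] (e : Nonempty ((yon S).obj T ≅ A.obj)) :
    IsQuasiCompactSp A.obj ∧ IsQuasiSeparatedSp A.obj := by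
  obtain ⟨e⟩ := e
  have := compactSpace_points_yon T
  have : CompactSpace (Points A.obj) := compactSpace_of_surjectiveMor (f := e.hom) fun x =>
    ⟨Points.map e.inv x, by rw [← Points.map_comp, Iso.inv_hom_id, Points.map_id]⟩
  refine ⟨isQuasiCompactSp_of_compactSpace A.property, isQuasiSeparatedSp_of_openImmersion (j := e.inv)
    ((MorphismProperty.cancel_left_of_respectsIso (RepWith @IsOpenImmersion) e.inv (𝟙 _)).2
      ((repWith_isMultiplicative (S := S) @IsOpenImmersion).id_mem _) |> fun h => by rwa [Category.comp_id] at h) ?_⟩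
  have : QuasiSeparated (T.hom ≫ terminal.from S) := by
    rw [terminal.comp_from]; infer_instance
  have : QuasiSeparated T.hom := QuasiSeparated.of_comp T.hom (terminal.from S)
  exact (repWith_diag_yon_iff @QuasiCompact T).2 QuasiSeparated.quasiCompact_diagonal

theorem exists_square {W : EtSpOver X} (U : EtSpOver X) (k : U ⟶ W)
    (hk : RepWith @IsOpenImmersion k.hom.left.hom) {T : Over S} (g : (yon S).obj T ⟶ W.obj.left.obj)
    (hg : RepWith @Etale g)
    (hcov : ∀ x, x ∈ Set.range (Points.map k.hom.left.hom) ∪ Set.range (Points.ofPt g))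
    (hinj : InjOutside (Set.range (Points.map k.hom.left.hom)) g) :
    ∃ (V UV : EtSpOver X) (f : V ⟶ W) (p : UV ⟶ U) (q : UV ⟶ V) (V₀ : Over S) (snd : V₀ ⟶ T)
      (eV : (yon S).obj T ≅ V.obj.left.obj) (eUV : (yon S).obj V₀ ≅ UV.obj.left.obj),
      IsElemDistSq k.hom.left.hom f.hom.left.hom ∧
      IsPullback p.hom.left.hom q.hom.left.hom k.hom.left.hom f.hom.left.hom ∧
      eV.hom ≫ f.hom.left.hom = g ∧ eUV.hom ≫ q.hom.left.hom = (yon S).map snd ≫ eV.hom ∧
      IsOpenImmersion snd.left ∧ RepWith @IsOpenImmersion q.hom.left.hom ∧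
      Set.range snd.left = Points.ofPt g ⁻¹' Set.range (Points.map k.hom.left.hom) := by
  obtain ⟨V₀, snd, fst, sq⟩ := hk.rep g
  have hs : IsOpenImmersion snd.left := hk.property g fst snd sq
  have hsy : RepWith @IsOpenImmersion ((yon S).map snd) := (repWith_yon_map_iff _ _).2 hs
  have hVe : IsEtaleMor g := SpPts86.isEtaleMor_of_repWith_etale hg
  have hUVe : IsEtaleMor ((yon S).map snd ≫ g) := isEtaleMor_comp (isEtaleMor_of_openImmersion hsy) hVe
  let V := mkEt W ((AlgSp.ofScheme S).obj T) g hVe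
  let UV := mkEt W ((AlgSp.ofScheme S).obj V₀) ((yon S).map snd ≫ g) hUVe
  let f : V ⟶ W := mkEtHom W ((AlgSp.ofScheme S).obj T) g hVe
  have e1 : fst ≫ k.hom.left.hom = (yon S).map snd ≫ g := sq.w
  let p : UV ⟶ U := ObjectProperty.homMk (Over.homMk (ObjectProperty.homMk fst) (by
    apply ObjectProperty.hom_ext
    show fst ≫ U.obj.hom.hom = ((yon S).map snd ≫ g) ≫ W.obj.hom.hom
    rw [← Over.w k.hom, ← e1, Category.assoc]
    rfl))
  let q : UV ⟶ V := ObjectProperty.homMk (Over.homMk (ObjectProperty.homMk ((yon S).map snd)) (by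
    apply ObjectProperty.hom_ext
    show (yon S).map snd ≫ g ≫ W.obj.hom.hom = ((yon S).map snd ≫ g) ≫ W.obj.hom.hom
    rw [Category.assoc]))
  refine ⟨V, UV, f, p, q, V₀, snd, Iso.refl _, Iso.refl _, isElemDistSq_of_injOutside k.hom.left.hom hk g hg hcov hinj,
    sq, Category.id_comp g, (Category.id_comp _).trans (Category.comp_id _).symm, hs, hsy, ?_⟩
  exact (preimage_ofPt_range_map sq).symm

variable (B P : EtSpOver X → Prop)
    (h1 : ∀ W, B W → AlgSp.IsQuasiCompactSp W.obj.left.obj ∧ AlgSp.IsQuasiSeparatedSp W.obj.left.obj)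
    (h2 : ∀ (W U : AlgSp.EtSpOver X) (j : U ⟶ W), B W → AlgSp.RepWith @IsOpenImmersion j.hom.left.hom →
      AlgSp.IsQuasiCompactSp U.obj.left.obj → B U)
    (h3 : ∀ (V : AlgSp.EtSpOver X) (T : Over S), IsAffine T.left →
      Nonempty ((AlgSp.yon S).obj T ≅ V.obj.left.obj) → B V ∧ P V)
    (h4 : ∀ (W U V UV : AlgSp.EtSpOver X) (j : U ⟶ W) (f : V ⟶ W) (p : UV ⟶ U) (q : UV ⟶ V),
      B W → AlgSp.IsQuasiCompactSp U.obj.left.obj →
      (∃ T : Over S, IsAffine T.left ∧ Nonempty ((AlgSp.yon S).obj T ≅ V.obj.left.obj)) →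
      AlgSp.IsElemDistSq j.hom.left.hom f.hom.left.hom →
      IsPullback p.hom.left.hom q.hom.left.hom j.hom.left.hom f.hom.left.hom →
      P U → P V → P UV → P W)

include h1 h2 h3 h4

theorem induction_affine_open {T : Over S} [IsAffine T.left] : ∀ (n : ℕ) (s : Finset Γ(T.left, ⊤)), s.card ≤ n →
    ∀ (W : EtSpOver X) (j : W.obj.left.obj ⟶ (yon S).obj T), RepWith @IsOpenImmersion j → B W →
      Points.ofScheme T ⁻¹' Set.range (Points.map j) = ⋃ f ∈ s, (T.left.basicOpen f : Set ↥T.left) → P W := by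
  classical
  intro n
  induction n with
  | zero =>
    intro s hs W j hj hW hr
    obtain rfl : s = ∅ := Finset.card_eq_zero.1 (Nat.le_zero.1 hs)
    have : IsEmpty (Points W.obj.left.obj) := ⟨fun x => by
      obtain ⟨t, ht⟩ := (Points.schemeHomeo T).surjective (Points.map j x)
      have : t ∈ (∅ : Set ↥T.left) := by
        rw [show (∅ : Set ↥T.left) = Points.ofScheme T ⁻¹' Set.range (Points.map j) by simpa using hr.symm]
        exact ⟨x, ht.symm⟩
      exact this⟩
    obtain ⟨C, hC, hi⟩ := exists_yon_iso_of_isEmpty W.obj.left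
    exact (h3 W C hC hi).2
  | succ n ih =>
    intro s hs W j hj hW hr
    rcases s.eq_empty_or_nonempty with rfl | ⟨f, hf⟩
    · exact ih ∅ (by simp) W j hj hW hr
    obtain ⟨s', hfs', rfl⟩ : ∃ s', f ∉ s' ∧ s = insert f s' :=
      ⟨s.erase f, Finset.notMem_erase f s, (Finset.insert_erase hf).symm⟩
    rw [Finset.card_insert_of_notMem hfs'] at hs
    have := mono_of_repWith_le isOpenImmersion_le_monomorphisms hj
    let A : T.left.Opens := T.left.basicOpen f
    let A' : Set ↥T.left := ⋃ f ∈ s', (T.left.basicOpen f : Set ↥T.left)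
    have hA'o : IsOpen A' := isOpen_biUnion fun f _ => (T.left.basicOpen f).isOpen
    let O : Set (Points W.obj.left.obj) := Points.map j ⁻¹' (Points.schemeHomeo T '' A')
    have hO : IsOpen O := ((Points.schemeHomeo T).isOpenMap _ hA'o).preimage (Points.continuous_map j)
    let ι := restrictι W.obj.left.obj O
    have hι : RepWith @IsOpenImmersion ι := repWith_restrictι hO
    have := mono_of_repWith_le isOpenImmersion_le_monomorphisms hι
    let U := mkEt W ⟨restrictSheaf W.obj.left.obj O, isAlgSpace_restrictSheaf W.obj.left.property hO⟩ ι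
      (isEtaleMor_of_openImmersion hι)
    let k : U ⟶ W := mkEtHom W ⟨restrictSheaf W.obj.left.obj O, isAlgSpace_restrictSheaf W.obj.left.property hO⟩ ι (isEtaleMor_of_openImmersion hι)
    have hrW : ∀ t, Points.ofScheme T t ∈ Set.range (Points.map j) ↔ t ∈ (A : Set ↥T.left) ∪ A' := fun t => by
      rw [← Set.mem_preimage, hr, Finset.set_biUnion_insert]
    have hιr : Set.range (Points.map (ι ≫ j)) = Points.schemeHomeo T '' A' := by
      rw [range_map_comp, range_map_restrictι hO, Set.image_preimage_eq_inter_range, Set.inter_eq_left]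
      rintro _ ⟨t, ht, rfl⟩
      exact (hrW t).2 (.inr ht)
    have hιj : RepWith @IsOpenImmersion (ι ≫ j) :=
      (repWith_isMultiplicative (S := S) @IsOpenImmersion).comp_mem _ _ hι hj
    have hA'c : IsCompact A' := s'.isCompact_biUnion fun f _ => ((isAffineOpen_top T.left).basicOpen f).isCompact
    have hUc : IsQuasiCompactSp U.obj.left.obj := isQuasiCompactSp_of_isCompact_range U.obj.left.property hιj
      (by rw [hιr]; exact hA'c.image (Points.schemeHomeo T).continuous)
    have hUB : B U := h2 W U k hW hι hUc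
    have hUP : P U := ih s' (by omega) U (ι ≫ j) hιj hUB (by
      rw [hιr]; exact Set.preimage_image_eq _ (Points.schemeHomeo T).injective)
    let T' : Over S := Over.mk (A.ι ≫ T.hom)
    let a : T' ⟶ T := Over.homMk A.ι rfl
    have hay : RepWith @IsOpenImmersion ((yon S).map a) :=
      (repWith_yon_map_iff _ _).2 (inferInstanceAs (IsOpenImmersion A.ι))
    obtain ⟨g, hg⟩ := exists_factor_of_range_subset hj ((yon S).map a) (by
      rintro _ ⟨x, rfl⟩
      obtain ⟨t, rfl⟩ := (Points.schemeHomeo T').surjective x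
      show Points.map ((yon S).map a) (Points.ofScheme T' t) ∈ _
      rw [← Points.ofPt_eq_map_ofScheme, ← Category.comp_id ((yon S).map a), ofPt_comp]
      exact (hrW _).2 (.inl (A.range_ι.le ⟨t, rfl⟩)))
    have hgo : RepWith @IsOpenImmersion g := repWith_openImmersion_of_comp hj (hg.symm ▸ hay)
    have := mono_of_repWith_le isOpenImmersion_le_monomorphisms hgo
    have hkr : Set.range (Points.map k.hom.left.hom) = O := range_map_restrictι hO
    obtain ⟨V, UV, f', p, q, V₀, snd, eV, eUV, hsq, hpb, -, -, hs, hq, hsr⟩ := exists_square U k hι g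
      (repWith_mono (fun _ _ g (_ : IsOpenImmersion g) => (inferInstance : Etale g)) hgo)
      (fun x => by
        rw [hkr]
        obtain ⟨t, ht⟩ := (Points.schemeHomeo T).surjective (Points.map j x)
        rcases (hrW t).1 ⟨x, ht.symm⟩ with h | h
        · obtain ⟨t', ht'⟩ := A.range_ι.ge h
          refine .inr ⟨t', injective_map_of_mono j ?_⟩
          rw [Points.map_ofPt, hg, ← Category.comp_id ((yon S).map a), ofPt_comp, ← ht]
          exact congrArg _ ht'
        · exact .inl ⟨t, h, ht⟩)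
      (fun {K} _ _ str v₁ v₂ t e _ => (yon S).map_injective ((cancel_mono g).1 e))
    have hVT : ∃ T₁ : Over S, IsAffine T₁.left ∧ Nonempty ((yon S).obj T₁ ≅ V.obj.left.obj) :=
      ⟨T', (isAffineOpen_top T.left).basicOpen f, ⟨eV⟩⟩
    obtain ⟨hVB, hVP⟩ := h3 V T' ((isAffineOpen_top T.left).basicOpen f) ⟨eV⟩
    have hj' : RepWith @IsOpenImmersion (eUV.inv ≫ (yon S).map (snd ≫ a)) :=
      (MorphismProperty.cancel_left_of_respectsIso (RepWith @IsOpenImmersion) _ _).2
        ((repWith_yon_map_iff _ _).2 (inferInstanceAs (IsOpenImmersion (snd.left ≫ A.ι))))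
    have hrange : Points.ofScheme T ⁻¹' Set.range (Points.map (eUV.inv ≫ (yon S).map (snd ≫ a))) =
        ⋃ h ∈ s'.image (f * ·), (T.left.basicOpen h : Set ↥T.left) := by
      rw [range_map_comp, Set.range_eq_univ.2 (fun x => ⟨Points.map eUV.hom x, by
        rw [← Points.map_comp, Iso.hom_inv_id, Points.map_id]⟩), Set.image_univ, Finset.set_biUnion_finset_image]
      simp only [Scheme.basicOpen_mul, TopologicalSpace.Opens.coe_inf, ← Set.inter_iUnion₂]
      ext t
      have hgt : ∀ t' : ↥T'.left, Points.map j (Points.ofPt g t') = Points.ofScheme T (a.left t') := fun t' => by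
        rw [Points.map_ofPt, hg, ← Category.comp_id ((yon S).map a), ofPt_comp]
      have hO' : ∀ t' : ↥T'.left, Points.ofPt g t' ∈ O ↔ a.left t' ∈ A' := fun t' => by
        show Points.map j (Points.ofPt g t') ∈ Points.schemeHomeo T '' A' ↔ _
        rw [hgt]
        exact (Points.schemeHomeo T).injective.mem_set_image
      constructor
      · rintro ⟨x, hx⟩
        obtain ⟨v, rfl⟩ := (Points.schemeHomeo V₀).surjective x
        replace hx : Points.ofScheme T ((snd ≫ a).left v) = Points.ofScheme T t :=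
          (map_yon_ofScheme (snd ≫ a) v).symm.trans hx
        obtain rfl := (Points.schemeHomeo T).injective hx
        exact ⟨A.range_ι.le ⟨snd.left v, rfl⟩, (hO' _).1 (hkr.le (hsr.le ⟨v, rfl⟩))⟩
      · rintro ⟨hA, hA'⟩
        obtain ⟨t', rfl⟩ := A.range_ι.ge hA
        obtain ⟨v, hv⟩ := hsr.ge (hkr.ge ((hO' t').2 hA'))
        refine ⟨Points.ofScheme V₀ v, ?_⟩
        rw [← Points.ofPt_eq_map_ofScheme, ← Category.comp_id ((yon S).map (snd ≫ a)), ofPt_comp]
        exact congrArg _ (show a.left (snd.left v) = _ by rw [hv]; rfl)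
    have hUVc : IsQuasiCompactSp UV.obj.left.obj := isQuasiCompactSp_of_isCompact_range UV.obj.left.property hj' (by
      rw [← Set.image_preimage_eq (Set.range (Points.map (eUV.inv ≫ (yon S).map (snd ≫ a)))) (Points.schemeHomeo T).surjective]
      refine IsCompact.image ?_ (Points.schemeHomeo T).continuous
      exact hrange ▸ (s'.image (f * ·)).isCompact_biUnion fun f _ => ((isAffineOpen_top T.left).basicOpen f).isCompact)
    exact h4 W U V UV k f' p q hW hUc hVT hsq hpb hUP hVP (ih (s'.image (f * ·))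
      ((Finset.card_image_le).trans (by omega)) UV _ hj' (h2 V UV q hVB hq hUVc) hrange)

theorem induction_family [QuasiSeparatedSpace ↥S] (W : EtSpOver X) (hW : B W) : P W := by
  obtain ⟨hc, hs⟩ := h1 W hW
  suffices ∀ (W' : EtSpOver X) (j : W'.obj.left.obj ⟶ W.obj.left.obj), RepWith @IsOpenImmersion j →
      Set.range (Points.map j) = Set.univ → B W' → P W' from
    this W (𝟙 _) ((repWith_isMultiplicative (S := S) @IsOpenImmersion).id_mem _)
      (Set.eq_univ_of_forall fun x => ⟨x, Points.map_id x⟩) hW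
  refine climb W.obj.left hc hs (fun O => ∀ (W' : EtSpOver X) (j : W'.obj.left.obj ⟶ W.obj.left.obj),
      RepWith @IsOpenImmersion j → Set.range (Points.map j) = O → B W' → P W')
    isOpen_empty isCompact_empty ?_ ?_
  · intro W' j _ hr _
    have : IsEmpty (Points W'.obj.left.obj) := ⟨fun x => hr.le ⟨x, rfl⟩⟩
    obtain ⟨C, hC, hi⟩ := exists_yon_iso_of_isEmpty W'.obj.left
    exact (h3 W' C hC hi).2
  intro O O' T g _ st ih W' j hj hr hW'
  have := st.affine
  have := mono_of_repWith_le isOpenImmersion_le_monomorphisms hj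
  let O₁ : Set (Points W'.obj.left.obj) := Points.map j ⁻¹' O
  have hO₁ : IsOpen O₁ := st.isOpen.preimage (Points.continuous_map j)
  let ι := restrictι W'.obj.left.obj O₁
  have hι : RepWith @IsOpenImmersion ι := repWith_restrictι hO₁
  let U := mkEt W' ⟨restrictSheaf W'.obj.left.obj O₁, isAlgSpace_restrictSheaf W'.obj.left.property hO₁⟩ ι
    (isEtaleMor_of_openImmersion hι)
  let k : U ⟶ W' := mkEtHom W' ⟨restrictSheaf W'.obj.left.obj O₁, isAlgSpace_restrictSheaf W'.obj.left.property hO₁⟩ ι (isEtaleMor_of_openImmersion hι)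
  have hιj : RepWith @IsOpenImmersion (ι ≫ j) :=
    (repWith_isMultiplicative (S := S) @IsOpenImmersion).comp_mem _ _ hι hj
  have hιr : Set.range (Points.map (ι ≫ j)) = O := by
    rw [range_map_comp, range_map_restrictι hO₁, Set.image_preimage_eq_inter_range, Set.inter_eq_left, hr, ← st.union]
    exact Set.subset_union_left
  have hUc : IsQuasiCompactSp U.obj.left.obj :=
    isQuasiCompactSp_of_isCompact_range U.obj.left.property hιj (hιr ▸ st.isCompact)
  have hUP : P U := ih U (ι ≫ j) hιj hιr (h2 W' U k hW' hι hUc)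
  obtain ⟨g', hg'⟩ := exists_factor_of_range_subset hj g (by
    rintro _ ⟨x, rfl⟩
    obtain ⟨t, rfl⟩ := (Points.schemeHomeo T).surjective x
    rw [hr, ← st.union]
    exact .inr ⟨t, Points.ofPt_eq_map_ofScheme g t⟩)
  have hge : RepWith @Etale g' := repWith_etale_of_isEtaleMor W'.obj.left.property
    (W'.obj.left.property.representable_from_yon g')
    (SpPts86.isEtaleMor_of_comp (g := j) W'.obj.left.property (isEtaleMor_of_openImmersion hj)
      (by rw [hg']; exact SpPts86.isEtaleMor_of_repWith_etale st.etale))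
  have hkr : Set.range (Points.map k.hom.left.hom) = O₁ := range_map_restrictι hO₁
  obtain ⟨V, UV, f', p, q, V₀, snd, eV, eUV, hsq, hpb, -, -, hs', hq, hsr⟩ := exists_square U k hι g' hge
    (fun x => by
      rw [hkr]
      rcases st.union.ge (hr.le ⟨x, rfl⟩) with h | ⟨t, ht⟩
      · exact .inl h
      · exact .inr ⟨t, injective_map_of_mono j (by rw [Points.map_ofPt, hg', ht])⟩)
    (fun {K} _ _ str v₁ v₂ t e h => st.inj v₁ v₂ t (by rw [← hg', ← Category.assoc, e, Category.assoc]) (by
      rw [hkr] at h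
      rw [← hg', ← Category.assoc, ← Points.map_ofPt]
      exact h))
  obtain ⟨hVB, hVP⟩ := h3 V T st.affine ⟨eV⟩
  have hj' : RepWith @IsOpenImmersion (eUV.inv ≫ (yon S).map snd) :=
    (MorphismProperty.cancel_left_of_respectsIso (RepWith @IsOpenImmersion) _ _).2 ((repWith_yon_map_iff _ _).2 hs')
  have hr' : Set.range (Points.map (eUV.inv ≫ (yon S).map snd)) = Points.schemeHomeo T '' Set.range snd.left := by
    rw [range_map_comp, Set.range_eq_univ.2 (fun x => ⟨Points.map eUV.hom x, by
      rw [← Points.map_comp, Iso.hom_inv_id, Points.map_id]⟩), Set.image_univ, ← Set.range_comp,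
      ← (Points.schemeHomeo V₀).surjective.range_comp]
    refine congrArg Set.range (funext fun v => ?_)
    show Points.map ((yon S).map snd) (Points.ofScheme V₀ v) = Points.ofScheme T (snd.left v)
    rw [← Points.ofPt_eq_map_ofScheme, ← Category.comp_id ((yon S).map snd), ofPt_comp]
  have hcpt : IsCompact (Set.range snd.left) := by
    rw [hsr, hkr]
    have : Points.ofPt g' ⁻¹' O₁ = Points.ofPt g ⁻¹' O := by
      ext t
      show Points.map j (Points.ofPt g' t) ∈ O ↔ _
      rw [Points.map_ofPt, hg']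
      rfl
    rw [this]
    exact isCompact_preimage_ofPt W.obj.left.property hs g st.isOpen st.isCompact
  have hUVB : B UV := h2 V UV q hVB hq (isQuasiCompactSp_of_isCompact_range UV.obj.left.property hj'
    (hr' ▸ hcpt.image (Points.schemeHomeo T).continuous))
  obtain ⟨s, hsfin, hse⟩ := isCompact_and_isOpen_iff_finite_and_eq_biUnion_basicOpen.1
    ⟨hcpt, snd.left.isOpenEmbedding.isOpen_range⟩
  refine h4 W' U V UV k f' p q hW' hUc ⟨T, st.affine, ⟨eV⟩⟩ hsq hpb hUP hVP
    (induction_affine_open B P h1 h2 h3 h4 (T := T) _ hsfin.toFinset le_rfl UV _ hj' hUVB ?_)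
  rw [hr']
  refine (Set.preimage_image_eq _ (Points.schemeHomeo T).injective).trans ?_
  simpa using hse

end Groth.Agent.SpProper61

namespace Groth.Agent.SpProper61

theorem enlarge_induction {S : Scheme.{u}} [QuasiSeparatedSpace ↥S] (X : Space S)
    (hXc : IsQuasiCompactSp X.obj) (hXs : IsQuasiSeparatedSp X.obj)
    (P : ∀ U : Space S, (U ⟶ X) → Prop)
    (W : Space S) (jW : W ⟶ X) (hjW : RepWith @IsOpenImmersion jW.hom)
    (hWc : IsQuasiCompactSp W.obj) (h1 : P W jW)
    (h2 : ∀ (W₁ W₂ V : Space S) (j₁ : W₁ ⟶ X) (j₂ : W₂ ⟶ X) (k : W₁ ⟶ W₂) (m : W ⟶ W₁) (f : V ⟶ W₂),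
      RepWith @IsOpenImmersion j₁.hom → RepWith @IsOpenImmersion j₂.hom →
      k ≫ j₂ = j₁ → m ≫ j₁ = jW →
      IsQuasiCompactSp W₁.obj → IsQuasiCompactSp W₂.obj →
      (∃ T : Over S, IsAffine T.left ∧ Nonempty ((yon S).obj T ≅ V.obj)) →
      IsElemDistSq k.hom f.hom → P W₁ j₁ → P W₂ j₂) :
    P X (𝟙 X) := by
  let Φ : Set (Points X.obj) → Prop := fun O => ∃ (W₁ : Space S) (j₁ : W₁ ⟶ X) (m : W ⟶ W₁),
    RepWith @IsOpenImmersion j₁.hom ∧ Set.range (Points.map j₁.hom) = O ∧ m ≫ j₁ = jW ∧
      IsQuasiCompactSp W₁.obj ∧ P W₁ j₁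
  have hWcs := compactSpace_points_of_isQuasiCompactSp hWc
  obtain ⟨W₁, j₁, m, hj₁, hr₁, hm, hc₁, hP₁⟩ := climb X hXc hXs Φ (isOpen_range_map hjW)
    (isCompact_range (Points.continuous_map _)) ⟨W, jW, 𝟙 W, hjW, rfl, Category.id_comp _, hWc, h1⟩ (by
    rintro O O' T g hOsub st ⟨W₁, j₁, m, hj₁, hr₁, hm, hc₁, hP₁⟩
    let W₂ : Space S := ⟨restrictSheaf X.obj O', isAlgSpace_restrictSheaf X.property st.isOpen'⟩
    let j₂ : W₂ ⟶ X := ObjectProperty.homMk (restrictι X.obj O')
    have hj₂ : RepWith @IsOpenImmersion j₂.hom := repWith_restrictι st.isOpen'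
    have hr₂ : Set.range (Points.map j₂.hom) = O' := range_map_restrictι st.isOpen'
    have := mono_of_repWith_le isOpenImmersion_le_monomorphisms hj₂
    obtain ⟨k₀, hk₀⟩ := exists_factor_of_range_subset hj₂ j₁.hom (by
      rw [hr₂, hr₁, ← st.union]; exact Set.subset_union_left)
    obtain ⟨f₀, hf₀⟩ := exists_factor_of_range_subset hj₂ g (by
      rintro _ ⟨x, rfl⟩
      obtain ⟨t, rfl⟩ := (Points.schemeHomeo T).surjective x
      rw [hr₂, ← st.union]
      exact .inr ⟨t, Points.ofPt_eq_map_ofScheme g t⟩)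
    let k : W₁ ⟶ W₂ := ObjectProperty.homMk k₀
    let f : (AlgSp.ofScheme S).obj T ⟶ W₂ := ObjectProperty.homMk f₀
    have hk : RepWith @IsOpenImmersion k₀ := repWith_openImmersion_of_comp hj₂ (hk₀.symm ▸ hj₁)
    have hfe : RepWith @Etale f₀ := repWith_etale_of_isEtaleMor W₂.property
      (W₂.property.representable_from_yon f₀)
      (SpPts86.isEtaleMor_of_comp (g := j₂.hom) W₂.property (isEtaleMor_of_openImmersion hj₂)
        (by rw [hf₀]; exact SpPts86.isEtaleMor_of_repWith_etale st.etale))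
    have hkO : ∀ x, x ∈ Set.range (Points.map k₀) ↔ Points.map j₂.hom x ∈ O := fun x => by
      rw [← hr₁, ← hk₀, range_map_comp]
      exact (injective_map_of_mono j₂.hom).mem_set_image.symm
    have hc₂ : IsQuasiCompactSp W₂.obj :=
      isQuasiCompactSp_of_isCompact_range W₂.property hj₂ (hr₂.symm ▸ st.isCompact')
    refine ⟨W₂, j₂, m ≫ k, hj₂, hr₂, by rw [Category.assoc]; exact (congrArg (m ≫ ·) (ObjectProperty.hom_ext _ hk₀)).trans hm,
      hc₂, h2 W₁ W₂ _ j₁ j₂ k m f hj₁ hj₂ (ObjectProperty.hom_ext _ hk₀) hm hc₁ hc₂ ⟨T, st.affine, ⟨Iso.refl _⟩⟩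
        (isElemDistSq_of_injOutside k₀ hk f₀ hfe (fun x => ?_) fun {K} _ _ str v₁ v₂ t e h => ?_) hP₁⟩
    · rcases st.union.ge (hr₂.le ⟨x, rfl⟩) with h | ⟨t, ht⟩
      · exact .inl ((hkO x).2 h)
      · exact .inr ⟨t, injective_map_of_mono j₂.hom (by rw [Points.map_ofPt, hf₀, ht])⟩
    · refine st.inj v₁ v₂ t (by rw [← hf₀, ← Category.assoc, e, Category.assoc]) ?_
      rw [← hf₀, ← Category.assoc, ← Points.map_ofPt, ← hkO]
      exact h)
  let E : Space S := ⟨restrictSheaf X.obj ∅, isAlgSpace_restrictSheaf X.property isOpen_empty⟩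
  have : IsEmpty (Points E.obj) := ⟨fun x => (range_map_restrictι (F := X.obj) isOpen_empty).le ⟨x, rfl⟩⟩
  obtain ⟨C, hC, ⟨e⟩⟩ := exists_yon_iso_of_isEmpty E
  have : IsEmpty ↥C.left := ⟨fun x => isEmptyElim (Points.ofPt e.hom x)⟩
  have hg : RepWith @IsOpenImmersion (e.hom ≫ restrictι X.obj ∅) :=
    (MorphismProperty.cancel_left_of_respectsIso (RepWith @IsOpenImmersion) _ _).2 (repWith_restrictι isOpen_empty)
  exact h2 W₁ X ((AlgSp.ofScheme S).obj C) j₁ (𝟙 X) j₁ m (ObjectProperty.homMk (e.hom ≫ restrictι X.obj ∅)) hj₁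
    ((repWith_isMultiplicative (S := S) @IsOpenImmersion).id_mem _) (Category.comp_id _) hm hc₁ hXc
    ⟨C, hC, ⟨Iso.refl _⟩⟩
    (isElemDistSq_of_injOutside j₁.hom hj₁ _
      (repWith_mono (fun _ _ g (_ : IsOpenImmersion g) => (inferInstance : Etale g)) hg)
      (fun x => .inl (hr₁.ge (Set.mem_univ x))) (fun {K} _ _ str v₁ v₂ t _ _ => isEmptyElim (v₁.left t))) hP₁

end Groth.Agent.SpProper61
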