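import Groth.Agent.SpPts86.QCQS
import Groth.Agent.SpPts86.UnivTop
import Groth.Agent.SpPts86.SchImagePoints
import Groth.Agent.SpFP87.NormAffineUniv
import Groth.Agent.SpProper61.Induction
import Mathlib.RingTheory.FinitePresentation

/-!
Separating a closed set from a point after an approximation of finite presentation.
-/

universe u

set_option autoImplicit false
set_option backward.isDefEq.respectTransparency false

open CategoryTheory CategoryTheory.Limits AlgebraicGeometry Topology TensorProduct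
open AlgSp Groth.Agent.SpFP87 Groth.Agent.SpPts86 Groth.Agent.SpFP87.Torsor

namespace Groth.Agent.SpProper61

section Ring

variable {A B C : Type u} [CommRing A] [CommRing B] [CommRing C] [Algebra A B] [Algebra A C]

/-- The polynomial model of a finite subset. -/
noncomputable abbrev polyModel (s : Finset B) : MvPolynomial s A →ₐ[A] B := MvPolynomial.aeval fun i => i.1

theorem range_polyModel_mono {s t : Finset B} (h : s ⊆ t) :
    ∃ ι : MvPolynomial s A →ₐ[A] MvPolynomial t A, (polyModel (A := A) t).comp ι = polyModel s :=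
  ⟨MvPolynomial.rename fun i => ⟨i.1, h i.2⟩, MvPolynomial.algHom_ext fun i => by simp⟩

theorem exists_tensor_model (d : C ⊗[A] B) :
    ∃ s : Finset B, d ∈ Set.range (Algebra.TensorProduct.map (AlgHom.id A C) (polyModel (A := A) s)) := by
  classical
  induction d using TensorProduct.induction_on with
  | zero => exact ⟨∅, 0, map_zero _⟩
  | tmul c b =>
    refine ⟨{b}, c ⊗ₜ MvPolynomial.X ⟨b, Finset.mem_singleton_self b⟩, ?_⟩
    simp
  | add x y hx hy =>
    obtain ⟨s, x', rfl⟩ := hx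
    obtain ⟨t, y', rfl⟩ := hy
    obtain ⟨ι, hι⟩ := range_polyModel_mono (A := A) (Finset.subset_union_left (s₁ := s) (s₂ := t))
    obtain ⟨κ, hκ⟩ := range_polyModel_mono (A := A) (Finset.subset_union_right (s₁ := s) (s₂ := t))
    refine ⟨s ∪ t, Algebra.TensorProduct.map (AlgHom.id A C) ι x' + Algebra.TensorProduct.map (AlgHom.id A C) κ y', ?_⟩
    rw [map_add, ← AlgHom.comp_apply, ← AlgHom.comp_apply, ← Algebra.TensorProduct.map_comp,
      ← Algebra.TensorProduct.map_comp, hι, hκ, AlgHom.id_comp]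

/-- An element of `p (C ⊗ B)` comes from the ideal of a finite model. -/
theorem exists_ideal_model (p : Ideal B) {k : C ⊗[A] B}
    (hk : k ∈ p.map (Algebra.TensorProduct.includeRight : B →ₐ[A] C ⊗[A] B)) :
    ∃ s : Finset B, ∃ k₀ ∈ (p.comap (polyModel (A := A) s)).map
        (Algebra.TensorProduct.includeRight : MvPolynomial s A →ₐ[A] C ⊗[A] MvPolynomial s A),
      Algebra.TensorProduct.map (AlgHom.id A C) (polyModel (A := A) s) k₀ = k := by
  classical
  have push : ∀ {s t : Finset B}, s ⊆ t → ∀ {k : C ⊗[A] B} (k₀ : C ⊗[A] MvPolynomial s A),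
      k₀ ∈ (p.comap (polyModel (A := A) s)).map Algebra.TensorProduct.includeRight →
      Algebra.TensorProduct.map (AlgHom.id A C) (polyModel (A := A) s) k₀ = k →
      ∃ k₁ ∈ (p.comap (polyModel (A := A) t)).map
        (Algebra.TensorProduct.includeRight : MvPolynomial t A →ₐ[A] C ⊗[A] MvPolynomial t A),
        Algebra.TensorProduct.map (AlgHom.id A C) (polyModel (A := A) t) k₁ = k := by
    intro s t hst k k₀ h₀ e₀
    obtain ⟨ι, hι⟩ := range_polyModel_mono (A := A) hst
    refine ⟨Algebra.TensorProduct.map (AlgHom.id A C) ι k₀, ?_, by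
      rw [← AlgHom.comp_apply, ← Algebra.TensorProduct.map_comp, hι, AlgHom.id_comp, e₀]⟩
    have hle : ((p.comap (polyModel (A := A) s)).map
        (Algebra.TensorProduct.includeRight : MvPolynomial s A →ₐ[A] C ⊗[A] MvPolynomial s A)).map
        (Algebra.TensorProduct.map (AlgHom.id A C) ι) ≤
        (p.comap (polyModel (A := A) t)).map Algebra.TensorProduct.includeRight := by
      rw [Ideal.map_le_iff_le_comap, Ideal.map_le_iff_le_comap]
      intro r hr
      simp only [Ideal.mem_comap, Algebra.TensorProduct.includeRight_apply, Algebra.TensorProduct.map_tmul,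
        AlgHom.id_apply]
      refine Ideal.mem_map_of_mem (Algebra.TensorProduct.includeRight : MvPolynomial t A →ₐ[A] C ⊗[A] MvPolynomial t A) ?_
      rw [Ideal.mem_comap, ← AlgHom.comp_apply, hι]
      exact hr
    exact hle (Ideal.mem_map_of_mem _ h₀)
  induction hk using Submodule.span_induction with
  | mem x hx =>
    obtain ⟨b, hb, rfl⟩ := hx
    refine ⟨{b}, (1 : C) ⊗ₜ MvPolynomial.X ⟨b, Finset.mem_singleton_self b⟩, ?_, by simp⟩
    exact Ideal.mem_map_of_mem (Algebra.TensorProduct.includeRight : _ →ₐ[A] C ⊗[A] _)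
      (show polyModel (A := A) {b} (MvPolynomial.X ⟨b, _⟩) ∈ p by simpa using hb)
  | zero => exact ⟨∅, 0, Ideal.zero_mem _, map_zero _⟩
  | add x y _ _ hx hy =>
    obtain ⟨s, x₀, hx₀, ex⟩ := hx
    obtain ⟨t, y₀, hy₀, ey⟩ := hy
    obtain ⟨x₁, hx₁, ex'⟩ := push (Finset.subset_union_left (s₁ := s) (s₂ := t)) x₀ hx₀ ex
    obtain ⟨y₁, hy₁, ey'⟩ := push (Finset.subset_union_right (s₁ := s) (s₂ := t)) y₀ hy₀ ey
    exact ⟨s ∪ t, x₁ + y₁, Ideal.add_mem _ hx₁ hy₁, by rw [map_add, ex', ey']⟩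
  | smul r x _ hx =>
    obtain ⟨s, x₀, hx₀, ex⟩ := hx
    obtain ⟨t, r₀, er⟩ := exists_tensor_model (A := A) r
    obtain ⟨x₁, hx₁, ex'⟩ := push (Finset.subset_union_left (s₁ := s) (s₂ := t)) x₀ hx₀ ex
    obtain ⟨κ, hκ⟩ := range_polyModel_mono (A := A) (Finset.subset_union_right (s₁ := s) (s₂ := t))
    exact ⟨s ∪ t, Algebra.TensorProduct.map (AlgHom.id A C) κ r₀ * x₁, Ideal.mul_mem_left _ _ hx₁, by
      rw [map_mul, ex', ← AlgHom.comp_apply, ← Algebra.TensorProduct.map_comp, hκ, AlgHom.id_comp, er, smul_eq_mul]⟩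

/-- A closed set missing the fibre at a prime is cut off by one element over a model of finite presentation. -/
theorem exists_separating_model (J : Ideal (C ⊗[A] B)) (p : Ideal B) [p.IsPrime]
    (hJ : ∀ q : Ideal (C ⊗[A] B), q.IsPrime → J ≤ q →
      q.comap (Algebra.TensorProduct.includeRight : B →ₐ[A] C ⊗[A] B) ≠ p) :
    ∃ (R₀ : Type u) (_ : CommRing R₀) (_ : Algebra A R₀) (_ : Algebra.FinitePresentation A R₀) (φ : R₀ →ₐ[A] B)
      (j : C ⊗[A] R₀), Algebra.TensorProduct.map (AlgHom.id A C) φ j ∈ J ∧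
      ∀ q₀ : Ideal (C ⊗[A] R₀), q₀.IsPrime → j ∈ q₀ →
        q₀.comap (Algebra.TensorProduct.includeRight : R₀ →ₐ[A] C ⊗[A] R₀) ≠ p.comap φ := by
  classical
  let ir : B →ₐ[A] C ⊗[A] B := Algebra.TensorProduct.includeRight
  let M : Submonoid (C ⊗[A] B) := p.primeCompl.map ir
  obtain ⟨h, hh, hhJ⟩ : ∃ h ∉ p, ir h ∈ J ⊔ p.map ir := by
    by_contra H
    push Not at H
    have hd : Disjoint ((J ⊔ p.map ir : Ideal (C ⊗[A] B)) : Set (C ⊗[A] B)) (M : Set (C ⊗[A] B)) :=
      Set.disjoint_left.2 fun x hx hxM => by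
        obtain ⟨b, hb, rfl⟩ := hxM
        exact H b hb hx
    obtain ⟨q, hq, hqK, hqM⟩ := Ideal.exists_le_prime_disjoint _ M hd
    refine hJ q hq (le_sup_left.trans hqK) (le_antisymm (fun b hb => ?_) fun b hb => ?_)
    · by_contra hbp
      exact Set.disjoint_left.1 hqM hb ⟨b, hbp, rfl⟩
    · exact hqK (Ideal.mem_sup_right (Ideal.mem_map_of_mem ir hb))
  obtain ⟨j, hj, k, hk, e⟩ := Submodule.mem_sup.1 hhJ
  obtain ⟨s, k₀, hk₀, ek⟩ := exists_ideal_model p hk
  let s' := insert h s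
  obtain ⟨ι, hι⟩ := range_polyModel_mono (A := A) (Finset.subset_insert h s)
  let mι := Algebra.TensorProduct.map (AlgHom.id A C) ι
  let h₀ : MvPolynomial s' A := MvPolynomial.X ⟨h, Finset.mem_insert_self h s⟩
  refine ⟨MvPolynomial s' A, inferInstance, inferInstance, inferInstance, polyModel s',
    (1 : C) ⊗ₜ h₀ - mι k₀, ?_, fun q₀ hq₀ hj₀ e₀ => ?_⟩
  · have e1 : Algebra.TensorProduct.map (AlgHom.id A C) (polyModel (A := A) s') ((1 : C) ⊗ₜ h₀) = ir h := by
      simp [ir, h₀]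
    rw [map_sub, e1, ← AlgHom.comp_apply, ← Algebra.TensorProduct.map_comp, hι, AlgHom.id_comp, ek, ← e,
      add_sub_cancel_right]
    exact hj
  · have hmem : mι k₀ ∈ q₀ := by
      have hle : ((p.comap (polyModel (A := A) s)).map
          (Algebra.TensorProduct.includeRight : MvPolynomial s A →ₐ[A] C ⊗[A] MvPolynomial s A)).map mι ≤ q₀ := by
        rw [Ideal.map_le_iff_le_comap, Ideal.map_le_iff_le_comap]
        intro r hr
        simp only [Ideal.mem_comap, Algebra.TensorProduct.includeRight_apply, mι, Algebra.TensorProduct.map_tmul,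
          AlgHom.id_apply]
        have : ι r ∈ q₀.comap (Algebra.TensorProduct.includeRight : _ →ₐ[A] C ⊗[A] MvPolynomial s' A) := by
          rw [e₀, Ideal.mem_comap, ← AlgHom.comp_apply, hι]
          exact hr
        exact this
      exact hle (Ideal.mem_map_of_mem _ hk₀)
    have h1 : h₀ ∈ q₀.comap (Algebra.TensorProduct.includeRight : _ →ₐ[A] C ⊗[A] MvPolynomial s' A) := by
      show (1 : C) ⊗ₜ h₀ ∈ q₀
      simpa using q₀.add_mem hj₀ hmem
    rw [e₀] at h1
    exact hh (by simpa [h₀] using h1)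

end Ring

variable {S : Scheme.{u}}

/-- An affine scheme over a spectrum is the spectrum of an algebra. -/
theorem exists_pt_model {A : Type u} [CommRing A] (str : Spec (CommRingCat.of A) ⟶ S) {T : Over S} [IsAffine T.left]
    (h : T ⟶ Over.mk str) :
    ∃ (B : Type u) (_ : CommRing B) (_ : Algebra A B) (e : pt str B ≅ T),
      e.hom ≫ h = specChg (algebraMap A B) str := by
  obtain ⟨φ, hφ⟩ := Spec.map_surjective (T.left.isoSpec.inv ≫ h.left :
    Spec (Γ(T.left, ⊤)) ⟶ Spec (CommRingCat.of A))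
  algebraize [φ.hom]
  let e₀ : (pt str Γ(T.left, ⊤)).left ≅ T.left := T.left.isoSpec.symm
  have hφ' : Spec.map (CommRingCat.ofHom (algebraMap A Γ(T.left, ⊤))) = T.left.isoSpec.inv ≫ h.left := hφ
  refine ⟨Γ(T.left, ⊤), inferInstance, inferInstance, Over.isoMk e₀ ?_, ?_⟩
  · show T.left.isoSpec.inv ≫ T.hom = Spec.map _ ≫ str
    rw [hφ', Category.assoc, ← Over.w h]
    rfl
  · apply Over.OverMorphism.ext
    exact hφ'.symm

theorem exists_separating {X Y Z : Space S} (f : X ⟶ Y) (g : Z ⟶ Y)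
    (hf : IsQuasiCompactMor f.hom) {P : Sp S} (p₁ : P ⟶ X.obj) (p₂ : P ⟶ Z.obj)
    (hP : IsPullback p₁ p₂ f.hom g.hom) (z : Points Z.obj) {T : Set (Points P)} (hT : IsClosed T)
    (hz : z ∉ Points.map p₂ '' T) :
    ∃ (V : Over S) (_ : IsAffine V.left) (e : (yon S).obj V ⟶ Z.obj) (_ : RepWith @Etale e) (v : ↥V.left)
      (_ : Points.map e (Points.schemeEquiv V v) = z)
      (Z' : Over S) (_ : IsAffine Z'.left) (b : (yon S).obj Z' ⟶ Y.obj) (_ : LocP @LocallyOfFinitePresentation b)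
      (a : V ⟶ Z') (_ : (yon S).map a ≫ b = e ≫ g.hom),
      ∀ (P' : Sp S) (q₁ : P' ⟶ X.obj) (q₂ : P' ⟶ (yon S).obj Z'), IsPullback q₁ q₂ f.hom b →
        ∃ T' : Set (Points P'), IsClosed T' ∧
          Points.schemeEquiv Z' (a.left v) ∉ Points.map q₂ '' T' ∧
          ∀ (PV : Sp S) (r₁ : PV ⟶ X.obj) (r₂ : PV ⟶ (yon S).obj V), IsPullback r₁ r₂ f.hom (e ≫ g.hom) →
            ∀ (κ₁ : PV ⟶ P) (κ₂ : PV ⟶ P'), κ₁ ≫ p₁ = r₁ → κ₁ ≫ p₂ = r₂ ≫ e → κ₂ ≫ q₁ = r₁ →
              κ₂ ≫ q₂ = r₂ ≫ (yon S).map a →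
              ∀ w : Points PV, Points.map κ₁ w ∈ T → Points.map κ₂ w ∈ T' := by
  classical
  obtain ⟨T₀, t₀, w₀, hT₀, ht₀, hw₀⟩ := exists_affine_chart_pt Y.property (Points.map g.hom z)
  obtain ⟨Uz, cz, hcz, hczs⟩ := Z.property.atlas
  obtain ⟨uz, rfl⟩ := surjective_ofPt hczs z
  let A : Type u := Γ(T₀.left, ⊤)
  let str : Spec (CommRingCat.of A) ⟶ S := T₀.left.isoSpec.inv ≫ T₀.hom
  let eT : Over.mk str ≅ T₀ := Over.isoMk T₀.left.isoSpec.symm rfl
  let t : (yon S).obj (Over.mk str) ⟶ Y.obj := (yon S).map eT.hom ≫ t₀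
  have hte : RepWith @Etale t := (MorphismProperty.cancel_left_of_respectsIso (RepWith @Etale) _ _).2 ht₀
  obtain ⟨R, rz, rt, sqR⟩ := exists_isPullback_yon Y.property.diag (cz ≫ g.hom) t
  obtain ⟨wt, hwt⟩ := (show Function.Surjective eT.hom.left from
    (Over.forget S |>.mapIso eT).hom.homeomorph.surjective) w₀
  obtain ⟨p, hp, -⟩ := exists_of_isPullback sqR (Points.ofScheme Uz uz) (Points.ofScheme (Over.mk str) wt) (by
    rw [← Points.ofPt_eq_map_ofScheme, ← Points.ofPt_eq_map_ofScheme, ← Points.map_ofPt, ofPt_comp, hwt, hw₀])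
  obtain ⟨r, rfl⟩ := (Points.schemeHomeo R).surjective p
  have hr : rz.left r = uz := (Points.schemeHomeo Uz).injective (by
    show Points.ofScheme Uz (rz.left r) = Points.ofScheme Uz uz
    rw [← hp]; exact (map_yon_ofScheme rz r).symm)
  obtain ⟨O, hO, hrO, -⟩ := exists_isAffineOpen_mem_and_subset (x := r) (U := (⊤ : R.left.Opens)) trivial
  let R₁ : Over S := Over.mk (O.ι ≫ R.hom)
  let ιR : R₁ ⟶ R := Over.homMk O.ι rfl
  have : IsAffine R₁.left := hO
  obtain ⟨B, _, _, eB, heB⟩ := exists_pt_model str (ιR ≫ rt)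
  let V : Over S := pt str B
  let e : (yon S).obj V ⟶ Z.obj := (yon S).map (eB.hom ≫ ιR ≫ rz) ≫ cz
  have : Etale rz.left := etale_snd_of_isPullback sqR.flip hte
  have : IsIso eB.hom.left := ((Over.forget S).mapIso eB).isIso_hom
  have hee : Etale (eB.hom ≫ ιR ≫ rz).left := inferInstanceAs (Etale (eB.hom.left ≫ O.ι ≫ rz.left))
  have he : RepWith @Etale e := (repWith_isMultiplicative (S := S) @Etale).comp_mem _ _
    ((repWith_yon_map_iff _ _).2 hee) hcz
  obtain ⟨v, hv⟩ := (show Function.Surjective eB.hom.left from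
    (Over.forget S |>.mapIso eB).hom.homeomorph.surjective) ⟨r, hrO⟩
  have hev : Points.ofPt e v = Points.ofPt cz uz := by
    rw [ofPt_comp, Over.comp_left, Over.comp_left, Scheme.Hom.comp_apply, Scheme.Hom.comp_apply, hv, ← hr]
    rfl
  have heg : e ≫ g.hom = (yon S).map (specChg (algebraMap A B) str) ≫ t := by
    rw [← heB]
    simp only [e, Functor.map_comp, Category.assoc, sqR.w]
  -- charts of the pullback over the affine chart of `Y`
  have sqQ := IsPullback.of_hasPullback f.hom t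
  have hQ : IsAlgSpace (pullback f.hom t) :=
    isAlgSpace_of_isPullback sqQ X.property (IsAlgSpace.yon_obj _) Y.property.diag
  have : CompactSpace ↥(Over.mk str).left := inferInstanceAs (CompactSpace (PrimeSpectrum A))
  have := compactSpace_points_yon (Over.mk str)
  have := compactSpace_of_isQuasiCompactMor hf (IsAlgSpace.yon_obj _) sqQ
  obtain ⟨U', x₀, hU', hx₀, hx₀s⟩ := exists_affine_chart_of_compactSpace hQ
  obtain ⟨m, hm⟩ := (yon S).map_surjective (x₀ ≫ pullback.snd f.hom t)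
  obtain ⟨C, _, _, eC, heC⟩ := exists_pt_model str m
  let x : (yon S).obj (pt str C) ⟶ pullback f.hom t := (yon S).map eC.hom ≫ x₀
  have hxe : RepWith @Etale x := (MorphismProperty.cancel_left_of_respectsIso (RepWith @Etale) _ _).2 hx₀
  have hxs : RepWith @Surjective x := (MorphismProperty.cancel_left_of_respectsIso (RepWith @Surjective) _ _).2 hx₀s
  have hxsnd : x ≫ pullback.snd f.hom t = (yon S).map (specChg (algebraMap A C) str) := by
    rw [← heC, Functor.map_comp, hm, Category.assoc]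
  let iC : C →ₐ[A] C ⊗[A] B := Algebra.TensorProduct.includeLeft
  let iB : B →ₐ[A] C ⊗[A] B := Algebra.TensorProduct.includeRight
  let κ : (yon S).obj (pt str (C ⊗[A] B)) ⟶ P := hP.lift
    ((yon S).map (sp str iC) ≫ x ≫ pullback.fst f.hom t) ((yon S).map (sp str iB) ≫ e) (by
      rw [Category.assoc, Category.assoc, sqQ.w, reassoc_of% hxsnd, Category.assoc, heg,
        ← Category.assoc, ← Category.assoc ((yon S).map (sp str iB)), ← Functor.map_comp, ← Functor.map_comp,
        sp_toA, sp_toA])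
  let J : Ideal (C ⊗[A] B) := PrimeSpectrum.vanishingIdeal
    (Points.ofPt κ ⁻¹' T : Set (PrimeSpectrum (C ⊗[A] B)))
  have hclosed : IsClosed (Points.ofPt κ ⁻¹' T : Set (PrimeSpectrum (C ⊗[A] B))) :=
    hT.preimage (Points.continuous_ofPt κ)
  have hzero : ∀ q : PrimeSpectrum (C ⊗[A] B), J ≤ q.asIdeal → Points.ofPt κ q ∈ T := fun q hq => by
    have : q ∈ PrimeSpectrum.zeroLocus (J : Set (C ⊗[A] B)) := hq
    rwa [PrimeSpectrum.zeroLocus_vanishingIdeal_eq_closure, hclosed.closure_eq] at this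
  have : (v : PrimeSpectrum B).asIdeal.IsPrime := (v : PrimeSpectrum B).isPrime
  obtain ⟨R₀, _, _, _, φ, j, hj, hsep⟩ := exists_separating_model J (v : PrimeSpectrum B).asIdeal
    (fun q hq hJq hqv => hz ⟨Points.ofPt κ (⟨q, hq⟩ : PrimeSpectrum _), hzero ⟨q, hq⟩ hJq, by
      rw [Points.map_ofPt, hP.lift_snd, ofPt_comp, ← hev]
      exact congrArg _ (PrimeSpectrum.ext hqv)⟩)
  let Z' : Over S := pt str R₀
  let b : (yon S).obj Z' ⟶ Y.obj := (yon S).map (specChg (algebraMap A R₀) str) ≫ t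
  let a : V ⟶ Z' := sp str φ
  have hlfp : LocallyOfFinitePresentation (specChg (algebraMap A R₀) str).left := by
    show LocallyOfFinitePresentation (Spec.map (CommRingCat.ofHom (algebraMap A R₀)))
    rw [HasRingHomProperty.Spec_iff (P := @LocallyOfFinitePresentation)]
    exact RingHom.finitePresentation_algebraMap.2 inferInstance
  have hb : LocP @LocallyOfFinitePresentation b := locP_comp (IsAlgSpace.yon_obj _) (IsAlgSpace.yon_obj _)
    Y.property ((locP_yon_map_iff _).2 hlfp)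
    (LocP.of_le (P := @Etale) (fun _ _ k (hk : Etale k) => (inferInstance : LocallyOfFinitePresentation k))
      (locP_of_repWith (IsAlgSpace.yon_obj _).diag Y.property hte))
  have hab : (yon S).map a ≫ b = e ≫ g.hom := by
    rw [heg, ← Functor.map_comp_assoc, sp_toA]
  refine ⟨V, inferInstanceAs (IsAffine (Spec _)), e, he, v, ?_, Z', inferInstanceAs (IsAffine (Spec _)), b, hb, a,
    hab, ?_⟩
  · rw [← hev, Points.ofPt_eq_map_ofScheme]; rfl
  intro P' q₁ q₂ sqP'
  let iC₀ : C →ₐ[A] C ⊗[A] R₀ := Algebra.TensorProduct.includeLeft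
  let iR : R₀ →ₐ[A] C ⊗[A] R₀ := Algebra.TensorProduct.includeRight
  let q' : P' ⟶ pullback f.hom t := pullback.lift q₁ (q₂ ≫ (yon S).map (specChg (algebraMap A R₀) str))
    (by rw [Category.assoc]; exact sqP'.w)
  have sq' : IsPullback q' q₂ (pullback.snd f.hom t) ((yon S).map (specChg (algebraMap A R₀) str)) :=
    IsPullback.of_right (by rw [pullback.lift_fst]; exact sqP') (pullback.lift_snd _ _ _) sqQ
  let τ : (yon S).obj (pt str (C ⊗[A] R₀)) ⟶ P' := sq'.lift ((yon S).map (sp str iC₀) ≫ x) ((yon S).map (sp str iR))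
    (by rw [Category.assoc, hxsnd, ← Functor.map_comp, ← Functor.map_comp, sp_toA, sp_toA])
  have sqτ : IsPullback τ ((yon S).map (sp str iC₀)) q' x :=
    IsPullback.of_right (h₁₂ := q₂) (v₁₂ := q') (h₂₂ := pullback.snd f.hom t)
      (by rw [sq'.lift_snd, hxsnd]; exact isPullback_pt_tensor str C R₀) (sq'.lift_fst _ _ _) sq'.flip |>.flip.flip
  have hτe : RepWith @Etale τ := (repWith_isStableUnderBaseChange _).of_isPullback sqτ.flip hxe
  let T₂ : Set (Points P') := {y | ∃ (PV : Sp S) (r₁ : PV ⟶ X.obj) (r₂ : PV ⟶ (yon S).obj V)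
    (_ : IsPullback r₁ r₂ f.hom (e ≫ g.hom)) (κ₁ : PV ⟶ P) (κ₂ : PV ⟶ P') (_ : κ₁ ≫ p₁ = r₁)
    (_ : κ₁ ≫ p₂ = r₂ ≫ e) (_ : κ₂ ≫ q₁ = r₁) (_ : κ₂ ≫ q₂ = r₂ ≫ (yon S).map a) (w : Points PV),
    Points.map κ₁ w ∈ T ∧ Points.map κ₂ w = y}
  have hpre : ∀ d : PrimeSpectrum (C ⊗[A] R₀), Points.ofPt τ d ∈ T₂ → j ∈ d.asIdeal := by
    rintro d ⟨PV, r₁, r₂, sqV, κ₁, κ₂, h11, h12, h21, h22, w, hwT, hwd⟩
    have sqκ : IsPullback κ₂ r₂ q₂ ((yon S).map a) := IsPullback.of_right
      (by rw [h21, hab]; exact sqV) h22 sqP'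
    let mφ := Algebra.TensorProduct.map (AlgHom.id A C) φ
    have c1 : sp str mφ ≫ sp str iC₀ = sp str iC := by
      rw [← sp_comp]
      exact congrArg (sp str) (AlgHom.ext fun c => by simp [iC, iC₀, mφ])
    have c2 : sp str mφ ≫ sp str iR = sp str iB ≫ a := by
      rw [← sp_comp, ← sp_comp]
      exact congrArg (sp str) (AlgHom.ext fun r => by simp [iR, iB, mφ])
    let d' : (yon S).obj (pt str (C ⊗[A] B)) ⟶ PV := sqκ.lift ((yon S).map (sp str mφ) ≫ τ) ((yon S).map (sp str iB))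
      (by rw [Category.assoc, sq'.lift_snd, ← Functor.map_comp, ← Functor.map_comp, c2])
    have sqd : IsPullback d' ((yon S).map (sp str iC)) (κ₂ ≫ q') x := by
      refine IsPullback.of_right (h₁₂ := r₂) (v₁₂ := κ₂ ≫ q') (h₂₂ := pullback.snd f.hom t) ?_ ?_
        (?_ : IsPullback r₂ (κ₂ ≫ q') ((yon S).map (specChg (algebraMap A B) str)) (pullback.snd f.hom t))
      · rw [sqκ.lift_snd, hxsnd]; exact isPullback_pt_tensor str C B
      · rw [← Category.assoc, sqκ.lift_fst, Category.assoc, sq'.lift_fst, ← Functor.map_comp_assoc, c1]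
      · refine (IsPullback.paste_vert sqκ.flip sq'.flip).of_iso (Iso.refl _) (Iso.refl _) (Iso.refl _) (Iso.refl _)
          (by simp) (by simp) (by simp [← Functor.map_comp, a, sp_toA]) (by simp)
    have sqττ : IsPullback d' ((yon S).map (sp str mφ)) κ₂ τ :=
      IsPullback.of_bot
        (by rw [← Functor.map_comp, c1]; exact sqd) (sqκ.lift_fst _ _ _) sqτ
    obtain ⟨d₂, hd₂w, hd₂d⟩ := exists_of_isPullback sqττ w (Points.ofScheme _ d) (by
      rw [hwd, Points.ofPt_eq_map_ofScheme])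
    obtain ⟨δ, rfl⟩ := (Points.schemeHomeo _).surjective d₂
    have hδ : (sp str mφ).left δ = d := (Points.schemeHomeo _).injective
      ((map_yon_ofScheme (sp str mφ) δ).symm.trans hd₂d)
    have hκ : d' ≫ κ₁ = κ := hP.hom_ext
      (by rw [hP.lift_fst, Category.assoc, h11, ← h21, ← Category.assoc, sqκ.lift_fst, Category.assoc,
        ← show q' ≫ pullback.fst f.hom t = q₁ from pullback.lift_fst _ _ _, ← Category.assoc τ, sq'.lift_fst,
        Category.assoc, ← Functor.map_comp_assoc, c1])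
      (by rw [hP.lift_snd, Category.assoc, h12, ← Category.assoc, sqκ.lift_snd])
    have hmem : (δ : PrimeSpectrum (C ⊗[A] B)) ∈ (Points.ofPt κ ⁻¹' T : Set (PrimeSpectrum (C ⊗[A] B))) := by
      show Points.ofPt κ δ ∈ T
      rw [← hκ, ← Points.map_ofPt, Points.ofPt_eq_map_ofScheme d', show Points.map d' (Points.ofScheme _ δ) = w from hd₂w]
      exact hwT
    rw [← hδ]
    show mφ j ∈ (δ : PrimeSpectrum (C ⊗[A] B)).asIdeal
    exact (PrimeSpectrum.mem_vanishingIdeal _ _).1 hj δ hmem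
  refine ⟨closure T₂, isClosed_closure, ?_, fun PV r₁ r₂ sqV κ₁ κ₂ h11 h12 h21 h22 w hw =>
    subset_closure ⟨PV, r₁, r₂, sqV, κ₁, κ₂, h11, h12, h21, h22, w, hw, rfl⟩⟩
  rintro ⟨y, hy, hy2⟩
  obtain ⟨c₀, hc₀⟩ := surjective_ofPt hxs (Points.map q' y)
  obtain ⟨d, hd, -⟩ := exists_of_isPullback sqτ y (Points.ofScheme _ c₀) (by
    rw [← Points.ofPt_eq_map_ofScheme, hc₀])
  obtain ⟨δ, rfl⟩ := (Points.schemeHomeo _).surjective d
  have hδy : Points.ofPt τ δ = y := by rw [Points.ofPt_eq_map_ofScheme]; exact hd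
  have hδj : j ∈ (δ : PrimeSpectrum (C ⊗[A] R₀)).asIdeal := by
    have : δ ∈ closure (Points.ofPt τ ⁻¹' T₂) := by
      rw [← (isOpenMap_ofPt hτe).preimage_closure_eq_closure_preimage (Points.continuous_ofPt τ)]
      show Points.ofPt τ δ ∈ closure T₂
      rw [hδy]; exact hy
    have hcl : IsClosed (PrimeSpectrum.zeroLocus {j} : Set (PrimeSpectrum (C ⊗[A] R₀))) :=
      PrimeSpectrum.isClosed_zeroLocus _
    have h2 := closure_minimal (fun d (hd : d ∈ Points.ofPt τ ⁻¹' T₂) =>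
      show d ∈ (PrimeSpectrum.zeroLocus {j} : Set (PrimeSpectrum (C ⊗[A] R₀))) from
        Set.singleton_subset_iff.2 (hpre d hd)) hcl this
    exact Set.singleton_subset_iff.1 h2
  refine hsep _ (δ : PrimeSpectrum (C ⊗[A] R₀)).isPrime hδj ?_
  have hh : (sp str iR).left δ = a.left v := (Points.schemeHomeo Z').injective (by
    show Points.ofScheme Z' ((sp str iR).left δ) = Points.schemeEquiv Z' (a.left v)
    rw [← hy2, ← hδy, Points.map_ofPt, sq'.lift_snd, Points.ofPt_eq_map_ofScheme, map_yon_ofScheme])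
  exact congrArg PrimeSpectrum.asIdeal hh

end Groth.Agent.SpProper61
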