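import Groth.Agent.SpPts86.LimAffine
import Groth.Agent.SpPts86.LimMisc
import Groth.Agent.LimTop61.Points
import Groth.Agent.SpPts86.RedFactor
import Groth.Agent.SpProper61.Induction

/-!
Points of limits of spaces along affine transition maps.
-/

universe u

set_option autoImplicit false
set_option backward.isDefEq.respectTransparency false

open CategoryTheory CategoryTheory.Limits AlgebraicGeometry Topology
open AlgSp Groth.Agent.SpFP87 Groth.Agent.SpPts86

namespace Groth.Agent.SpProper61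

variable {S : Scheme.{u}} {I : Type u} [SmallCategory I] [IsCofiltered I] {D : I ⥤ Sp S} {c : Cone D}

theorem map_π (c : Cone D) {i j : I} (φ : i ⟶ j) (x : Points c.pt) :
    Points.map (D.map φ) (Points.map (c.π.app i) x) = Points.map (c.π.app j) x := by
  rw [← Points.map_comp, c.w]

/-- The projections separate the points, and compatible families come from points. -/
theorem points_limit_bijective (hDa : ∀ (i j : I) (φ : i ⟶ j), IsAffineMor (D.map φ))
    (hc : IsLimit c) (hdec : ∀ i, IsDecent (D.obj i)) :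
    (∀ x x' : Points c.pt, (∀ i, Points.map (c.π.app i) x = Points.map (c.π.app i) x') → x = x') ∧
    (∀ s : ∀ i, Points (D.obj i), (∀ (i j : I) (φ : i ⟶ j), Points.map (D.map φ) (s i) = s j) →
      ∃ x : Points c.pt, ∀ i, Points.map (c.π.app i) x = s i) := by
  classical
  obtain ⟨i₀⟩ := IsCofiltered.nonempty (C := I)
  refine ⟨fun x x' h => ?_, fun s hs => ?_⟩
  · obtain ⟨r, hr, hrm, -⟩ := hdec i₀ (Points.map (c.π.app i₀) x)
    have : IsAffine r.pt.left := inferInstanceAs (IsAffine (Spec (CommRingCat.of r.K)))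
    obtain ⟨W, fst, w, cL, -, hLS, fL, iL, sq, hWa, -, -, -, hfL, sqL, -⟩ :=
      exists_affine_limit_chart hDa hc i₀ ‹_› r.toHom
    have key : ∀ y, Points.map (c.π.app i₀) y = Points.mk r → ∃ l, Points.ofPt fL l = y := fun y hy => by
      let z : ↥r.pt.left := (IsLocalRing.closedPoint r.K : PrimeSpectrum r.K)
      obtain ⟨p, hp, -⟩ := exists_of_isPullback sqL y (Points.ofScheme r.pt z) (by
        rw [← Points.ofPt_eq_map_ofScheme, hy]
        exact (Points.ofPt_toHom r z).symm)
      obtain ⟨l, rfl⟩ := (Points.schemeHomeo cL.pt).surjective p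
      exact ⟨l, by rw [Points.ofPt_eq_map_ofScheme]; exact hp⟩
    obtain ⟨l, rfl⟩ := key x hr.symm
    obtain ⟨l', rfl⟩ := key x' ((h i₀).symm.trans hr.symm)
    have : ∀ k, IsAffine ((W ⋙ Over.forget S).obj k) := hWa
    have : ∀ (k m : Over i₀) (φ : k ⟶ m), IsAffineHom ((W ⋙ Over.forget S).map φ) := fun k m φ => inferInstance
    refine congrArg _ (LimTop61.eq_of_forall_π_apply_eq (W ⋙ Over.forget S) _ hLS fun k => ?_)
    have : Mono (fst k) := MorphismProperty.of_isPullback (P := MorphismProperty.monomorphisms (Sp S))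
      (sq k).flip hrm
    apply (Points.schemeHomeo (W.obj k)).injective
    apply injective_map_of_mono (fst k)
    show Points.map (fst k) (Points.ofScheme _ ((cL.π.app k).left l)) =
      Points.map (fst k) (Points.ofScheme _ ((cL.π.app k).left l'))
    rw [← Points.ofPt_eq_map_ofScheme, ← Points.ofPt_eq_map_ofScheme, ← ofPt_comp, ← ofPt_comp, ← hfL,
      ← Points.map_ofPt, ← Points.map_ofPt]
    exact h _
  · obtain ⟨r, hr, hrm, -⟩ := hdec i₀ (s i₀)
    have : IsAffine r.pt.left := inferInstanceAs (IsAffine (Spec (CommRingCat.of r.K)))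
    obtain ⟨W, fst, w, cL, -, hLS, fL, iL, sq, hWa, hWmap, -, -, hfL, -, -⟩ :=
      exists_affine_limit_chart hDa hc i₀ ‹_› r.toHom
    have hex : ∀ k : Over i₀, ∃ v : ↥(W.obj k).left, Points.ofPt (fst k) v = s k.left := fun k => by
      let z : ↥r.pt.left := (IsLocalRing.closedPoint r.K : PrimeSpectrum r.K)
      obtain ⟨p, hp, -⟩ := exists_of_isPullback (sq k) (s k.left) (Points.ofScheme r.pt z) (by
        rw [← Points.ofPt_eq_map_ofScheme, hs, ← hr]
        exact (Points.ofPt_toHom r z).symm)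
      obtain ⟨l, rfl⟩ := (Points.schemeHomeo (W.obj k)).surjective p
      exact ⟨l, by rw [Points.ofPt_eq_map_ofScheme]; exact hp⟩
    choose v hv using hex
    have : ∀ k, IsAffine ((W ⋙ Over.forget S).obj k) := hWa
    obtain ⟨l, hl⟩ := LimTop61.exists_π_apply_eq (W ⋙ Over.forget S) _ hLS v fun {k m} φ => by
      have : Mono (fst m) := MorphismProperty.of_isPullback (P := MorphismProperty.monomorphisms (Sp S))
        (sq m).flip hrm
      apply (Points.schemeHomeo (W.obj m)).injective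
      apply injective_map_of_mono (fst m)
      show Points.map (fst m) (Points.ofScheme _ ((W.map φ).left (v k))) =
        Points.map (fst m) (Points.ofScheme _ (v m))
      rw [← Points.ofPt_eq_map_ofScheme, ← Points.ofPt_eq_map_ofScheme, ← ofPt_comp, hWmap, ← Points.map_ofPt,
        hv, hv, hs]
    refine ⟨Points.ofPt fL l, fun i => ?_⟩
    obtain ⟨m, m₁, m₂, -⟩ := IsCofilteredOrEmpty.cone_objs i i₀
    rw [← map_π c m₁, ← hs m i m₁]
    congr 1
    rw [Points.map_ofPt, show c.π.app m = c.π.app (Over.mk m₂).left from rfl, hfL, ofPt_comp]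
    exact (congrArg _ (hl (Over.mk m₂))).trans (hv (Over.mk m₂))

/-- Neighbourhoods in the limit come from the stages. -/
theorem exists_stage_nhd (hD : ∀ i, IsAlgSpace (D.obj i))
    (hDa : ∀ (i j : I) (φ : i ⟶ j), IsAffineMor (D.map φ)) (hc : IsLimit c)
    {O : Set (Points c.pt)} (hO : IsOpen O) {x : Points c.pt} (hx : x ∈ O) :
    ∃ (i : I) (O' : Set (Points (D.obj i))), IsOpen O' ∧ Points.map (c.π.app i) x ∈ O' ∧
      Points.map (c.π.app i) ⁻¹' O' ⊆ O := by
  classical
  obtain ⟨i₀⟩ := IsCofiltered.nonempty (C := I)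
  obtain ⟨T, t, u, hT, ht, hu⟩ := exists_affine_chart_pt (hD i₀) (Points.map (c.π.app i₀) x)
  obtain ⟨W, fst, w, cL, -, hLS, fL, iL, sq, hWa, -, -, hw, hfL, sqL, -⟩ :=
    exists_affine_limit_chart hDa hc i₀ hT t
  obtain ⟨p, hp, -⟩ := exists_of_isPullback sqL x (Points.ofScheme T u) (by
    rw [← Points.ofPt_eq_map_ofScheme, hu])
  obtain ⟨l, rfl⟩ := (Points.schemeHomeo cL.pt).surjective p
  have hl : Points.ofPt fL l = x := by rw [Points.ofPt_eq_map_ofScheme]; exact hp
  have : ∀ k, IsAffine ((W ⋙ Over.forget S).obj k) := hWa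
  have : ∀ {k m : Over i₀} (φ : k ⟶ m), IsAffineHom ((W ⋙ Over.forget S).map φ) := fun φ => inferInstance
  have hB := isBasis_preimage_isAffineOpen (W ⋙ Over.forget S) _ hLS
  obtain ⟨_, ⟨_, ⟨k, V, -, rfl⟩, rfl⟩, hlV, hVO⟩ :=
    hB.exists_subset_of_mem_open (show l ∈ Points.ofPt fL ⁻¹' O from show Points.ofPt fL l ∈ O by rw [hl]; exact hx)
      (hO.preimage (Points.continuous_ofPt fL))
  have hfk : RepWith @Etale (fst k) := (repWith_isStableUnderBaseChange _).of_isPullback (sq k).flip ht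
  have sqk : IsPullback fL ((yon S).map (cL.π.app k)) (c.π.app k.left) (fst k) :=
    IsPullback.of_bot (by rw [← Functor.map_comp, hw, c.w]; exact sqL) (hfL k) (sq k)
  refine ⟨k.left, Points.ofPt (fst k) '' (setOf fun v : ↥(W.obj k).left => v ∈ V), isOpenMap_ofPt hfk _ V.isOpen,
    ⟨(cL.π.app k).left l, hlV, by rw [← ofPt_comp, ← hfL, ← Points.map_ofPt, hl]⟩, ?_⟩
  rintro y ⟨v, hv, hvy⟩
  obtain ⟨p, hp₁, hp₂⟩ := exists_of_isPullback sqk y (Points.ofScheme (W.obj k) v) (by
    rw [← Points.ofPt_eq_map_ofScheme, hvy])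
  obtain ⟨l', rfl⟩ := (Points.schemeHomeo cL.pt).surjective p
  rw [← hp₁]
  show Points.map fL (Points.ofScheme _ l') ∈ O
  rw [← Points.ofPt_eq_map_ofScheme]
  refine hVO ?_
  show (cL.π.app k).left l' ∈ V
  have e : Points.ofScheme (W.obj k) ((cL.π.app k).left l') = Points.ofScheme (W.obj k) v := by
    rw [← hp₂]
    exact (map_yon_ofScheme _ _).symm
  rw [(Points.schemeHomeo (W.obj k)).injective e]
  exact hv

theorem topology_limit (hD : ∀ i, IsAlgSpace (D.obj i))
    (hDa : ∀ (i j : I) (φ : i ⟶ j), IsAffineMor (D.map φ)) (hc : IsLimit c) :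
    Points.topologicalSpace c.pt =
      ⨅ i, TopologicalSpace.induced (Points.map (c.π.app i)) (Points.topologicalSpace (D.obj i)) := by
  refine le_antisymm (le_iInf fun i => continuous_iff_le_induced.1 (Points.continuous_map _)) ?_
  intro O hO
  rw [@isOpen_iff_forall_mem_open]
  intro x hx
  obtain ⟨i, O', hO', hxO', hsub⟩ := exists_stage_nhd hD hDa hc hO hx
  exact ⟨Points.map (c.π.app i) ⁻¹' O', hsub, TopologicalSpace.le_def.1 (iInf_le _ i) _
    (isOpen_induced_iff.2 ⟨O', hO', rfl⟩), hxO'⟩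

theorem closure_point_limit (hD : ∀ i, IsAlgSpace (D.obj i))
    (hDa : ∀ (i j : I) (φ : i ⟶ j), IsAffineMor (D.map φ)) (hc : IsLimit c) (x : Points c.pt) :
    closure {x} = {x' | ∀ i, Points.map (c.π.app i) x' ∈ closure {Points.map (c.π.app i) x}} := by
  refine Set.Subset.antisymm (fun x' hx' i => ?_) fun x' hx' => mem_closure_iff.2 fun O hO hxO => ?_
  · exact map_mem_closure (Points.continuous_map _) hx' fun y hy => by rw [Set.mem_singleton_iff.1 hy]; rfl
  · obtain ⟨i, O', hO', hxO', hsub⟩ := exists_stage_nhd hD hDa hc hO hxO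
    obtain ⟨_, hy, rfl⟩ := mem_closure_iff.1 (hx' i) O' hO' hxO'
    exact ⟨x, hsub hy, rfl⟩

theorem closure_limit_redInduced (hD : ∀ i, IsAlgSpace (D.obj i))
    (hDa : ∀ (i j : I) (φ : i ⟶ j), IsAffineMor (D.map φ)) (hc : IsLimit c) (x : Points c.pt)
    (Z : Space S) (zι : Z.obj ⟶ c.pt) (hz : IsRedInduced (closure {x}) zι)
    (DZ : I ⥤ Sp S) (hDZ : ∀ i, IsAlgSpace (DZ.obj i)) (ι : DZ ⟶ D)
    (hι : ∀ i, IsRedInduced (closure {Points.map (c.π.app i) x}) (ι.app i))
    (ξ : (Functor.const I).obj Z.obj ⟶ DZ) (hξ : ∀ i, ξ.app i ≫ ι.app i = zι ≫ c.π.app i) :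
    Nonempty (IsLimit (Cone.mk Z.obj ξ)) := by
  have hsep : ∀ j, IsSeparatedMor (ι.app j) := fun j =>
    isSeparatedMor_of_repWith_le (P := @IsClosedImmersion)
      (fun _ _ k (hk : IsClosedImmersion k) => (inferInstance : AlgebraicGeometry.IsSeparated k)) (hDZ j) (hι j).1
  have hZa : ∀ (i j : I) (φ : i ⟶ j), IsAffineMor (DZ.map φ) := fun i j φ => by
    refine isAffineMor_of_comp_separated (hsep j) ?_
    rw [ι.naturality]
    exact isAffineMor_of_repWith ((repWith_isMultiplicative (S := S) @IsAffineHom).comp_mem _ _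
      (SpPts86.repWith_mono (fun _ _ k (hk : IsClosedImmersion k) => (inferInstance : IsAffineHom k)) (hι i).1)
      (repWith_of_isAffineMor (hDa i j φ)))
  let cZ := limit.cone DZ
  have hcZ : IsLimit cZ := limit.isLimit DZ
  let cD : Cone D := (Cone.postcompose ι).obj cZ
  let lι : cZ.pt ⟶ c.pt := hc.lift cD
  have hlι : ∀ i, lι ≫ c.π.app i = cZ.π.app i ≫ ι.app i := fun i => hc.fac cD i
  have : ∀ i, Mono (ι.app i) := fun i => mono_of_repWith_le (P := @IsClosedImmersion)
    (fun _ _ k (hk : IsClosedImmersion k) => (inferInstance : Mono k)) (hι i).1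
  have : Mono lι := ⟨fun a b e => hcZ.hom_ext fun i => by
    rw [← cancel_mono (ι.app i), Category.assoc, Category.assoc, ← hlι, reassoc_of% e]⟩
  have : Mono zι := mono_of_repWith_le (P := @IsClosedImmersion)
    (fun _ _ k (hk : IsClosedImmersion k) => (inferInstance : Mono k)) hz.1
  obtain ⟨p, hp⟩ := exists_factor_of_reduced (isAlgSpace_limit hDZ hZa hcZ)
    (isReducedSp_limit hDZ hZa hcZ fun i => (hι i).2.2) hz.1 lι (by
      rw [hz.2.1, closure_point_limit hD hDa hc]
      rintro _ ⟨z, rfl⟩ i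
      rw [← Points.map_comp, hlι, Points.map_comp]
      exact (hι i).2.1.le ⟨_, rfl⟩)
  let q : Z.obj ⟶ cZ.pt := hcZ.lift (Cone.mk Z.obj ξ)
  have hq : q ≫ lι = zι := hc.hom_ext fun i => by
    rw [Category.assoc, hlι, ← Category.assoc, hcZ.fac]
    exact hξ i
  let e : cZ.pt ≅ Z.obj :=
    ⟨p, q, by rw [← cancel_mono lι, Category.assoc, hq, hp, Category.id_comp],
      by rw [← cancel_mono zι, Category.assoc, hp, hq, Category.id_comp]⟩
  refine ⟨hcZ.ofIsoLimit (Cone.ext e fun i => ?_)⟩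
  have h2 : q ≫ cZ.π.app i = ξ.app i := hcZ.fac _ i
  show cZ.π.app i = p ≫ ξ.app i
  rw [← h2, ← Category.assoc, show p ≫ q = 𝟙 _ from e.hom_inv_id, Category.id_comp]

end Groth.Agent.SpProper61
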