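import Groth.Agent.SpProper61.GrpUnit
import Groth.Agent.SpPts86.LocPNear
import Groth.Agent.SpFP87.EtLocInst

/-!
The largest open of the base over which a group space has a property near every point.
-/

universe u

set_option autoImplicit false
set_option backward.isDefEq.respectTransparency false

open CategoryTheory CategoryTheory.Limits AlgebraicGeometry MonoidalCategory CartesianMonoidalCategory MonObj
open AlgSp Groth.Agent.SpFP87 Groth.Agent.SpPts86

namespace Groth.Agent.SpProper61

variable {S : Scheme.{u}}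

theorem exists_grp_locus (P₀ P : MorphismProperty Scheme.{u}) [EtLoc P₀] [EtLoc P] [IsZariskiLocalAtSource P]
    (hbc : ∀ {A B C D : Scheme.{u}} (p : A ⟶ B) (q : A ⟶ C) (f : B ⟶ D) (g : C ⟶ D),
      IsPullback p q f g → P₀ f → ∀ a : A, NearPt P A C q a ↔ NearPt P B D f (p a))
    {B : Sp S} (hB : IsAlgSpace B) (G : Over B) [GrpObj G] (hG : IsAlgSpace G.left) (hf : LocP P₀ G.hom) :
    ∃ (W : Sp S) (w : W ⟶ B), RepWith @IsOpenImmersion w ∧
      (∀ (W' : Sp S) (w' : W' ⟶ B), RepWith @IsOpenImmersion w' →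
        (LocP P (pullback.snd G.hom w') ↔ ∃ k : W' ⟶ W, k ≫ w = w')) ∧
      (∀ (B' : Sp S), IsAlgSpace B' → ∀ (f : B' ⟶ B) (W'' : Sp S) (w'' : W'' ⟶ B'),
        RepWith @IsOpenImmersion w'' →
        (LocP P (pullback.snd (pullback.snd G.hom f) w'') ↔ ∃ k : W'' ⟶ pullback w f, k ≫ pullback.snd w f = w'')) := by
  let e : B ⟶ G.left := (η[G]).left
  have he : e ≫ G.hom = 𝟙 B := Over.w (η[G])
  let O : Set (Points G.left) := {x | HasAtMor (NearPt P) G.hom x}
  have hO : IsOpen O := by
    refine isOpen_iff_mem_nhds.2 fun x hx => ?_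
    obtain ⟨O', hO', hxO, hP⟩ := exists_open_subspace_of_near hG hB hx
    refine Filter.mem_of_superset (hO'.mem_nhds hxO) fun y hy => ?_
    obtain ⟨z, rfl⟩ := (range_map_restrictι hO').ge hy
    exact near_of_open_subspace hG hB (isAlgSpace_restrictSheaf hG hO') (repWith_restrictι hO') hP z
  let Ws : Set (Points B) := Points.map e ⁻¹' O
  have hWs : IsOpen Ws := hO.preimage (Points.continuous_map e)
  let W := restrictSheaf B Ws
  let w := restrictι B Ws
  have main : ∀ {Y' : Sp S} (g : Y' ⟶ B), IsAlgSpace Y' → ∀ {X' : Sp S} (fst : X' ⟶ G.left) (snd : X' ⟶ Y'),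
      IsPullback fst snd G.hom g → (LocP P snd ↔ ∃ k : Y' ⟶ W, k ≫ w = g) := by
    intro Y' g hY' X' fst snd sq
    rw [factors_iff_range_subset (repWith_restrictι hWs), range_map_restrictι hWs,
      locP_iff_forall_near (isAlgSpace_of_isPullback sq hG hY' hB.diag) hY']
    constructor
    · rintro H _ ⟨y, rfl⟩
      obtain ⟨z, hz, -⟩ := exists_of_isPullback sq (Points.map e (Points.map g y)) y
        (by rw [← Points.map_comp, he, Points.map_id])
      show HasAtMor (NearPt P) G.hom (Points.map e (Points.map g y))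
      rw [← hz]
      exact (hasAtMor_baseChange_iff P₀ (etInv_nearPt P) hbc sq hG hB hY' hf z).1 (H z)
    · intro H z
      refine (hasAtMor_baseChange_iff P₀ (etInv_nearPt P) hbc sq hG hB hY' hf z).2
        (hasAtMor_of_unit P₀ (etInv_nearPt P) hbc hB G hG hf _ ?_)
      have : Points.map G.hom (Points.map fst z) = Points.map g (Points.map snd z) := by
        rw [← Points.map_comp, sq.w, Points.map_comp]
      rw [this]
      exact H ⟨_, rfl⟩
  refine ⟨W, w, repWith_restrictι hWs, fun W' w' hw' => ?_, fun B' hB' f W'' w'' hw'' => ?_⟩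
  · have := mono_of_repWith_le isOpenImmersion_le_monomorphisms hw'
    exact main w' (isAlgSpace_of_representable_mono hw'.1 hB) _ _ (IsPullback.of_hasPullback _ _)
  · have := mono_of_repWith_le isOpenImmersion_le_monomorphisms hw''
    rw [main (w'' ≫ f) (isAlgSpace_of_representable_mono hw''.1 hB') _ _
      ((IsPullback.of_hasPullback (pullback.snd G.hom f) w'').paste_horiz (IsPullback.of_hasPullback G.hom f))]
    constructor
    · rintro ⟨k, hk⟩
      exact ⟨pullback.lift k w'' hk, pullback.lift_snd _ _ _⟩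
    · rintro ⟨k, hk⟩
      exact ⟨k ≫ pullback.fst w f, by rw [Category.assoc, pullback.condition, ← Category.assoc, hk]⟩

end Groth.Agent.SpProper61
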