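import Groth.Agent.SpProper61.CodimZeroFinite
import Groth.Agent.SpPts86.QuotFinite
import Groth.Agent.S10197
import Groth.Agent.SpFP87.QsDecent
import Mathlib.Topology.Spectral.ConstructibleTopology

/-!
Open subschemes of algebraic spaces: near codimension zero points of finite fibre, and density for
spaces with affine charts with finite fibres.
-/

universe u

set_option autoImplicit false
set_option backward.isDefEq.respectTransparency false

open CategoryTheory CategoryTheory.Limits AlgebraicGeometry Topology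
open AlgSp Groth.Agent.SpFP87 Groth.Agent.SpPts86

namespace Groth.Agent.SpProper61

variable {S : Scheme.{u}}

/-- The relation of an affine chart is separated over the chart. -/
theorem isSeparated_relation {X : Space S} {U : Over S} [IsAffine U.left] {a : (yon S).obj U ⟶ X.obj}
    {R : Over S} {t s : R ⟶ U} (sq : IsPullback ((yon S).map t) ((yon S).map s) a a) :
    AlgebraicGeometry.IsSeparated s.left := by
  obtain ⟨W, p, q, sqW⟩ := exists_isPullback_yon (IsAlgSpace.yon_obj (Over.mk (𝟙 S))).diag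
    ((yon S).map (Over.homMk U.hom : U ⟶ Over.mk (𝟙 S))) ((yon S).map (Over.homMk U.hom : U ⟶ Over.mk (𝟙 S)))
  obtain ⟨w, hw⟩ := (yon S).map_surjective (sqW.lift ((yon S).map t) ((yon S).map s) (by
    rw [← Functor.map_comp, ← Functor.map_comp]
    exact congrArg (yon S).map (Over.OverMorphism.ext (by simp [Over.w]))))
  have hwp : w ≫ p = t := (yon S).map_injective (by rw [Functor.map_comp, hw, sqW.lift_fst])
  have hwq : w ≫ q = s := (yon S).map_injective (by rw [Functor.map_comp, hw, sqW.lift_snd])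
  have : Mono w := ⟨fun {T} g₁ g₂ e => (yon S).map_injective (sq.hom_ext
    (by rw [← Functor.map_comp, ← Functor.map_comp, ← hwp, ← Category.assoc, e, Category.assoc])
    (by rw [← Functor.map_comp, ← Functor.map_comp, ← hwq, ← Category.assoc, e, Category.assoc]))⟩
  have : Mono w.left := Groth.Agent.SpFP87.mono_left_of_mono w
  have hs := isPullback_left_of_yon sqW
  have : AlgebraicGeometry.IsSeparated q.left := MorphismProperty.of_isPullback
    (P := @AlgebraicGeometry.IsSeparated) hs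
      (show AlgebraicGeometry.IsSeparated (Over.homMk U.hom : U ⟶ Over.mk (𝟙 S)).left from
        (inferInstance : AlgebraicGeometry.IsSeparated U.hom))
  rw [← hwq, Over.comp_left]
  infer_instance

theorem closure_inter_subset_of_finite {R V : Scheme.{u}} (g : R ⟶ V) [AlgebraicGeometry.IsSeparated g]
    (K : R.Opens) (D : V.Opens) (hfin : IsFinite ((K.ι ≫ g) ∣_ D)) :
    closure (K : Set R) ∩ (g ⁻¹' (D : Set V)) ⊆ K := by
  rw [morphismRestrict_comp] at hfin
  let ι' := K.ι ∣_ (g ⁻¹ᵁ D)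
  have : AlgebraicGeometry.IsSeparated (g ∣_ D) := MorphismProperty.of_isPullback (P := @AlgebraicGeometry.IsSeparated)
    (isPullback_morphismRestrict g D).flip ‹_›
  have : IsFinite (ι' ≫ g ∣_ D) := hfin
  have hι : IsFinite ι' := IsFinite.of_comp ι' (g ∣_ D)
  have hrange : Set.range ι' = (g ⁻¹ᵁ D).ι ⁻¹' (K : Set R) := by
    ext x
    constructor
    · rintro ⟨z, rfl⟩
      show ((K.ι ∣_ (g ⁻¹ᵁ D)) z).1 ∈ K
      rw [morphismRestrict_base_coe]
      exact z.1.2
    · intro hx
      exact ⟨⟨⟨x.1, hx⟩, x.2⟩, Subtype.ext (morphismRestrict_base_coe _ _ _)⟩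
  rintro x ⟨hx, hxD⟩
  have hcl : IsClosed ((g ⁻¹ᵁ D).ι ⁻¹' (K : Set R)) := hrange ▸ ι'.isClosedMap.isClosed_range
  have : (⟨x, hxD⟩ : (g ⁻¹ᵁ D).toScheme) ∈ closure ((g ⁻¹ᵁ D).ι ⁻¹' (K : Set R)) := by
    rw [← (g ⁻¹ᵁ D).ι.isOpenEmbedding.isOpenMap.preimage_closure_eq_closure_preimage (g ⁻¹ᵁ D).ι.continuous]
    exact hx
  exact hcl.closure_eq.le this

variable {X : Space S}

/-- An affine chart whose relation is finite over an open gives an open subscheme around its image. -/
theorem exists_open_subscheme_of_finite_chart {U : Over S} [IsAffine U.left] {a : (yon S).obj U ⟶ X.obj}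
    (ha : RepWith @Etale a) {R : Over S} {t s : R ⟶ U}
    (sq : IsPullback ((yon S).map t) ((yon S).map s) a a) (O : U.left.Opens) (hfin : IsFinite (s.left ∣_ O)) :
    ∃ (M : Over S) (j : (yon S).obj M ⟶ X.obj), RepWith @IsOpenImmersion j ∧
      Points.ofPt a '' (O : Set ↥U.left) ⊆ Set.range (Points.ofPt j) := by
  let US : Space S := ⟨(yon S).obj U, IsAlgSpace.yon_obj U⟩
  let D : Over S := Over.mk (O.ι ≫ U.hom)
  let jO : D ⟶ U := Over.homMk O.ι rfl
  let R' : Over S := Over.mk ((s.left ⁻¹ᵁ O).ι ≫ R.hom)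
  let c : R' ⟶ R := Over.homMk (s.left ⁻¹ᵁ O).ι rfl
  let s' : R' ⟶ D := Over.homMk (s.left ∣_ O) (by
    show (s.left ∣_ O) ≫ O.ι ≫ U.hom = (s.left ⁻¹ᵁ O).ι ≫ R.hom
    rw [morphismRestrict_ι_assoc, Over.w s])
  have sqO : IsPullback c s' s jO :=
    IsPullback.of_map (Over.forget S) (Over.OverMorphism.ext (morphismRestrict_ι s.left O).symm)
      (isPullback_morphismRestrict s.left O).flip
  have sqA := IsPullback.of_hasPullback a a
  let e := sq.isoPullback
  have he : e.hom ≫ pullback.snd a a = (yon S).map s := sq.isoPullback_hom_snd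
  have sqE : IsPullback ((yon S).map c ≫ e.hom) ((yon S).map s') (pullback.snd a a) ((yon S).map jO) :=
    (sqO.map (yon S)).paste_horiz (IsPullback.of_horiz_isIso ⟨by rw [he, Category.comp_id]⟩) |>.of_iso
      (Iso.refl _) (Iso.refl _) (Iso.refl _) (Iso.refl _) (by simp) (by simp) (by simp) (by simp)
  have hPD : IsFiniteMor (pullback.snd (pullback.snd a a) ((yon S).map jO)) := by
    refine (isFiniteMor_iff _).2 ?_
    rw [← MorphismProperty.cancel_left_of_respectsIso (RepWith @IsFinite) sqE.isoPullback.hom,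
      sqE.isoPullback_hom_snd]
    exact (repWith_yon_map_iff (@IsFinite : MorphismProperty Scheme.{u}) s').2 hfin
  obtain ⟨Y', X', j, fst, snd, h1, h2, h3, h4⟩ :=
    exists_open_finite_descent (X := US) (ObjectProperty.homMk a) ha O hPD
  obtain ⟨W, i, fW, sqW⟩ := h1.rep a
  have hi : IsOpenImmersion i.left := h1.property a fW i sqW
  have hW : IsFiniteMor fW := by
    have h4' := (isFiniteMor_iff fst.hom).1 h4
    refine (isFiniteMor_iff fW).2 ?_
    rw [← sqW.isoIsPullback_hom_fst _ _ h3, MorphismProperty.cancel_left_of_respectsIso (RepWith @IsFinite)]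
    exact h4'
  have hWf := (isFiniteMor_iff fW).1 hW
  have hWe : RepWith @Etale fW := (repWith_isStableUnderBaseChange _).of_isPullback sqW.flip ha
  have hWs : RepWith @Surjective fW := repWith_surjective_of_surjective_ofPt hWe.1 fun y => by
    obtain ⟨d, hd⟩ := h2.le ⟨y, rfl⟩
    obtain ⟨w, hw, -⟩ := exists_of_isPullback sqW y (Points.ofScheme U (O.ι d)) (by
      rw [← Points.ofPt_eq_map_ofScheme, ← hd, ofPt_comp]
      rfl)
    exact ⟨Points.toScheme W w, by rw [Points.ofPt_eq_map_ofScheme, Points.ofScheme_toScheme, hw]⟩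
  obtain ⟨Q, t', s'', sqQ⟩ := exists_isPullback_yon Y'.property.diag fW fW
  have : Etale s''.left := etale_snd_of_isPullback sqQ hWe
  have : IsFinite s''.left := hWf.property fW _ s'' sqQ
  have hU : ∀ A : Set ↥W.left, A.Finite → ∃ V : W.left.Opens, IsAffineOpen V ∧ A ⊆ (V : Set ↥W.left) := by
    intro A hA
    obtain ⟨r, hr, hAr⟩ := Grpd80.exists_basicOpen_of_finite (isAffineOpen_top U.left) (O := i.left.opensRange)
      (hA.image i.left) (fun _ _ => trivial) (by rintro _ ⟨w, -, rfl⟩; exact ⟨w, rfl⟩)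
    refine ⟨i.left ⁻¹ᵁ U.left.basicOpen r, ?_, fun w hw => hAr ⟨w, hw, rfl⟩⟩
    rw [← Scheme.Hom.isAffineOpen_iff_of_isOpenImmersion i.left, Scheme.Hom.image_preimage_eq_opensRange_inf,
      inf_eq_right.2 hr]
    exact (isAffineOpen_top U.left).basicOpen r
  obtain ⟨M, ⟨e'⟩⟩ := exists_iso_of_finLocFree_cover (locLift_of_atlas hWe hWs) sqQ hU
  refine ⟨M, e'.hom ≫ j.hom, (MorphismProperty.cancel_left_of_respectsIso (RepWith @IsOpenImmersion) _ _).2 h1, ?_⟩
  rintro _ ⟨u, hu, rfl⟩
  obtain ⟨y, hy⟩ : Points.ofPt a u ∈ Set.range (Points.map j.hom) :=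
    h2.ge ⟨(⟨u, hu⟩ : O.toScheme), by rw [ofPt_comp]; rfl⟩
  refine ⟨Points.toScheme M (Points.map e'.inv y), ?_⟩
  rw [Points.ofPt_eq_map_ofScheme, Points.ofScheme_toScheme, ← Points.map_comp, Iso.inv_hom_id_assoc, hy]

theorem exists_finite_restrict_at {R U : Scheme.{u}} [IsAffine U] (s : R ⟶ U) [Etale s]
    [AlgebraicGeometry.IsSeparated s] {u : U} (hu : ∀ w : U, w ⤳ u → w = u) (O : U.Opens) (huO : u ∈ O)
    (K : R.Opens) (hK : IsCompact (K : Set R)) (hfin : (s ⁻¹' {u}).Finite) :
    ∃ O' : U.Opens, IsCompact (O' : Set U) ∧ u ∈ O' ∧ O' ≤ O ∧ IsFinite ((K.ι ≫ s) ∣_ O') := by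
  have : CompactSpace ↥K.toScheme := isCompact_iff_compactSpace.1 hK
  have : QuasiCompact (K.ι ≫ s) := (quasiCompact_iff_compactSpace _).2 inferInstance
  have : QuasiSeparated (K.ι ≫ s) := by
    have : QuasiSeparatedSpace ↥K.toScheme := quasiSeparatedSpace_of_quasiSeparated (K.ι ≫ s)
    exact QuasiSeparated.of_quasiSeparatedSpace _
  obtain ⟨D, -, huD, hD⟩ := (S2080.result (K.ι ≫ s) u (Norm57.isMax'_iff.1 hu)).1
    ((hfin.preimage K.ι.injective.injOn).subset fun z hz => hz)
  obtain ⟨O', hO', huO', hle⟩ := exists_isAffineOpen_mem_and_subset (x := u) (U := O ⊓ D) ⟨huO, huD⟩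
  exact ⟨O', hO'.isCompact, huO', hle.trans inf_le_left,
    isFinite_restrict_le _ (hle.trans inf_le_right) hD⟩

theorem exists_maximal_mem {U : Scheme.{u}} {A : Set U} (hA : IsOpen A) (h : A.Nonempty) :
    ∃ v ∈ A, ∀ w : U, w ⤳ v → w = v := by
  obtain ⟨z, hz⟩ := h
  obtain ⟨v, hvz, hv⟩ := VarGal.exists_maximal_generization_top z
  exact ⟨v, hvz.mem_open hA hz, hv⟩

/-- An etale separated morphism with finite fibres to an affine scheme is finite over an open inside any
nonempty open. -/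
theorem exists_finite_restrict_of_finite_fibres {R U : Scheme.{u}} [IsAffine U] (s : R ⟶ U) [Etale s]
    [AlgebraicGeometry.IsSeparated s] (hfib : ∀ u : U, (s ⁻¹' {u}).Finite) (G : U.Opens) (hG : (G : Set U).Nonempty) :
    ∃ O : U.Opens, (O : Set U).Nonempty ∧ O ≤ G ∧ IsFinite (s ∣_ O) := by
  classical
  by_contra H
  push Not at H
  let Good : ℕ → U.Opens × R.Opens → Prop := fun n p => (p.1 : Set U).Nonempty ∧ IsCompact (p.1 : Set U) ∧
    p.1 ≤ G ∧ IsCompact (p.2 : Set R) ∧ closure (p.2 : Set R) ∩ (s ⁻¹' (p.1 : Set U)) ⊆ p.2 ∧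
    ∀ u ∈ p.1, ∃ T : Finset R, T.card = n ∧ ∀ r ∈ T, r ∈ p.2 ∧ s r = u
  have base : ∃ p, Good 0 p := by
    obtain ⟨z, hz⟩ := hG
    obtain ⟨O, hO, hzO, hle⟩ := exists_isAffineOpen_mem_and_subset (x := z) (U := G) hz
    refine ⟨(O, ⊥), ⟨z, hzO⟩, hO.isCompact, hle, by simp, by simp, fun u _ => ⟨∅, rfl, by simp⟩⟩
  have step : ∀ n p, Good n p → ∃ p', Good (n + 1) p' ∧ p'.1 ≤ p.1 := by
    rintro n ⟨O, K⟩ ⟨hne, hOc, hOG, hKc, hcl, hcount⟩
    let C : R.Opens := ⟨(s ⁻¹' (O : Set U)) \ closure (K : Set R), (O.isOpen.preimage s.continuous).sdiff isClosed_closure⟩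
    by_cases hC : (C : Set R).Nonempty
    swap
    · exfalso
      obtain ⟨v, hv, hvm⟩ := exists_maximal_mem O.isOpen hne
      obtain ⟨O', -, hvO', hle, hf⟩ := exists_finite_restrict_at s hvm O hv K hKc (hfib v)
      refine H O' ⟨v, hvO'⟩ (hle.trans hOG) (preimage_le_and_finite_of_open s K O' hf fun m _ hm => ?_).2
      refine hcl ⟨?_, hle hm⟩
      by_contra hm'
      exact hC ⟨m, hle hm, hm'⟩
    obtain ⟨r₀, hr₀⟩ := hC
    obtain ⟨v, ⟨r, hr, rfl⟩, hv⟩ := exists_maximal_mem (s.isOpenMap _ C.isOpen) ⟨_, r₀, hr₀, rfl⟩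
    obtain ⟨L, hL, hrL, hLC⟩ := exists_isAffineOpen_mem_and_subset (x := r) (U := C) hr
    let sL : U.Opens := ⟨s '' (L : Set R), s.isOpenMap _ L.isOpen⟩
    have hKL : IsCompact ((K ⊔ L : R.Opens) : Set R) := by
      rw [TopologicalSpace.Opens.coe_sup]; exact hKc.union hL.isCompact
    obtain ⟨O', hO'c, hrO', hle, hf⟩ := exists_finite_restrict_at s hv (O ⊓ sL) ⟨hr.1, r, hrL, rfl⟩ (K ⊔ L) hKL (hfib _)
    refine ⟨(O', K ⊔ L), ⟨⟨s r, hrO'⟩, hO'c, (hle.trans inf_le_left).trans hOG, hKL,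
      closure_inter_subset_of_finite s (K ⊔ L) O' hf, fun u hu => ?_⟩, hle.trans inf_le_left⟩
    obtain ⟨T, hT, hTu⟩ := hcount u (hle hu).1
    obtain ⟨l, hl, rfl⟩ := (hle hu).2
    refine ⟨insert l T, ?_, fun r' hr' => ?_⟩
    · rw [Finset.card_insert_of_notMem (fun h => (hLC hl).2 (subset_closure (hTu l h).1)), hT]
    · rcases Finset.mem_insert.1 hr' with rfl | h
      · exact ⟨Or.inr hl, rfl⟩
      · exact ⟨Or.inl (hTu _ h).1, (hTu _ h).2⟩
  choose next hnext hnext' using step
  let seq : ∀ n, {p : U.Opens × R.Opens // Good n p} := fun n =>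
    n.rec ⟨base.choose, base.choose_spec⟩ fun n p => ⟨next n p.1 p.2, hnext n p.1 p.2⟩
  have hdec : ∀ n, (seq (n + 1)).1.1 ≤ (seq n).1.1 := fun n => hnext' n _ _
  let t : ℕ → Set (WithConstructibleTopology U) := fun n => WithTopology.ofTopology ⁻¹' ((seq n).1.1 : Set U)
  have htc : ∀ n, IsClosed (t n) := fun n => by
    rw [WithConstructibleTopology.isClosed_iff]
    refine @IsClosed.mk U (constructibleTopology U) _ ?_
    refine IsCompact.isOpen_constructibleTopology_of_isClosed ?_ (seq n).1.1.isOpen.isClosed_compl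
    rw [compl_compl]
    exact (seq n).2.2.1
  obtain ⟨u', hu'⟩ := IsCompact.nonempty_iInter_of_sequence_nonempty_isCompact_isClosed t
    (fun n u hu => hdec n hu) (fun n => by
      obtain ⟨u, hu⟩ := (seq n).2.1
      exact ⟨WithTopology.toTopology _ u, hu⟩) ((htc 0).isCompact) htc
  rw [Set.mem_iInter] at hu'
  let u : U := WithTopology.ofTopology u'
  have hu : ∀ n, u ∈ (seq n).1.1 := hu'
  obtain ⟨T, hT, hTu⟩ := (seq ((hfib u).toFinset.card + 1)).2.2.2.2.2.2 u (hu _)
  have h := Finset.card_le_card (s := T) (t := (hfib u).toFinset) (fun r hr => (hfib u).mem_toFinset.2 (hTu r hr).2)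
  omega

theorem finite_relation_fibre_of_finite {U : Over S} {a : (yon S).obj U ⟶ X.obj} {R : Over S} {t s : R ⟶ U}
    (sq : IsPullback ((yon S).map t) ((yon S).map s) a a) {u : ↥U.left}
    (h : (Points.ofPt ((yon S).map t ≫ a) ⁻¹' {Points.ofPt a u}).Finite) : (s.left ⁻¹' {u}).Finite :=
  h.subset fun r hr => by
    show Points.ofPt ((yon S).map t ≫ a) r = Points.ofPt a u
    rw [sq.w, ofPt_comp, show s.left r = u from hr]

/-- A space all of whose affine charts have relations with finite fibres has a dense open subscheme. -/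
theorem exists_dense_open_subscheme (X : Space S)
    (H : ∀ (G : Set (Points X.obj)), IsOpen G → G.Nonempty →
      ∃ (U : Over S) (a : (yon S).obj U ⟶ X.obj) (R : Over S) (t s : R ⟶ U), IsAffine U.left ∧ RepWith @Etale a ∧
        IsPullback ((yon S).map t) ((yon S).map s) a a ∧ (Points.ofPt a ⁻¹' G).Nonempty ∧
        ∀ u : ↥U.left, (s.left ⁻¹' {u}).Finite) :
    ∃ (X' : Space S) (j : X' ⟶ X), RepWith @IsOpenImmersion j.hom ∧ X'.obj.obj.IsRepresentable ∧
      Dense (Set.range (Points.map j.hom)) := by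
  obtain ⟨X', j, hj, hrep, hmax⟩ := S10197.result X
  refine ⟨X', j, hj, hrep, dense_iff_inter_open.2 fun G hG hne => ?_⟩
  obtain ⟨U, a, R, t, s, hU, ha, sq, hnU, hfib⟩ := H G hG hne
  have := hU
  have : Etale s.left := etale_snd_of_isPullback sq ha
  have := isSeparated_relation sq
  obtain ⟨O, ⟨u, huO⟩, hOG, hO⟩ := exists_finite_restrict_of_finite_fibres s.left hfib
    ⟨_, hG.preimage (Points.continuous_ofPt a)⟩ hnU
  obtain ⟨M, jM, hjM, hsub⟩ := exists_open_subscheme_of_finite_chart ha sq O hO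
  obtain ⟨k, hk⟩ := hmax ⟨(yon S).obj M, IsAlgSpace.yon_obj M⟩ (ObjectProperty.homMk jM) hjM
    (isRepresentable_of_iso (Iso.refl _))
  obtain ⟨m, hm⟩ := hsub ⟨u, huO, rfl⟩
  have hk' : k.hom ≫ j.hom = jM := congrArg (fun f => f.hom) hk
  refine ⟨Points.ofPt a u, hOG huO, Points.map k.hom (Points.ofScheme M m), ?_⟩
  rw [← Points.map_comp, hk', ← Points.ofPt_eq_map_ofScheme, hm]

theorem exists_dense_open_subscheme_of_isDecent (X : Space S) (hX : IsDecent X.obj) :
    ∃ (X' : Space S) (j : X' ⟶ X), RepWith @IsOpenImmersion j.hom ∧ X'.obj.obj.IsRepresentable ∧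
      Dense (Set.range (Points.map j.hom)) := by
  refine exists_dense_open_subscheme X fun G hG hne => ?_
  obtain ⟨x, hx⟩ := hne
  obtain ⟨U, a, hU, ha, hxa⟩ := exists_affine_chart_containing X.property {x} (Set.finite_singleton x)
  have := hU
  obtain ⟨u, hu⟩ := hxa rfl
  obtain ⟨R, t, s, sq⟩ := exists_isPullback_yon X.property.diag a a
  refine ⟨U, a, R, t, s, hU, ha, sq, ⟨u, show Points.ofPt a u ∈ G by rw [hu]; exact hx⟩, fun v => ?_⟩
  exact finite_relation_fibre_of_finite sq ((finite_fibres_of_isDecent X.property hX ha _).2 R s t sq)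

theorem exists_dense_open_subscheme_of_finite_cover (X : Space S) {U : Over S}
    (a : (yon S).obj U ⟶ X.obj) (hf : RepWith @IsFinite a) (he : RepWith @Etale a) (hs : RepWith @Surjective a) :
    ∃ (X' : Space S) (j : X' ⟶ X), RepWith @IsOpenImmersion j.hom ∧ X'.obj.obj.IsRepresentable ∧
      Dense (Set.range (Points.map j.hom)) := by
  refine exists_dense_open_subscheme X fun G hG hne => ?_
  obtain ⟨x, hx⟩ := hne
  obtain ⟨u, hu⟩ := surjective_ofPt hs x
  obtain ⟨O, hO, huO, hb⟩ := exists_affine_subchart he u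
  let V : Over S := Over.mk (O.ι ≫ U.hom)
  let jV : V ⟶ U := Over.homMk O.ι rfl
  obtain ⟨R, t, s, sq⟩ := exists_isPullback_yon X.property.diag ((yon S).map jV ≫ a) ((yon S).map jV ≫ a)
  obtain ⟨R₀, t₀, s₀, sq₀⟩ := exists_isPullback_yon X.property.diag a a
  have : IsFinite s₀.left := hf.property a ((yon S).map t₀) s₀ sq₀
  obtain ⟨d, hd⟩ := (yon S).map_surjective (sq₀.lift ((yon S).map (t ≫ jV)) ((yon S).map (s ≫ jV))
    (by rw [Functor.map_comp, Functor.map_comp, Category.assoc, Category.assoc, sq.w]))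
  refine ⟨V, _, R, t, s, hO, hb, sq,
    ⟨(⟨u, huO⟩ : O.toScheme), show Points.ofPt _ _ ∈ G by rw [ofPt_comp]; exact hu ▸ hx⟩, fun v => ?_⟩
  have : Mono jV.left := inferInstanceAs (Mono O.ι)
  have : Mono jV := (Over.forget S).mono_of_mono_map (inferInstanceAs (Mono jV.left))
  have h1 : d ≫ t₀ = t ≫ jV := (yon S).map_injective (by rw [Functor.map_comp, hd, sq₀.lift_fst])
  have h2 : d ≫ s₀ = s ≫ jV := (yon S).map_injective (by rw [Functor.map_comp, hd, sq₀.lift_snd])
  have : Mono d := ⟨fun {T} g₁ g₂ e => by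
    have e1 : g₁ ≫ t = g₂ ≫ t := by
      rw [← cancel_mono jV, Category.assoc, Category.assoc, ← h1, ← Category.assoc, e, Category.assoc]
    have e2 : g₁ ≫ s = g₂ ≫ s := by
      rw [← cancel_mono jV, Category.assoc, Category.assoc, ← h2, ← Category.assoc, e, Category.assoc]
    exact (yon S).map_injective (sq.hom_ext (by rw [← Functor.map_comp, e1, Functor.map_comp])
      (by rw [← Functor.map_comp, e2, Functor.map_comp]))⟩
  have : Mono d.left := Groth.Agent.SpFP87.mono_left_of_mono d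
  refine ((s₀.left.finite_preimage_singleton (jV.left v)).preimage (injective_of_mono d.left).injOn).subset fun r hr => ?_
  show s₀.left (d.left r) = jV.left v
  rw [← Scheme.Hom.comp_apply, ← Over.comp_left, h2, Over.comp_left, Scheme.Hom.comp_apply, show s.left r = v from hr]

/-- If the relation of an affine chart is quasi-compact with finite fibre at a maximal point, the point
lies in an open subscheme. -/
theorem exists_open_subscheme_at_maximal {U : Over S} [IsAffine U.left] {a : (yon S).obj U ⟶ X.obj}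
    (ha : RepWith @Etale a) {R : Over S} {t s : R ⟶ U}
    (sq : IsPullback ((yon S).map t) ((yon S).map s) a a) [QuasiCompact s.left] {u : ↥U.left}
    (hu : ∀ w : ↥U.left, w ⤳ u → w = u) :
    ∃ (M : Over S) (j : (yon S).obj M ⟶ X.obj), RepWith @IsOpenImmersion j ∧
      Points.ofPt a u ∈ Set.range (Points.ofPt j) := by
  have : Etale s.left := etale_snd_of_isPullback sq ha
  have : AlgebraicGeometry.IsSeparated s.left := isSeparated_relation sq
  have : QuasiSeparated s.left := inferInstance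
  have : LocallyQuasiFinite s.left := etale_locallyQuasiFinite s.left ‹_›
  obtain ⟨D, -, huD, hD⟩ := (S2080.result s.left u (Norm57.isMax'_iff.1 hu)).1 (s.left.finite_preimage_singleton u)
  obtain ⟨M, j, hj, hsub⟩ := exists_open_subscheme_of_finite_chart ha sq D hD
  exact ⟨M, j, hj, hsub ⟨u, huD, rfl⟩⟩

/-- The relation of an affine chart of a quasi-separated space lying over an affine open of the base is
quasi-compact. -/
theorem quasiCompact_relation_of_qs (hX : IsQuasiSeparatedSp X.obj) {U : Over S} [IsAffine U.left]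
    {W₀ : S.Opens} (hW₀ : IsAffineOpen W₀) (u₀ : U.left ⟶ W₀.toScheme) (hu₀ : u₀ ≫ W₀.ι = U.hom)
    {a : (yon S).obj U ⟶ X.obj} {R : Over S} {t s : R ⟶ U}
    (sq : IsPullback ((yon S).map t) ((yon S).map s) a a) : QuasiCompact s.left := by
  have : IsAffine W₀.toScheme := hW₀
  let π : U ⟶ Over.mk (𝟙 S) := Over.homMk U.hom
  obtain ⟨W, p, q, sqW⟩ := exists_isPullback_yon (IsAlgSpace.yon_obj (Over.mk (𝟙 S))).diag
    ((yon S).map π) ((yon S).map π)
  have hWaff : IsAffine W.left := by
    have hs : IsPullback p.left q.left (u₀ ≫ W₀.ι) (u₀ ≫ W₀.ι) := by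
      rw [hu₀]; exact isPullback_left_of_yon sqW
    exact isAffine_pullback_of_fac u₀ u₀ W₀.ι hs
  let β : (yon S).obj W ⟶ X.obj ⨯ X.obj := prod.lift ((yon S).map p ≫ a) ((yon S).map q ≫ a)
  obtain ⟨Q, c, e₀, sqS⟩ := hX.rep β
  have : QuasiCompact c.left := hX.property β e₀ c sqS
  have : CompactSpace ↥Q.left := QuasiCompact.compactSpace_of_compactSpace c.left
  have hd1 : Limits.diag X.obj ≫ prod.fst = 𝟙 X.obj := prod.lift_fst _ _
  have hd2 : Limits.diag X.obj ≫ prod.snd = 𝟙 X.obj := prod.lift_snd _ _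
  have hs1 : e₀ = (yon S).map (c ≫ p) ≫ a := by
    have := congrArg (· ≫ prod.fst) sqS.w
    simp only [Category.assoc, hd1, Category.comp_id, β, prod.lift_fst] at this
    rw [this, Functor.map_comp, Category.assoc]
  have hs2 : e₀ = (yon S).map (c ≫ q) ≫ a := by
    have := congrArg (· ≫ prod.snd) sqS.w
    simp only [Category.assoc, hd2, Category.comp_id, β, prod.lift_snd] at this
    rw [this, Functor.map_comp, Category.assoc]
  obtain ⟨e, he⟩ := (yon S).map_surjective (sq.lift ((yon S).map (c ≫ p)) ((yon S).map (c ≫ q))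
    (hs1.symm.trans hs2))
  obtain ⟨w, hw⟩ := (yon S).map_surjective (sqW.lift ((yon S).map t) ((yon S).map s) (by
    rw [← Functor.map_comp, ← Functor.map_comp]
    exact congrArg (yon S).map (Over.OverMorphism.ext (by simp [π, Over.w]))))
  obtain ⟨e', he'⟩ := (yon S).map_surjective (sqS.lift ((yon S).map t ≫ a) ((yon S).map w) (by
    apply Limits.prod.hom_ext
    · simp only [Category.assoc, hd1, Category.comp_id, β, prod.lift_fst]
      rw [← Category.assoc, hw, sqW.lift_fst]
    · simp only [Category.assoc, hd2, Category.comp_id, β, prod.lift_snd]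
      rw [← Category.assoc, hw, sqW.lift_snd, sq.w]))
  have hee : e' ≫ e = 𝟙 R := (yon S).map_injective (by
    rw [Functor.map_comp, he, (yon S).map_id]
    have h1 : (yon S).map e' ≫ (yon S).map c = (yon S).map w := by rw [he', sqS.lift_snd]
    apply sq.hom_ext
    · rw [Category.assoc, sq.lift_fst, Category.id_comp, Functor.map_comp, ← Category.assoc, h1, hw,
        sqW.lift_fst]
    · rw [Category.assoc, sq.lift_snd, Category.id_comp, Functor.map_comp, ← Category.assoc, h1, hw,
        sqW.lift_snd])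
  have hsurj : Function.Surjective e.left := fun x => ⟨e'.left x, by
    rw [← Scheme.Hom.comp_apply, ← Over.comp_left, hee]; rfl⟩
  have : CompactSpace ↥R.left := hsurj.compactSpace e.left.continuous
  exact (quasiCompact_iff_compactSpace s.left).2 inferInstance

/-- A point of codimension zero of a quasi-separated space lies in an open subscheme. -/
theorem exists_open_subscheme_nhd_codimZero (hX : IsQuasiSeparatedSp X.obj) (x : Points X.obj)
    (hx : HasAt (fun U u => ringKrullDim ↥(U.presheaf.stalk u) = 0) X.obj x) :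
    ∃ (M : Over S) (j : (yon S).obj M ⟶ X.obj), RepWith @IsOpenImmersion j ∧
      x ∈ Set.range (Points.ofPt j) := by
  obtain ⟨U₀, a₀, ha₀, has₀⟩ := X.property.atlas
  obtain ⟨u, rfl⟩ := surjective_ofPt has₀ x
  obtain ⟨W₀, hW₀, huW₀, -⟩ := exists_isAffineOpen_mem_and_subset (x := U₀.hom u) (U := ⊤) trivial
  obtain ⟨O, hO, huO, hle⟩ := exists_isAffineOpen_mem_and_subset (x := u) (U := U₀.hom ⁻¹ᵁ W₀) huW₀
  let U : Over S := Over.mk (O.ι ≫ U₀.hom)
  let jU : U ⟶ U₀ := Over.homMk O.ι rfl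
  have : IsAffine U.left := hO
  let a := (yon S).map jU ≫ a₀
  have : Etale jU.left := inferInstanceAs (Etale O.ι)
  have ha : RepWith @Etale a := repWith_etale_comp jU ha₀
  obtain ⟨R, t, s, sq⟩ := exists_isPullback_yon X.property.diag a a
  let u₀ : U.left ⟶ W₀.toScheme := U₀.hom.resLE W₀ O hle
  have := quasiCompact_relation_of_qs hX hW₀ u₀ (Scheme.Hom.resLE_comp_ι _ _) sq
  have hau : Points.ofPt a (⟨u, huO⟩ : O.toScheme) = Points.ofPt a₀ u := by
    rw [ofPt_comp]; rfl
  rw [← hau]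
  exact exists_open_subscheme_at_maximal ha sq (maximal_of_codimZero ha hau hx)

/-- The union of the open subschemes contains every point lying in one of them. -/
theorem exists_open_subscheme_containing (X : Space S) (T : Set (Points X.obj))
    (H : ∀ x ∈ T, ∃ (M : Over S) (j : (yon S).obj M ⟶ X.obj), RepWith @IsOpenImmersion j ∧
      x ∈ Set.range (Points.ofPt j)) :
    ∃ (X' : Space S) (j : X' ⟶ X), RepWith @IsOpenImmersion j.hom ∧ X'.obj.obj.IsRepresentable ∧
      T ⊆ Set.range (Points.map j.hom) := by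
  obtain ⟨X', j, hj, hrep, hmax⟩ := S10197.result X
  refine ⟨X', j, hj, hrep, fun x hx => ?_⟩
  obtain ⟨M, jM, hjM, m, rfl⟩ := H x hx
  obtain ⟨k, hk⟩ := hmax ⟨(yon S).obj M, IsAlgSpace.yon_obj M⟩ (ObjectProperty.homMk jM) hjM
    (isRepresentable_of_iso (Iso.refl _))
  have hk' : k.hom ≫ j.hom = jM := congrArg (fun f => f.hom) hk
  refine ⟨Points.map k.hom (Points.ofScheme M m), ?_⟩
  rw [← Points.map_comp, hk', ← Points.ofPt_eq_map_ofScheme]

theorem hasAt_codimZero_dense (X : Space S) {j : Set (Points X.obj)}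
    (h : {x : Points X.obj | HasAt (fun U u => ringKrullDim ↥(U.presheaf.stalk u) = 0) X.obj x} ⊆ j) : Dense j :=
  (dense_codimZero X.property).mono h

theorem exists_open_subscheme_codimZero_of_zarQS (X : Space S) {ι : Type u} (Xi : ι → Space S)
    (j : ∀ i, Xi i ⟶ X) (hc : IsZarCover (fun i => (Xi i).obj) (fun i => (j i).hom))
    (hq : ∀ i, IsQuasiSeparatedSp (Xi i).obj) :
    ∃ (X' : Space S) (j' : X' ⟶ X), RepWith @IsOpenImmersion j'.hom ∧ X'.obj.obj.IsRepresentable ∧
      {x : Points X.obj | HasAt (fun U u => ringKrullDim ↥(U.presheaf.stalk u) = 0) X.obj x} ⊆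
        Set.range (Points.map j'.hom) := by
  refine exists_open_subscheme_containing X _ fun x hx => ?_
  obtain ⟨U, a, u, ha, hau, hu⟩ := hx
  obtain ⟨i, z, hz⟩ := hc.2 x
  obtain ⟨W, k, fW, sqW⟩ := (hc.1 i).rep a
  have hk : IsOpenImmersion k.left := (hc.1 i).property a fW k sqW
  obtain ⟨w, hw1, hw2⟩ := exists_of_isPullback sqW z (Points.ofScheme U u)
    (by rw [hz, ← Points.ofPt_eq_map_ofScheme, hau])
  obtain ⟨w', rfl⟩ : ∃ w', Points.ofScheme W w' = w := ⟨_, Points.ofScheme_toScheme W _⟩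
  have hfW : RepWith @Etale fW := (repWith_isStableUnderBaseChange _).of_isPullback sqW.flip ha
  have hwu : k.left w' = u := by
    refine ((Points.toScheme_ofScheme U _).symm.trans (congrArg (Points.toScheme U) ?_)).trans (Points.toScheme_ofScheme U u)
    rw [← hw2, Points.map_ofPt, Category.id_comp, ofPt_yon_map]
  have hzc : HasAt (fun U u => ringKrullDim ↥(U.presheaf.stalk u) = 0) (Xi i).obj z := by
    refine ⟨W, fW, w', hfW, ?_, ?_⟩
    · rw [← hw1, Points.ofPt_eq_map_ofScheme]
    · show ringKrullDim ↥(W.left.presheaf.stalk w') = 0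
      rw [ringKrullDim_stalk_etale k.left w', hwu]
      exact hu
  obtain ⟨M, jM, hjM, m, hm⟩ := exists_open_subscheme_nhd_codimZero (hq i) z hzc
  exact ⟨M, jM ≫ (j i).hom, MorphismProperty.comp_mem _ _ _ hjM (hc.1 i), m, by
    rw [← Points.map_ofPt, hm]; exact hz⟩

/-- A quotient of a quasi-separated scheme by a finite etale map has an open subscheme containing the
codimension zero points. -/
theorem exists_open_subscheme_codimZero_of_finite_cover (X : Space S) {U : Over S} [QuasiSeparatedSpace ↥U.left]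
    (a : (yon S).obj U ⟶ X.obj) (hf : RepWith @IsFinite a) (he : RepWith @Etale a) (hs : RepWith @Surjective a) :
    ∃ (X' : Space S) (j' : X' ⟶ X), RepWith @IsOpenImmersion j'.hom ∧ X'.obj.obj.IsRepresentable ∧
      {x : Points X.obj | HasAt (fun U u => ringKrullDim ↥(U.presheaf.stalk u) = 0) X.obj x} ⊆
        Set.range (Points.map j'.hom) := by
  refine exists_open_subscheme_containing X _ fun x hx => ?_
  obtain ⟨u, rfl⟩ := surjective_ofPt hs x
  obtain ⟨O, hO, huO, hb⟩ := exists_affine_subchart he u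
  let V : Over S := Over.mk (O.ι ≫ U.hom)
  let jV : V ⟶ U := Over.homMk O.ι rfl
  have : IsAffine V.left := hO
  obtain ⟨R, t, s, sq⟩ := exists_isPullback_yon X.property.diag ((yon S).map jV ≫ a) ((yon S).map jV ≫ a)
  obtain ⟨R₀, t₀, s₀, sq₀⟩ := exists_isPullback_yon X.property.diag a a
  have : IsFinite s₀.left := hf.property a ((yon S).map t₀) s₀ sq₀
  obtain ⟨d, hd⟩ := (yon S).map_surjective (sq₀.lift ((yon S).map (t ≫ jV)) ((yon S).map (s ≫ jV))
    (by rw [Functor.map_comp, Functor.map_comp, Category.assoc, Category.assoc, sq.w]))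
  have h1 : d ≫ t₀ = t ≫ jV := (yon S).map_injective (by rw [Functor.map_comp, hd, sq₀.lift_fst])
  have h2 : d ≫ s₀ = s ≫ jV := (yon S).map_injective (by rw [Functor.map_comp, hd, sq₀.lift_snd])
  -- `R` is quasi-compact
  let O₂ : R₀.left.Opens := (t₀.left ⁻¹ᵁ O) ⊓ (s₀.left ⁻¹ᵁ O)
  let R' : Over S := Over.mk (O₂.ι ≫ R₀.hom)
  let c : R' ⟶ R₀ := Over.homMk O₂.ι rfl
  have hres : ∀ (f : R₀ ⟶ U), O₂ ≤ f.left ⁻¹ᵁ O → ∃ f' : R' ⟶ V, f' ≫ jV = c ≫ f := fun f hf =>
    ⟨Over.homMk (f.left.resLE O O₂ hf) (by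
        show f.left.resLE O O₂ hf ≫ O.ι ≫ U.hom = O₂.ι ≫ R₀.hom
        rw [Scheme.Hom.resLE_comp_ι_assoc, Over.w f]),
      Over.OverMorphism.ext (Scheme.Hom.resLE_comp_ι _ _)⟩
  obtain ⟨t', ht'⟩ := hres t₀ inf_le_left
  obtain ⟨s', hs'⟩ := hres s₀ inf_le_right
  obtain ⟨g, hg⟩ := (yon S).map_surjective (sq.lift ((yon S).map t') ((yon S).map s') (by
    rw [← Category.assoc, ← Category.assoc, ← Functor.map_comp, ← Functor.map_comp, ht', hs', Functor.map_comp,
      Functor.map_comp, Category.assoc, Category.assoc, sq₀.w]))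
  have hgt : g ≫ t = t' := (yon S).map_injective (by rw [Functor.map_comp, hg, sq.lift_fst])
  have hgs : g ≫ s = s' := (yon S).map_injective (by rw [Functor.map_comp, hg, sq.lift_snd])
  have hrange : ∀ r : ↥R.left, d.left r ∈ O₂ := fun r => by
    constructor
    · show t₀.left (d.left r) ∈ O
      rw [← Scheme.Hom.comp_apply, ← Over.comp_left, h1]; exact (t.left r).2
    · show s₀.left (d.left r) ∈ O
      rw [← Scheme.Hom.comp_apply, ← Over.comp_left, h2]; exact (s.left r).2
  let dlift : R.left ⟶ O₂.toScheme := IsOpenImmersion.lift O₂.ι d.left (by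
    rw [Scheme.Opens.range_ι]; rintro _ ⟨r, rfl⟩; exact hrange r)
  let d' : R ⟶ R' := Over.homMk dlift (by
    show dlift ≫ O₂.ι ≫ R₀.hom = R.hom
    rw [← Category.assoc, IsOpenImmersion.lift_fac, Over.w d])
  have hd' : d' ≫ c = d := Over.OverMorphism.ext (IsOpenImmersion.lift_fac _ _ _)
  have : Mono jV.left := inferInstanceAs (Mono O.ι)
  have : Mono jV := (Over.forget S).mono_of_mono_map (inferInstanceAs (Mono jV.left))
  have hdg : d' ≫ g = 𝟙 R := (yon S).map_injective (sq.hom_ext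
    (by rw [← Functor.map_comp, ← Functor.map_comp, Category.assoc, hgt, Category.id_comp]
        exact congrArg _ ((cancel_mono jV).1 (by rw [Category.assoc, ht', ← Category.assoc, hd', h1])))
    (by rw [← Functor.map_comp, ← Functor.map_comp, Category.assoc, hgs, Category.id_comp]
        exact congrArg _ ((cancel_mono jV).1 (by rw [Category.assoc, hs', ← Category.assoc, hd', h2]))))
  have : QuasiSeparatedSpace ↥R₀.left := quasiSeparatedSpace_of_quasiSeparated s₀.left
  have hA : IsAffineOpen (s₀.left ⁻¹ᵁ O) := IsAffineOpen.preimage (f := s₀.left) hO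
  have hB : IsCompact ((t₀.left ⁻¹ᵁ O : R₀.left.Opens) : Set ↥R₀.left) := by
    have : IsFinite t₀.left := hf.property a ((yon S).map s₀) t₀ sq₀.flip
    exact (IsAffineOpen.preimage (f := t₀.left) hO).isCompact
  have hc2 : IsCompact ((O₂ : R₀.left.Opens) : Set ↥R₀.left) :=
    hB.inter_of_isOpen hA.isCompact (t₀.left ⁻¹ᵁ O).isOpen (s₀.left ⁻¹ᵁ O).isOpen
  have : CompactSpace ↥R'.left := isCompact_iff_compactSpace.1 hc2
  have hsurj : Function.Surjective g.left := fun r => ⟨d'.left r, by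
    rw [← Scheme.Hom.comp_apply, ← Over.comp_left, hdg]; rfl⟩
  have : CompactSpace ↥R.left := hsurj.compactSpace g.left.continuous
  have : QuasiCompact s.left := (quasiCompact_iff_compactSpace s.left).2 inferInstance
  have hau : Points.ofPt ((yon S).map jV ≫ a) (⟨u, huO⟩ : O.toScheme) = Points.ofPt a u := by
    rw [ofPt_comp]; rfl
  rw [← hau]
  exact exists_open_subscheme_at_maximal hb sq (maximal_of_codimZero hb hau hx)

end Groth.Agent.SpProper61
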