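import Groth.Agent.SpProper61.Filtration
import Groth.Agent.SpPts86.DecentLocal

/-!
Elementary etale neighbourhoods form a cofiltered category.
-/

universe u

set_option autoImplicit false
set_option backward.isDefEq.respectTransparency false

open CategoryTheory CategoryTheory.Limits AlgebraicGeometry Topology
open AlgSp Groth.Agent.SpFP87 Groth.Agent.SpPts86

namespace Groth.Agent.SpProper61

variable {S : Scheme.{u}} {X : Space S}

theorem elemNbhd_dominate (x : Points X.obj) {U₁ U₂ : Over S} {a₁ : (yon S).obj U₁ ⟶ X.obj}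
    {a₂ : (yon S).obj U₂ ⟶ X.obj} {u₁ : ↥U₁.left} {u₂ : ↥U₂.left} (h₁ : IsElemEtaleNbhd a₁ u₁ x)
    (h₂ : IsElemEtaleNbhd a₂ u₂ x) :
    ∃ (U : Over S) (a : (yon S).obj U ⟶ X.obj) (v : ↥U.left) (g₁ : U ⟶ U₁) (g₂ : U ⟶ U₂),
      IsElemEtaleNbhd a v x ∧ (yon S).map g₁ ≫ a₁ = a ∧ (yon S).map g₂ ≫ a₂ = a ∧
        g₁.left v = u₁ ∧ g₂.left v = u₂ := by
  have := h₁.mono
  have := h₂.mono
  obtain ⟨e, he⟩ := exists_iso_of_mono_fieldPt (p := FieldPt.ofPt a₂ u₂) (q := FieldPt.ofPt a₁ u₁)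
    (X.property.representable_from_yon _) (h₂.ofPt_eq.trans h₁.ofPt_eq.symm)
  obtain ⟨U, g₁, g₂, sq⟩ := exists_isPullback_yon X.property.diag a₁ a₂
  have hg₁ : Etale g₁.left := etale_snd_of_isPullback sq.flip h₂.etale
  let ι₁ : (FieldPt.ofPt a₁ u₁).pt ⟶ U₁ := Over.homMk (U₁.left.fromSpecResidueField u₁) rfl
  let ι₂ : (FieldPt.ofPt a₂ u₂).pt ⟶ U₂ := Over.homMk (U₂.left.fromSpecResidueField u₂) rfl
  obtain ⟨l, hl⟩ := (yon S).map_surjective (sq.lift ((yon S).map ι₁) ((yon S).map (e.hom ≫ ι₂))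
    (by rw [Functor.map_comp, Category.assoc, ← FieldPt.toHom_ofPt, ← FieldPt.toHom_ofPt, he]))
  have hl₁ : l ≫ g₁ = ι₁ := (yon S).map_injective (by rw [Functor.map_comp, hl, sq.lift_fst])
  have hl₂ : l ≫ g₂ = e.hom ≫ ι₂ := (yon S).map_injective (by rw [Functor.map_comp, hl, sq.lift_snd])
  let p₀ : ↥(Spec (U₁.left.residueField u₁)) := IsLocalRing.closedPoint (U₁.left.residueField u₁)
  have hp₀ : ι₁.left p₀ = u₁ := Scheme.fromSpecResidueField_apply u₁ p₀
  let v : ↥U.left := l.left p₀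
  have hv₁ : g₁.left v = u₁ := by
    show g₁.left (l.left p₀) = u₁
    rw [← Scheme.Hom.comp_apply, ← Over.comp_left, hl₁]
    exact hp₀
  have hv₂ : g₂.left v = u₂ := by
    show g₂.left (l.left p₀) = u₂
    rw [← Scheme.Hom.comp_apply, ← Over.comp_left, hl₂, Over.comp_left, Scheme.Hom.comp_apply]
    exact Scheme.fromSpecResidueField_apply u₂ (e.hom.left p₀)
  obtain ⟨φ, hφ⟩ := exists_point_eq v l.left rfl
  let ψ := g₁.left.residueFieldMap v ≫ φ
  have hψ : Spec.map ψ ≫ U₁.left.fromSpecResidueField (g₁.left v) = ι₁.left := by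
    rw [← hl₁, Over.comp_left, hφ, Spec.map_comp, Category.assoc,
      Scheme.Hom.SpecMap_residueFieldMap_fromSpecResidueField, Category.assoc]
  have hψi : IsIso ψ := by
    obtain ⟨χ, hχ⟩ : ∃ χ : U₁.left.residueField u₁ ≅ U₁.left.residueField (g₁.left v),
        Spec.map χ.hom ≫ U₁.left.fromSpecResidueField u₁ = U₁.left.fromSpecResidueField (g₁.left v) :=
      ⟨U₁.left.residueFieldCongr hv₁.symm, U₁.left.residueFieldCongr_fromSpecResidueField _⟩
    have h1 : Spec.map (χ.hom ≫ ψ) ≫ U₁.left.fromSpecResidueField u₁ = U₁.left.fromSpecResidueField u₁ := by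
      rw [Spec.map_comp, Category.assoc, hχ, hψ]; rfl
    have h2 : χ.hom ≫ ψ = 𝟙 _ := Spec.map_injective ((cancel_mono (U₁.left.fromSpecResidueField u₁)).1
      (by rw [h1, Spec.map_id]; exact (Category.id_comp _).symm))
    rw [show ψ = χ.inv by rw [← cancel_epi χ.hom, h2, χ.hom_inv_id]]
    infer_instance
  have hφi : IsIso φ := by
    have hs : Function.Surjective φ.hom := fun y => by
      obtain ⟨z, hz⟩ := ((ConcreteCategory.bijective_of_isIso ψ).2) y
      exact ⟨(g₁.left.residueFieldMap v).hom z, hz⟩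
    exact (ConcreteCategory.isIso_iff_bijective φ).2 ⟨φ.hom.injective, hs⟩
  refine ⟨U, (yon S).map g₁ ≫ a₁, v, g₁, g₂, ⟨repWith_etale_comp g₁ h₁.etale, ?_, ?_⟩, rfl, ?_, hv₁, hv₂⟩
  · rw [ofPt_comp, hv₁, h₁.ofPt_eq]
  · let φo : (FieldPt.ofPt a₁ u₁).pt ⟶ (FieldPt.ofPt ((yon S).map g₁ ≫ a₁) v).pt :=
      Over.homMk (Spec.map φ) (by
        show Spec.map φ ≫ U.left.fromSpecResidueField v ≫ U.hom = (FieldPt.ofPt a₁ u₁).pt.hom
        rw [← Category.assoc, ← hφ]
        exact Over.w l)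
    have : IsIso ((Over.forget S).map φo) := inferInstanceAs (IsIso (Spec.map φ))
    have : IsIso φo := isIso_of_reflects_iso φo (Over.forget S)
    have key : (yon S).map φo ≫ (FieldPt.ofPt ((yon S).map g₁ ≫ a₁) v).toHom = (FieldPt.ofPt a₁ u₁).toHom := by
      rw [FieldPt.toHom_ofPt, FieldPt.toHom_ofPt, ← Category.assoc, ← Category.assoc, ← Functor.map_comp,
        ← Functor.map_comp]
      congr 2
      rw [← show l ≫ g₁ = Over.homMk (U₁.left.fromSpecResidueField u₁) rfl from hl₁]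
      apply Over.OverMorphism.ext
      show Spec.map φ ≫ U.left.fromSpecResidueField v ≫ g₁.left = l.left ≫ g₁.left
      rw [← Category.assoc, ← hφ]
    rw [show (FieldPt.ofPt ((yon S).map g₁ ≫ a₁) v).toHom = inv ((yon S).map φo) ≫ (FieldPt.ofPt a₁ u₁).toHom by
      rw [← key, IsIso.inv_hom_id_assoc]]
    infer_instance
  · exact sq.w.symm

theorem elemNbhd_equalize (x : Points X.obj) {U₁ U₂ : Over S} {a₁ : (yon S).obj U₁ ⟶ X.obj}
    {a₂ : (yon S).obj U₂ ⟶ X.obj} {u₁ : ↥U₁.left} {u₂ : ↥U₂.left} {b c : U₁ ⟶ U₂}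
    (h₁ : IsElemEtaleNbhd a₁ u₁ x) (h₂ : IsElemEtaleNbhd a₂ u₂ x)
    (hb : (yon S).map b ≫ a₂ = a₁) (hc : (yon S).map c ≫ a₂ = a₁) (hbu : b.left u₁ = u₂) (hcu : c.left u₁ = u₂) :
    ∃ (U : Over S) (a : (yon S).obj U ⟶ X.obj) (v : ↥U.left) (h : U ⟶ U₁),
      IsElemEtaleNbhd a v x ∧ (yon S).map h ≫ a₁ = a ∧ h.left v = u₁ ∧ h ≫ b = h ≫ c := by
  obtain ⟨R, t, s, sq⟩ := exists_isPullback_yon X.property.diag a₂ a₂
  have : Etale s.left := etale_snd_of_isPullback sq h₂.etale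
  obtain ⟨δ, hδ⟩ := (yon S).map_surjective (sq.lift (𝟙 ((yon S).obj U₂)) (𝟙 _) rfl)
  have hδt : δ ≫ t = 𝟙 U₂ := (yon S).map_injective (by
    rw [Functor.map_comp, hδ, sq.lift_fst, CategoryTheory.Functor.map_id])
  have hδs : δ ≫ s = 𝟙 U₂ := (yon S).map_injective (by
    rw [Functor.map_comp, hδ, sq.lift_snd, CategoryTheory.Functor.map_id])
  have hδs' : δ.left ≫ s.left = 𝟙 U₂.left := congrArg CommaMorphism.left hδs
  have : Etale (δ.left ≫ s.left) := by rw [hδs']; infer_instance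
  have : Etale δ.left := Etale.of_comp δ.left s.left
  have : IsSplitMono δ.left := ⟨⟨⟨s.left, hδs'⟩⟩⟩
  have : IsOpenImmersion δ.left := IsOpenImmersion.of_flat_of_mono δ.left
  obtain ⟨ρ, hρ⟩ := (yon S).map_surjective (sq.lift ((yon S).map b) ((yon S).map c) (hb.trans hc.symm))
  have hρt : ρ ≫ t = b := (yon S).map_injective (by rw [Functor.map_comp, hρ, sq.lift_fst])
  have hρs : ρ ≫ s = c := (yon S).map_injective (by rw [Functor.map_comp, hρ, sq.lift_snd])
  let ι₁ : (FieldPt.ofPt a₁ u₁).pt ⟶ U₁ := Over.homMk (U₁.left.fromSpecResidueField u₁) rfl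
  have := h₂.mono
  have fac : ∀ d : U₁ ⟶ U₂, d.left u₁ = u₂ → ∃ m : (FieldPt.ofPt a₁ u₁).pt ⟶ (FieldPt.ofPt a₂ u₂).pt,
      m ≫ Over.homMk (U₂.left.fromSpecResidueField u₂) rfl = ι₁ ≫ d := by
    rintro d rfl
    exact ⟨Over.homMk (Spec.map (d.left.residueFieldMap u₁))
      (by show _ ≫ _ ≫ U₂.hom = _ ≫ U₁.hom
          rw [← Category.assoc, Scheme.Hom.SpecMap_residueFieldMap_fromSpecResidueField, Category.assoc, Over.w d]),
      Over.OverMorphism.ext (Scheme.Hom.SpecMap_residueFieldMap_fromSpecResidueField _ _)⟩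
  obtain ⟨mb, hmb⟩ := fac b hbu
  obtain ⟨mc, hmc⟩ := fac c hcu
  have hbc : ι₁ ≫ b = ι₁ ≫ c := by
    have : mb = mc := (yon S).map_injective ((cancel_mono (FieldPt.ofPt a₂ u₂).toHom).1 (by
      rw [FieldPt.toHom_ofPt, ← Category.assoc, ← Category.assoc, ← Functor.map_comp, ← Functor.map_comp, hmb, hmc,
        Functor.map_comp, Functor.map_comp, Category.assoc, Category.assoc, hb, hc]))
    rw [← hmb, ← hmc, this]
  have hρu : ρ.left u₁ ∈ Set.range δ.left := by
    have e : ι₁ ≫ ρ = (ι₁ ≫ b) ≫ δ := (yon S).map_injective (sq.hom_ext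
      (by rw [← Functor.map_comp, ← Functor.map_comp, Category.assoc, Category.assoc _ _ t, hρt, hδt, Category.comp_id])
      (by rw [← Functor.map_comp, ← Functor.map_comp, Category.assoc, Category.assoc _ _ s, hρs, hδs,
        Category.comp_id, hbc]))
    refine ⟨b.left u₁, ?_⟩
    have e2 := congrArg (fun g : _ ⟶ R => g.left (IsLocalRing.closedPoint (U₁.left.residueField u₁))) e
    simp only [Over.comp_left, Scheme.Hom.comp_apply] at e2
    rw [← show ι₁.left (IsLocalRing.closedPoint (U₁.left.residueField u₁)) = u₁ from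
      Scheme.fromSpecResidueField_apply _ _]
    exact e2.symm
  let O : U₁.left.Opens := ρ.left ⁻¹ᵁ δ.left.opensRange
  let U : Over S := Over.mk (O.ι ≫ U₁.hom)
  let h : U ⟶ U₁ := Over.homMk O.ι rfl
  have : Etale h.left := inferInstanceAs (Etale O.ι)
  have : Mono h.left := inferInstanceAs (Mono O.ι)
  have heq : h ≫ b = h ≫ c := by
    have hl := IsOpenImmersion.lift_fac δ.left (O.ι ≫ ρ.left) (by
      rintro _ ⟨z, rfl⟩
      exact z.2)
    apply Over.OverMorphism.ext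
    show O.ι ≫ b.left = O.ι ≫ c.left
    rw [← hρt, ← hρs, Over.comp_left, Over.comp_left,
      ← Category.assoc, ← Category.assoc, ← hl, Category.assoc, Category.assoc,
      show δ.left ≫ t.left = 𝟙 U₂.left from congrArg CommaMorphism.left hδt, hδs']
  let v : ↥U.left := (⟨u₁, hρu⟩ : O.toScheme)
  refine ⟨U, (yon S).map h ≫ a₁, v, h, ⟨repWith_etale_comp h h₁.etale, ?_, ?_⟩, rfl, rfl, heq⟩
  · rw [ofPt_comp]
    exact h₁.ofPt_eq
  · let m : (FieldPt.ofPt ((yon S).map h ≫ a₁) v).pt ⟶ (FieldPt.ofPt a₁ u₁).pt :=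
      Over.homMk (Spec.map (O.ι.residueFieldMap v)) (by
        show Spec.map _ ≫ U₁.left.fromSpecResidueField (O.ι v) ≫ U₁.hom = O.toScheme.fromSpecResidueField v ≫ O.ι ≫ U₁.hom
        rw [← Category.assoc, Scheme.Hom.SpecMap_residueFieldMap_fromSpecResidueField, Category.assoc])
    have : IsIso ((Over.forget S).map m) := inferInstanceAs (IsIso (Spec.map (O.ι.residueFieldMap v)))
    have : IsIso m := isIso_of_reflects_iso m (Over.forget S)
    have key : (FieldPt.ofPt ((yon S).map h ≫ a₁) v).toHom = (yon S).map m ≫ (FieldPt.ofPt a₁ u₁).toHom := by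
      rw [FieldPt.toHom_ofPt, FieldPt.toHom_ofPt, ← Category.assoc, ← Category.assoc, ← Functor.map_comp,
        ← Functor.map_comp]
      congr 2
      exact Over.OverMorphism.ext (Scheme.Hom.SpecMap_residueFieldMap_fromSpecResidueField O.ι v).symm
    have := h₁.mono
    rw [key]
    infer_instance

end Groth.Agent.SpProper61
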