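import Groth.Agent.SpProper61.Induction
import Groth.Agent.SpProper61.ElemNbhd
import Groth.Agent.SpPts86.DecentPts

/-!
Affine elementary etale neighbourhoods of points of decent spaces.
-/

universe u

set_option autoImplicit false
set_option backward.isDefEq.respectTransparency false

open CategoryTheory CategoryTheory.Limits AlgebraicGeometry Topology
open AlgSp Groth.Agent.SpFP87 Groth.Agent.SpPts86

namespace Groth.Agent.SpProper61

variable {S : Scheme.{u}}

/-- The filtration stratum through a quasi-compact point gives an elementary chart. -/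
theorem exists_elemNbhd_of_compact (Y : Space S) [CompactSpace (Points Y.obj)] (hd : IsDecent Y.obj)
    (y : Points Y.obj) :
    ∃ (V : Over S) (g : (yon S).obj V ⟶ Y.obj) (v : ↥V.left), IsElemEtaleNbhd g v y ∧
      ∀ v', Points.ofPt g v' = y → v' = v := by
  obtain ⟨U, a, hU, ha, has⟩ := exists_affine_chart_of_compactSpace Y.property
  obtain ⟨Uo, j, k, T, i, hj, -, -, -, hi, hV, hx⟩ := exists_filtration ha has
  obtain ⟨q, rfl, -, hq⟩ := hd y
  obtain ⟨N, hN⟩ := exists_notMem_Uset_of_qc_point ha hq
  obtain ⟨p, hp, z, hz⟩ := hx _ N hN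
  obtain ⟨V, f, -, -, hfe, hfs, hiso⟩ := hV p hp
  have := mono_of_repWith_le isOpenImmersion_le_monomorphisms (hj p)
  have : Mono (i p).hom := mono_of_repWith_le (fun _ _ g (_ : IsClosedImmersion g) => inferInstanceAs (Mono g)) (hi p).1
  have sq := IsPullback.of_hasPullback (i p).hom f
  have : IsIso (pullback.fst (i p).hom f) := hiso _ _ _ sq
  obtain ⟨z', hz'⟩ : ∃ z', Points.map (pullback.fst (i p).hom f) z' = z := ⟨Points.map (inv (pullback.fst (i p).hom f)) z, by
    rw [← Points.map_comp, IsIso.inv_hom_id, Points.map_id]⟩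
  obtain ⟨v, hv⟩ := (Points.schemeHomeo V).surjective (Points.map (pullback.snd (i p).hom f) z')
  have hvf : Points.ofPt f v = Points.map (i p).hom z := by
    rw [Points.ofPt_eq_map_ofScheme, show Points.ofScheme V v = _ from hv, ← Points.map_comp, ← sq.w, Points.map_comp, hz']
  let g : (yon S).obj V ⟶ Y.obj := f ≫ (j p).hom
  have hg : RepWith @Etale g := (repWith_isMultiplicative (S := S) @Etale).comp_mem _ _ hfe
    (repWith_mono (fun _ _ g (_ : IsOpenImmersion g) => (inferInstance : Etale g)) (hj p))
  have hgv : Points.ofPt g v = Points.mk q := by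
    rw [← Points.map_ofPt, hvf, ← Points.map_comp, ← hz]
    rfl
  refine ⟨V, g, v, ⟨hg, hgv, ?_⟩, fun v' hv' => ?_⟩
  · let ι : (FieldPt.ofPt g v).pt ⟶ V := Over.homMk (V.left.fromSpecResidueField v) rfl
    have : Mono ι.left := inferInstanceAs (Mono (V.left.fromSpecResidueField v))
    have : Mono ι := (Over.forget S).mono_of_mono_map (f := ι) this
    rw [FieldPt.toHom_ofPt]
    have hlift : ∃ l, l ≫ pullback.snd (i p).hom f = (yon S).map ι := by
      obtain ⟨W, snd, fst, sqW⟩ := (hi p).1.rep ((yon S).map ι ≫ f)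
      have hc : IsClosedImmersion snd.left := (hi p).1.property _ fst snd sqW
      let t₀ : ↥(FieldPt.ofPt g v).pt.left :=
        (IsLocalRing.closedPoint (V.left.residueField v) : PrimeSpectrum (V.left.residueField v))
      obtain ⟨w, -, -⟩ := exists_of_isPullback sqW z (Points.ofScheme _ t₀) (by
        rw [← Points.ofPt_eq_map_ofScheme, ofPt_comp, ← hvf]
        exact (congrArg (Points.ofPt f) (Scheme.fromSpecResidueField_apply v _)).symm)
      obtain ⟨w₀, -⟩ := (Points.schemeHomeo W).surjective w
      have : Nonempty ↥W.left := ⟨w₀⟩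
      let snd' : W.left ⟶ Spec (CommRingCat.of ↥(V.left.residueField v)) := snd.left
      have : Mono snd' := inferInstanceAs (Mono snd.left)
      have : IsIso snd' := isIso_of_mono_spec_field (L := ↥(V.left.residueField v)) snd'
      have : IsIso ((Over.forget S).map snd) := this
      have : IsIso snd := isIso_of_reflects_iso snd (Over.forget S)
      exact ⟨sq.lift ((yon S).map (inv snd) ≫ fst) ((yon S).map ι) (by
        rw [Category.assoc, sqW.w, ← Category.assoc, ← Functor.map_comp, IsIso.inv_hom_id,
          CategoryTheory.Functor.map_id, Category.id_comp]), sq.lift_snd _ _ _⟩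
    obtain ⟨l, hl⟩ := hlift
    have hm : Mono ((yon S).map ι) := inferInstance
    have : Mono l := by
      rw [← hl] at hm
      exact mono_of_mono l (pullback.snd (i p).hom f)
    have : (yon S).map ι ≫ g = l ≫ pullback.fst (i p).hom f ≫ (i p).hom ≫ (j p).hom := by
      rw [← hl, Category.assoc, sq.w_assoc]
    show Mono ((yon S).map ι ≫ g)
    rw [this]
    infer_instance
  · have e : Points.map (j p).hom (Points.ofPt f v') = Points.map (j p).hom (Points.map (i p).hom z) := by
      rw [Points.map_ofPt]
      exact hv'.trans (by rw [← hgv, ← Points.map_ofPt, hvf])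
    have e' := injective_map_of_mono (j p).hom e
    obtain ⟨w, hw1, hw2⟩ := exists_of_isPullback sq z (Points.ofScheme V v')
      (by rw [← Points.ofPt_eq_map_ofScheme, e'])
    have : w = z' := by
      have := congrArg (Points.map (inv (pullback.fst (i p).hom f))) (hw1.trans hz'.symm)
      rwa [← Points.map_comp, ← Points.map_comp, IsIso.hom_inv_id, Points.map_id, Points.map_id] at this
    rw [this, ← hv] at hw2
    exact ((Points.schemeHomeo V).injective hw2).symm

theorem exists_affine_elemNbhd (X : Space S) (hd : IsDecent X.obj) (x : Points X.obj) :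
    ∃ (U : Over S) (a : (yon S).obj U ⟶ X.obj) (u : ↥U.left), IsAffine U.left ∧
      IsElemEtaleNbhd a u x ∧ Points.ofPt a ⁻¹' {x} = {u} := by
  obtain ⟨U₀, a₀, ha₀, has₀⟩ := X.property.atlas
  obtain ⟨u₀, rfl⟩ := surjective_ofPt has₀ x
  obtain ⟨A, hA, hu₀A, -⟩ := exists_isAffineOpen_mem_and_subset (x := u₀) (U := (⊤ : U₀.left.Opens)) trivial
  let O : Set (Points X.obj) := Points.ofPt a₀ '' (A : Set ↥U₀.left)
  have hO : IsOpen O := isOpenMap_ofPt ha₀ _ A.isOpen
  let Y : Space S := ⟨restrictSheaf X.obj O, isAlgSpace_restrictSheaf X.property hO⟩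
  have hι := repWith_restrictι (F := X.obj) hO
  have := mono_of_repWith_le isOpenImmersion_le_monomorphisms hι
  have : CompactSpace (Points Y.obj) := by
    rw [← isCompact_univ_iff, (isEmbedding_map_of_openImmersion hι).isEmbedding.isInducing.isCompact_iff,
      Set.image_univ, range_map_restrictι hO]
    exact hA.isCompact.image (Points.continuous_ofPt a₀)
  obtain ⟨y, hy⟩ := (range_map_restrictι hO).ge ⟨u₀, hu₀A, rfl⟩
  obtain ⟨V, g, v, ⟨hg, hgv, hgm⟩, huniq⟩ :=
    exists_elemNbhd_of_compact Y (isDecent_of_representable (restrictι X.obj O) hι.1 hd) y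
  obtain ⟨B, hB, hvB, -⟩ := exists_isAffineOpen_mem_and_subset (x := v) (U := (⊤ : V.left.Opens)) trivial
  let U : Over S := Over.mk (B.ι ≫ V.hom)
  let h : U ⟶ V := Over.homMk B.ι rfl
  have : Etale h.left := inferInstanceAs (Etale B.ι)
  let a : (yon S).obj U ⟶ X.obj := ((yon S).map h ≫ g) ≫ restrictι X.obj O
  have ha : RepWith @Etale a := (repWith_isMultiplicative (S := S) @Etale).comp_mem _ _ (repWith_etale_comp h hg)
    (repWith_mono (fun _ _ g (_ : IsOpenImmersion g) => (inferInstance : Etale g)) hι)
  let u : ↥U.left := (⟨v, hvB⟩ : B.toScheme)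
  have hau : Points.ofPt a u = Points.ofPt a₀ u₀ := by
    rw [← Points.map_ofPt, ofPt_comp, show h.left u = v from rfl, hgv]
    exact hy
  refine ⟨U, a, u, hB, ⟨ha, hau, ?_⟩, Set.ext fun w => ⟨fun hw => ?_, ?_⟩⟩
  · let m : (FieldPt.ofPt a u).pt ⟶ (FieldPt.ofPt g v).pt :=
      Over.homMk (Spec.map (B.ι.residueFieldMap u)) (by
        show Spec.map _ ≫ V.left.fromSpecResidueField (B.ι u) ≫ V.hom = B.toScheme.fromSpecResidueField u ≫ B.ι ≫ V.hom
        rw [← Category.assoc, Scheme.Hom.SpecMap_residueFieldMap_fromSpecResidueField, Category.assoc])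
    have : IsIso ((Over.forget S).map m) := inferInstanceAs (IsIso (Spec.map (B.ι.residueFieldMap u)))
    have : IsIso m := isIso_of_reflects_iso m (Over.forget S)
    have key : (FieldPt.ofPt a u).toHom = ((yon S).map m ≫ (FieldPt.ofPt g v).toHom) ≫ restrictι X.obj O := by
      rw [FieldPt.toHom_ofPt, FieldPt.toHom_ofPt]
      simp only [a, ← Category.assoc, ← Functor.map_comp]
      congr 3
      exact Over.OverMorphism.ext (Scheme.Hom.SpecMap_residueFieldMap_fromSpecResidueField B.ι u).symm
    rw [key]
    infer_instance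
  · have : Points.ofPt g (h.left w) = y := injective_map_of_mono (restrictι X.obj O) (by
      rw [← ofPt_comp, Points.map_ofPt]
      exact (show Points.ofPt a w = _ from hw).trans hy.symm)
    exact Subtype.ext (huniq _ this)
  · rintro rfl
    exact hau

end Groth.Agent.SpProper61
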