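import Groth.Agent.Unr55.GeomCount

/-!
An etale separated morphism with finite fibres over maximal points has finite fibres.
-/

universe u

set_option autoImplicit false

open CategoryTheory Limits AlgebraicGeometry Topology
open Groth.Agent.FlatMor66

namespace Groth.Agent.SpProper61

theorem fibreIntegral_one_eq_card {U V : Scheme.{u}} (π : U ⟶ V) [LocallyQuasiFinite π] {K : Type u} [Field K]
    [IsAlgClosed K] (p : Spec (CommRingCat.of K) ⟶ V) (h : (π ⁻¹' {gpt p}).Finite) :
    MoreMor.fibreIntegral π (fun _ => 1) (gpt p) = (Nat.card (GPt π p) : ℤ) := by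
  have := finite_GPt π p h
  have := Fintype.ofFinite (GPt π p)
  rw [fibreIntegral_eq_gSum π _ p h, gSum, finsum_eq_sum_of_fintype, Nat.card_eq_fintype_card]
  simp

theorem finite_fibres_of_finite_maximal_fibres {R U : Scheme.{u}} (s : R ⟶ U) [Etale s] [IsSeparated s]
    [QuasiSeparatedSpace ↥U]
    (hη : ∀ η : U, (∀ w : U, w ⤳ η → w = η) → (s ⁻¹' {η}).Finite) (u : U) (η : U) (hηu : η ⤳ u)
    (hmax : ∀ w : U, w ⤳ η → w = η) : (s ⁻¹' {u}).Finite := by
  classical
  have : LocallyQuasiFinite s := lqf_of_etale s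
  obtain ⟨K, _, _, p, rfl⟩ := exists_gpt η
  have := finite_GPt s p (hη _ hmax)
  by_contra hinf
  obtain ⟨T, hT, hTc⟩ := (show (s ⁻¹' {u}).Infinite from hinf).exists_subset_card_eq (Nat.card (GPt s p) + 1)
  choose O hO hzO using fun z : R => exists_isAffineOpen_mem_and_subset (x := z) (U := ⊤) (Set.mem_univ z)
  let K₀ : R.Opens := T.sup O
  have hKc : IsCompact (K₀ : Set R) := by
    simp only [K₀, TopologicalSpace.Opens.coe_finset_sup]
    rw [Finset.sup_eq_iSup]
    exact T.finite_toSet.isCompact_biUnion fun z _ => (hO z).isCompact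
  have : CompactSpace ↥K₀.toScheme := isCompact_iff_compactSpace.1 hKc
  let sK := K₀.ι ≫ s
  have : QuasiCompact sK := by
    have : CompactSpace ↥K₀.toScheme := ‹_›
    exact quasiCompact_of_compactSpace sK
  have : LocallyQuasiFinite sK := lqf_of_etale sK
  have hfin : ∀ y : U, (sK ⁻¹' {y}).Finite := sK.finite_preimage_singleton
  have hlsc := S1426.result sK hfin _ (Unr55.isWeighting_one sK) (fun _ => one_pos)
  obtain ⟨L, _, _, q, rfl⟩ := exists_gpt u
  have h1 : MoreMor.fibreIntegral sK (fun _ => 1) (gpt p) ≤ (Nat.card (GPt s p) : ℤ) := by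
    rw [fibreIntegral_one_eq_card sK p (hfin _)]
    exact_mod_cast Nat.card_le_card_of_injective (fun g : GPt sK p => (⟨g.1 ≫ K₀.ι, by rw [Category.assoc]; exact g.2⟩ : GPt s p))
      (fun g g' e => Subtype.ext ((cancel_mono K₀.ι).1 (congrArg Subtype.val e)))
  have h2 : ((Nat.card (GPt s p) : ℤ)) < MoreMor.fibreIntegral sK (fun _ => 1) (gpt q) := by
    rw [fibreIntegral_one_eq_card sK q (hfin _)]
    have := finite_GPt sK q (hfin _)
    have hmem : ∀ z : T, z.1 ∈ K₀ := fun z => Finset.le_sup (f := O) z.2 (hzO z.1).1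
    choose g hg using fun z : T => exists_lift sK q ⟨z.1, hmem z⟩ (by
      show s (K₀.ι _) = _
      exact hT z.2)
    have := Nat.card_le_card_of_injective g fun z z' e => by
      have := congrArg (fun g => gpt (K := L) g.1) e
      simp only [hg] at this
      exact Subtype.ext (congrArg K₀.ι this)
    rw [Nat.card_eq_fintype_card, Fintype.card_coe, hTc] at this
    omega
  obtain ⟨O', hO', hO'o, huO'⟩ := mem_nhds_iff.1 (hlsc _ _ h2)
  have := hO' (hηu.mem_open hO'o huO')
  exact absurd h1 (not_le.2 this)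

end Groth.Agent.SpProper61
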