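import Groth.Agent.SpProper61.DenseScheme
import Groth.Agent.SpProper61.FibreBound
import Groth.Agent.SpPts86.DecentFib

/-!
Decent spaces with finitely many irreducible components.
-/

universe u

set_option autoImplicit false
set_option backward.isDefEq.respectTransparency false

open CategoryTheory CategoryTheory.Limits AlgebraicGeometry Topology
open AlgSp Groth.Agent.SpFP87 Groth.Agent.SpPts86

namespace Groth.Agent.SpProper61

theorem finite_irreducibleComponents_of_openEmbedding {A B : Type*} [TopologicalSpace A] [TopologicalSpace B]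
    {e : A → B} (he : IsOpenEmbedding e) (h : (irreducibleComponents B).Finite) : (irreducibleComponents A).Finite := by
  refine (h.image (fun T => e ⁻¹' T)).subset fun C hC => ?_
  obtain ⟨T, hT, hsub⟩ := exists_mem_irreducibleComponents_subset_of_isIrreducible _
    (hC.1.image e he.continuous.continuousOn)
  have hne : (T ∩ Set.range e).Nonempty := by
    obtain ⟨c, hc⟩ := hC.1.1
    exact ⟨e c, hsub ⟨c, hc, rfl⟩, c, rfl⟩
  exact ⟨T, hT, subset_antisymm
    (hC.2 (hT.1.preimage he hne) (Set.image_subset_iff.1 hsub)) (Set.image_subset_iff.1 hsub)⟩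

theorem finite_irreducibleComponents_of_dense {A B : Type*} [TopologicalSpace A] [TopologicalSpace B]
    {e : A → B} (he : Continuous e) (hd : DenseRange e) (h : (irreducibleComponents A).Finite) :
    (irreducibleComponents B).Finite := by
  refine (h.image (fun C => closure (e '' C))).subset fun T hT => ?_
  have hU : (Set.univ : Set B) ⊆ ⋃₀ ((fun C => closure (e '' C)) '' irreducibleComponents A) := by
    rw [← hd.closure_range]
    refine closure_minimal ?_ ((h.image _).isClosed_biUnion (fun t ht => ?_) |> fun h' => by rwa [Set.sUnion_eq_biUnion])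
    · rintro _ ⟨a, rfl⟩
      exact ⟨_, ⟨_, irreducibleComponent_mem_irreducibleComponents a, rfl⟩,
        subset_closure ⟨a, mem_irreducibleComponent, rfl⟩⟩
    · obtain ⟨C, -, rfl⟩ := ht
      exact isClosed_closure
  obtain ⟨t, ht, hsub⟩ := isIrreducible_iff_sUnion_isClosed.1 hT.1 (h.image (fun C => closure (e '' C))).toFinset
    (fun t ht => by
      obtain ⟨C, -, rfl⟩ := ((h.image (fun C => closure (e '' C))).mem_toFinset).1 ht
      exact isClosed_closure) (by rw [Set.Finite.coe_toFinset]; exact (Set.subset_univ T).trans hU)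
  obtain ⟨C, hC, rfl⟩ := ((h.image (fun C => closure (e '' C))).mem_toFinset).1 ht
  exact ⟨C, hC, subset_antisymm (hT.2 (hC.1.image e he.continuousOn).closure hsub) hsub⟩

variable {S : Scheme.{u}}

theorem isOpenEmbedding_ofPt {F : Sp S} {V : Over S} {j : (yon S).obj V ⟶ F} (hj : RepWith @IsOpenImmersion j) :
    IsOpenEmbedding (Points.ofPt j) := by
  have h := (isEmbedding_map_of_openImmersion hj).comp (Points.schemeHomeo V).isOpenEmbedding
  convert h using 1
  funext v
  exact Points.ofPt_eq_map_ofScheme j v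

theorem isDecent_finite_components_iff (X : Space S) :
    (IsDecent X.obj ∧ (irreducibleComponents (Points X.obj)).Finite) ↔
      ∃ (X' : Over S) (j : (yon S).obj X' ⟶ X.obj), RepWith @IsOpenImmersion j ∧
        Dense (Set.range (Points.ofPt j)) ∧ (irreducibleComponents ↥X'.left).Finite ∧
        ∀ x' : ↥X'.left, (∃ T ∈ irreducibleComponents ↥X'.left, IsGenericPoint x' T) →
          RepWith @QuasiCompact (FieldPt.ofPt j x').toHom := by
  constructor
  · rintro ⟨hd, hfin⟩
    obtain ⟨X', j, hj, hrep, hdense⟩ := exists_dense_open_subscheme_of_isDecent X hd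
    obtain ⟨V, ⟨r⟩⟩ := hrep.has_representation
    let j' : (yon S).obj V ⟶ X.obj := (AlgSp.isoOfRepresentableBy r).hom ≫ j.hom
    have hj' : RepWith @IsOpenImmersion j' := by
      rwa [MorphismProperty.cancel_left_of_respectsIso (RepWith @IsOpenImmersion)]
    refine ⟨V, j', hj', ?_, finite_irreducibleComponents_of_openEmbedding (isOpenEmbedding_ofPt hj') hfin,
      fun x' _ => ?_⟩
    · refine hdense.mono ?_
      rintro _ ⟨z, rfl⟩
      refine ⟨Points.toScheme V (Points.map (AlgSp.isoOfRepresentableBy r).inv z), ?_⟩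
      rw [Points.ofPt_eq_map_ofScheme, Points.ofScheme_toScheme, ← Points.map_comp, Iso.inv_hom_id_assoc]
    · obtain ⟨p, hp, hm, hq⟩ := hd (Points.ofPt j' x')
      exact repWith_qc_fieldPt_of_mono hq hp.symm
  · rintro ⟨V, j, hj, hdense, hfin, hqc⟩
    refine ⟨?_, finite_irreducibleComponents_of_dense (Points.continuous_ofPt j) hdense hfin⟩
    have hgen : ∀ x' : ↥V.left, (∀ w, w ⤳ x' → w = x') → FinFib X.obj (Points.ofPt j x') := fun x' hx' =>
      finFib_of_qc_point (hqc x' ⟨_, Norm57.isMax'_iff.1 hx', isGenericPoint_closure⟩)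
    have hVfin : {x' : ↥V.left | ∀ w, w ⤳ x' → w = x'}.Finite :=
      (genericPoints.finite hfin).subset fun x' hx' => Norm57.isMax'_iff.1 hx'
    refine (isDecent_iff_finFib X.property).2 fun x U φ hU hφ R s t sq => ?_
    have := hU
    have : Etale s.left := etale_snd_of_isPullback sq hφ
    have : AlgebraicGeometry.IsSeparated s.left := isSeparated_relation sq
    let O : Set ↥U.left := Points.ofPt φ ⁻¹' Set.range (Points.ofPt j)
    let M : Set ↥U.left := {m | m ∈ O ∧ ∀ w, w ⤳ m → w = m}
    have hO : IsOpen O := (isOpenEmbedding_ofPt hj).isOpen_range.preimage (Points.continuous_ofPt φ)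
    have hOd : Dense O := hdense.preimage (isOpenMap_ofPt hφ)
    -- maximal points of the chart lie over generic points of the subscheme
    obtain ⟨W, g, fst, sqW⟩ := hj.rep φ
    obtain ⟨g', rfl⟩ := (yon S).map_surjective fst
    have hi : IsOpenImmersion g.left := hj.property φ _ g sqW
    have hg' : Etale g'.left := etale_snd_of_isPullback sqW.flip hφ
    have hmax : ∀ m ∈ M, ∃ x' : ↥V.left, (∀ w, w ⤳ x' → w = x') ∧ Points.ofPt j x' = Points.ofPt φ m := by
      rintro m ⟨⟨x', hx'⟩, hm⟩
      refine ⟨x', ?_, hx'⟩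
      obtain ⟨z, hz1, hz2⟩ := exists_pt_of_isPullback' sqW x' m hx'
      rw [← hz1]
      refine (maximal_iff_of_etale g'.left z).1 ?_
      refine (maximal_iff_of_etale g.left z).2 ?_
      rw [hz2]; exact hm
    have hMfin : M.Finite := (hVfin.biUnion fun x' hx' => ((hgen x' hx') U φ hU hφ R s t sq).1).subset
      fun m hm => by
        obtain ⟨x', hx', e⟩ := hmax m hm
        exact Set.mem_biUnion hx' e.symm
    have hall : ∀ η : ↥U.left, (∀ w, w ⤳ η → w = η) → η ∈ M := by
      intro η hη
      have hsub : O ⊆ ⋃ m ∈ M, closure {m} := fun z hz => by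
        obtain ⟨m, hmz, hm⟩ := VarGal.exists_maximal_generization_top z
        exact Set.mem_biUnion ⟨hmz.mem_open hO hz, hm⟩ (specializes_iff_mem_closure.1 hmz)
      have hcl := closure_minimal hsub (hMfin.isClosed_biUnion fun m _ => isClosed_closure)
      obtain ⟨m, hm, hmη⟩ := Set.mem_iUnion₂.1 (hcl (hOd η))
      rwa [← hη m (specializes_iff_mem_closure.2 hmη)]
    have hs : ∀ u : ↥U.left, (s.left ⁻¹' {u}).Finite := fun u => by
      obtain ⟨η, hηu, hη⟩ := VarGal.exists_maximal_generization_top u
      refine finite_fibres_of_finite_maximal_fibres s.left (fun m hm => ?_) u η hηu hη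
      obtain ⟨x', hx', e⟩ := hmax m (hall m hm)
      exact finite_relation_fibre_of_finite sq (e ▸ ((hgen x' hx') U φ hU hφ R s t sq).2)
    have h1 : (Points.ofPt φ ⁻¹' {x}).Finite := by
      by_cases hne : (Points.ofPt φ ⁻¹' {x}).Nonempty
      · obtain ⟨u₀, hu₀⟩ := hne
        refine ((hs u₀).image t.left).subset fun u hu => ?_
        obtain ⟨r, hr1, hr2⟩ := exists_pt_of_isPullback' sq u u₀ ((show Points.ofPt φ u = x from hu).trans (show Points.ofPt φ u₀ = x from hu₀).symm)
        exact ⟨r, hr2, hr1⟩
      · rw [Set.not_nonempty_iff_eq_empty.1 hne]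
        exact Set.finite_empty
    refine ⟨h1, (h1.biUnion fun u _ => hs u).subset fun r hr => ?_⟩
    refine Set.mem_biUnion (x := s.left r) ?_ rfl
    have hr' : Points.ofPt ((yon S).map t ≫ φ) r = x := hr
    show Points.ofPt φ (s.left r) = x
    rw [← ofPt_comp, ← sq.w, hr']

end Groth.Agent.SpProper61
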