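import Groth.Agent.SpProper61.QfFinite
import Groth.Agent.SpPts86.QFFinite
import Groth.Agent.SpPts86.ProperCrit
import Groth.Agent.SpPts86.UnivTop
import Groth.Agent.SpPts86.Compact
import Groth.Agent.SpFP87.EtLocInst
import Groth.Agent.SpFP87.DecentPts
import Groth.Agent.Fin57.GenericFinite
import Groth.Agent.Pts57.GenericAffine
import Groth.Agent.S2080

/-!
A morphism of finite type of algebraic spaces, quasi-finite over a point of codimension zero, is
finite over a neighbourhood of that point.
-/

universe u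

set_option autoImplicit false
set_option backward.isDefEq.respectTransparency false

open CategoryTheory CategoryTheory.Limits AlgebraicGeometry Topology
open AlgSp Groth.Agent.SpFP87 Groth.Agent.SpPts86

namespace Groth.Agent.SpProper61

theorem isMax_of_ringKrullDim_stalk_eq_zero {X : Scheme.{u}} {x : X}
    (h : ringKrullDim ↥(X.presheaf.stalk x) = 0) : Norm57.IsMax' x := by
  have : Ring.KrullDimLE 0 ↥(X.presheaf.stalk x) := (Order.krullDimLE_iff 0 _).2 h.le
  intro w hw
  obtain ⟨q, hq⟩ : w ∈ Set.range (X.fromSpecStalk x) := by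
    rw [Scheme.range_fromSpecStalk]; exact hw
  have hqm : q = (IsLocalRing.closedPoint ↥(X.presheaf.stalk x) : PrimeSpectrum _) :=
    PrimeSpectrum.ext (IsLocalRing.eq_maximalIdeal (Ring.krullDimLE_zero_iff.1 inferInstance _ q.2))
  rw [← hq, hqm, Scheme.fromSpecStalk_closedPoint]

variable {S : Scheme.{u}}

section Restrict

variable {P PD : Sp S} {A V D : Over S} {pV : P ⟶ (yon S).obj V} {α : (yon S).obj A ⟶ P} {h : A ⟶ V}

/-- The restriction of an affine chart of a space over `V`, together with its relation, to an open of `V`. -/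
theorem exists_restricted_chart (hα : RepWith @Etale α)
    (hh : (yon S).map h = α ≫ pV) (j : D ⟶ V) [Mono j] {mP : PD ⟶ P} {pD : PD ⟶ (yon S).obj D}
    (sqD : IsPullback mP pD pV ((yon S).map j)) {R : Over S} {r₁ r₂ : R ⟶ A}
    (sqR : IsPullback ((yon S).map r₁) ((yon S).map r₂) α α) :
    ∃ (A' R' : Over S) (α' : (yon S).obj A' ⟶ PD) (h' : A' ⟶ D) (r₁' r₂' : R' ⟶ A'),
      RepWith @Etale α' ∧
      (∀ z : Points PD, Points.map mP z ∈ Set.range (Points.ofPt α) → z ∈ Set.range (Points.ofPt α')) ∧
      (yon S).map h' = α' ≫ pD ∧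
      IsPullback ((yon S).map r₁') ((yon S).map r₂') α' α' ∧ r₁' ≫ h' = r₂' ≫ h' ∧
      (∃ a : A' ⟶ A, IsPullback a h' h j) ∧ (∃ b : R' ⟶ R, IsPullback b (r₁' ≫ h') (r₁ ≫ h) j) := by
  obtain ⟨A', a, h', sqA⟩ := exists_isPullback_yon (IsAlgSpace.yon_obj V).diag ((yon S).map h) ((yon S).map j)
  let α' : (yon S).obj A' ⟶ PD := sqD.lift ((yon S).map a ≫ α) ((yon S).map h')
    (by rw [Category.assoc, ← hh]; exact sqA.w)
  have hα'1 : α' ≫ mP = (yon S).map a ≫ α := sqD.lift_fst _ _ _
  have hα'2 : α' ≫ pD = (yon S).map h' := sqD.lift_snd _ _ _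
  have sqα : IsPullback α' ((yon S).map a) mP α :=
    IsPullback.of_right (by rw [hα'2, ← hh]; exact sqA.flip) hα'1 sqD.flip
  have hae := (repWith_isStableUnderBaseChange (@Etale : MorphismProperty Scheme.{u})).of_isPullback sqα.flip hα
  have has : ∀ z : Points PD, Points.map mP z ∈ Set.range (Points.ofPt α) → z ∈ Set.range (Points.ofPt α') := by
    rintro z ⟨t, ht⟩
    obtain ⟨s, -, hs⟩ := exists_of_isPullback sqα.flip (Points.ofScheme A t) z
      (by rw [← ht, Points.map_ofPt, Category.id_comp])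
    refine ⟨Points.toScheme A' s, ?_⟩
    rw [Points.ofPt_eq_map_ofScheme, Points.ofScheme_toScheme, hs]
  obtain ⟨R', b, r₂', sqb⟩ := exists_isPullback_yon (IsAlgSpace.yon_obj A).diag ((yon S).map r₂) ((yon S).map a)
  have sqA' : IsPullback a h' h j :=
    IsPullback.of_map (yon S) ((yon S).map_injective (by rw [Functor.map_comp, Functor.map_comp]; exact sqA.w)) sqA
  have sqb' : IsPullback b r₂' r₂ a :=
    IsPullback.of_map (yon S) ((yon S).map_injective (by rw [Functor.map_comp, Functor.map_comp]; exact sqb.w)) sqb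
  have hrh : r₁ ≫ h = r₂ ≫ h := (yon S).map_injective (by
    rw [Functor.map_comp, Functor.map_comp, hh, ← Category.assoc, ← Category.assoc, sqR.w])
  let r₁' : R' ⟶ A' := sqA'.lift (b ≫ r₁) (r₂' ≫ h')
    (by rw [Category.assoc, hrh, ← Category.assoc, sqb'.w, Category.assoc, sqA'.w, ← Category.assoc])
  have h1 : r₁' ≫ a = b ≫ r₁ := sqA'.lift_fst _ _ _
  have h2 : r₁' ≫ h' = r₂' ≫ h' := sqA'.lift_snd _ _ _
  have L : IsPullback ((yon S).map b ≫ (yon S).map r₁) ((yon S).map r₂') α ((yon S).map a ≫ α) :=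
    sqb.paste_horiz sqR
  have hw : (yon S).map r₁' ≫ α' = (yon S).map r₂' ≫ α' := by
    apply sqD.hom_ext
    · rw [Category.assoc, Category.assoc, hα'1, ← Category.assoc, ← Functor.map_comp, h1, ← L.w,
        Functor.map_comp]
    · rw [Category.assoc, Category.assoc, hα'2, ← Functor.map_comp, ← Functor.map_comp, h2]
  have sqR' : IsPullback ((yon S).map r₁') ((yon S).map r₂') α' α' := by
    refine IsPullback.of_right ?_ hw sqα.flip
    rw [← Functor.map_comp, h1, hα'1, Functor.map_comp]
    exact L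
  refine ⟨A', R', α', h', r₁', r₂', hae, has, hα'2.symm, sqR', h2, ⟨a, sqA'⟩, ⟨b, ?_⟩⟩
  rw [h2, hrh]
  exact sqb'.paste_vert sqA'

end Restrict

/-- A space with a chart finite over an affine base, whose relation is finite over the base as well,
is finite over it. -/
theorem isFiniteMor_of_finite_chart {P : Space S} {A R V : Over S} (pV : P.obj ⟶ (yon S).obj V)
    (hlft : LocP @LocallyOfFiniteType pV) (hqc : IsQuasiCompactMor pV)
    {α : (yon S).obj A ⟶ P.obj} (hα : RepWith @Etale α) (hαs : RepWith @Surjective α) {h : A ⟶ V}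
    (hh : (yon S).map h = α ≫ pV) {r₁ r₂ : R ⟶ A}
    (sqR : IsPullback ((yon S).map r₁) ((yon S).map r₂) α α) (hA : IsFinite h.left)
    (hR : IsFinite (r₁ ≫ h).left) : IsFiniteMor pV := by
  let VS : Space S := ⟨(yon S).obj V, IsAlgSpace.yon_obj V⟩
  have sqQ := IsPullback.of_hasPullback pV pV
  have hQ : IsAlgSpace (pullback pV pV) :=
    isAlgSpace_of_isPullback sqQ P.property P.property (IsAlgSpace.yon_obj V).diag
  obtain ⟨W, p, q, β, hβ, sqW, hβ1, hβ2⟩ := exists_chart_of_isPullback sqQ (IsAlgSpace.yon_obj V).diag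
    (@Etale ⊓ @Surjective) α α ((repWith_inf_iff α).2 ⟨hα, hαs⟩) ((repWith_inf_iff α).2 ⟨hα, hαs⟩)
  obtain ⟨hβe, hβs⟩ := (repWith_inf_iff β).1 hβ
  rw [← hh] at sqW
  obtain ⟨δ, hδ⟩ := (yon S).map_surjective (sqW.lift ((yon S).map r₁) ((yon S).map r₂)
    (by rw [hh, ← Category.assoc, ← Category.assoc, sqR.w]))
  have hδ1 : δ ≫ p = r₁ := (yon S).map_injective (by rw [Functor.map_comp, hδ, sqW.lift_fst])
  have hδ2 : δ ≫ q = r₂ := (yon S).map_injective (by rw [Functor.map_comp, hδ, sqW.lift_snd])
  -- the relation is the pullback of the diagonal along the chart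
  have hw : ((yon S).map r₁ ≫ α) ≫ pullback.diagonal pV = (yon S).map δ ≫ β := by
    apply sqQ.hom_ext
    · rw [Category.assoc, Category.assoc, pullback.diagonal_fst, Category.comp_id, Category.assoc, hβ1,
        ← Category.assoc, ← Functor.map_comp, hδ1]
    · rw [Category.assoc, Category.assoc, pullback.diagonal_snd, Category.comp_id, Category.assoc, hβ2,
        ← Category.assoc, ← Functor.map_comp, hδ2, sqR.w]
  have sqΔ : IsPullback ((yon S).map r₁ ≫ α) ((yon S).map δ) (pullback.diagonal pV) β := by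
    have e1 : ∀ s : PullbackCone (pullback.diagonal pV) β,
        (s.snd ≫ (yon S).map p) ≫ α = s.fst ∧ (s.snd ≫ (yon S).map q) ≫ α = s.fst := fun s => by
      constructor
      · rw [Category.assoc, ← hβ1, ← Category.assoc, ← s.condition, Category.assoc, pullback.diagonal_fst,
          Category.comp_id]
      · rw [Category.assoc, ← hβ2, ← Category.assoc, ← s.condition, Category.assoc, pullback.diagonal_snd,
          Category.comp_id]
    refine IsPullback.of_isLimit (c := PullbackCone.mk _ _ hw) (PullbackCone.IsLimit.mk _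
      (fun s => sqR.lift (s.snd ≫ (yon S).map p) (s.snd ≫ (yon S).map q) ((e1 s).1.trans (e1 s).2.symm))
      (fun s => ?_) (fun s => ?_) (fun s m hm1 hm2 => ?_))
    · rw [← Category.assoc, sqR.lift_fst, (e1 s).1]
    · apply sqW.hom_ext
      · rw [Category.assoc, ← Functor.map_comp, hδ1, sqR.lift_fst]
      · rw [Category.assoc, ← Functor.map_comp, hδ2, sqR.lift_snd]
    · apply sqR.hom_ext
      · rw [sqR.lift_fst, ← hm2, Category.assoc, ← Functor.map_comp, hδ1]
      · rw [sqR.lift_snd, ← hm2, Category.assoc, ← Functor.map_comp, hδ2]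
  have hsep : IsSeparatedMor pV := by
    refine isSeparatedMor_of_diag_univClosed P.property VS.property ?_
    have hh1 : p ≫ h = q ≫ h := (yon S).map_injective (by rw [Functor.map_comp, Functor.map_comp]; exact sqW.w)
    have hps : AlgebraicGeometry.IsSeparated (p ≫ h).left := by
      have sq' : IsPullback p q h h := IsPullback.of_map (yon S) hh1 sqW
      have : AlgebraicGeometry.IsSeparated p.left :=
        MorphismProperty.of_isPullback (P := @AlgebraicGeometry.IsSeparated) (sq'.map (Over.forget S)).flip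
          (inferInstanceAs (AlgebraicGeometry.IsSeparated h.left))
      rw [Over.comp_left]
      infer_instance
    have hfc : IsFinite (δ.left ≫ (p ≫ h).left) := by
      rw [← Over.comp_left, ← Category.assoc, hδ1]
      exact hR
    have hδf : IsFinite δ.left := IsFinite.of_comp δ.left (p ≫ h).left
    refine univSp_of_etale_cover (fun _ _ _ _ a c p' q' sq hc hq' => isClosedMap_of_baseChange sq hc hq')
      hβe hβs sqΔ ((S9922.result (X := ⟨(yon S).obj R, IsAlgSpace.yon_obj R⟩)
        (Y := ⟨(yon S).obj W, IsAlgSpace.yon_obj W⟩) ⟨(yon S).map δ⟩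
        (((repWith_yon_map_iff (@IsFinite : MorphismProperty Scheme.{u}) δ).2 hδf).rep)).1 ?_)
    exact (repWith_yon_map_iff _ _).2 (inferInstanceAs (UniversallyClosed δ.left))
  have huc : IsUnivClosedMor pV := by
    refine isUnivClosedMor_of_surjective_comp (f := α) ?_ (isSurjectiveMor_of_repWith hαs)
    rw [← hh]
    exact (S9922.result (X := ⟨(yon S).obj A, IsAlgSpace.yon_obj A⟩) (Y := VS) ⟨(yon S).map h⟩
      (((repWith_yon_map_iff (@IsFinite : MorphismProperty Scheme.{u}) h).2 hA).rep)).1
      ((repWith_yon_map_iff _ _).2 (inferInstanceAs (UniversallyClosed h.left)))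
  refine isFiniteMor_of_proper_lqf (X := P) (Y := VS) ⟨pV⟩ ⟨hsep, ⟨hlft, hqc⟩, huc⟩ ?_
  refine locP_of_chart (h := h) P.property.diag VS.property.diag hα hαs (repWith_id _ V)
    ((Category.comp_id _).trans hh.symm |>.trans (Category.comp_id _).symm) ?_
  exact ⟨inferInstanceAs (LocallyQuasiFinite h.left), inferInstanceAs (LocallyOfFiniteType h.left)⟩

/-- Finiteness over an open of an etale chart of the target descends to its image. -/
theorem exists_open_finite_descent {X Y : Space S} (f : X ⟶ Y) {V : Over S} {b : (yon S).obj V ⟶ Y.obj}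
    (hb : RepWith @Etale b) (D₀ : V.left.Opens)
    (hPD : IsFiniteMor (pullback.snd (pullback.snd f.hom b)
      ((yon S).map (Over.homMk D₀.ι rfl : Over.mk (D₀.ι ≫ V.hom) ⟶ V)))) :
    ∃ (Y' X' : Space S) (j : Y' ⟶ Y) (fst : X' ⟶ Y') (snd : X' ⟶ X), RepWith @IsOpenImmersion j.hom ∧
      Set.range (Points.map j.hom) =
        Set.range (Points.ofPt ((yon S).map (Over.homMk D₀.ι rfl : Over.mk (D₀.ι ≫ V.hom) ⟶ V) ≫ b)) ∧
      IsPullback fst.hom snd.hom j.hom f.hom ∧ IsFiniteMor fst.hom := by
  let D : Over S := Over.mk (D₀.ι ≫ V.hom)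
  let j : D ⟶ V := Over.homMk D₀.ι rfl
  have sqP := IsPullback.of_hasPullback f.hom b
  let pX := pullback.fst f.hom b
  let pV := pullback.snd f.hom b
  have hP := isAlgSpace_of_isPullback sqP X.property (IsAlgSpace.yon_obj V) Y.property.diag
  have sqD := IsPullback.of_hasPullback pV ((yon S).map j)
  let PD : Space S := ⟨pullback pV ((yon S).map j),
    isAlgSpace_of_isPullback sqD hP (IsAlgSpace.yon_obj D) (IsAlgSpace.yon_obj V).diag⟩
  let bD : (yon S).obj D ⟶ Y.obj := (yon S).map j ≫ b
  have hbD : RepWith @Etale bD := (repWith_isMultiplicative (S := S) @Etale).comp_mem _ _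
    ((repWith_yon_map_iff _ _).2 (inferInstanceAs (Etale D₀.ι))) hb
  let Wy := Set.range (Points.ofPt bD)
  have hWy : IsOpen Wy := by
    rw [show Wy = Points.ofPt bD '' Set.univ by simp [Wy]]
    exact isOpenMap_ofPt hbD _ isOpen_univ
  let Y' : Space S := ⟨restrictSheaf Y.obj Wy, isAlgSpace_restrictSheaf Y.property hWy⟩
  have hι := repWith_restrictι (F := Y.obj) hWy
  have : Mono (restrictι Y.obj Wy) := mono_of_repWith_le isOpenImmersion_le_monomorphisms hι
  have sqX := IsPullback.of_hasPullback f.hom (restrictι Y.obj Wy)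
  let X' : Space S := ⟨pullback f.hom (restrictι Y.obj Wy),
    isAlgSpace_of_isPullback sqX X.property Y'.property Y.property.diag⟩
  have hrange := range_map_restrictι (F := Y.obj) hWy
  obtain ⟨bD', hbD'⟩ := exists_factor_of_range_subset hι bD (by rw [hrange, range_map_yon])
  refine ⟨Y', X', ObjectProperty.homMk (restrictι Y.obj Wy), ObjectProperty.homMk (pullback.snd _ _),
    ObjectProperty.homMk (pullback.fst _ _), hι, hrange, sqX.flip, ?_⟩
  have hbe : RepWith @Etale bD' := by
    have sq1 : IsPullback bD' (𝟙 _) (restrictι Y.obj Wy) bD :=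
      IsPullback.of_isLimit (c := PullbackCone.mk bD' (𝟙 _) (by rw [Category.id_comp]; exact hbD'))
        (PullbackCone.IsLimit.mk _ (fun s => s.snd) (fun s => by
          rw [← cancel_mono (restrictι Y.obj Wy), Category.assoc, hbD']; exact s.condition.symm)
          (fun s => Category.comp_id _) (fun s m _ h2 => by rw [← h2, Category.comp_id]))
    have := (repWith_isStableUnderBaseChange (@Etale : MorphismProperty Scheme.{u})).of_isPullback sq1.flip hbD
    exact this
  have hbs : RepWith @Surjective bD' := by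
    refine (repWith_surjective_iff hbe.rep).2 fun z => ?_
    have hz : Points.map (restrictι Y.obj Wy) z ∈ Set.range (Points.ofPt bD) := hrange.le ⟨z, rfl⟩
    obtain ⟨d, hd⟩ := hz
    refine ⟨Points.ofScheme D d, (isEmbedding_map_of_openImmersion hι).isEmbedding.injective ?_⟩
    rw [← Points.map_comp, hbD', ← hd]
    exact (Points.ofPt_eq_map_ofScheme bD d).symm
  let m : PD.obj ⟶ X'.obj := sqX.lift (pullback.fst pV ((yon S).map j) ≫ pX)
    (pullback.snd pV ((yon S).map j) ≫ bD') (by
      rw [Category.assoc, Category.assoc, hbD', sqP.w, ← Category.assoc, sqD.w, Category.assoc])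
  have sqm : IsPullback m (pullback.snd pV ((yon S).map j)) (pullback.snd f.hom (restrictι Y.obj Wy)) bD' := by
    refine IsPullback.of_right ?_ (sqX.lift_snd _ _ _) sqX
    rw [sqX.lift_fst, hbD']
    exact sqD.paste_horiz sqP
  show IsFiniteMor (pullback.snd f.hom (restrictι Y.obj Wy))
  have := isFinite_descends.{u}
  exact (isFiniteMor_iff _).2 (repWith_of_etale_cover @IsFinite isFinite_le_affine hbe hbs sqm
    ((isFiniteMor_iff _).1 hPD))

theorem exists_finite_nhd_of_codim_zero {X Y : Space S} (f : X ⟶ Y) (hqs : IsQuasiSeparatedMor f.hom)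
    (hft : IsFiniteTypeMor f.hom) (y : Points Y.obj)
    (hy : HasAt (fun U u => ringKrullDim ↥(U.presheaf.stalk u) = 0) Y.obj y)
    (hqf : ∀ x : Points X.obj, Points.map f.hom x = y → HasAtMor QfAt f.hom x) :
    ∃ (Y' X' : Space S) (j : Y' ⟶ Y) (fst : X' ⟶ Y') (snd : X' ⟶ X), RepWith @IsOpenImmersion j.hom ∧
      y ∈ Set.range (Points.map j.hom) ∧ IsPullback fst.hom snd.hom j.hom f.hom ∧ IsFiniteMor fst.hom := by
  obtain ⟨V₀, b₀, v₀, hb₀, hv₀, hdim⟩ := hy
  obtain ⟨O, hO, hvO, hb⟩ := exists_affine_subchart hb₀ v₀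
  let V : Over S := Over.mk (O.ι ≫ V₀.hom)
  let b : (yon S).obj V ⟶ Y.obj := (yon S).map (Over.homMk O.ι rfl : V ⟶ V₀) ≫ b₀
  let v : ↥V.left := (⟨v₀, hvO⟩ : O.toScheme)
  have hv : Points.ofPt b v = y := by rw [ofPt_comp]; exact hv₀
  have hmax : Norm57.IsMax' v := fun w hw =>
    O.ι.isOpenEmbedding.injective (isMax_of_ringKrullDim_stalk_eq_zero hdim _ (hw.map O.ι.continuous))
  have := hO
  have sqP := IsPullback.of_hasPullback f.hom b
  let P : Space S := ⟨pullback f.hom b,
    isAlgSpace_of_isPullback sqP X.property (IsAlgSpace.yon_obj V) Y.property.diag⟩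
  let pX : P.obj ⟶ X.obj := pullback.fst f.hom b
  let pV : P.obj ⟶ (yon S).obj V := pullback.snd f.hom b
  have hlftV : LocP @LocallyOfFiniteType pV :=
    locP_baseChange sqP X.property Y.property (IsAlgSpace.yon_obj V) hft.1
  have := compactSpace_points_yon V
  have := compactSpace_of_isQuasiCompactMor hft.2 (IsAlgSpace.yon_obj V) sqP
  obtain ⟨A, α, hA, hα, hαs⟩ := exists_affine_chart_of_compactSpace P.property
  have := hA
  obtain ⟨h, hh⟩ := (yon S).map_surjective (α ≫ pV)
  have : LocallyOfFiniteType h.left :=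
    hlftV α (𝟙 _) h hα (repWith_id _ V) (by rw [Category.comp_id, hh])
  obtain ⟨R, r₁, r₂, sqR⟩ := exists_isPullback_yon P.property.diag α α
  -- the relation is quasi-compact over the chart
  have hqsV : RepWith @QuasiCompact (pullback.diagonal pV) :=
    (repWith_isStableUnderBaseChange _).of_isPullback (isPullback_diagonal_baseChange sqP) hqs
  obtain ⟨W, p, q, sqW⟩ := exists_isPullback_yon (IsAlgSpace.yon_obj V).diag (α ≫ pV) (α ≫ pV)
  have hWc : CompactSpace ↥W.left := by
    have sqW' := sqW
    rw [← hh] at sqW'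
    have sq' : IsPullback p q h h :=
      IsPullback.of_map (yon S) ((yon S).map_injective (by rw [Functor.map_comp, Functor.map_comp]; exact sqW'.w)) sqW'
    have : QuasiCompact h.left := (quasiCompact_iff_compactSpace h.left).2 inferInstance
    have : QuasiCompact q.left :=
      MorphismProperty.of_isPullback (P := @QuasiCompact) (sq'.map (Over.forget S)) ‹_›
    exact QuasiCompact.compactSpace_of_compactSpace q.left
  let β : (yon S).obj W ⟶ pullback pV pV := pullback.lift ((yon S).map p ≫ α) ((yon S).map q ≫ α)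
    (by rw [Category.assoc, Category.assoc]; exact sqW.w)
  obtain ⟨R₀, t, s, sqS⟩ := hqsV.rep β
  have : QuasiCompact t.left := hqsV.property β s t sqS
  have hR₀ : CompactSpace ↥R₀.left := QuasiCompact.compactSpace_of_compactSpace t.left
  have hβ1 : β ≫ pullback.fst pV pV = (yon S).map p ≫ α := pullback.lift_fst _ _ _
  have hβ2 : β ≫ pullback.snd pV pV = (yon S).map q ≫ α := pullback.lift_snd _ _ _
  have hRc : CompactSpace ↥R.left := by
    have hs1 : s = (yon S).map (t ≫ p) ≫ α := by
      rw [Functor.map_comp, Category.assoc, ← hβ1, ← Category.assoc, ← sqS.w, Category.assoc,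
        pullback.diagonal_fst, Category.comp_id]
    have hs2 : s = (yon S).map (t ≫ q) ≫ α := by
      rw [Functor.map_comp, Category.assoc, ← hβ2, ← Category.assoc, ← sqS.w, Category.assoc,
        pullback.diagonal_snd, Category.comp_id]
    obtain ⟨e, he⟩ := (yon S).map_surjective (sqR.lift ((yon S).map (t ≫ p)) ((yon S).map (t ≫ q))
      (hs1.symm.trans hs2))
    obtain ⟨w, hw⟩ := (yon S).map_surjective (sqW.lift ((yon S).map r₁) ((yon S).map r₂)
      (by rw [← Category.assoc, ← Category.assoc, sqR.w]))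
    obtain ⟨e', he'⟩ := (yon S).map_surjective (sqS.lift ((yon S).map r₁ ≫ α) ((yon S).map w) (by
      apply pullback.hom_ext
      · rw [Category.assoc, Category.assoc, pullback.diagonal_fst, Category.comp_id, Category.assoc, hβ1,
          ← Category.assoc, hw, sqW.lift_fst]
      · rw [Category.assoc, Category.assoc, pullback.diagonal_snd, Category.comp_id, Category.assoc, hβ2,
          ← Category.assoc, hw, sqW.lift_snd, sqR.w]))
    have hee : e' ≫ e = 𝟙 R := (yon S).map_injective (by
      rw [Functor.map_comp, he, (yon S).map_id]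
      have h1 : (yon S).map e' ≫ (yon S).map t = (yon S).map w := by rw [he', sqS.lift_snd]
      apply sqR.hom_ext
      · rw [Category.assoc, sqR.lift_fst, Category.id_comp, Functor.map_comp, ← Category.assoc, h1, hw,
          sqW.lift_fst]
      · rw [Category.assoc, sqR.lift_snd, Category.id_comp, Functor.map_comp, ← Category.assoc, h1, hw,
          sqW.lift_snd])
    have hsurj : Function.Surjective e.left := fun x => ⟨e'.left x, by
      rw [← Scheme.Hom.comp_apply, ← Over.comp_left, hee]; rfl⟩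
    exact hsurj.compactSpace e.left.continuous
  -- finite fibres
  have haX : RepWith @Etale (α ≫ pX) := (repWith_isMultiplicative (S := S) @Etale).comp_mem _ _ hα
    ((repWith_isStableUnderBaseChange _).of_isPullback sqP.flip hb)
  have w : (α ≫ pX) ≫ f.hom = (yon S).map h ≫ b := by rw [hh, Category.assoc, Category.assoc, sqP.w]
  have : QuasiCompact h.left := (quasiCompact_iff_compactSpace h.left).2 inferInstance
  have hfinA : (h.left ⁻¹' {v}).Finite := by
    refine (finite_quasiFiniteAt_fibre h.left v).subset fun a ha => ⟨ha, ?_⟩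
    have ha' : h.left a = v := ha
    obtain ⟨U₁, V₁, a₁, b₁, h₁, u₁, ha₁, hb₁, w₁, hu₁, hd⟩ := hqf (Points.ofPt (α ≫ pX) a)
      (by rw [Points.map_ofPt, w, ofPt_comp, ha', hv])
    have := hft.1 a₁ b₁ h₁ ha₁ hb₁ w₁
    exact forall_diagram_of_hasAtMor X.property Y.property
      (Q := fun _ _ h u => FlatMor.fibreDimAt h u ≤ ((0 : ℕ) : WithBot ℕ∞))
      (etInv_fibreDim (· ≤ ((0 : ℕ) : WithBot ℕ∞)))
      ⟨U₁, V₁, a₁, b₁, h₁, u₁, ha₁, hb₁, w₁, hu₁, (nearPt_lqf_iff h₁.left u₁).1 hd⟩ haX hb w rfl
  have hr₁ : Etale r₁.left := etale_snd_of_isPullback sqR.flip hα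
  have : QuasiCompact r₁.left := HasAffineProperty.iff_of_isAffine.mpr hRc
  have : LocallyQuasiFinite r₁.left := etale_locallyQuasiFinite r₁.left hr₁
  have hfinR : ((r₁ ≫ h).left ⁻¹' {v}).Finite := by
    refine (r₁.left.finite_preimage hfinA).subset fun r hr => ?_
    exact hr
  have : LocallyOfFiniteType (r₁ ≫ h).left := by rw [Over.comp_left]; infer_instance
  have : QuasiCompact (r₁ ≫ h).left := by rw [Over.comp_left]; infer_instance
  have : QuasiSeparated (r₁ ≫ h).left := by
    have : QuasiSeparatedSpace ↥R.left := by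
      have hRW : ∃ w : R ⟶ W, Mono w.left := by
        obtain ⟨w, hw⟩ := (yon S).map_surjective (sqW.lift ((yon S).map r₁) ((yon S).map r₂)
          (by rw [← Category.assoc, ← Category.assoc, sqR.w]))
        refine ⟨w, ?_⟩
        have hwp : w ≫ p = r₁ := (yon S).map_injective (by rw [Functor.map_comp, hw, sqW.lift_fst])
        have hwq : w ≫ q = r₂ := (yon S).map_injective (by rw [Functor.map_comp, hw, sqW.lift_snd])
        have : Mono w := ⟨fun {T} g₁ g₂ e => (yon S).map_injective (sqR.hom_ext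
          (by rw [← Functor.map_comp, ← Functor.map_comp, ← hwp, ← Category.assoc, e, Category.assoc])
          (by rw [← Functor.map_comp, ← Functor.map_comp, ← hwq, ← Category.assoc, e, Category.assoc]))⟩
        exact (inferInstance : Mono ((Over.forget S).map w))
      obtain ⟨w, hwm⟩ := hRW
      have sqW' := sqW
      rw [← hh] at sqW'
      have sq' : IsPullback p q h h :=
        IsPullback.of_map (yon S) ((yon S).map_injective (by rw [Functor.map_comp, Functor.map_comp]; exact sqW'.w)) sqW'
      have : AlgebraicGeometry.IsSeparated q.left :=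
        MorphismProperty.of_isPullback (P := @AlgebraicGeometry.IsSeparated) (sq'.map (Over.forget S)) (inferInstanceAs (AlgebraicGeometry.IsSeparated h.left))
      have : AlgebraicGeometry.IsSeparated (w.left ≫ q.left) := inferInstance
      exact quasiSeparatedSpace_of_quasiSeparated (w.left ≫ q.left)
    exact QuasiSeparated.of_quasiSeparatedSpace _
  have hvc : closure {v} ∈ irreducibleComponents ↥V.left := Norm57.isMax'_iff.1 hmax
  obtain ⟨D₁, -, hvD₁, hf₁⟩ := (S2080.result h.left v hvc).1 hfinA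
  obtain ⟨D₂, -, hvD₂, hf₂⟩ := (S2080.result (r₁ ≫ h).left v hvc).1 hfinR
  let D₀ : V.left.Opens := D₁ ⊓ D₂
  let D : Over S := Over.mk (D₀.ι ≫ V.hom)
  let j : D ⟶ V := Over.homMk D₀.ι rfl
  have : Mono j.left := inferInstanceAs (Mono D₀.ι)
  have : Mono j := (Over.forget S).mono_of_mono_map (inferInstanceAs (Mono j.left))
  have sqD := IsPullback.of_hasPullback pV ((yon S).map j)
  let PD : Space S := ⟨pullback pV ((yon S).map j),
    isAlgSpace_of_isPullback sqD P.property (IsAlgSpace.yon_obj D) (IsAlgSpace.yon_obj V).diag⟩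
  obtain ⟨A', R', α', h', r₁', r₂', hα', hαr, hh', sqR', -, ⟨a, sqA⟩, ⟨c, sqC⟩⟩ :=
    exists_restricted_chart hα hh j sqD sqR
  have hαs' : RepWith @Surjective α' :=
    repWith_surjective_of_surjective_ofPt hα'.1 fun z => hαr z (surjective_ofPt hαs _)
  have hfin : ∀ {Z : Over S} (g : Z ⟶ V) (D' : V.left.Opens), D₀ ≤ D' → IsFinite (g.left ∣_ D') →
      ∀ {Z' : Over S} (a : Z' ⟶ Z) (g' : Z' ⟶ D), IsPullback a g' g j → IsFinite g'.left := by
    intro Z g D' hle hg Z' a g' sq
    have sq₀ : IsPullback a.left g'.left g.left D₀.ι := sq.map (Over.forget S)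
    have h1 := (isPullback_morphismRestrict g.left D').flip
    let l : Z'.left ⟶ (g.left ⁻¹ᵁ D').toScheme :=
      h1.lift a.left (g'.left ≫ V.left.homOfLE hle) (by rw [sq₀.w, Category.assoc, Scheme.homOfLE_ι])
    have hl : IsPullback l g'.left (g.left ∣_ D') (V.left.homOfLE hle) :=
      IsPullback.of_right (by rw [h1.lift_fst, Scheme.homOfLE_ι]; exact sq₀) (h1.lift_snd _ _ _) h1
    exact MorphismProperty.of_isPullback (P := @IsFinite) hl hg
  have hPD : IsFiniteMor (pullback.snd pV ((yon S).map j)) := by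
    refine isFiniteMor_of_finite_chart (P := PD) _
      (locP_baseChange sqD P.property (IsAlgSpace.yon_obj V) (IsAlgSpace.yon_obj D) hlftV)
      (isQuasiCompactMor_baseChange (isQuasiCompactMor_baseChange hft.2 sqP) sqD) hα' hαs' hh' sqR'
      (hfin h D₁ inf_le_left hf₁ a h' sqA) (hfin (r₁ ≫ h) D₂ inf_le_right hf₂ c _ sqC)
  obtain ⟨Y', X', j', fst, snd, h1, h2, h3, h4⟩ := exists_open_finite_descent f hb D₀ hPD
  exact ⟨Y', X', j', fst, snd, h1, h2.ge ⟨(⟨v, hvD₁, hvD₂⟩ : D₀.toScheme), by
    show Points.ofPt ((yon S).map j ≫ b) _ = y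
    rw [ofPt_comp]; exact hv⟩, h3, h4⟩

end Groth.Agent.SpProper61
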