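import Groth.Agent.SpProper61.IntegralGeneric

/-!
Quasi-finiteness over a point of codimension zero.
-/

universe u

set_option autoImplicit false
set_option backward.isDefEq.respectTransparency false

open CategoryTheory CategoryTheory.Limits AlgebraicGeometry Topology
open AlgSp Groth.Agent.SpFP87 Groth.Agent.SpPts86

namespace Groth.Agent.SpProper61

theorem qfAt_of_maximal_fibre {U V : Scheme.{u}} (h : U ⟶ V) [LocallyOfFiniteType h] (u : U)
    (H : ∀ c : U, h c = h u → ∀ w : U, w ⤳ c → w = c) : QfAt U V h u := by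
  refine (quasiFiniteAt_iff_nearPt h u).1 (VarGal.quasiFiniteAt_of_fdeg_eq_zero h u fun z hz _ => ?_)
  obtain rfl := H u rfl z hz
  have hs : closure {z} ∩ h ⁻¹' {h z} = {z} := by
    refine subset_antisymm ?_ (by simp [subset_closure (Set.mem_singleton z)])
    rintro c ⟨hc, hfc⟩
    exact (H c hfc z (specializes_iff_mem_closure.2 hc)).symm
  have h1 := E4O.dim_fibreClosure (f := h) z
  rw [hs] at h1
  have h2 := h1.symm.trans_le (topologicalKrullDim_zero_of_discreteTopology ↥({z} : Set U))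
  exact Nat.le_zero.1 (Nat.cast_le.1 (h2.trans (by simp)))

theorem eq_of_specializes_of_qfAt {U V : Scheme.{u}} (h : U ⟶ V) [LocallyOfFiniteType h] {η u : U}
    (hq : QfAt U V h η) (hs : η ⤳ u) (he : h η = h u) : η = u := by
  obtain ⟨c, hc⟩ := (h.range_fiberι (h η)).ge (show u ∈ h ⁻¹' {h η} from he.symm)
  have hs' : h.asFiber η ⤳ c := (h.fiberι (h η)).isEmbedding.isInducing.specializes_iff.1
    (by rw [Scheme.Hom.fiberι_asFiber, hc]; exact hs)
  rw [← hc, show c = h.asFiber η from
    hs'.mem_closed ((quasiFiniteAt_iff_nearPt h η).2 hq).isClopen_singleton_asFiber.1 rfl,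
    Scheme.Hom.fiberι_asFiber]

variable {S : Scheme.{u}} {X Y : Space S}

theorem maximal_of_codimZero {F : Space S} {U : Over S} {a : (yon S).obj U ⟶ F.obj} (ha : RepWith @Etale a)
    {u : ↥U.left} {x : Points F.obj} (hu : Points.ofPt a u = x)
    (hx : HasAt (fun U u => ringKrullDim ↥(U.presheaf.stalk u) = 0) F.obj x) : ∀ w : ↥U.left, w ⤳ u → w = u :=
  (SpFP87.dim_stalk_eq_zero_iff u).1
    (forall_chart_of_hasAt F.property (Q := fun U u => ringKrullDim ↥(U.presheaf.stalk u) = 0)
      (fun g hg a => invariant_stalkDim 0 g hg a) hx ha hu)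

theorem qf_of_codimZero_fibre (f : X ⟶ Y) (hf : LocP @LocallyOfFiniteType f.hom) (y : Points Y.obj)
    (h1 : ∀ x : Points X.obj, Points.map f.hom x = y →
      HasAt (fun U u => ringKrullDim ↥(U.presheaf.stalk u) = 0) X.obj x)
    (x : Points X.obj) (hx : Points.map f.hom x = y) : HasAtMor QfAt f.hom x := by
  obtain ⟨U, V, a, b, h, u, ha, hb, w, hu⟩ := exists_diagram_through X.property Y.property f.hom x
  have : LocallyOfFiniteType h.left := hf a b h ha hb w
  refine ⟨U, V, a, b, h, u, ha, hb, w, hu, qfAt_of_maximal_fibre h.left u fun c hc => ?_⟩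
  refine maximal_of_codimZero ha rfl (h1 _ ?_)
  rw [Points.map_ofPt, w, ofPt_comp, hc, ← ofPt_comp, ← w, ← Points.map_ofPt, hu, hx]

theorem codimZero_of_qf_fibre (f : X ⟶ Y) (hf : LocP @LocallyOfFiniteType f.hom) (y : Points Y.obj)
    (hy : HasAt (fun U u => ringKrullDim ↥(U.presheaf.stalk u) = 0) Y.obj y)
    (h3 : ∀ x : Points X.obj, Points.map f.hom x = y →
      HasAt (fun U u => ringKrullDim ↥(U.presheaf.stalk u) = 0) X.obj x → HasAtMor QfAt f.hom x)
    (x : Points X.obj) (hx : Points.map f.hom x = y) :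
    HasAt (fun U u => ringKrullDim ↥(U.presheaf.stalk u) = 0) X.obj x := by
  obtain ⟨U, V, a, b, h, u, ha, hb, w, hu⟩ := exists_diagram_through X.property Y.property f.hom x
  have : LocallyOfFiniteType h.left := hf a b h ha hb w
  obtain ⟨η, hηu, hη⟩ := VarGal.exists_maximal_generization_top u
  have hv : Points.ofPt b (h.left u) = y := by rw [← hx, ← hu, Points.map_ofPt, w, ofPt_comp]
  have he : h.left η = h.left u := maximal_of_codimZero hb hv hy _ (hηu.map h.left.continuous)
  have hηy : Points.map f.hom (Points.ofPt a η) = y := by rw [Points.map_ofPt, w, ofPt_comp, he, hv]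
  have hq := forall_diagram_of_hasAtMor X.property Y.property etInv_qfAt
    (h3 _ hηy (hasAt_codimZero_ofPt ha hη)) ha hb w rfl
  rw [← hu, ← eq_of_specializes_of_qfAt h.left hq hηu he]
  exact hasAt_codimZero_ofPt ha hη

theorem trdeg_zero_generic_iff (hXi : IsIntegralSp X.obj) (hYi : IsIntegralSp Y.obj) (f : X ⟶ Y)
    (hft : LocP @LocallyOfFiniteType f.hom) (hd : IsDominantMor f.hom)
    (x : Points X.obj) (hx : IsGenericPoint x (Set.univ : Set (Points X.obj)))
    (y : Points Y.obj) (hy : IsGenericPoint y (Set.univ : Set (Points Y.obj))) :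
    HasAtMor (fun _ _ h u => Dual3.resTrdeg h u = 0) f.hom x ↔
      ∀ x' : Points X.obj, Points.map f.hom x' = y → x' = x := by
  rw [← qfAt_generic_iff hXi hYi f hft hd x hx y hy]
  constructor
  · rintro ⟨U, V, a, b, h, u, ha, hb, w, hu, h0⟩
    have := hft a b h ha hb w
    refine ⟨U, V, a, b, h, u, ha, hb, w, hu, (quasiFiniteAt_iff_nearPt h.left u).1 ?_⟩
    rw [resTrdeg_eq_fdeg] at h0
    refine VarGal.quasiFiniteAt_of_fdeg_eq_zero h.left u fun z hz _ => ?_
    rw [maximal_of_ofPt_eq_generic hXi.2.1 hx ha hu z hz]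
    exact_mod_cast h0
  · rintro ⟨U, V, a, b, h, u, ha, hb, w, hu, hq⟩
    have := hft a b h ha hb w
    refine ⟨U, V, a, b, h, u, ha, hb, w, hu, ?_⟩
    show Dual3.resTrdeg h.left u = 0
    rw [resTrdeg_eq_fdeg, fdeg_eq_zero_of_qfAt h.left u hq, Nat.cast_zero]

end Groth.Agent.SpProper61
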