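import Groth.Agent.SpProper61.GenericFinite
import Groth.Agent.SpProper61.CodimZeroFib
import Groth.Agent.SpProper61.FibreProdFin
import Groth.Agent.SpFP87.DecentDesc

/-!
Finiteness over a dense open when the codimension zero points are finite and correspond.
-/

universe u

set_option autoImplicit false
set_option backward.isDefEq.respectTransparency false

open CategoryTheory CategoryTheory.Limits AlgebraicGeometry Topology
open AlgSp Groth.Agent.SpFP87 Groth.Agent.SpPts86

namespace Groth.Agent.SpProper61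

theorem maximal_iff_of_etale {A B : Scheme.{u}} (g : A ⟶ B) [Etale g] (a : A) :
    (∀ w : A, w ⤳ a → w = a) ↔ ∀ w : B, w ⤳ g a → w = g a := by
  rw [← SpFP87.dim_stalk_eq_zero_iff, ← SpFP87.dim_stalk_eq_zero_iff, ringKrullDim_stalk_etale g a]

theorem isFinite_restrict_iSup {X Y : Scheme.{u}} (g : X ⟶ Y) {ι : Type*} (D : ι → Y.Opens)
    (h : ∀ i, IsFinite (g ∣_ D i)) : IsFinite (g ∣_ ⨆ i, D i) := by
  let D₀ : Y.Opens := ⨆ i, D i
  refine (IsZariskiLocalAtTarget.iff_of_iSup_eq_top (P := @IsFinite) (fun i => D₀.ι ⁻¹ᵁ D i) ?_).2 fun i => ?_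
  · refine top_le_iff.1 fun z _ => ?_
    obtain ⟨i, hi⟩ := TopologicalSpace.Opens.mem_iSup.1 z.2
    exact TopologicalSpace.Opens.mem_iSup.2 ⟨i, hi⟩
  · refine (MorphismProperty.arrow_mk_iso_iff @IsFinite (morphismRestrictRestrict g D₀ (D₀.ι ⁻¹ᵁ D i))).2 ?_
    have e : D₀.ι ''ᵁ (D₀.ι ⁻¹ᵁ D i) = D i := by
      rw [Scheme.Hom.image_preimage_eq_opensRange_inf, Scheme.Opens.opensRange_ι]
      exact inf_eq_right.2 (le_iSup D i)
    rw [e]
    exact h i

/-- If an open containing the maximal points over `D` is finite over `D`, it is everything over `D`. -/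
theorem preimage_le_and_finite_of_open {R V : Scheme.{u}} (g : R ⟶ V) [AlgebraicGeometry.IsSeparated g] (R₀ : R.Opens) (D : V.Opens)
    (hfin : IsFinite ((R₀.ι ≫ g) ∣_ D)) (hmax : ∀ m : R, (∀ w : R, w ⤳ m → w = m) → g m ∈ D → m ∈ R₀) :
    g ⁻¹ᵁ D ≤ R₀ ∧ IsFinite (g ∣_ D) := by
  rw [morphismRestrict_comp] at hfin
  let ι' := R₀.ι ∣_ (g ⁻¹ᵁ D)
  have : AlgebraicGeometry.IsSeparated (g ∣_ D) := MorphismProperty.of_isPullback (P := @AlgebraicGeometry.IsSeparated)
    (isPullback_morphismRestrict g D).flip ‹_›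
  have : IsFinite (ι' ≫ g ∣_ D) := hfin
  have hι : IsFinite ι' := IsFinite.of_comp ι' (g ∣_ D)
  have hrange : ∀ x : (g ⁻¹ᵁ D).toScheme, x.1 ∈ R₀ ↔ x ∈ Set.range ι' := by
    intro x
    constructor
    · intro hx
      exact ⟨⟨⟨x.1, hx⟩, x.2⟩, Subtype.ext (morphismRestrict_base_coe _ _ _)⟩
    · rintro ⟨z, rfl⟩
      rw [morphismRestrict_base_coe]
      exact z.1.2
  have hsurj : ∀ x : (g ⁻¹ᵁ D).toScheme, x ∈ Set.range ι' := by
    intro x
    obtain ⟨m, hmx, hm⟩ := VarGal.exists_maximal_generization_top x.1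
    have hmD : m ∈ g ⁻¹ᵁ D := hmx.mem_open (g ⁻¹ᵁ D).isOpen x.2
    have hx : (⟨m, hmD⟩ : (g ⁻¹ᵁ D).toScheme) ⤳ x := (subtype_specializes_iff _ _).2 hmx
    exact hx.mem_closed ι'.isClosedMap.isClosed_range ((hrange _).1 (hmax m hm hmD))
  refine ⟨fun x hx => (hrange ⟨x, hx⟩).2 (hsurj _), ?_⟩
  have : IsOpenImmersion ι' := inferInstance
  have : Surjective ι' := ⟨fun x => hsurj x⟩
  have : IsIso ι' := (isIso_iff_isOpenImmersion_and_epi_base ι').2
    ⟨inferInstance, (TopCat.epi_iff_surjective _).2 this.surj⟩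
  exact (MorphismProperty.cancel_left_of_respectsIso @IsFinite ι' _).1 hfin

theorem isPullback_restrict_le {X Y : Scheme.{u}} (g : X ⟶ Y) {D D' : Y.Opens} (h : D ≤ D') :
    ∃ l, IsPullback l (g ∣_ D) (g ∣_ D') (Y.homOfLE h) := by
  have h1 := (isPullback_morphismRestrict g D').flip
  refine ⟨h1.lift (g ⁻¹ᵁ D).ι ((g ∣_ D) ≫ Y.homOfLE h)
    (by rw [Category.assoc, Scheme.homOfLE_ι, morphismRestrict_ι]), ?_⟩
  refine IsPullback.of_right ?_ (h1.lift_snd _ _ _) h1
  rw [h1.lift_fst, Scheme.homOfLE_ι]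
  exact (isPullback_morphismRestrict g D).flip

theorem isFinite_restrict_le {X Y : Scheme.{u}} (g : X ⟶ Y) {D D' : Y.Opens} (h : D ≤ D')
    (hf : IsFinite (g ∣_ D')) : IsFinite (g ∣_ D) :=
  MorphismProperty.of_isPullback (P := @IsFinite) (isPullback_restrict_le g h).choose_spec hf

variable {S : Scheme.{u}}

/-- The product of two charts over a space is the pullback of the diagonal. -/
theorem isClosedImmersion_chart_prod {P : Space S} {V A₁ A₂ W Q : Over S} (pV : P.obj ⟶ (yon S).obj V)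
    (hsep : IsSeparatedMor pV) {a₁ : (yon S).obj A₁ ⟶ P.obj} {a₂ : (yon S).obj A₂ ⟶ P.obj} {g₁ : A₁ ⟶ V}
    {g₂ : A₂ ⟶ V} (hg₁ : (yon S).map g₁ = a₁ ≫ pV) (hg₂ : (yon S).map g₂ = a₂ ≫ pV) {r₁ : Q ⟶ A₁} {r₂ : Q ⟶ A₂}
    (sqQ : IsPullback ((yon S).map r₁) ((yon S).map r₂) a₁ a₂) {p : W ⟶ A₁} {q : W ⟶ A₂}
    (sqW : IsPullback ((yon S).map p) ((yon S).map q) ((yon S).map g₁) ((yon S).map g₂)) :
    ∃ δ : Q ⟶ W, IsClosedImmersion δ.left ∧ δ ≫ p = r₁ ∧ δ ≫ q = r₂ := by
  obtain ⟨δ, hδ⟩ := (yon S).map_surjective (sqW.lift ((yon S).map r₁) ((yon S).map r₂)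
    (by rw [hg₁, hg₂, ← Category.assoc, ← Category.assoc, sqQ.w]))
  have hδ1 : δ ≫ p = r₁ := (yon S).map_injective (by rw [Functor.map_comp, hδ, sqW.lift_fst])
  have hδ2 : δ ≫ q = r₂ := (yon S).map_injective (by rw [Functor.map_comp, hδ, sqW.lift_snd])
  have sqP := IsPullback.of_hasPullback pV pV
  let β : (yon S).obj W ⟶ pullback pV pV := pullback.lift ((yon S).map p ≫ a₁) ((yon S).map q ≫ a₂)
    (by rw [Category.assoc, Category.assoc, ← hg₁, ← hg₂]; exact sqW.w)
  have hβ1 : β ≫ pullback.fst pV pV = (yon S).map p ≫ a₁ := pullback.lift_fst _ _ _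
  have hβ2 : β ≫ pullback.snd pV pV = (yon S).map q ≫ a₂ := pullback.lift_snd _ _ _
  have hw : ((yon S).map r₁ ≫ a₁) ≫ pullback.diagonal pV = (yon S).map δ ≫ β := by
    apply sqP.hom_ext
    · rw [Category.assoc, Category.assoc, pullback.diagonal_fst, Category.comp_id, Category.assoc, hβ1,
        ← Category.assoc, ← Functor.map_comp, hδ1]
    · rw [Category.assoc, Category.assoc, pullback.diagonal_snd, Category.comp_id, Category.assoc, hβ2,
        ← Category.assoc, ← Functor.map_comp, hδ2, sqQ.w]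
  have sqΔ : IsPullback ((yon S).map r₁ ≫ a₁) ((yon S).map δ) (pullback.diagonal pV) β := by
    have e1 : ∀ s : PullbackCone (pullback.diagonal pV) β,
        (s.snd ≫ (yon S).map p) ≫ a₁ = s.fst ∧ (s.snd ≫ (yon S).map q) ≫ a₂ = s.fst := fun s => by
      constructor
      · rw [Category.assoc, ← hβ1, ← Category.assoc, ← s.condition, Category.assoc, pullback.diagonal_fst,
          Category.comp_id]
      · rw [Category.assoc, ← hβ2, ← Category.assoc, ← s.condition, Category.assoc, pullback.diagonal_snd,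
          Category.comp_id]
    refine IsPullback.of_isLimit (c := PullbackCone.mk _ _ hw) (PullbackCone.IsLimit.mk _
      (fun s => sqQ.lift (s.snd ≫ (yon S).map p) (s.snd ≫ (yon S).map q) ((e1 s).1.trans (e1 s).2.symm))
      (fun s => ?_) (fun s => ?_) (fun s m hm1 hm2 => ?_))
    · rw [← Category.assoc, sqQ.lift_fst, (e1 s).1]
    · apply sqW.hom_ext
      · rw [Category.assoc, ← Functor.map_comp, hδ1, sqQ.lift_fst]
      · rw [Category.assoc, ← Functor.map_comp, hδ2, sqQ.lift_snd]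
    · apply sqQ.hom_ext
      · rw [sqQ.lift_fst, ← hm2, Category.assoc, ← Functor.map_comp, hδ1]
      · rw [sqQ.lift_snd, ← hm2, Category.assoc, ← Functor.map_comp, hδ2]
  exact ⟨δ, hsep.property β _ δ sqΔ, hδ1, hδ2⟩

/-- For a separated space, a chart which is finite over an open and meets the codimension zero points covers. -/
theorem mem_range_of_finite_chart {P : Space S} {V A : Over S} (pV : P.obj ⟶ (yon S).obj V)
    (hsep : IsSeparatedMor pV) {α : (yon S).obj A ⟶ P.obj} {h : A ⟶ V}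
    (hh : (yon S).map h = α ≫ pV) (D : V.left.Opens) (hf : IsFinite (h.left ∣_ D))
    (hcov : ∀ x : Points P.obj, HasAt (fun U u => ringKrullDim ↥(U.presheaf.stalk u) = 0) P.obj x →
      x ∈ Set.range (Points.ofPt α))
    (z : Points P.obj) (hz : Points.map pV z ∈ Points.ofScheme V '' (D : Set ↥V.left)) :
    z ∈ Set.range (Points.ofPt α) := by
  obtain ⟨U, a, ha, has⟩ := P.property.atlas
  obtain ⟨u, rfl⟩ := surjective_ofPt has z
  obtain ⟨g, hg⟩ := (yon S).map_surjective (a ≫ pV)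
  obtain ⟨d, hd, hdz⟩ := hz
  have hu : g.left u ∈ D := by
    have e : Points.ofScheme V d = Points.ofScheme V (g.left u) := by
      rw [hdz, Points.map_ofPt, ← hg, ofPt_yon_map]
    have e' : d = g.left u :=
      ((Points.toScheme_ofScheme V d).symm.trans (congrArg (Points.toScheme V) e)).trans (Points.toScheme_ofScheme V _)
    exact e' ▸ hd
  obtain ⟨Q, qU, qA, sqQ⟩ := exists_isPullback_yon P.property.diag a α
  obtain ⟨W, pU, pA, sqW⟩ := exists_isPullback_yon (IsAlgSpace.yon_obj V).diag ((yon S).map g) ((yon S).map h)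
  obtain ⟨δ, hδ, hδ1, -⟩ := isClosedImmersion_chart_prod pV hsep hg hh sqQ sqW
  -- `qU` is finite over the preimage of `D`
  have hqU : IsFinite (qU.left ∣_ (g.left ⁻¹ᵁ D)) := by
    have hpU : IsFinite (pU.left ∣_ (g.left ⁻¹ᵁ D)) := by
      have hs := isPullback_left_of_yon sqW
      have h1 := (isPullback_morphismRestrict h.left D).flip
      have h3 : IsPullback (pU.left ∣_ (g.left ⁻¹ᵁ D)) ((pU.left ⁻¹ᵁ (g.left ⁻¹ᵁ D)).ι ≫ pA.left)
          ((g.left ∣_ D) ≫ D.ι) h.left := by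
        rw [morphismRestrict_ι]
        exact (isPullback_morphismRestrict pU.left (g.left ⁻¹ᵁ D)).paste_vert hs
      let l := h1.lift ((pU.left ⁻¹ᵁ (g.left ⁻¹ᵁ D)).ι ≫ pA.left) ((pU.left ∣_ (g.left ⁻¹ᵁ D)) ≫ (g.left ∣_ D))
        (by rw [h3.flip.w, Category.assoc])
      have h4 : IsPullback l (pU.left ∣_ (g.left ⁻¹ᵁ D)) (h.left ∣_ D) (g.left ∣_ D) :=
        IsPullback.of_right (by rw [h1.lift_fst]; exact h3.flip) (h1.lift_snd _ _ _) h1
      exact MorphismProperty.of_isPullback (P := @IsFinite) h4 hf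
    rw [← hδ1, Over.comp_left, morphismRestrict_comp]
    have := hpU
    have : IsClosedImmersion (δ.left ∣_ (pU.left ⁻¹ᵁ (g.left ⁻¹ᵁ D))) :=
      MorphismProperty.of_isPullback (P := @IsClosedImmersion) (isPullback_morphismRestrict δ.left _).flip hδ
    infer_instance
  obtain ⟨m, hmu, hm⟩ := VarGal.exists_maximal_generization_top u
  have hmD : m ∈ g.left ⁻¹ᵁ D := hmu.mem_open (g.left ⁻¹ᵁ D).isOpen hu
  obtain ⟨a₀, ha₀⟩ := hcov _ (hasAt_codimZero_ofPt ha hm)
  obtain ⟨s, hs, -⟩ := exists_of_isPullback sqQ (Points.ofScheme U m) (Points.ofScheme A a₀)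
    (by rw [← Points.ofPt_eq_map_ofScheme, ← Points.ofPt_eq_map_ofScheme, ha₀])
  obtain ⟨k, rfl⟩ : ∃ k, Points.ofScheme Q k = s := ⟨_, Points.ofScheme_toScheme Q _⟩
  have hk : qU.left k = m := by
    refine ((Points.toScheme_ofScheme U _).symm.trans (congrArg (Points.toScheme U) ?_)).trans (Points.toScheme_ofScheme U m)
    rw [← hs, Points.map_ofPt, Category.id_comp, ofPt_yon_map]
  let F := qU.left ∣_ (g.left ⁻¹ᵁ D)
  have hmem : (⟨m, hmD⟩ : (g.left ⁻¹ᵁ D).toScheme) ∈ Set.range F :=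
    ⟨⟨k, by show qU.left k ∈ g.left ⁻¹ᵁ D; rw [hk]; exact hmD⟩, Subtype.ext (by rw [morphismRestrict_base_coe]; exact hk)⟩
  obtain ⟨k', hk'⟩ := (show (⟨m, hmD⟩ : (g.left ⁻¹ᵁ D).toScheme) ⤳ ⟨u, hu⟩ from
    (subtype_specializes_iff _ _).2 hmu).mem_closed F.isClosedMap.isClosed_range hmem
  refine ⟨qA.left k'.1, ?_⟩
  have e : qU.left k'.1 = u := by
    have := congrArg Subtype.val hk'
    rwa [morphismRestrict_base_coe] at this
  rw [← e, ← ofPt_comp, ← ofPt_comp, sqQ.w]

theorem exists_affine_chart_containing {F : Sp S} (hF : IsAlgSpace F) (T : Set (Points F)) (hT : T.Finite) :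
    ∃ (U : Over S) (p : (yon S).obj U ⟶ F), IsAffine U.left ∧ RepWith @Etale p ∧ T ⊆ Set.range (Points.ofPt p) := by
  classical
  obtain ⟨U, p, he, hs⟩ := hF.atlas
  have key : ∀ x : Points F, ∃ V : U.left.affineOpens, x ∈ Points.ofPt p '' ((V.1 : U.left.Opens) : Set ↥U.left) := by
    intro x
    obtain ⟨t, rfl⟩ := surjective_ofPt hs x
    obtain ⟨V, hV, htV, -⟩ := exists_isAffineOpen_mem_and_subset (x := t) (U := ⊤) (Set.mem_univ t)
    exact ⟨⟨V, hV⟩, t, htV, rfl⟩
  choose c hc using key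
  let s : Finset U.left.affineOpens := hT.toFinset.image c
  refine ⟨sigmaOpens U (fun V : s => V.1.1), (yon S).map (sigmaOpensMap U _) ≫ p,
    isAffine_sigmaOpens _ _ fun V => V.1.2, repWith_etale_comp _ he, fun x hx => ?_⟩
  obtain ⟨t, ht, rfl⟩ := hc x
  have : t ∈ Set.range (sigmaOpensMap U (fun V : s => V.1.1)).left := by
    rw [range_sigmaOpensMap]
    exact Set.mem_iUnion.2 ⟨⟨_, Finset.mem_image_of_mem c (hT.mem_toFinset.2 hx)⟩, ht⟩
  obtain ⟨v, hv⟩ := this
  exact ⟨v, by rw [ofPt_comp, hv]⟩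

theorem isQuasiCompactMor_of_finite_chart {P : Space S} {A V : Over S} (pV : P.obj ⟶ (yon S).obj V)
    {α : (yon S).obj A ⟶ P.obj} (hαs : RepWith @Surjective α) {h : A ⟶ V}
    (hh : (yon S).map h = α ≫ pV) (hA : IsFinite h.left) : IsQuasiCompactMor pV := by
  refine isQuasiCompactMor_of_affine P.property (IsAlgSpace.yon_obj V) fun T hT g Q fst snd sq => ?_
  obtain ⟨W, a, t, sqW⟩ := exists_isPullback_yon (IsAlgSpace.yon_obj V).diag ((yon S).map h) g
  obtain ⟨g₀, rfl⟩ := (yon S).map_surjective g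
  have : IsFinite t.left := MorphismProperty.of_isPullback (P := @IsFinite) (isPullback_left_of_yon sqW) hA
  have := hT
  have : IsAffine W.left := isAffine_of_isAffineHom t.left
  let ψ : (yon S).obj W ⟶ Q := sq.lift ((yon S).map a ≫ α) ((yon S).map t)
    (by rw [Category.assoc, ← hh]; exact sqW.w)
  have sqψ : IsPullback ψ ((yon S).map a) fst α :=
    IsPullback.of_right (by rw [sq.lift_snd, ← hh]; exact sqW.flip) (sq.lift_fst _ _ _) sq.flip
  exact (surjective_ofPt ((repWith_isStableUnderBaseChange (@Surjective : MorphismProperty Scheme.{u})).of_isPullback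
    sqψ.flip hαs)).compactSpace (Points.continuous_ofPt ψ)

variable {P : Space S} {V A : Over S}

set_option maxHeartbeats 1000000 in
theorem exists_open_finite_chart [IsAffine V.left] [IsAffine A.left] (pV : P.obj ⟶ (yon S).obj V)
    (hlft : LocP @LocallyOfFiniteType pV) {α : (yon S).obj A ⟶ P.obj} (hα : RepWith @Etale α)
    {h : A ⟶ V} (hh : (yon S).map h = α ≫ pV)
    (hM : {v : ↥V.left | ∀ w, w ⤳ v → w = v}.Finite)
    (hpre : ∀ (U : Over S) (a : (yon S).obj U ⟶ P.obj) (g : U ⟶ V), RepWith @Etale a → (yon S).map g = a ≫ pV →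
      ∀ u : ↥U.left, (∀ w, w ⤳ u → w = u) ↔ ∀ w, w ⤳ g.left u → w = g.left u)
    (hcase : RepWith @Surjective α ∨ (IsSeparatedMor pV ∧
      ∀ x : Points P.obj, HasAt (fun U u => ringKrullDim ↥(U.presheaf.stalk u) = 0) P.obj x →
        x ∈ Set.range (Points.ofPt α))) :
    ∃ D₀ : V.left.Opens, (∀ v : ↥V.left, (∀ w, w ⤳ v → w = v) → v ∈ D₀) ∧
      IsFiniteMor (pullback.snd pV ((yon S).map (Over.homMk D₀.ι rfl : Over.mk (D₀.ι ≫ V.hom) ⟶ V))) := by
  classical
  let M : Set ↥V.left := {v | ∀ w, w ⤳ v → w = v}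
  have : LocallyOfFiniteType h.left :=
    hlft α (𝟙 _) h hα (repWith_id _ V) (by rw [Category.comp_id, hh])
  have : QuasiCompact h.left := (quasiCompact_iff_compactSpace h.left).2 inferInstance
  have hcl : ∀ v ∈ M, v ∉ closure (M \ {v}) := by
    intro v hv hvc
    rw [← Set.biUnion_of_singleton (M \ {v}), (hM.sdiff).closure_biUnion] at hvc
    obtain ⟨w, ⟨hw, hwv⟩, hwc⟩ := Set.mem_iUnion₂.1 hvc
    exact hwv (hv w (specializes_iff_mem_closure.2 hwc))
  have hfibA : ∀ v ∈ M, (h.left ⁻¹' {v}).Finite := by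
    intro v hv
    refine (finite_quasiFiniteAt_fibre h.left v).subset fun a ha => ⟨ha, ?_⟩
    refine (nearPt_lqf_iff h.left a).1 (qfAt_of_maximal_fibre h.left a fun c hc => ?_)
    exact (hpre A α h hα hh c).2 (by rw [hc, show h.left a = v from ha]; exact hv)
  obtain ⟨R, r₁, r₂, sqR⟩ := exists_isPullback_yon P.property.diag α α
  have hr₁ : Etale r₁.left := etale_snd_of_isPullback sqR.flip hα
  have hgmax : ∀ m : ↥R.left, (∀ w, w ⤳ m → w = m) → (r₁ ≫ h).left m ∈ M := fun m hm =>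
    (hpre A α h hα hh _).1 ((maximal_iff_of_etale r₁.left m).1 hm)
  obtain ⟨W, p, q, sqW⟩ := exists_isPullback_yon (IsAlgSpace.yon_obj V).diag ((yon S).map h) ((yon S).map h)
  have hsW := isPullback_left_of_yon sqW
  obtain ⟨w, hw⟩ := (yon S).map_surjective (sqW.lift ((yon S).map r₁) ((yon S).map r₂)
    (by rw [hh, ← Category.assoc, ← Category.assoc, sqR.w]))
  have hwp : w ≫ p = r₁ := (yon S).map_injective (by rw [Functor.map_comp, hw, sqW.lift_fst])
  have hwq : w ≫ q = r₂ := (yon S).map_injective (by rw [Functor.map_comp, hw, sqW.lift_snd])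
  have : Mono w := ⟨fun {T} g₁ g₂ e => (yon S).map_injective (sqR.hom_ext
    (by rw [← Functor.map_comp, ← Functor.map_comp, ← hwp, ← Category.assoc, e, Category.assoc])
    (by rw [← Functor.map_comp, ← Functor.map_comp, ← hwq, ← Category.assoc, e, Category.assoc]))⟩
  have : Mono w.left := Groth.Agent.SpFP87.mono_left_of_mono w
  have : AlgebraicGeometry.IsSeparated p.left :=
    MorphismProperty.of_isPullback (P := @AlgebraicGeometry.IsSeparated) hsW.flip (inferInstanceAs (AlgebraicGeometry.IsSeparated h.left))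
  have hgsep : AlgebraicGeometry.IsSeparated (r₁ ≫ h).left := by
    rw [← hwp, Over.comp_left, Over.comp_left]
    infer_instance
  have : LocallyOfFiniteType (r₁ ≫ h).left := by rw [Over.comp_left]; infer_instance
  have : QuasiSeparatedSpace ↥R.left := quasiSeparatedSpace_of_quasiSeparated (r₁ ≫ h).left
  have key : ∀ v : M, ∃ D : V.left.Opens, (v : ↥V.left) ∈ D ∧ IsFinite (h.left ∣_ D) ∧
      IsFinite ((r₁ ≫ h).left ∣_ D) ∧
      (∀ z : Points P.obj, Points.map pV z ∈ Points.ofScheme V '' (D : Set ↥V.left) →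
        z ∈ Set.range (Points.ofPt α)) := by
    rintro ⟨v, hv⟩
    have hvc : closure {v} ∈ irreducibleComponents ↥V.left := Norm57.isMax'_iff.1 hv
    obtain ⟨D₁, -, hvD₁, hf₁⟩ := (S2080.result h.left v hvc).1 (hfibA v hv)
    -- finitely many points of the relation over `v`
    have hWfin : ((p ≫ h).left ⁻¹' {v}).Finite := by
      have : LocallyOfFiniteType p.left := MorphismProperty.of_isPullback (P := @LocallyOfFiniteType) hsW.flip ‹_›
      have : QuasiCompact p.left := MorphismProperty.of_isPullback (P := @QuasiCompact) hsW.flip ‹_›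
      refine ((hfibA v hv).biUnion fun a _ => finite_quasiFiniteAt_fibre p.left a).subset fun z hz => ?_
      refine Set.mem_biUnion (x := p.left z) hz ⟨rfl, ?_⟩
      rw [FibDim94.fibreDimAt_eq_of_isPullback hsW.flip]
      have hzv : h.left (q.left z) = v := by
        have hz' : h.left (p.left z) = v := hz
        rw [← hz', ← Scheme.Hom.comp_apply, ← Scheme.Hom.comp_apply, hsW.w]
      refine (nearPt_lqf_iff h.left _).1 (qfAt_of_maximal_fibre h.left _ fun c hc => ?_)
      exact (hpre A α h hα hh c).2 (by rw [hc, hzv]; exact hv)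
    have hRfin : ((r₁ ≫ h).left ⁻¹' {v}).Finite := by
      refine (hWfin.preimage w.left.injective.injOn).subset fun z hz => ?_
      show (p ≫ h).left (w.left z) = v
      rw [← Scheme.Hom.comp_apply, ← Over.comp_left, ← Category.assoc, hwp]; exact hz
    choose O hO hzO using fun z : ↥R.left => exists_isAffineOpen_mem_and_subset (x := z) (U := ⊤) (Set.mem_univ z)
    let R₀ : R.left.Opens := hRfin.toFinset.sup O
    have hR₀c : IsCompact (R₀ : Set ↥R.left) := by
      simp only [R₀, TopologicalSpace.Opens.coe_finset_sup]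
      rw [Finset.sup_eq_iSup]
      exact hRfin.toFinset.finite_toSet.isCompact_biUnion fun z _ => (hO z).isCompact
    have : CompactSpace ↥R₀.toScheme := isCompact_iff_compactSpace.1 hR₀c
    have : QuasiCompact (R₀.ι ≫ (r₁ ≫ h).left) := (quasiCompact_iff_compactSpace _).2 inferInstance
    have : QuasiSeparated (R₀.ι ≫ (r₁ ≫ h).left) := by
      have : QuasiSeparatedSpace ↥R₀.toScheme := quasiSeparatedSpace_of_quasiSeparated (R₀.ι ≫ (r₁ ≫ h).left)
      exact QuasiSeparated.of_quasiSeparatedSpace _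
    obtain ⟨D₂, -, hvD₂, hf₂⟩ := (S2080.result (R₀.ι ≫ (r₁ ≫ h).left) v hvc).1
      ((hRfin.preimage R₀.ι.injective.injOn).subset fun z hz => hz)
    let D : V.left.Opens := (D₁ ⊓ D₂) ⊓ ⟨(closure (M \ {v}))ᶜ, isClosed_closure.isOpen_compl⟩
    have hDv : ∀ m ∈ M, m ∈ D → m = v := fun m hm hmD => by
      by_contra hne
      exact hmD.2 (subset_closure ⟨hm, hne⟩)
    have hf₁' : IsFinite (h.left ∣_ D) := isFinite_restrict_le h.left (inf_le_left.trans inf_le_left) hf₁
    have hR' := preimage_le_and_finite_of_open (r₁ ≫ h).left R₀ D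
      (isFinite_restrict_le _ (inf_le_left.trans inf_le_right) hf₂) (fun m hm hmD => by
        have hmv : (r₁ ≫ h).left m = v := hDv _ (hgmax m hm) hmD
        exact Finset.le_sup (f := O) (hRfin.mem_toFinset.2 hmv) (hzO m).1)
    refine ⟨D, ⟨⟨hvD₁, hvD₂⟩, hcl v hv⟩, hf₁', hR'.2, fun z hz => ?_⟩
    rcases hcase with hαs | ⟨hsep, hcov⟩
    · exact surjective_ofPt hαs z
    · exact mem_range_of_finite_chart pV hsep hh D hf₁' hcov z hz
  choose D hvD hD₁ hD₂ hD₃ using key
  let D₀ : V.left.Opens := ⨆ v : M, D v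
  refine ⟨D₀, fun v hv => TopologicalSpace.Opens.mem_iSup.2 ⟨⟨v, hv⟩, hvD ⟨v, hv⟩⟩, ?_⟩
  let Dx : Over S := Over.mk (D₀.ι ≫ V.hom)
  let j : Dx ⟶ V := Over.homMk D₀.ι rfl
  have : Mono j.left := inferInstanceAs (Mono D₀.ι)
  have : Mono j := (Over.forget S).mono_of_mono_map (inferInstanceAs (Mono j.left))
  have sqD := IsPullback.of_hasPullback pV ((yon S).map j)
  let PD : Space S := ⟨pullback pV ((yon S).map j),
    isAlgSpace_of_isPullback sqD P.property (IsAlgSpace.yon_obj Dx) (IsAlgSpace.yon_obj V).diag⟩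
  obtain ⟨A', R', α', h', r₁', r₂', hα', hαr, hh', sqR', -, ⟨a, sqA⟩, ⟨c, sqC⟩⟩ :=
    exists_restricted_chart hα hh j sqD sqR
  have hαs' : RepWith @Surjective α' := by
    refine repWith_surjective_of_surjective_ofPt hα'.1 fun z => hαr z ?_
    obtain ⟨d, hd⟩ : ∃ d, Points.ofScheme Dx d = Points.map (pullback.snd pV ((yon S).map j)) z :=
      ⟨_, Points.ofScheme_toScheme Dx _⟩
    obtain ⟨v, hdv⟩ := TopologicalSpace.Opens.mem_iSup.1 d.2
    refine hD₃ v _ ⟨d.1, hdv, ?_⟩
    rw [← Points.map_comp, sqD.w, Points.map_comp, ← hd, Points.map_ofPt, Category.id_comp, ofPt_yon_map]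
    rfl
  have hfin : ∀ {Z : Over S} (g : Z ⟶ V), IsFinite (g.left ∣_ D₀) →
      ∀ {Z' : Over S} (a : Z' ⟶ Z) (g' : Z' ⟶ Dx), IsPullback a g' g j → IsFinite g'.left := by
    intro Z g hg Z' a g' sq
    have sq₀ : IsPullback a.left g'.left g.left D₀.ι := sq.map (Over.forget S)
    have h1 := (isPullback_morphismRestrict g.left D₀).flip
    let e := IsPullback.isoIsPullback _ _ sq₀ h1
    have he : g'.left = e.hom ≫ g.left ∣_ D₀ := (IsPullback.isoIsPullback_hom_snd _ _ sq₀ h1).symm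
    rw [he]
    exact (MorphismProperty.cancel_left_of_respectsIso @IsFinite e.hom _).2 hg
  have hA' : IsFinite h'.left := hfin h (isFinite_restrict_iSup h.left D hD₁) a h' sqA
  exact isFiniteMor_of_finite_chart (P := PD) _
    (locP_baseChange sqD P.property (IsAlgSpace.yon_obj V) (IsAlgSpace.yon_obj Dx) hlft)
    (isQuasiCompactMor_of_finite_chart (P := PD) _ hαs' hh' hA') hα' hαs' hh' sqR' hA'
    (hfin (r₁ ≫ h) (isFinite_restrict_iSup (r₁ ≫ h).left D hD₂) c _ sqC)

theorem exists_dense_open_finite {X Y : Space S} (f : X ⟶ Y)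
    (hf : LocP @LocallyOfFiniteType f.hom) (hY : IsDecent Y.obj)
    (hX0 : {x : Points X.obj | HasAt (fun U u => ringKrullDim ↥(U.presheaf.stalk u) = 0) X.obj x}.Finite)
    (hY0 : {y : Points Y.obj | HasAt (fun U u => ringKrullDim ↥(U.presheaf.stalk u) = 0) Y.obj y}.Finite)
    (hpre : ∀ x : Points X.obj, HasAt (fun U u => ringKrullDim ↥(U.presheaf.stalk u) = 0) X.obj x ↔
      HasAt (fun U u => ringKrullDim ↥(U.presheaf.stalk u) = 0) Y.obj (Points.map f.hom x))
    (hqs : IsQuasiCompactMor f.hom ∨ IsSeparatedMor f.hom) :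
    ∃ (V X' : Space S) (j : V ⟶ Y) (fst : X' ⟶ V) (snd : X' ⟶ X), RepWith @IsOpenImmersion j.hom ∧
      Dense (Set.range (Points.map j.hom)) ∧ IsPullback fst.hom snd.hom j.hom f.hom ∧ IsFiniteMor fst.hom := by
  obtain ⟨V, b, hV, hb, hY0b⟩ := exists_affine_chart_containing Y.property _ hY0
  have := hV
  let M : Set ↥V.left := {v | ∀ w, w ⤳ v → w = v}
  have hM : M.Finite := (hY0.biUnion fun y _ => (finite_fibres_of_isDecent Y.property hY hb y).1).subset
    fun v hv => Set.mem_biUnion (x := Points.ofPt b v) (hasAt_codimZero_ofPt hb hv) rfl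
  have sqP := IsPullback.of_hasPullback f.hom b
  let VS : Space S := ⟨(yon S).obj V, IsAlgSpace.yon_obj V⟩
  let P : Space S := ⟨pullback f.hom b,
    isAlgSpace_of_isPullback sqP X.property (IsAlgSpace.yon_obj V) Y.property.diag⟩
  let pX : P.obj ⟶ X.obj := pullback.fst f.hom b
  let pV : P.obj ⟶ (yon S).obj V := pullback.snd f.hom b
  have hpX : RepWith @Etale pX := (repWith_isStableUnderBaseChange _).of_isPullback sqP.flip hb
  have hpre' : ∀ (U : Over S) (a : (yon S).obj U ⟶ P.obj) (g : U ⟶ V), RepWith @Etale a →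
      (yon S).map g = a ≫ pV →
      ∀ u : ↥U.left, (∀ w, w ⤳ u → w = u) ↔ ∀ w, w ⤳ g.left u → w = g.left u := by
    intro U a g ha hg u
    have ha' : RepWith @Etale (a ≫ pX) := (repWith_isMultiplicative (S := S) @Etale).comp_mem _ _ ha hpX
    have e : Points.map f.hom (Points.ofPt (a ≫ pX) u) = Points.ofPt b (g.left u) := by
      rw [Points.map_ofPt, ← ofPt_comp, hg, Category.assoc, Category.assoc, sqP.w]
    constructor
    · intro hu
      exact maximal_of_codimZero hb e.symm ((hpre _).1 (hasAt_codimZero_ofPt ha' hu))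
    · intro hu
      exact maximal_of_codimZero ha' rfl ((hpre _).2 (e ▸ hasAt_codimZero_ofPt hb hu))
  have hlftV : LocP @LocallyOfFiniteType pV :=
    locP_baseChange sqP X.property Y.property (IsAlgSpace.yon_obj V) hf
  have hchart : ∃ (A : Over S) (α : (yon S).obj A ⟶ P.obj), IsAffine A.left ∧ RepWith @Etale α ∧
      (RepWith @Surjective α ∨ (IsSeparatedMor pV ∧
        ∀ x : Points P.obj, HasAt (fun U u => ringKrullDim ↥(U.presheaf.stalk u) = 0) P.obj x →
          x ∈ Set.range (Points.ofPt α))) := by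
    rcases hqs with hqc | hsep
    · have := compactSpace_points_yon V
      have := compactSpace_of_isQuasiCompactMor hqc (IsAlgSpace.yon_obj V) sqP
      obtain ⟨A, α, hA, hα, hαs⟩ := exists_affine_chart_of_compactSpace P.property
      exact ⟨A, α, hA, hα, .inl hαs⟩
    · have hsepV : IsSeparatedMor pV :=
        (repWith_isStableUnderBaseChange _).of_isPullback (isPullback_diagonal_baseChange sqP) hsep
      let T : Set (Points P.obj) := {z | Points.map pX z ∈ {x | HasAt (fun U u => ringKrullDim ↥(U.presheaf.stalk u) = 0) X.obj x} ∧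
        Points.map pV z ∈ Points.ofScheme V '' M}
      have hT : T.Finite := by
        refine ((hX0.prod (hM.image (Points.ofScheme V))).biUnion
          (t := fun xv : Points X.obj × Points ((yon S).obj V) =>
            {z : Points P.obj | Points.map pX z = xv.1 ∧ Points.map pV z = xv.2}) fun xv _ => ?_).subset
          fun z hz => Set.mem_biUnion (x := (Points.map pX z, Points.map pV z)) ⟨hz.1, hz.2⟩ ⟨rfl, rfl⟩
        by_cases hxz : Points.map f.hom xv.1 = Points.map b xv.2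
        swap
        · convert Set.finite_empty
          ext z
          simp only [Set.mem_setOf_eq, Set.mem_empty_iff_false, iff_false]
          rintro ⟨h1, h2⟩
          exact hxz (by rw [← h1, ← h2, ← Points.map_comp, ← Points.map_comp, sqP.w])
        obtain ⟨r, hr, hm, -⟩ := hY (Points.map b xv.2)
        refine finite_pair_of_mono (W := P) (Z := VS) f (ObjectProperty.homMk b) (ObjectProperty.homMk pX)
          (ObjectProperty.homMk pV) sqP xv.1 xv.2 hxz ⟨r, hr, hm⟩ ?_
        obtain ⟨v, hv⟩ : ∃ v, Points.ofScheme V v = xv.2 := ⟨_, Points.ofScheme_toScheme V _⟩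
        refine ⟨V, V, 𝟙 _, b, 𝟙 V, v, repWith_id _ V, hb, by rw [(yon S).map_id]; rfl, hv, ⊤, trivial, ?_, ?_⟩
        · have : IsOpenImmersion ((⊤ : V.left.Opens).ι ≫ (𝟙 V : V ⟶ V).left) := by
            rw [Over.id_left, Category.comp_id]; infer_instance
          infer_instance
        · have : IsOpenImmersion ((⊤ : V.left.Opens).ι ≫ (𝟙 V : V ⟶ V).left) := by
            rw [Over.id_left, Category.comp_id]; infer_instance
          infer_instance
      obtain ⟨A, α, hA, hα, hTα⟩ := exists_affine_chart_containing P.property T hT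
      refine ⟨A, α, hA, hα, .inr ⟨hsepV, fun z hz => hTα ?_⟩⟩
      obtain ⟨U, a, u, ha, rfl, hu⟩ := hz
      obtain ⟨g, hg⟩ := (yon S).map_surjective (a ≫ pV)
      have hu' : ∀ w, w ⤳ u → w = u := (SpFP87.dim_stalk_eq_zero_iff u).1 hu
      refine ⟨?_, g.left u, (hpre' U a g ha hg u).1 hu', ?_⟩
      · simp only [Set.mem_setOf_eq]
        rw [Points.map_ofPt]
        exact hasAt_codimZero_ofPt ((repWith_isMultiplicative (S := S) @Etale).comp_mem _ _ ha hpX) hu'
      · rw [Points.map_ofPt, ← hg, ofPt_yon_map]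
  obtain ⟨A, α, hA, hα, hcase⟩ := hchart
  have := hA
  obtain ⟨h, hh⟩ := (yon S).map_surjective (α ≫ pV)
  obtain ⟨D₀, hD₀, hfin⟩ := exists_open_finite_chart pV hlftV hα hh hM hpre' hcase
  obtain ⟨Y', X', j, fst, snd, h1, h2, h3, h4⟩ := exists_open_finite_descent f hb D₀ hfin
  refine ⟨Y', X', j, fst, snd, h1, (dense_codimZero Y.property).mono ?_, h3, h4⟩
  intro y hy
  obtain ⟨v, rfl⟩ := hY0b hy
  have hv := maximal_of_codimZero (F := Y) hb rfl hy
  refine h2.ge ⟨(⟨v, hD₀ v hv⟩ : D₀.toScheme), ?_⟩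
  rw [ofPt_comp]
  rfl

end Groth.Agent.SpProper61
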