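import Groth.Agent.SpProper61.Induction
import Groth.Agent.SpPts86.QuotFinite
import Groth.Agent.ConstQuot97.OrbitOpen
import Groth.Agent.SpPts86.FreeQuotSep

/-!
The schematic locus of the target of a finite locally free covering.
-/

universe u

set_option autoImplicit false
set_option backward.isDefEq.respectTransparency false

open CategoryTheory CategoryTheory.Limits AlgebraicGeometry Topology
open AlgSp Groth.Agent.SpFP87 Groth.Agent.SpPts86

namespace Groth.Agent.SpProper61

variable {S : Scheme.{u}}

theorem finLocFree_inf_surjective_le_fppfSurj :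
    (AlgSp.finLocFree : MorphismProperty Scheme.{u}) ⊓ @Surjective ≤ fppfSurj :=
  fun _ _ _ h => (fppfSurj_iff _).2 ⟨h.2, h.1.2.1, h.1.2.2⟩

theorem isOpen_locus_fibre_subset {X Y : Sp S} (f : X ⟶ Y) (hf : IsFinLocFreeMor f) {A : Set (Points X)}
    (hA : IsOpen A) : IsOpen {y : Points Y | Points.map f ⁻¹' {y} ⊆ A} := by
  refine Points.isOpen_iff.2 fun T g => ?_
  obtain ⟨V, c, fst, sq⟩ := hf.rep g
  have : IsFinite c.left := (hf.property g fst c sq).1
  have key : Points.ofPt g ⁻¹' {y : Points Y | Points.map f ⁻¹' {y} ⊆ A} =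
      (c.left '' (Points.ofPt fst ⁻¹' A)ᶜ)ᶜ := by
    ext t
    simp only [Set.mem_preimage, Set.mem_setOf_eq, Set.mem_compl_iff, Set.mem_image, not_exists, not_and]
    constructor
    · intro h v hv hvt
      refine hv (h ?_)
      show Points.map f (Points.ofPt fst v) = Points.ofPt g t
      rw [Points.map_ofPt, sq.w, ofPt_comp, hvt]
    · intro h x hx
      obtain ⟨z, hz, hzt⟩ := exists_of_isPullback sq x (Points.ofScheme T t) (by
        rw [← Points.ofPt_eq_map_ofScheme]; exact hx)
      obtain ⟨v, rfl⟩ := (Points.schemeHomeo V).surjective z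
      have hv : c.left v = t := (Points.schemeHomeo T).injective ((map_yon_ofScheme c v).symm.trans hzt)
      by_contra hxA
      exact h v (by rw [Points.ofPt_eq_map_ofScheme]; exact fun hh => hxA (hz ▸ hh)) hv
  rw [key, isOpen_compl_iff]
  exact c.left.isClosedMap _ (hA.preimage (Points.continuous_ofPt fst)).isClosed_compl

theorem mem_schematic_locus_iff {X Y : Space S} (f : X ⟶ Y) (hf : IsFinLocFreeMor f.hom)
    (hs : RepWith @Surjective f.hom) (y : Points Y.obj) :
    (∃ (Y' : Space S) (j : Y' ⟶ Y), RepWith @IsOpenImmersion j.hom ∧ Y'.obj.obj.IsRepresentable ∧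
        y ∈ Set.range (Points.map j.hom)) ↔
      ∃ (U : Over S) (a : (yon S).obj U ⟶ X.obj), IsAffine U.left ∧ RepWith @IsOpenImmersion a ∧
        Points.map f.hom ⁻¹' {y} ⊆ Set.range (Points.ofPt a) := by
  constructor
  · rintro ⟨Y', j, hj, hrep, y', rfl⟩
    obtain ⟨T, ⟨e⟩⟩ := hrep.has_representation
    let φ := isoOfRepresentableBy e
    obtain ⟨t, ht⟩ := (Points.schemeHomeo T).surjective (Points.map φ.inv y')
    obtain ⟨A, hA, htA, -⟩ := exists_isAffineOpen_mem_and_subset (x := t) (U := (⊤ : T.left.Opens)) trivial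
    let T₀ : Over S := Over.mk (A.ι ≫ T.hom)
    let ι : T₀ ⟶ T := Over.homMk A.ι rfl
    let g : (yon S).obj T₀ ⟶ Y.obj := (yon S).map ι ≫ φ.hom ≫ j.hom
    have hg : RepWith @IsOpenImmersion g :=
      (repWith_isMultiplicative (S := S) @IsOpenImmersion).comp_mem _ _
        ((repWith_yon_map_iff _ ι).2 (inferInstanceAs (IsOpenImmersion A.ι)))
        ((MorphismProperty.cancel_left_of_respectsIso (RepWith @IsOpenImmersion) φ.hom j.hom).2 hj)
    obtain ⟨V, c, fst, sq⟩ := hf.rep g
    have : IsFinite c.left := (hf.property g fst c sq).1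
    have : IsAffine T₀.left := hA
    refine ⟨V, fst, isAffine_of_isAffineHom c.left,
      (repWith_isStableUnderBaseChange (@IsOpenImmersion : MorphismProperty Scheme.{u})).of_isPullback sq.flip hg,
      fun x hx => ?_⟩
    obtain ⟨t₀, ht₀⟩ := A.range_ι.ge htA
    have hgt : Points.ofPt g t₀ = Points.map j.hom y' := by
      rw [ofPt_comp, ← Points.map_ofPt, show Points.ofPt φ.hom (ι.left t₀) = y' by
        rw [show ι.left t₀ = t from ht₀, Points.ofPt_eq_map_ofScheme,
          show Points.ofScheme T t = Points.map φ.inv y' from ht, ← Points.map_comp, Iso.inv_hom_id,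
          Points.map_id]]
    obtain ⟨z, hz, -⟩ := exists_of_isPullback sq x (Points.ofScheme T₀ t₀) (by
      rw [← Points.ofPt_eq_map_ofScheme, hgt]; exact hx)
    obtain ⟨v, rfl⟩ := (Points.schemeHomeo V).surjective z
    exact ⟨v, by rw [← hz]; exact Points.ofPt_eq_map_ofScheme _ _⟩
  · rintro ⟨U, a, hU, ha, hy⟩
    have hAo : IsOpen (Set.range (Points.ofPt a)) := (isOpenMap_ofPt
      (repWith_mono (fun _ _ g (_ : IsOpenImmersion g) => (inferInstance : Etale g)) ha)).isOpen_range
    let O : Set (Points Y.obj) := {y | Points.map f.hom ⁻¹' {y} ⊆ Set.range (Points.ofPt a)}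
    have hO : IsOpen O := isOpen_locus_fibre_subset f.hom hf hAo
    let ιO := restrictι Y.obj O
    have hιO : RepWith @IsOpenImmersion ιO := repWith_restrictι hO
    have hιm := mono_of_repWith_le isOpenImmersion_le_monomorphisms hιO
    let Wo : U.left.Opens := ⟨Points.ofPt (a ≫ f.hom) ⁻¹' O, hO.preimage (Points.continuous_ofPt _)⟩
    let W : Over S := Over.mk (Wo.ι ≫ U.hom)
    let i : W ⟶ U := Over.homMk Wo.ι rfl
    have hia : RepWith @IsOpenImmersion ((yon S).map i ≫ a) :=
      (repWith_isMultiplicative (S := S) @IsOpenImmersion).comp_mem _ _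
        ((repWith_yon_map_iff _ i).2 (inferInstanceAs (IsOpenImmersion Wo.ι))) ha
    have hiam := mono_of_repWith_le isOpenImmersion_le_monomorphisms hia
    obtain ⟨q, hq⟩ := exists_restrict_lift (W := O) (((yon S).map i ≫ a) ≫ f.hom) (by
      rintro _ ⟨w, rfl⟩
      rw [Category.assoc, ofPt_comp]
      exact w.2)
    let P := pullback f.hom ιO
    have hP : RepWith @IsOpenImmersion (pullback.fst f.hom ιO) :=
      (repWith_isStableUnderBaseChange (@IsOpenImmersion : MorphismProperty Scheme.{u})).of_isPullback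
        (IsPullback.of_hasPullback f.hom ιO).flip hιO
    have := mono_of_repWith_le isOpenImmersion_le_monomorphisms hP
    let m : (yon S).obj W ⟶ P := pullback.lift ((yon S).map i ≫ a) q hq.symm
    obtain ⟨k, hk⟩ := exists_factor_of_range_subset hia (pullback.fst f.hom ιO) (by
      rintro _ ⟨z, rfl⟩
      have hzO : Points.map f.hom (Points.map (pullback.fst f.hom ιO) z) ∈ O := by
        rw [← Points.map_comp, pullback.condition, Points.map_comp]
        exact (range_map_restrictι hO).le ⟨_, rfl⟩
      obtain ⟨u, hu⟩ := hzO (rfl : Points.map f.hom _ = Points.map f.hom _)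
      have huW : u ∈ Wo := by
        show Points.ofPt (a ≫ f.hom) u ∈ O
        rw [← Points.map_ofPt, hu]
        exact hzO
      refine ⟨Points.ofScheme W (⟨u, huW⟩ : Wo.toScheme), ?_⟩
      rw [← Points.ofPt_eq_map_ofScheme, ofPt_comp]
      exact hu)
    have hmk : m ≫ k = 𝟙 _ := by
      rw [← cancel_mono ((yon S).map i ≫ a), Category.assoc, hk, Category.id_comp, pullback.lift_fst]
    have hkm : k ≫ m = 𝟙 _ := by
      rw [← cancel_mono (pullback.fst f.hom ιO), Category.assoc, pullback.lift_fst, hk, Category.id_comp]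
    have : IsIso m := ⟨k, hmk, hkm⟩
    have sq : IsPullback ((yon S).map i ≫ a) q f.hom ιO :=
      IsPullback.of_iso_pullback ⟨hq.symm⟩ (asIso m) (pullback.lift_fst _ _ _) (pullback.lift_snd _ _ _)
    have hqf : RepWith finLocFree q :=
      (repWith_isStableUnderBaseChange (AlgSp.finLocFree : MorphismProperty Scheme.{u})).of_isPullback sq hf
    have hqs : RepWith @Surjective q :=
      (repWith_isStableUnderBaseChange (@Surjective : MorphismProperty Scheme.{u})).of_isPullback sq hs
    let Y' : Space S := ⟨restrictSheaf Y.obj O, isAlgSpace_restrictSheaf Y.property hO⟩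
    obtain ⟨R, t, s, sqR⟩ := exists_isPullback_yon Y'.property.diag q q
    obtain ⟨h1, h2, h3⟩ := hqf.property q _ s sqR
    have hfin : ∀ A : Set ↥W.left, A.Finite → ∃ V : W.left.Opens, IsAffineOpen V ∧ A ⊆ (V : Set ↥W.left) := by
      have : LocallyQuasiFinite Wo.ι :=
        (mono_inf_lft_le_sepLQF Wo.ι ⟨inferInstanceAs (Mono Wo.ι), inferInstance⟩).2.1
      exact fun A hA => ConstQuot97.exists_affineOpen_of_finite Wo.ι hA
    have : IsFinite s.left := h1
    have : Flat s.left := h2
    have : LocallyOfFinitePresentation s.left := h3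
    obtain ⟨M, ⟨eM⟩⟩ := exists_iso_of_finLocFree_cover (locLift_of_repWith finLocFree_inf_surjective_le_fppfSurj
      ⟨hqf.rep, fun _ _ g b c d => ⟨hqf.property g b c d, hqs.property g b c d⟩⟩) sqR hfin
    exact ⟨Y', ObjectProperty.homMk ιO, hιO,
      isRepresentable_of_iso eM, (range_map_restrictι hO).ge hy⟩

end Groth.Agent.SpProper61
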