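import Groth.Agent.SpProper61.DimZero

/-!
Monomorphisms into spaces locally quasi-finite over a field.
-/

universe u

set_option autoImplicit false
set_option backward.isDefEq.respectTransparency false

open CategoryTheory CategoryTheory.Limits AlgebraicGeometry Topology TensorProduct
open AlgSp Groth.Agent.SpFP87 Groth.Agent.SpPts86

namespace Groth.Agent.SpProper61

open IsLocalRing in
theorem moduleFinite_of_etale_tensor (A R : Type u) [CommRing A] [CommRing R] [Algebra A R] [IsLocalRing A]
    (hm : IsNilpotent (maximalIdeal A)) [Algebra.Etale R (R ⊗[A] R)] : Module.Finite A R := by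
  cases subsingleton_or_nontrivial R
  · infer_instance
  obtain ⟨M, hM⟩ := Ideal.exists_maximal R
  let : Field (R ⧸ M) := Ideal.Quotient.field M
  let K := R ⧸ M
  have hker : ∀ a ∈ maximalIdeal A, algebraMap A K a = 0 := by
    intro a ha
    obtain ⟨n, hn⟩ := hm
    have : IsNilpotent a := ⟨n, by simpa [hn] using Ideal.pow_mem_pow ha n⟩
    exact (this.map (algebraMap A K)).eq_zero
  let : Algebra (A ⧸ maximalIdeal A) K := (Ideal.Quotient.lift _ (algebraMap A K) hker).toAlgebra
  have : IsScalarTower A (A ⧸ maximalIdeal A) K := IsScalarTower.of_algebraMap_eq fun a => rfl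
  let : Field (A ⧸ maximalIdeal A) := Ideal.Quotient.field _
  have : Algebra.Etale K (K ⊗[A] R) :=
    Algebra.Etale.of_equiv (Algebra.TensorProduct.cancelBaseChange A R K K R)
  have : Module.Finite K (K ⊗[A] R) := Algebra.FormallyUnramified.finite_of_free K _
  have : Module.Finite K (K ⊗[A ⧸ maximalIdeal A] ((A ⧸ maximalIdeal A) ⊗[A] R)) :=
    Module.Finite.equiv (AlgebraTensorModule.cancelBaseChange A (A ⧸ maximalIdeal A) K K R).symm
  have : Module.Finite (A ⧸ maximalIdeal A) ((A ⧸ maximalIdeal A) ⊗[A] R) :=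
    Module.Finite.of_finite_tensorProduct_of_faithfullyFlat K
  have : Module.Finite A ((A ⧸ maximalIdeal A) ⊗[A] R) := Module.Finite.trans (A ⧸ maximalIdeal A) _
  have hq : Module.Finite A (R ⧸ (maximalIdeal A • ⊤ : Submodule A R)) :=
    Module.Finite.equiv (TensorProduct.quotTensorEquivQuotSMul R (maximalIdeal A))
  obtain ⟨s, hs⟩ := hq.fg_top
  choose l hl using Submodule.mkQ_surjective (maximalIdeal A • ⊤ : Submodule A R)
  let N : Submodule A R := Submodule.span A (l '' s)
  have h1 : (⊤ : Submodule A R) ≤ N ⊔ maximalIdeal A • ⊤ := by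
    have : Submodule.map (maximalIdeal A • ⊤ : Submodule A R).mkQ N = ⊤ := by
      rw [Submodule.map_span, ← Set.image_comp, ← hs]
      congr 1
      simp [Function.comp_def, hl]
    intro x _
    obtain ⟨y, hy, hxy⟩ := this.ge (Submodule.mem_top (x := (maximalIdeal A • ⊤ : Submodule A R).mkQ x))
    have hd : x - y ∈ (maximalIdeal A • ⊤ : Submodule A R) := (Submodule.Quotient.eq _).1 hxy.symm
    exact Submodule.mem_sup.2 ⟨y, hy, x - y, hd, by abel⟩
  have h2 : ∀ n : ℕ, (⊤ : Submodule A R) ≤ N ⊔ maximalIdeal A ^ n • ⊤ := by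
    intro n
    induction n with
    | zero => rw [pow_zero, Ideal.one_eq_top, Submodule.top_smul]; exact le_sup_right
    | succ n ih =>
      refine ih.trans (sup_le le_sup_left ?_)
      refine (Submodule.smul_mono (le_refl _) h1).trans ?_
      rw [Submodule.smul_sup, ← Submodule.smul_assoc, smul_eq_mul, ← pow_succ]
      exact sup_le_sup_right Submodule.smul_le_right _
  obtain ⟨n, hn⟩ := hm
  have hN : N = ⊤ := top_le_iff.1 ((h2 n).trans (by simp [hn]))
  exact ⟨hN ▸ Submodule.fg_span (s.finite_toSet.image l)⟩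

theorem isFinite_SpecMap_of_etale_pullback_fst {A R : CommRingCat.{u}} (φ : A ⟶ R) [IsArtinianRing A] [IsLocalRing A]
    (h : Etale (pullback.fst (Spec.map φ) (Spec.map φ))) : IsFinite (Spec.map φ) := by
  algebraize [φ.hom]
  have e : Spec.map φ = Spec.map (CommRingCat.ofHom (algebraMap A R)) := rfl
  have h' : Etale (Spec.map (CommRingCat.ofHom (algebraMap R (R ⊗[A] R)))) := by
    rw [← pullbackSpecIso_inv_fst']
    infer_instance
  have : Algebra.Etale R (R ⊗[A] R) :=
    RingHom.etale_algebraMap.1 (HasRingHomProperty.Spec_iff.1 h')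
  have hf : Module.Finite A R :=
    moduleFinite_of_etale_tensor A R
      ((isArtinianRing_iff_isNilpotent_maximalIdeal A).1 inferInstance)
  rw [IsFinite.SpecMap_iff]
  exact hf

theorem isFinite_of_etale_pullback_fst {O V : Scheme.{u}} [IsAffine O] [IsAffine V]
    [IsArtinianRing Γ(V, ⊤)] [IsLocalRing Γ(V, ⊤)] (g : O ⟶ V) (h : Etale (pullback.fst g g)) : IsFinite g := by
  refine (MorphismProperty.arrow_mk_iso_iff (@IsFinite : MorphismProperty Scheme.{u}) (arrowIsoSpecΓOfIsAffine g)).2
    (isFinite_SpecMap_of_etale_pullback_fst _ ?_)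
  have sq : IsPullback (pullback.fst (Spec.map g.appTop) (Spec.map g.appTop) ≫ O.isoSpec.inv)
      (pullback.snd (Spec.map g.appTop) (Spec.map g.appTop) ≫ O.isoSpec.inv) g g := by
    refine (IsPullback.of_hasPullback (Spec.map g.appTop) (Spec.map g.appTop)).of_iso
      (Iso.refl _) O.isoSpec.symm O.isoSpec.symm V.isoSpec.symm ?_ ?_ ?_ ?_ <;> simp [Scheme.isoSpec_inv_naturality]
  refine (MorphismProperty.arrow_mk_iso_iff (@Etale : MorphismProperty Scheme.{u})
    (Arrow.isoMk sq.isoPullback O.isoSpec.symm ?_)).2 h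
  simp

theorem isPullback_comp_mono {C : Type*} [Category C] {P X Y Z W : C} {p : P ⟶ X} {q : P ⟶ Y} {f : X ⟶ Z}
    {g : Y ⟶ Z} (sq : IsPullback p q f g) (m : Z ⟶ W) [Mono m] : IsPullback p q (f ≫ m) (g ≫ m) :=
  IsPullback.of_isLimit' ⟨by rw [← Category.assoc, sq.w, Category.assoc]⟩
    (PullbackCone.IsLimit.mk _
      (fun c => sq.lift c.fst c.snd ((cancel_mono m).1 (by simpa using c.condition)))
      (fun c => sq.lift_fst _ _ _) (fun c => sq.lift_snd _ _ _)
      (fun c l h1 h2 => sq.hom_ext (by simpa using h1) (by simpa using h2)))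

variable {k : Type u} [Field k]

theorem locP_lqf_of_mono {X Y : Space (Spec (CommRingCat.of k))} (f : X ⟶ Y) [Mono f.hom]
    (q : Y.obj ⟶ (yon (Spec (CommRingCat.of k))).obj (Over.mk (𝟙 _)))
    (hq : LocP (@LocallyQuasiFinite ⊓ @LocallyOfFiniteType : MorphismProperty Scheme.{u}) q) :
    LocP (@LocallyQuasiFinite ⊓ @LocallyOfFiniteType : MorphismProperty Scheme.{u}) (f.hom ≫ q) := by
  obtain ⟨U₀, e, hV⟩ := (lqf_field_iff q).1 hq
  obtain ⟨U, a, ha, has⟩ := X.property.atlas
  obtain ⟨g, hg⟩ := (yon _).map_surjective (a ≫ f.hom ≫ e.inv)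
  obtain ⟨R, t, s, sq⟩ := exists_isPullback_yon X.property.diag a a
  have hts : t ≫ g = s ≫ g := (yon _).map_injective (by
    rw [Functor.map_comp, Functor.map_comp, hg, ← Category.assoc, sq.w, Category.assoc])
  have sqR : IsPullback t.left s.left g.left g.left := by
    refine isPullback_left_of_yon ?_
    rw [hg]
    exact isPullback_comp_mono sq (f.hom ≫ e.inv)
  have ht : Etale t.left := etale_snd_of_isPullback sq.flip ha
  have key : ∀ u : ↥U.left, ∃ O : U.left.Opens, u ∈ O ∧ IsFinite (O.ι ≫ U.hom) := by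
    intro u
    obtain ⟨V, huV, hVa, hVA, hVl, hVf⟩ := hV (g.left u)
    obtain ⟨O, hO, huO, hle⟩ := exists_isAffineOpen_mem_and_subset (x := u) (U := g.left ⁻¹ᵁ V) huV
    have : IsAffine V.toScheme := hVa
    have : IsAffine O.toScheme := hO
    have : IsArtinianRing Γ(V.toScheme, ⊤) := V.topIso.commRingCatIsoToRingEquiv.symm.surjective.isArtinianRing
    have : IsLocalRing Γ(V.toScheme, ⊤) := V.topIso.commRingCatIsoToRingEquiv.symm.isLocalRing
    let g' : O.toScheme ⟶ V.toScheme := g.left.resLE V O hle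
    have hg' : g' ≫ V.ι = O.ι ≫ g.left := Scheme.Hom.resLE_comp_ι _ _
    have sqO : IsPullback (pullback.fst g' g') (pullback.snd g' g') (O.ι ≫ g.left) (O.ι ≫ g.left) := by
      rw [← hg']
      exact isPullback_comp_mono (IsPullback.of_hasPullback g' g') V.ι
    have hm : Etale (pullback.fst g' g') := by
      let m : pullback g' g' ⟶ R.left := sqR.lift (pullback.fst g' g' ≫ O.ι) (pullback.snd g' g' ≫ O.ι)
        (by rw [Category.assoc, Category.assoc, sqO.w])
      have hmo : IsOpenImmersion m := by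
        have : pullback.map g' g' g.left g.left O.ι O.ι V.ι hg' hg' ≫ sqR.isoPullback.inv = m := by
          apply sqR.hom_ext <;> simp [m]
        rw [← this]
        infer_instance
      have h2 : Etale (pullback.fst g' g' ≫ O.ι) := by
        rw [← show m ≫ t.left = pullback.fst g' g' ≫ O.ι from sqR.lift_fst _ _ _]
        infer_instance
      exact Etale.of_comp (pullback.fst g' g') O.ι
    have := isFinite_of_etale_pullback_fst g' hm
    have := hVf
    refine ⟨O, huO, ?_⟩
    have hw : O.ι ≫ U.hom = g' ≫ V.ι ≫ U₀.hom := by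
      rw [← Category.assoc g', hg', Category.assoc, Over.w g]
    rw [hw]
    infer_instance
  choose O huO hOf using key
  have hP : (@LocallyQuasiFinite ⊓ @LocallyOfFiniteType : MorphismProperty Scheme.{u}) U.hom := by
    refine (IsZariskiLocalAtSource.iff_of_iSup_eq_top (fun u : ↥U.left => O u)
      (top_le_iff.1 fun z _ => TopologicalSpace.Opens.mem_iSup.2 ⟨z, huO z⟩)).2 fun u => ?_
    have := hOf u
    exact ⟨inferInstance, inferInstance⟩
  refine locP_of_chart (h := (Over.homMk U.hom : U ⟶ Over.mk (𝟙 _))) X.property.diag (IsAlgSpace.yon_obj _).diag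
    ha has (repWith_id _ _) ?_ hP
  obtain ⟨g₀, hg₀⟩ := (yon _).map_surjective (a ≫ f.hom ≫ q)
  rw [Category.comp_id, ← hg₀]
  congr 1
  exact Over.OverMorphism.ext (by simpa using Over.w g₀)

end Groth.Agent.SpProper61
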