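import Groth.Agent.SpProper61.TupleQuot
import Groth.Agent.SpProper61.DenseScheme
import Groth.Agent.SpFP87.RedInduced
import Groth.Agent.SpFP87.UnivBddCalc
import Groth.Agent.SpPts86.Subspace
import Groth.Agent.SpPts86.Compact

/-!
The filtration of an algebraic space with an affine chart by the number of geometric lifts.
-/

universe u

set_option autoImplicit false
set_option backward.isDefEq.respectTransparency false

open CategoryTheory CategoryTheory.Limits AlgebraicGeometry Topology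
open AlgSp Groth.Agent.SpFP87 Groth.Agent.SpPts86

namespace Groth.Agent.SpProper61

theorem sec_ext {T : Scheme.{u}} {L : Type u} [Field L] (c : T ⟶ Spec (CommRingCat.of L))
    (s₁ s₂ : Spec (CommRingCat.of L) ⟶ T) (h₁ : s₁ ≫ c = 𝟙 _) (h₂ : s₂ ≫ c = 𝟙 _)
    (h : s₁ (IsLocalRing.closedPoint L) = s₂ (IsLocalRing.closedPoint L)) : s₁ = s₂ := by
  obtain ⟨t, ht⟩ : ∃ t, s₁ (IsLocalRing.closedPoint L) = t := ⟨_, rfl⟩
  obtain ⟨φ₁, rfl⟩ := exists_point_eq t s₁ ht
  obtain ⟨φ₂, rfl⟩ := exists_point_eq t s₂ (h.symm.trans ht)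
  obtain ⟨ψ, hψ⟩ := Spec.map_surjective (T.fromSpecResidueField t ≫ c)
  rw [Category.assoc, ← hψ, ← Spec.map_comp, ← Spec.map_id] at h₁ h₂
  replace h₁ : ψ ≫ φ₁ = 𝟙 _ := Spec.map_injective h₁
  replace h₂ : ψ ≫ φ₂ = 𝟙 _ := Spec.map_injective h₂
  have e₁ : ∀ x, φ₁.hom (ψ.hom x) = x := fun x => congrArg (fun g => g.hom x) h₁
  have e₂ : ∀ x, φ₂.hom (ψ.hom x) = x := fun x => congrArg (fun g => g.hom x) h₂
  have : φ₁ = φ₂ := by
    refine CommRingCat.hom_ext (RingHom.ext fun k => ?_)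
    have : ψ.hom (φ₁.hom k) = k := φ₁.hom.injective (e₁ _)
    conv_rhs => rw [← this]
    exact (e₂ _).symm
  rw [this]

/-- An etale map from a quasi-compact scheme has boundedly many lifts of field points. -/
theorem lifts_bounded {A B : Scheme.{u}} (f : A ⟶ B) [Etale f] [CompactSpace A] :
    ∃ N : ℕ, ∀ (L : Type u) [Field L] (g : Spec (CommRingCat.of L) ⟶ B) (n : ℕ)
      (σ : Fin n → (Spec (CommRingCat.of L) ⟶ A)), Function.Injective σ → (∀ i, σ i ≫ f = g) → n ≤ N := by
  obtain ⟨N, hN⟩ := univBounded_of_etale f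
  refine ⟨N, fun L _ g n σ hσ hg => ?_⟩
  obtain ⟨hfin, hrk⟩ := (fdle_iff_isFinite _ N).1 ((BddFib93.fibreDegLE_iff f N).1 hN L g)
  let ρ := fun i => pullback.lift (σ i) (𝟙 _) (by rw [hg, Category.id_comp])
  have hinj : Function.Injective fun i => ρ i (IsLocalRing.closedPoint L) := fun i j h => hσ (by
    have := sec_ext (pullback.snd f g) (ρ i) (ρ j) (pullback.lift_snd _ _ _) (pullback.lift_snd _ _ _) h
    simpa [ρ] using congrArg (· ≫ pullback.fst f g) this)
  have h1 := (Set.encard_le_encard (Set.subset_univ (Set.range fun i => ρ i (IsLocalRing.closedPoint L)))).trans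
    (encard_le_of_finrank_le (pullback.snd f g) hrk)
  rw [← Set.image_univ, hinj.encard_image, Set.encard_univ, ENat.card_eq_coe_fintype_card, Fintype.card_fin] at h1
  exact_mod_cast h1

variable {S : Scheme.{u}} {X : Space S} {U : Over S}

/-- The points over which a chart has at least `p` geometric lifts. -/
def Uset (a : (yon S).obj U ⟶ X.obj) : ℕ → Set (Points X.obj)
  | 0 => Set.univ
  | n + 1 => {x | ∃ (L : Type u) (_ : Field L) (str : Spec (CommRingCat.of L) ⟶ S)
      (y : Fin (n + 1) → (Over.mk str ⟶ U)), Compat a y ∧ Function.Injective y ∧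
        ∀ t : ↥(Over.mk str).left, Points.ofPt ((yon S).map (y 0) ≫ a) t = x}

variable {a : (yon S).obj U ⟶ X.obj}

theorem distAt_of_injective {ι : Type} {L : Type u} [Field L] {str : Spec (CommRingCat.of L) ⟶ S}
    {y : ι → (Over.mk str ⟶ U)} (hy : Function.Injective y) (t : ↥(Over.mk str).left) : DistAt y t :=
  (distAt_point_iff y t).2 fun _ _ hij => hy.ne hij

theorem mem_Uset_iff {n : ℕ} (W : DTup a (Fin (n + 1))) (x : Points X.obj) :
    x ∈ Uset a (n + 1) ↔ ∃ w : ↥W.P.left, Points.ofPt ((yon S).map (W.π 0) ≫ a) w = x := by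
  constructor
  · rintro ⟨L, _, str, y, hc, hi, hx⟩
    obtain ⟨l, hl⟩ := W.exists_lift y hc (distAt_of_injective hi)
    let t : ↥(Over.mk str).left := (IsLocalRing.closedPoint L : PrimeSpectrum L)
    refine ⟨l.left t, ?_⟩
    rw [← hx t, ← hl 0, Functor.map_comp, Category.assoc]
    exact (ofPt_comp l _ t).symm
  · rintro ⟨w, rfl⟩
    let L := ↥(W.P.left.residueField w)
    let str : Spec (CommRingCat.of L) ⟶ S := W.P.left.fromSpecResidueField w ≫ W.P.hom
    let ι₀ : Over.mk str ⟶ W.P := Over.homMk (W.P.left.fromSpecResidueField w) rfl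
    refine ⟨L, inferInstance, str, fun i => ι₀ ≫ W.π i,
      fun i j => by simp only [Functor.map_comp, Category.assoc, W.compat i j], fun i j h => ?_, fun t => ?_⟩
    · by_contra hij
      exact W.dist w i j hij (congrArg CommaMorphism.left h)
    · rw [Functor.map_comp, Category.assoc, ofPt_comp]
      exact congrArg _ (Scheme.fromSpecResidueField_apply w t)

theorem Uset_one (has : RepWith @Surjective a) : Uset a 1 = Set.univ := by
  refine Set.eq_univ_of_forall fun x => ?_
  obtain ⟨u, rfl⟩ := surjective_ofPt has x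
  refine ⟨↥(U.left.residueField u), inferInstance, U.left.fromSpecResidueField u ≫ U.hom,
    fun _ => Over.homMk (U.left.fromSpecResidueField u) rfl, fun _ _ => rfl,
    fun i j _ => Subsingleton.elim (α := Fin 1) i j, fun t => ?_⟩
  rw [ofPt_comp]
  exact congrArg _ (Scheme.fromSpecResidueField_apply u t)

theorem Uset_succ_subset : ∀ p, Uset a (p + 1) ⊆ Uset a p
  | 0 => fun _ _ => trivial
  | n + 1 => by
    rintro x ⟨L, i, str, y, hc, hi, hx⟩
    refine ⟨L, i, str, fun k => y k.castSucc, fun _ _ => hc _ _, fun _ _ h => Fin.castSucc_injective _ (hi h), ?_⟩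
    simpa using hx

/-- Two geometric points of the quotient over a point with exactly `n + 1` lifts agree. -/
theorem quot_point_eq {n : ℕ} (W : DTup a (Fin (n + 1))) {V : Over S} (m : W.P ⟶ V)
    (f : (yon S).obj V ⟶ X.obj) (hme : Etale m.left) (hms : Surjective m.left)
    (hfm : (yon S).map m ≫ f = (yon S).map (W.π 0) ≫ a) (hinv : ∀ g, (W.perm g).hom ≫ m = m)
    {K : Type u} [Field K] [IsAlgClosed K] {str : Spec (CommRingCat.of K) ⟶ S} (v₁ v₂ : Over.mk str ⟶ V)
    (e : (yon S).map v₁ ≫ f = (yon S).map v₂ ≫ f) (t : ↥(Over.mk str).left)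
    (hnot : Points.ofPt ((yon S).map v₁ ≫ f) t ∉ Uset a (n + 2)) : v₁ = v₂ := by
  have lift : ∀ v : Over.mk str ⟶ V, ∃ w : Over.mk str ⟶ W.P, w ≫ m = v ∧
      ∀ k, (yon S).map (w ≫ W.π k) ≫ a = (yon S).map v ≫ f := by
    intro v
    obtain ⟨r, hr⟩ := m.left.surjective (v.left (IsLocalRing.closedPoint K : PrimeSpectrum K))
    obtain ⟨ρ, hρ, -⟩ := exists_section_at m.left (L := K) v.left r hr
    let w : Over.mk str ⟶ W.P := Over.homMk ρ (by rw [← Over.w m, ← Category.assoc, hρ]; exact Over.w v)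
    have hw : w ≫ m = v := Over.OverMorphism.ext hρ
    refine ⟨w, hw, fun k => ?_⟩
    rw [Functor.map_comp, Category.assoc, W.compat k 0, ← hfm, ← Functor.map_comp_assoc, hw]
  obtain ⟨w₁, hw₁, ha₁⟩ := lift v₁
  obtain ⟨w₂, hw₂, ha₂⟩ := lift v₂
  have inj : ∀ w : Over.mk str ⟶ W.P, Function.Injective fun k => w ≫ W.π k := fun w i j h => by
    by_contra hij
    exact (distAt_point_iff _ t).1 ((distAt_comp w W.π t).2 (W.dist _)) i j hij h
  have hsub : ∀ k, ∃ k', w₁ ≫ W.π k' = w₂ ≫ W.π k := by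
    intro k
    by_contra hk
    push Not at hk
    refine hnot ⟨K, inferInstance, str, Fin.snoc (fun i => w₁ ≫ W.π i) (w₂ ≫ W.π k), ?_, ?_, fun t' => ?_⟩
    · have key : ∀ i, (yon S).map ((Fin.snoc (fun i => w₁ ≫ W.π i) (w₂ ≫ W.π k) :
          Fin (n + 1 + 1) → (Over.mk str ⟶ U)) i) ≫ a = (yon S).map v₁ ≫ f := by
        intro i
        induction i using Fin.lastCases with
        | last => rw [Fin.snoc_last, ha₂, e]
        | cast i => rw [Fin.snoc_castSucc, ha₁]
      exact fun i j => (key i).trans (key j).symm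
    · refine Fin.snoc_injective_iff.2 ⟨inj w₁, ?_⟩
      rintro ⟨i, hi⟩
      exact hk i hi
    · have : Subsingleton ↥(Over.mk str).left := inferInstanceAs (Subsingleton (PrimeSpectrum K))
      rw [Subsingleton.elim t' t, show (0 : Fin (n + 1 + 1)) = (0 : Fin (n + 1)).castSucc from Fin.castSucc_zero.symm,
        Fin.snoc_castSucc, ha₁]
  choose σ hσ using hsub
  have hσi : Function.Injective σ := fun i j h => inj w₂ (by
    show w₂ ≫ W.π i = w₂ ≫ W.π j
    rw [← hσ i, ← hσ j, h])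
  let e' : Equiv.Perm (Fin (n + 1)) := Equiv.ofBijective σ (Finite.injective_iff_bijective.1 hσi)
  have hw : w₁ ≫ (W.perm ⟨e'⁻¹⟩).hom = w₂ := W.ext _ _ fun i => by
    rw [Category.assoc, W.perm_π, inv_inv, ← hσ i]
    rfl
  rw [← hw₁, ← hw₂, ← hw, Category.assoc, hinv]

variable [IsAffine U.left]

theorem isOpen_Uset (ha : RepWith @Etale a) : ∀ p, IsOpen (Uset a p)
  | 0 => isOpen_univ
  | n + 1 => by
    obtain ⟨W, hπ, -, -⟩ := exists_dtup ha n
    have h : RepWith @Etale ((yon S).map (W.π 0) ≫ a) := repWith_etale_comp (W.π 0) ha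
    have : Uset a (n + 1) = Set.range (Points.ofPt ((yon S).map (W.π 0) ≫ a)) :=
      Set.ext fun x => mem_Uset_iff W x
    rw [this]
    exact (isOpenMap_ofPt h).isOpen_range

theorem isIso_diagonal_of_geom_injective {A B : Scheme.{u}} (g : A ⟶ B) [Etale g]
    (h : ∀ {K : Type u} [Field K] [IsAlgClosed K] (σ₁ σ₂ : Spec (CommRingCat.of K) ⟶ A),
      σ₁ ≫ g = σ₂ ≫ g → σ₁ = σ₂) : IsIso (pullback.diagonal g) := by
  have key : ∀ (z : ↥(pullback g g)) {K : Type u} [Field K] [IsAlgClosed K] (ζ : Spec (CommRingCat.of K) ⟶ pullback g g),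
      ζ (IsLocalRing.closedPoint K) = z → z ∈ Set.range (pullback.diagonal g) := fun z K _ _ ζ hζ => by
    have h2 := h (ζ ≫ pullback.fst g g) (ζ ≫ pullback.snd g g) (by rw [Category.assoc, Category.assoc, pullback.condition])
    refine ⟨(ζ ≫ pullback.fst g g) (IsLocalRing.closedPoint K), ?_⟩
    have e : (ζ ≫ pullback.fst g g) ≫ pullback.diagonal g = ζ := by
      apply pullback.hom_ext
      · rw [Category.assoc, pullback.diagonal_fst, Category.comp_id]
      · rw [Category.assoc, pullback.diagonal_snd, Category.comp_id]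
        exact h2
    rw [← Scheme.Hom.comp_apply, e, hζ]
  refine (isIso_iff_isOpenImmersion_and_surjective _).2 ⟨inferInstance, ⟨fun z => ?_⟩⟩
  have main : ∀ (P : Scheme.{u}) (z : P), ∃ (K : Type u) (_ : Field K) (_ : IsAlgClosed K)
      (ζ : Spec (CommRingCat.of K) ⟶ P), ζ (IsLocalRing.closedPoint K) = z := fun P z => by
    let K : Type u := AlgebraicClosure (P.residueField z)
    exact ⟨K, inferInstance, inferInstance,
      Spec.map (CommRingCat.ofHom (algebraMap (P.residueField z) K)) ≫ P.fromSpecResidueField z,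
      by rw [Scheme.Hom.comp_apply]; exact Scheme.fromSpecResidueField_apply _ _⟩
  obtain ⟨K, _, _, ζ, hζ⟩ := main _ z
  exact key z ζ hζ

theorem exists_chart_stratum (ha : RepWith @Etale a) (n : ℕ) (G : Space S) (jG : G ⟶ X)
    (hj : RepWith @IsOpenImmersion jG.hom) (hjr : Set.range (Points.map jG.hom) = Uset a (n + 1)) :
    ∃ (V : Over S) (f : (yon S).obj V ⟶ G.obj), V.left.IsSeparated ∧
      (RepWith @QuasiCompact a → CompactSpace ↥V.left) ∧ RepWith @Etale f ∧ RepWith @Surjective f ∧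
      ∀ (Z : Space S) (i : Z ⟶ G), (∀ z, Points.map jG.hom (Points.map i.hom z) ∉ Uset a (n + 2)) →
        ∀ (P : Sp S) (fst : P ⟶ Z.obj) (snd : P ⟶ (yon S).obj V), IsPullback fst snd i.hom f → IsIso fst := by
  obtain ⟨W, V, m, f, hsep, hme, hms, hf, hfm, hinv, hqc⟩ := exists_tuple_quot ha n
  have hrange : ∀ x, x ∈ Uset a (n + 1) ↔ ∃ v, Points.ofPt f v = x := by
    intro x
    rw [mem_Uset_iff W, ← hfm]
    constructor
    · rintro ⟨w, hw⟩
      exact ⟨m.left w, by rw [← hw, ofPt_comp]⟩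
    · rintro ⟨v, rfl⟩
      obtain ⟨w, rfl⟩ := m.left.surjective v
      exact ⟨w, by rw [ofPt_comp]⟩
  obtain ⟨f', hf'⟩ := exists_factor_of_range_subset hj f (by
    rintro _ ⟨x, rfl⟩
    obtain ⟨v, rfl⟩ := (Points.schemeHomeo V).surjective x
    rw [hjr, hrange]
    exact ⟨v, Points.ofPt_eq_map_ofScheme f v⟩)
  have := mono_of_repWith_le isOpenImmersion_le_monomorphisms hj
  have hje : RepWith @Etale jG.hom := repWith_mono (fun _ _ g (_ : IsOpenImmersion g) => inferInstance) hj
  have hfe : RepWith @Etale f' := repWith_etale_of_isEtaleMor G.property (G.property.representable_from_yon f')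
    (SpPts86.isEtaleMor_of_comp (g := jG.hom) G.property (isEtaleMor_of_repWith_etale hje)
      (by rw [hf']; exact isEtaleMor_of_repWith_etale hf))
  have hfs : RepWith @Surjective f' := repWith_surjective_of_surjective_ofPt hfe.1 fun y => by
    obtain ⟨v, hv⟩ := (hrange _).1 (hjr.le ⟨y, rfl⟩)
    refine ⟨v, injective_map_of_mono jG.hom ?_⟩
    rw [Points.map_ofPt, hf', hv]
  refine ⟨V, f', hsep, fun h => (hqc h).2, hfe, hfs, fun Z i hi P fst snd sq => ?_⟩
  obtain ⟨C, c, hc', hcs⟩ := Z.property.atlas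
  obtain ⟨Q, q, g, sqQ⟩ := exists_isPullback_yon G.property.diag f' (c ≫ i.hom)
  have hge : Etale g.left := etale_snd_of_isPullback sqQ hfe
  have hgs : Surjective g.left := etale_snd_of_isPullback sqQ hfs
  have : IsIso (pullback.diagonal g.left) := isIso_diagonal_of_geom_injective g.left fun {K} _ _ σ₁ σ₂ hσ => by
    let str : Spec (CommRingCat.of K) ⟶ S := σ₁ ≫ Q.hom
    let G₁ : Over.mk str ⟶ Q := Over.homMk σ₁ rfl
    let G₂ : Over.mk str ⟶ Q := Over.homMk σ₂ (by
      show σ₂ ≫ Q.hom = σ₁ ≫ Q.hom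
      rw [← Over.w g, ← Category.assoc, ← hσ, Category.assoc])
    have hG : G₁ ≫ g = G₂ ≫ g := Over.OverMorphism.ext hσ
    let t : ↥(Over.mk str).left := (IsLocalRing.closedPoint K : PrimeSpectrum K)
    have hcomp : ∀ H : Over.mk str ⟶ Q,
        (yon S).map (H ≫ q) ≫ f = (yon S).map (H ≫ g) ≫ (c ≫ i.hom) ≫ jG.hom := fun H => by
      rw [← hf', Functor.map_comp, Functor.map_comp, Category.assoc, Category.assoc, sqQ.w_assoc]
    have hv : G₁ ≫ q = G₂ ≫ q := quot_point_eq W m f hme hms hfm hinv (G₁ ≫ q) (G₂ ≫ q)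
      (by rw [hcomp, hcomp, hG]) t (by
        rw [hcomp, ← Category.assoc, ← Points.map_ofPt, ← Category.assoc, ← Points.map_ofPt]
        exact hi _)
    exact congrArg (fun G : Over.mk str ⟶ Q => G.left) ((yon S).map_injective (sqQ.hom_ext
      (by rw [← Functor.map_comp, ← Functor.map_comp, hv]) (by rw [← Functor.map_comp, ← Functor.map_comp, hG])) : G₁ = G₂)
  have : Mono g.left := pullback.isIso_diagonal_iff _ |>.1 this
  have : IsOpenImmersion g.left := IsOpenImmersion.of_flat_of_mono g.left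
  have : IsIso g.left := (isIso_iff_isOpenImmersion_and_surjective _).2 ⟨inferInstance, hgs⟩
  have : IsIso ((Over.forget S).map g) := inferInstanceAs (IsIso g.left)
  have : IsIso g := isIso_of_reflects_iso g (Over.forget S)
  obtain ⟨l, hl₁, hl₂⟩ : ∃ l : (yon S).obj Q ⟶ P, l ≫ fst = (yon S).map g ≫ c ∧ l ≫ snd = (yon S).map q :=
    ⟨sq.lift ((yon S).map g ≫ c) ((yon S).map q) (by rw [Category.assoc, sqQ.w]), sq.lift_fst _ _ _,
      sq.lift_snd _ _ _⟩
  have h : IsPullback l ((yon S).map g) fst c :=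
    IsPullback.of_right (by rw [hl₂]; exact sqQ) hl₁ sq.flip
  exact isIso_of_baseChange h (locLift_of_atlas hc' hcs)

theorem exists_filtration (ha : RepWith @Etale a) (has : RepWith @Surjective a) :
    ∃ (Uo : ℕ → Space S) (j : ∀ p, Uo p ⟶ X) (k : ∀ p, Uo (p + 1) ⟶ Uo p)
      (T : ℕ → Space S) (i : ∀ p, T p ⟶ Uo p),
      (∀ p, RepWith @IsOpenImmersion (j p).hom) ∧ (∀ p, k p ≫ j p = j (p + 1)) ∧ IsIso (j 1) ∧
      (∀ p, Set.range (Points.map (j p).hom) = Uset a p) ∧
      (∀ p, IsRedInduced (Set.range (Points.map (k p).hom))ᶜ (i p).hom) ∧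
      (∀ p, 1 ≤ p → ∃ (V : Over S) (f : (yon S).obj V ⟶ (Uo p).obj), V.left.IsSeparated ∧
        (RepWith @QuasiCompact a → CompactSpace ↥V.left) ∧
        RepWith @Etale f ∧ RepWith @Surjective f ∧
        ∀ (P : Sp S) (fst : P ⟶ (T p).obj) (snd : P ⟶ (yon S).obj V),
          IsPullback fst snd (i p).hom f → IsIso fst) ∧
      (∀ (x : Points X.obj) (N : ℕ), x ∉ Uset a (N + 1) →
        ∃ p, 1 ≤ p ∧ x ∈ Set.range (Points.map ((i p) ≫ (j p)).hom)) := by
  have hW := isOpen_Uset ha
  let Uo : ℕ → Space S := fun p => ⟨restrictSheaf X.obj (Uset a p), isAlgSpace_restrictSheaf X.property (hW p)⟩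
  let j : ∀ p, Uo p ⟶ X := fun p => ObjectProperty.homMk (restrictι X.obj (Uset a p))
  have hj : ∀ p, RepWith @IsOpenImmersion (j p).hom := fun p => repWith_restrictι (hW p)
  have hjr : ∀ p, Set.range (Points.map (j p).hom) = Uset a p := fun p => range_map_restrictι (hW p)
  have hk : ∀ p, ∃ g : (Uo (p + 1)).obj ⟶ (Uo p).obj, g ≫ (j p).hom = (j (p + 1)).hom := fun p =>
    exists_factor_of_range_subset (hj p) _ (by rw [hjr, hjr]; exact Uset_succ_subset p)
  choose k₀ hk₀ using hk
  let k : ∀ p, Uo (p + 1) ⟶ Uo p := fun p => ObjectProperty.homMk (k₀ p)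
  have hkr : ∀ p (y : Points (Uo p).obj),
      y ∈ Set.range (Points.map (k p).hom) ↔ Points.map (j p).hom y ∈ Uset a (p + 1) := by
    intro p y
    have := mono_of_repWith_le isOpenImmersion_le_monomorphisms (hj p)
    rw [← hjr (p + 1), ← hk₀ p]
    constructor
    · rintro ⟨z, rfl⟩
      exact ⟨z, Points.map_comp _ _ _⟩
    · rintro ⟨z, hz⟩
      rw [Points.map_comp] at hz
      exact ⟨z, injective_map_of_mono _ hz⟩
  have hkc : ∀ p, IsClosed (Set.range (Points.map (k p).hom))ᶜ := fun p => by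
    have : Set.range (Points.map (k p).hom) = Points.map (j p).hom ⁻¹' Uset a (p + 1) := Set.ext (hkr p)
    rw [isClosed_compl_iff, this]
    exact (hW _).preimage (Points.continuous_map _)
  choose T₀ i₀ hT hi using fun p => exists_isRedInduced (Uo p).property _ (hkc p)
  let T : ℕ → Space S := fun p => ⟨T₀ p, hT p⟩
  let i : ∀ p, T p ⟶ Uo p := fun p => ObjectProperty.homMk (i₀ p)
  have hir : ∀ p (y : Points (Uo p).obj),
      y ∈ Set.range (Points.map (i p).hom) ↔ Points.map (j p).hom y ∉ Uset a (p + 1) := fun p y => by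
    rw [← hkr]
    exact Set.ext_iff.1 (hi p).2.1 y
  refine ⟨Uo, j, k, T, i, hj, fun p => ObjectProperty.hom_ext _ (hk₀ p), ?_, hjr, hi, ?_, ?_⟩
  · obtain ⟨g, hg⟩ := exists_factor_of_range_subset (hj 1) (𝟙 X.obj) (by
      rw [hjr, Uset_one has]; exact Set.subset_univ _)
    have := mono_of_repWith_le isOpenImmersion_le_monomorphisms (hj 1)
    refine ⟨⟨ObjectProperty.homMk g, ObjectProperty.hom_ext _ ?_, ObjectProperty.hom_ext _ hg⟩⟩
    show (j 1).hom ≫ g = 𝟙 _
    rw [← cancel_mono (j 1).hom, Category.assoc, hg, Category.comp_id, Category.id_comp]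
  · intro p hp
    obtain ⟨n, rfl⟩ := Nat.exists_eq_add_of_le' hp
    obtain ⟨V, f, h1, h2, h3, h4, h5⟩ := exists_chart_stratum ha n (Uo (n + 1)) (j (n + 1)) (hj _) (hjr _)
    exact ⟨V, f, h1, h2, h3, h4, h5 (T (n + 1)) (i (n + 1)) fun z => (hir _ _).1 ⟨z, rfl⟩⟩
  · intro x N hN
    obtain ⟨p, hp, hxp, hxq⟩ : ∃ p, 1 ≤ p ∧ x ∈ Uset a p ∧ x ∉ Uset a (p + 1) := by
      induction N with
      | zero => exact absurd (Uset_one has ▸ Set.mem_univ x) hN
      | succ N ih =>
        by_cases h : x ∈ Uset a (N + 1)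
        · exact ⟨N + 1, by omega, h, hN⟩
        · exact ih h
    obtain ⟨y, rfl⟩ := (hjr p).ge hxp
    obtain ⟨z, rfl⟩ := (hir p y).2 hxq
    exact ⟨p, hp, z, Points.map_comp _ _ _⟩

/-- Boundedness at a point with a quasi-compact representative. -/
theorem exists_notMem_Uset_of_qc_point (ha : RepWith @Etale a) {q : FieldPt X.obj}
    (hq : RepWith @QuasiCompact q.toHom) : ∃ N, Points.mk q ∉ Uset a (N + 1) := by
  obtain ⟨P', p₁, r, sq⟩ := exists_isPullback_yon X.property.diag q.toHom a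
  have : Etale p₁.left := etale_snd_of_isPullback sq.flip ha
  have : QuasiCompact r.left := etale_snd_of_isPullback sq hq
  have : CompactSpace ↥P'.left := QuasiCompact.compactSpace_of_compactSpace r.left
  obtain ⟨N, hN⟩ := lifts_bounded p₁.left
  refine ⟨N, ?_⟩
  rintro ⟨L, _, str, y, hc, hy, hx⟩
  obtain ⟨Ω, _, w, α, β, h⟩ := Points.mk_eq_mk_iff.1
    (hx (IsLocalRing.closedPoint L : PrimeSpectrum L))
  let t : ↥(Over.mk str).left := (IsLocalRing.closedPoint L : PrimeSpectrum L)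
  let ι₁ : Over.mk ((Over.mk str).left.fromSpecResidueField t ≫ (Over.mk str).hom) ⟶ Over.mk str :=
    Over.homMk ((Over.mk str).left.fromSpecResidueField t) rfl
  have h0 : (yon S).map (α ≫ ι₁) ≫ (yon S).map (y 0) ≫ a = (yon S).map β ≫ q.toHom := by
    have := fieldPt_rel_toHom α β h
    rw [FieldPt.toHom_ofPt] at this
    rw [Functor.map_comp, Category.assoc]
    exact this
  have hαe : Epi (α ≫ ι₁).left := by
    obtain ⟨φ, hφ⟩ := Spec.map_surjective ((α ≫ ι₁).left)
    have : Epi (Spec.map φ) := epi_specMap_field (K := L) φ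
    exact hφ ▸ this
  have hl : ∀ i, ∃ l : Over.mk w ⟶ P', l ≫ p₁ = β ∧ l ≫ r = (α ≫ ι₁) ≫ y i := fun i => by
    obtain ⟨l, hl⟩ := (yon S).map_surjective (sq.lift ((yon S).map β) ((yon S).map ((α ≫ ι₁) ≫ y i))
      (by rw [← h0, hc 0 i, ← Category.assoc, ← Functor.map_comp]))
    exact ⟨l, (yon S).map_injective (by rw [Functor.map_comp, hl, sq.lift_fst]),
      (yon S).map_injective (by rw [Functor.map_comp, hl, sq.lift_snd])⟩
  choose l hlp hlr using hl
  have := hN Ω β.left (N + 1) (fun i => (l i).left) (fun i j e => hy ?_) fun i => congrArg CommaMorphism.left (hlp i)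
  · omega
  · have e' : l i = l j := Over.OverMorphism.ext e
    apply Over.OverMorphism.ext
    rw [← cancel_epi (α ≫ ι₁).left, ← Over.comp_left, ← Over.comp_left, ← hlr, ← hlr, e']

/-- Boundedness for a chart with quasi-compact relation. -/
theorem exists_Uset_eq_empty (ha : RepWith @Etale a) {R : Over S} {t s : R ⟶ U}
    (sq : IsPullback ((yon S).map t) ((yon S).map s) a a) [CompactSpace ↥R.left] :
    ∃ N, Uset a (N + 1) = ∅ := by
  have : Etale s.left := etale_snd_of_isPullback sq ha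
  obtain ⟨N, hN⟩ := lifts_bounded s.left
  refine ⟨N, Set.eq_empty_of_forall_notMem ?_⟩
  rintro x ⟨L, _, str, y, hc, hy, -⟩
  have hl : ∀ i, ∃ l : Over.mk str ⟶ R, l ≫ t = y i ∧ l ≫ s = y 0 := fun i => by
    obtain ⟨l, hl⟩ := (yon S).map_surjective (sq.lift ((yon S).map (y i)) ((yon S).map (y 0)) (hc i 0))
    exact ⟨l, (yon S).map_injective (by rw [Functor.map_comp, hl, sq.lift_fst]),
      (yon S).map_injective (by rw [Functor.map_comp, hl, sq.lift_snd])⟩
  choose l hlt hls using hl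
  have := hN L (y 0).left (N + 1) (fun i => (l i).left) (fun i j e => hy ?_) fun i => congrArg CommaMorphism.left (hls i)
  · omega
  · rw [← hlt i, ← hlt j, show l i = l j from Over.OverMorphism.ext e]

end Groth.Agent.SpProper61
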