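import Groth.Agent.SpProper61.TupleCover
import Groth.Agent.SpProper61.AffineSteps
import Groth.Agent.SpFP87.Sober
import Groth.Agent.SpFP87.QsSp
import Groth.Agent.SpProper61.Induction

/-!
An integral cover by a scheme which is finite etale over a dense open.
-/

universe u

set_option autoImplicit false
set_option backward.isDefEq.respectTransparency false

open CategoryTheory CategoryTheory.Limits AlgebraicGeometry Topology
open AlgSp Groth.Agent.SpFP87 Groth.Agent.SpPts86

namespace Groth.Agent.SpProper61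

/-- A generic point of a component in the closure of an open set lies in it, if there are finitely many components. -/
theorem generic_mem_of_mem_closure {α : Type*} [TopologicalSpace α] [QuasiSober α]
    (hfin : (irreducibleComponents α).Finite) {V : Set α} (hV : IsOpen V) {T : Set α}
    (hT : T ∈ irreducibleComponents α) {η : α} (hη : IsGenericPoint η T) (h : η ∈ closure V) : η ∈ V := by
  have hsub : V ⊆ ⋃ T' ∈ {T' ∈ irreducibleComponents α | (T' ∩ V).Nonempty}, T' := fun x hx =>
    Set.mem_biUnion (show irreducibleComponent x ∈ _ from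
      ⟨irreducibleComponent_mem_irreducibleComponents x, x, mem_irreducibleComponent, hx⟩)
      mem_irreducibleComponent
  have hcl : IsClosed (⋃ T' ∈ {T' ∈ irreducibleComponents α | (T' ∩ V).Nonempty}, T') :=
    (hfin.subset fun _ h => h.1).isClosed_biUnion fun T' h => isClosed_of_mem_irreducibleComponents T' h.1
  obtain ⟨T', ⟨hT', x, hx, hxV⟩, hηT'⟩ := Set.mem_iUnion₂.1 (closure_minimal hsub hcl h)
  have hle : T ⊆ T' := by
    rw [← hη.def]
    exact closure_minimal (Set.singleton_subset_iff.2 hηT') (isClosed_of_mem_irreducibleComponents T' hT')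
  exact ((hη.specializes (hT.2 hT'.1 hle hx))).mem_open hV hxV

variable {S : Scheme.{u}} {X : Space S}

theorem exists_isCompact_open_nhd (hX : IsAlgSpace X.obj) {x : Points X.obj} {O : Set (Points X.obj)}
    (hO : IsOpen O) (hx : x ∈ O) : ∃ K, IsOpen K ∧ IsCompact K ∧ x ∈ K ∧ K ⊆ O := by
  obtain ⟨U, a, ha, has⟩ := hX.atlas
  obtain ⟨u, rfl⟩ := surjective_ofPt has x
  obtain ⟨A, hA, huA, hAO⟩ := exists_isAffineOpen_mem_and_subset (x := u)
    (U := (⟨_, hO.preimage (Points.continuous_ofPt a)⟩ : U.left.Opens)) hx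
  exact ⟨Points.ofPt a '' (A : Set ↥U.left), isOpenMap_ofPt ha _ A.isOpen,
    hA.isCompact.image (Points.continuous_ofPt a), ⟨u, huA, rfl⟩, Set.image_subset_iff.2 hAO⟩

/-- The stratum pieces carrying the generic points. -/
theorem exists_generic_strata [QuasiSober (Points X.obj)] (hirr : (irreducibleComponents (Points X.obj)).Finite)
    {U : Over S} [IsAffine U.left] {a : (yon S).obj U ⟶ X.obj} (ha : RepWith @Etale a) (has : RepWith @Surjective a)
    {N : ℕ} (hN : Uset a (N + 1) = ∅) :
    ∃ O : Fin N → Set (Points X.obj), (∀ n, IsOpen (O n)) ∧ (∀ n, IsCompact (O n)) ∧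
      (∀ n : Fin N, O n ⊆ Uset a (n.1 + 1)) ∧ (∀ n : Fin N, ∀ x ∈ O n, x ∉ Uset a (n.1 + 2)) ∧
      Dense (⋃ n, O n) := by
  classical
  have hst : ∀ x : Points X.obj, ∃ n : Fin N, x ∈ Uset a (n.1 + 1) ∧ x ∉ Uset a (n.1 + 2) := fun x => by
    suffices ∀ m, x ∉ Uset a (m + 1) → ∃ n, n < m ∧ x ∈ Uset a (n + 1) ∧ x ∉ Uset a (n + 2) by
      obtain ⟨n, hn, h⟩ := this N (hN ▸ Set.notMem_empty x)
      exact ⟨⟨n, hn⟩, h⟩
    intro m
    induction m with
    | zero => exact fun h => absurd (Uset_one has ▸ Set.mem_univ x) h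
    | succ m ih =>
      intro h
      by_cases h' : x ∈ Uset a (m + 1)
      · exact ⟨m, Nat.lt_succ_self m, h', h⟩
      · obtain ⟨n, h1, h2⟩ := ih h'
        exact ⟨n, Nat.lt_succ_of_lt h1, h2⟩
  have : Finite ↥(irreducibleComponents (Points X.obj)) := hirr.to_subtype
  have hg : ∀ T : ↥(irreducibleComponents (Points X.obj)), ∃ η, IsGenericPoint η T.1 := fun T =>
    QuasiSober.sober T.2.1 (isClosed_of_mem_irreducibleComponents _ T.2)
  choose η hη using hg
  choose d hd using fun T => hst (η T)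
  have hK : ∀ T, ∃ K, IsOpen K ∧ IsCompact K ∧ η T ∈ K ∧
      K ⊆ Uset a ((d T).1 + 1) ∩ (closure (Uset a ((d T).1 + 2)))ᶜ := fun T =>
    exists_isCompact_open_nhd X.property ((isOpen_Uset ha _).inter isClosed_closure.isOpen_compl)
      ⟨(hd T).1, fun h => (hd T).2 (generic_mem_of_mem_closure hirr (isOpen_Uset ha _) T.2 (hη T) h)⟩
  choose K hKo hKc hKη hKs using hK
  refine ⟨fun n => ⋃ T : {T // d T = n}, K T.1, fun n => isOpen_iUnion fun T => hKo _,
    fun n => isCompact_iUnion fun T => hKc _, fun n => Set.iUnion_subset fun ⟨T, hT⟩ => ?_,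
    fun n x hx => ?_, fun x => ?_⟩
  · subst hT
    exact fun y hy => (hKs T hy).1
  · obtain ⟨⟨T, rfl⟩, hT⟩ := Set.mem_iUnion.1 hx
    exact fun h => (hKs T hT).2 (subset_closure h)
  · let T : ↥(irreducibleComponents (Points X.obj)) :=
      ⟨irreducibleComponent x, irreducibleComponent_mem_irreducibleComponents x⟩
    have hx : x ∈ closure {η T} := (hη T).def.ge mem_irreducibleComponent
    exact closure_mono (Set.singleton_subset_iff.2 (Set.mem_iUnion.2 ⟨d T, Set.mem_iUnion.2 ⟨⟨T, rfl⟩, hKη T⟩⟩)) hx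

theorem exists_finiteEtale_piece {U : Over S} [IsAffine U.left] {a : (yon S).obj U ⟶ X.obj}
    (ha : RepWith @Etale a) (n : ℕ) {O : Set (Points X.obj)} (hO : IsOpen O) (hsub : O ⊆ Uset a (n + 1))
    (hnot : ∀ x ∈ O, x ∉ Uset a (n + 2)) :
    ∃ (W : DTup a (Fin (n + 1))) (Wn : Over S) (emb : Wn ⟶ W.P) (c : (yon S).obj Wn ⟶ restrictSheaf X.obj O),
      W.P.left.IsSeparated ∧ (RepWith @QuasiCompact a → CompactSpace ↥W.P.left) ∧ IsOpenImmersion emb.left ∧
      c ≫ restrictι X.obj O = (yon S).map emb ≫ (yon S).map (W.π 0) ≫ a ∧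
      Set.range emb.left = Points.ofPt ((yon S).map (W.π 0) ≫ a) ⁻¹' O ∧
      O ⊆ Set.range (Points.ofPt ((yon S).map (W.π 0) ≫ a)) ∧
      RepWith @IsFinite c ∧ RepWith @Etale c := by
  obtain ⟨W, V, m, f, hsep, hme, hms, hmf, hf, hfm, hinv, hqc⟩ := exists_tuple_quot_finite ha n
  have hR : O ⊆ Set.range (Points.ofPt ((yon S).map (W.π 0) ≫ a)) := fun x hx =>
    (mem_Uset_iff W x).1 (hsub hx)
  obtain ⟨Wn, emb, c, sq, he, hr⟩ := exists_isPullback_restrict hO ((yon S).map (W.π 0) ≫ a)
  let G : Space S := ⟨restrictSheaf X.obj O, isAlgSpace_restrictSheaf X.property hO⟩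
  have hj : RepWith @IsOpenImmersion (restrictι X.obj O) := repWith_restrictι hO
  have := mono_of_repWith_le isOpenImmersion_le_monomorphisms hj
  have hiso : IsIso (pullback.fst (restrictι X.obj O) f) :=
    isIso_fst_of_injOutside (G := X) (Z := G) f hf (restrictι X.obj O) (O := Uset a (n + 2))
      (fun z => hnot _ ((range_map_restrictι hO).le ⟨z, rfl⟩))
      (fun z => by
        obtain ⟨w, hw⟩ := hR ((range_map_restrictι hO).le ⟨z, rfl⟩)
        exact ⟨m.left w, by rw [← ofPt_comp, hfm, hw]⟩)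
      (fun v₁ v₂ t e h => quot_point_eq W m f hme hms hfm hinv v₁ v₂ e t h)
      _ _ _ (IsPullback.of_hasPullback _ _)
  let l : restrictSheaf X.obj O ⟶ (yon S).obj V :=
    inv (pullback.fst (restrictι X.obj O) f) ≫ pullback.snd (restrictι X.obj O) f
  have sql : IsPullback (𝟙 (restrictSheaf X.obj O)) l (restrictι X.obj O) f :=
    (IsPullback.of_hasPullback (restrictι X.obj O) f).of_iso (asIso (pullback.fst _ _)) (Iso.refl _) (Iso.refl _)
      (Iso.refl _) (by simp) (by simp [l]) (by simp) (by simp)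
  have hlf : l ≫ f = restrictι X.obj O := by rw [← sql.w, Category.id_comp]
  have hcl : c ≫ l = (yon S).map emb ≫ (yon S).map m := by
    have e : c ≫ restrictι X.obj O = ((yon S).map emb ≫ (yon S).map m) ≫ f := by
      rw [Category.assoc, hfm]; exact sq.w
    rw [← sql.lift_snd c _ e]
    congr 1
    conv_lhs => rw [← sql.lift_fst c _ e, Category.comp_id]
  have sqm : IsPullback c ((yon S).map emb) l ((yon S).map m) :=
    IsPullback.of_right (by rw [Category.comp_id, hfm]; exact sq) hcl sql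
  refine ⟨W, Wn, emb, c, ?_, fun h => (hqc h).1, he, by rw [← Category.assoc]; exact sq.w, hr, hR, ?_, ?_⟩
  · have : AlgebraicGeometry.IsSeparated (terminal.from W.P.left) := by
      rw [← terminal.comp_from m.left]
      infer_instance
    exact ⟨this⟩
  · exact (repWith_isStableUnderBaseChange _).of_isPullback sqm.flip ((repWith_yon_map_iff _ m).2 hmf)
  · exact (repWith_isStableUnderBaseChange _).of_isPullback sqm.flip ((repWith_yon_map_iff _ m).2 hme)

theorem isFinite_of_disjoint_cover {Q T : Scheme.{u}} (s : Q ⟶ T) {ι : Type u} [Finite ι] (Z : ι → Scheme.{u})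
    (σ : ∀ i, Z i ⟶ Q) [∀ i, IsOpenImmersion (σ i)] (hdis : _root_.Pairwise (Function.onFun Disjoint fun i => Set.range (σ i)))
    (hcov : ∀ q, ∃ i, q ∈ Set.range (σ i)) (hfin : ∀ i, IsFinite (σ i ≫ s)) : IsFinite s := by
  have := hfin
  have : IsOpenImmersion (Sigma.desc σ) := isOpenImmersion_sigmaDesc Z σ hdis
  have : Surjective (Sigma.desc σ) := ⟨fun q => by
    obtain ⟨i, z, rfl⟩ := hcov q
    exact ⟨Sigma.ι Z i z, by rw [← Scheme.Hom.comp_apply, Sigma.ι_desc]⟩⟩
  have : IsIso (Sigma.desc σ) := (isIso_iff_isOpenImmersion_and_surjective _).2 ⟨inferInstance, inferInstance⟩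
  have : IsFinite (Sigma.desc fun i => σ i ≫ s) := FiniteSigma84.isFinite_sigmaDesc _
  have e : s = inv (Sigma.desc σ) ≫ Sigma.desc fun i => σ i ≫ s := by
    rw [IsIso.eq_inv_comp]
    exact Sigma.hom_ext _ _ fun i => by simp
  rw [e]
  infer_instance

theorem repWith_closedImmersion_of_open_isClosed_range {F G : Sp S} {j : F ⟶ G} (hj : RepWith @IsOpenImmersion j)
    (hc : IsClosed (Set.range (Points.map j))) : RepWith @IsClosedImmersion j := by
  refine ⟨hj.rep, fun T V g fst snd sq => ?_⟩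
  have : IsOpenImmersion snd.left := hj.property g fst snd sq
  refine IsClosedImmersion.of_isPreimmersion snd.left ?_
  have := preimage_ofPt_range_map sq
  rw [← this]
  exact hc.preimage (Points.continuous_ofPt g)


/-- A finite disjoint union of finite etale pieces. -/
theorem finite_etale_of_pieces {G : Space S} {ι : Type u} [Finite ι] (Wc : ι → Over S)
    (G' : ι → Sp S) (k : ∀ i, G' i ⟶ G.obj) (hk : ∀ i, RepWith @IsOpenImmersion (k i))
    (hd : ∀ i j, i ≠ j → Disjoint (Set.range (Points.map (k i))) (Set.range (Points.map (k j))))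
    (hcov : ∀ x, ∃ i, x ∈ Set.range (Points.map (k i)))
    (c : ∀ i, (yon S).obj (Wc i) ⟶ G' i) (hcf : ∀ i, RepWith @IsFinite (c i)) (hce : ∀ i, RepWith @Etale (c i))
    (f : (yon S).obj (SpFP87.sigmaOver Wc) ⟶ G.obj)
    (hf : ∀ i, (yon S).map (sigmaIncl Wc i) ≫ f = c i ≫ k i) :
    RepWith @IsFinite f ∧ RepWith @Etale f := by
  have hclosed : ∀ i, IsClosed (Set.range (Points.map (k i))) := fun i => by
    have : Set.range (Points.map (k i)) = (⋃ j : {j // j ≠ i}, Set.range (Points.map (k j.1)))ᶜ := by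
      refine Set.Subset.antisymm (fun x hx h => ?_) fun x h => ?_
      · obtain ⟨⟨j, hj⟩, hxj⟩ := Set.mem_iUnion.1 h
        exact Set.disjoint_left.1 (hd j i hj) hxj hx
      · obtain ⟨j, hj⟩ := hcov x
        by_contra hx
        exact h (Set.mem_iUnion.2 ⟨⟨j, fun e => hx (e ▸ hj)⟩, hj⟩)
    rw [this]
    exact (isOpen_iUnion fun j => isOpen_range_map (hk j.1)).isClosed_compl
  have hkf : ∀ i, RepWith @IsFinite (c i ≫ k i) := fun i =>
    (repWith_isMultiplicative (S := S) @IsFinite).comp_mem _ _ (hcf i)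
      (SpPts86.repWith_mono (fun _ _ g (_ : IsClosedImmersion g) => (inferInstance : IsFinite g))
        (repWith_closedImmersion_of_open_isClosed_range (hk i) (hclosed i)))
  have hke : ∀ i, RepWith @Etale (c i ≫ k i) := fun i =>
    (repWith_isMultiplicative (S := S) @Etale).comp_mem _ _ (hce i)
      (SpPts86.repWith_mono (fun _ _ g (_ : IsOpenImmersion g) => (inferInstance : Etale g)) (hk i))
  have key : ∀ {T : Over S} {Q : Over S} (t : (yon S).obj T ⟶ G.obj) (p : Q ⟶ SpFP87.sigmaOver Wc) (s : Q ⟶ T),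
      IsPullback ((yon S).map p) ((yon S).map s) f t → IsFinite s.left ∧ Etale s.left := by
    intro T Q t p s sq
    let Z : ι → Over S := fun i => pullback (sigmaIncl Wc i) p
    let σ : ∀ i, Z i ⟶ Q := fun i => pullback.snd (sigmaIncl Wc i) p
    have sqZ : ∀ i, IsPullback ((yon S).map (pullback.fst (sigmaIncl Wc i) p)) ((yon S).map (σ i ≫ s))
        (c i ≫ k i) t := fun i => by
      rw [← hf i, Functor.map_comp]
      exact ((IsPullback.of_hasPullback (sigmaIncl Wc i) p).map (yon S)).paste_vert sq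
    have hio : ∀ i, IsOpenImmersion (σ i).left := fun i =>
      MorphismProperty.of_isPullback (P := @IsOpenImmersion)
        ((IsPullback.of_hasPullback (sigmaIncl Wc i) p).map (Over.forget S)) (sigmaIncl_isOpenImmersion Wc i)
    have hmem : ∀ i q, q ∈ Set.range (σ i).left ↔ p.left q ∈ Set.range (sigmaIncl Wc i).left := fun i q => by
      have := (IsPullback.of_hasPullback (sigmaIncl Wc i) p).map (Over.forget S)
      constructor
      · rintro ⟨z, rfl⟩
        exact ⟨(pullback.fst (sigmaIncl Wc i) p).left z, by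
          rw [← Scheme.Hom.comp_apply, ← Scheme.Hom.comp_apply]; exact congr($(this.w) z)⟩
      · rintro ⟨w, hw⟩
        obtain ⟨z, -, hz⟩ := Scheme.exists_preimage_of_isPullback this w q hw
        exact ⟨z, hz⟩
    have hfs : ∀ i, IsFinite ((σ i).left ≫ s.left) ∧ Etale ((σ i).left ≫ s.left) := fun i =>
      ⟨(hkf i).property t _ _ (sqZ i), (hke i).property t _ _ (sqZ i)⟩
    refine ⟨isFinite_of_disjoint_cover s.left (fun i => (Z i).left) (fun i => (σ i).left) (fun i j hij => ?_)
      (fun q => ?_) (fun i => (hfs i).1), ?_⟩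
    · refine Set.disjoint_left.2 fun q h1 h2 => ?_
      obtain ⟨w, hw⟩ := (hmem i q).1 h1
      obtain ⟨w', hw'⟩ := (hmem j q).1 h2
      exact hij (sigmaIncl_range_eq Wc (hw.trans hw'.symm))
    · obtain ⟨i, hi⟩ := exists_sigmaIncl Wc (p.left q)
      exact ⟨i, (hmem i q).2 hi⟩
    · refine IsZariskiLocalAtSource.of_openCover (P := @Etale)
        (Scheme.Cover.mkOfCovers ι (fun i => (Z i).left) (fun i => (σ i).left) (fun q => ?_) fun i => hio i) fun i => (hfs i).2
      obtain ⟨i, hi⟩ := exists_sigmaIncl Wc (p.left q)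
      obtain ⟨z, hz⟩ := (hmem i q).2 hi
      exact ⟨i, z, hz⟩
  constructor <;>
  · refine MorphismProperty.relative.of_exists fun T t => ?_
    obtain ⟨Q, p, s, sq⟩ := exists_isPullback_yon G.property.diag f t
    exact ⟨Q, _, s, sq, by first | exact (key t p s sq).1 | exact (key t p s sq).2⟩

theorem exists_finiteEtale_integral_cover [QuasiSeparatedSpace ↥S] (hXc : IsQuasiCompactSp X.obj)
    (hXs : IsQuasiSeparatedSp X.obj) (hirr : (irreducibleComponents (Points X.obj)).Finite)
    {U : Over S} [IsAffine U.left] (a : (yon S).obj U ⟶ X.obj) (ha : RepWith @Etale a)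
    (has : RepWith @Surjective a) :
    ∃ (Y : Over S) (g : (yon S).obj Y ⟶ X.obj) (G : Space S) (jG : G ⟶ X),
      RepWith @IsIntegralHom g ∧ RepWith @Surjective g ∧
      RepWith @IsOpenImmersion jG.hom ∧ IsQuasiCompactSp G.obj ∧ Dense (Set.range (Points.map jG.hom)) ∧
      (∀ (P : Sp S) (fst : P ⟶ (yon S).obj Y) (snd : P ⟶ G.obj), IsPullback fst snd g jG.hom →
        RepWith @IsFinite snd ∧ RepWith @Etale snd) ∧
      ∀ y : ↥Y.left, ∃ (O : Y.left.Opens) (c : Over.mk (O.ι ≫ Y.hom) ⟶ U), y ∈ O ∧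
        (yon S).map c ≫ a = (yon S).map (Over.homMk O.ι rfl : Over.mk (O.ι ≫ Y.hom) ⟶ Y) ≫ g := by
  classical
  have := compactSpace_points_of_isQuasiCompactSp hXc
  have := quasiSober_points X.property (SpFP87.isDecent_of_qsSp X.property hXs)
  obtain ⟨R, t, s, sq⟩ := exists_isPullback_yon X.property.diag a a
  have := compactSpace_relation_of_qs hXs sq
  obtain ⟨N, hN⟩ := exists_Uset_eq_empty ha sq
  have hqa := repWith_quasiCompact_of_relation ha has sq
  obtain ⟨O, hOo, hOc, hOs, hOn, hOd⟩ := exists_generic_strata hirr ha has hN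
  let ι₀ : Type u := ULift.{u} (Fin N)
  choose W Wc emb c hsep hWc hemb hc hr hR hcf hce using fun d : ι₀ =>
    exists_finiteEtale_piece ha d.down.1 (hOo d.down) (hOs d.down) (hOn d.down)
  have : ∀ d, CompactSpace ↥(Wc d).left := fun d => by
    have := hWc d hqa
    rw [← isCompact_univ_iff, (emb d).left.isEmbedding.isInducing.isCompact_iff, Set.image_univ, hr d]
    exact isCompact_preimage_ofPt X.property hXs _ (hOo d.down) (hOc d.down)
  have hsep' : ∀ d, (Wc d).left.IsSeparated := fun d => by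
    have := hsep d
    have := hemb d
    have : AlgebraicGeometry.IsSeparated (terminal.from (Wc d).left) := by
      rw [← terminal.comp_from (emb d).left]
      infer_instance
    exact ⟨this⟩
  have : CompactSpace ↥(SpFP87.sigmaOver Wc).left := by
    have : CompactSpace ↥(∐ fun d => (Wc d).left) := (sigmaMk fun d => (Wc d).left).compactSpace
    exact this
  have : (SpFP87.sigmaOver Wc).left.IsSeparated := isSeparated_sigma_of_separated fun d => (Wc d).left
  let OO : Set (Points X.obj) := ⋃ d, O d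
  have hOO : IsOpen OO := isOpen_iUnion hOo
  let G : Space S := ⟨restrictSheaf X.obj OO, isAlgSpace_restrictSheaf X.property hOO⟩
  let jG : G.obj ⟶ X.obj := restrictι X.obj OO
  have hjG : RepWith @IsOpenImmersion jG := repWith_restrictι hOO
  have := mono_of_repWith_le isOpenImmersion_le_monomorphisms hjG
  have hk : ∀ d : ι₀, ∃ k : restrictSheaf X.obj (O d.down) ⟶ G.obj, k ≫ jG = restrictι X.obj (O d.down) := fun d =>
    exists_factor_of_range_subset hjG _ (by
      rw [range_map_restrictι hOO, range_map_restrictι (hOo d.down)]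
      exact Set.subset_iUnion O d.down)
  choose k hk using hk
  have hko : ∀ d, RepWith @IsOpenImmersion (k d) := fun d =>
    repWith_openImmersion_of_comp hjG (by rw [hk]; exact repWith_restrictι (hOo d.down))
  have hkr : ∀ d x, x ∈ Set.range (Points.map (k d)) ↔ Points.map jG x ∈ O d.down := fun d x => by
    have h := range_map_restrictι (F := X.obj) (hOo d.down)
    rw [show restrictι X.obj (O d.down) = k d ≫ jG from (hk d).symm] at h
    constructor
    · rintro ⟨y, rfl⟩
      exact h.le ⟨y, Points.map_comp _ _ _⟩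
    · intro hx
      obtain ⟨y, hy⟩ := h.ge hx
      rw [Points.map_comp] at hy
      exact ⟨y, injective_map_of_mono jG hy⟩
  obtain ⟨cG, hcG, -⟩ := sigma_existsUnique_desc Wc (fun d => c d ≫ k d)
  obtain ⟨hGf, hGe⟩ := finite_etale_of_pieces (G := G) Wc (fun d => restrictSheaf X.obj (O d.down)) k hko
    (fun i j hij => Set.disjoint_left.2 fun x hi hj => hij (ULift.ext _ _ (Fin.ext (by
      have h1 := (hkr i x).1 hi
      have h2 := (hkr j x).1 hj
      have mono : ∀ {p q : ℕ}, p ≤ q → Uset a q ⊆ Uset a p := fun h => Nat.le_induction (le_refl _)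
        (fun q _ ih => (Uset_succ_subset q).trans ih) _ h
      rcases Nat.lt_trichotomy i.down.1 j.down.1 with h | h | h
      · exact absurd (mono (by omega) (hOs j.down h2)) (hOn i.down _ h1)
      · exact h
      · exact absurd (mono (by omega) (hOs i.down h1)) (hOn j.down _ h2)))))
    (fun x => by
      obtain ⟨d, hd⟩ := Set.mem_iUnion.1 ((range_map_restrictι (F := X.obj) hOO).le ⟨x, rfl⟩)
      exact ⟨⟨d⟩, (hkr ⟨d⟩ x).2 hd⟩)
    c hcf hce cG hcG
  have hf : ∀ d, (yon S).map (sigmaIncl Wc d) ≫ cG ≫ jG = (yon S).map (emb d) ≫ (yon S).map ((W d).π 0) ≫ a :=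
    fun d => by rw [← Category.assoc, hcG, Category.assoc, hk, hc]
  have hOr : OO ⊆ Set.range (Points.ofPt (cG ≫ jG)) := by
    intro x hx
    obtain ⟨d, hd⟩ := Set.mem_iUnion.1 hx
    obtain ⟨w, hw⟩ := hR ⟨d⟩ hd
    obtain ⟨w', hw'⟩ := (hr ⟨d⟩).ge (show w ∈ _ from by show Points.ofPt _ w ∈ O d; rw [hw]; exact hd)
    exact ⟨(sigmaIncl Wc ⟨d⟩).left w', by rw [← ofPt_comp, hf, ofPt_comp, hw', hw]⟩
  obtain ⟨Y, g, hg, hgs, ⟨f', hn⟩, hloc⟩ := exists_scheme_cover_of_pieces hXs a ha has (fun d : ι₀ => d.down.1) W Wc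
    emb (fun d w => hOn d.down _ ((hr d).le ⟨w, rfl⟩)) (cG ≫ jG) hf (hOd.mono hOr)
  have := compactSpace_points_yon (SpFP87.sigmaOver Wc)
  have hfc : IsQuasiCompactMor (cG ≫ jG) := isQuasiCompactMor_of_qc_qs (IsAlgSpace.yon_obj _) X.property hXs
  have hfs := isQuasiSeparatedMor_of_separated_scheme (cG ≫ jG)
  refine ⟨Y, g, G, ObjectProperty.homMk jG, hg, hgs, hjG,
    isQuasiCompactSp_of_isCompact_range G.property hjG (by
      rw [range_map_restrictι hOO]; exact isCompact_iUnion hOc),
    by show Dense (Set.range (Points.map jG)); rw [range_map_restrictι hOO]; exact hOd,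
    fun P fst snd sqP => ?_, hloc⟩
  have sq1 : IsPullback (𝟙 ((yon S).obj (SpFP87.sigmaOver Wc))) cG (cG ≫ jG) jG :=
    ⟨⟨Category.id_comp _⟩, ⟨PullbackCone.IsLimit.mk _ (fun s => s.fst) (fun s => Category.comp_id _)
      (fun s => (cancel_mono jG).1 (by rw [Category.assoc]; exact s.condition))
      (fun s m m1 _ => by simpa using m1)⟩⟩
  have hP : IsAlgSpace P := isAlgSpace_of_isPullback sqP (IsAlgSpace.yon_obj Y) G.property X.property.diag
  let f'T : (yon S).obj (SpFP87.sigmaOver Wc) ⟶ P := sqP.lift f' cG hn.1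
  have hjs : LocP @Smooth jG := LocP.of_le (P := @Etale) (fun _ _ k (hk : Etale k) => (inferInstance : Smooth k))
    (locP_of_repWith G.property.diag X.property (SpPts86.repWith_mono (fun _ _ k (_ : IsOpenImmersion k) =>
      (inferInstance : Etale k)) hjG))
  have hT := univBC_of_isRelNormalization X.property (IsAlgSpace.yon_obj _) hfc hfs (IsAlgSpace.yon_obj Y) hn
    G.property hjs (𝟙 _) cG fst snd sq1 sqP f'T (sqP.lift_snd _ _ _) (by rw [sqP.lift_fst, Category.id_comp])
  have htriv : IsRelNormalization cG cG (𝟙 _) :=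
    ⟨Category.id_comp _, (isIntegralMor_iff _).2 (SpPts86.repWith_mono
      (fun _ _ k (_ : IsFinite k) => (inferInstance : IsIntegralHom k)) hGf),
      fun W' _ q g' _ hg' => ⟨g', ⟨Category.id_comp _, hg'⟩, fun m hm => by simpa using hm.1⟩⟩
  obtain ⟨e, e1, -⟩ := exists_iso_of_isRelNormalization (IsAlgSpace.yon_obj _) hP htriv hT
  have e2 : snd = e.inv ≫ cG := by rw [Iso.eq_inv_comp, e1]
  rw [e2]
  exact ⟨(MorphismProperty.cancel_left_of_respectsIso (RepWith @IsFinite) _ _).2 hGf,
    (MorphismProperty.cancel_left_of_respectsIso (RepWith @Etale) _ _).2 hGe⟩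

end Groth.Agent.SpProper61
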