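import Groth.Agent.SpProper61.CodimZeroFib
import Groth.Agent.SpFP87.RedInduced
import Groth.Agent.SpFP87.UnivBdd
import Groth.Agent.SpPts86.Finite
import Groth.Agent.S1447

/-!
Stratification of a space by the degree of the fibres of a flat quasi-finite chart.
-/

universe u

set_option autoImplicit false
set_option backward.isDefEq.respectTransparency false

open CategoryTheory CategoryTheory.Limits AlgebraicGeometry Topology Opposite
open AlgSp Groth.Agent.SpFP87 Groth.Agent.SpPts86

namespace Groth.Agent.SpProper61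

variable {S : Scheme.{u}}

theorem finLocFreeOfDeg_descend {P' P A B : Scheme.{u}} {l : P' ⟶ P} {f' : P' ⟶ A} {f : P ⟶ B} {c : A ⟶ B}
    (sq : IsPullback l f' f c) [Etale c] [Surjective c] {r : ℕ} (h : Mor2.IsFinLocFreeOfDeg r f') :
    Mor2.IsFinLocFreeOfDeg r f := by
  obtain ⟨hf, hd⟩ := h
  obtain ⟨h1, h2, h3⟩ := (finLocFree_iff f').1 hf
  have hc : fppfSurj c := etale_surjective_le_fppfSurj _ ⟨‹_›, ‹_›⟩
  have : MorphismProperty.DescendsAlong (@IsFinite : MorphismProperty Scheme.{u}) fppfSurj := isFinite_descends.{u}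
  have := flat_descends.{u}
  have := lfp_descends.{u}
  have hF : IsFinite f := MorphismProperty.of_isPullback_of_descendsAlong (P := @IsFinite) (Q := fppfSurj) sq.flip hc h1
  have hFl : Flat f := MorphismProperty.of_isPullback_of_descendsAlong (P := @Flat) (Q := fppfSurj) sq.flip hc h2
  have hP : LocallyOfFinitePresentation f :=
    MorphismProperty.of_isPullback_of_descendsAlong (P := @LocallyOfFinitePresentation) (Q := fppfSurj) sq.flip hc h3
  refine ⟨(finLocFree_iff f).2 ⟨hF, hFl, hP⟩, fun y => ?_⟩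
  obtain ⟨z, rfl⟩ := c.surjective y
  rw [← Scheme.Hom.finrank_of_isPullback l f' f c sq z, hd]

variable {X : Space S} {W U WU : Over S} {w : (yon S).obj W ⟶ X.obj} {a : (yon S).obj U ⟶ X.obj}
  {p : WU ⟶ W} {f : WU ⟶ U}

theorem deg_iff_of_chart (sqU : IsPullback ((yon S).map p) ((yon S).map f) w a) {deg : ↥U.left → ℕ}
    (hdeg : ∀ (T : Scheme.{u}) (g : T ⟶ U.left) (r : ℕ),
      Mor2.IsFinLocFreeOfDeg r (pullback.snd f.left g) ↔ ∀ t : T, deg (g t) = r)
    {T V : Over S} (g : T ⟶ U) {v₁ : (yon S).obj V ⟶ (yon S).obj W} {v₂ : V ⟶ T}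
    (sq : IsPullback v₁ ((yon S).map v₂) w ((yon S).map g ≫ a)) (r : ℕ) :
    Mor2.IsFinLocFreeOfDeg r v₂.left ↔ ∀ t : ↥T.left, deg (g.left t) = r := by
  obtain ⟨m, hm⟩ := (yon S).map_surjective (sqU.lift v₁ ((yon S).map v₂ ≫ (yon S).map g)
    (by rw [Category.assoc]; exact sq.w))
  have sq' : IsPullback ((yon S).map m) ((yon S).map v₂) ((yon S).map f) ((yon S).map g) :=
    IsPullback.of_right (by rw [hm, IsPullback.lift_fst]; exact sq) (by rw [hm, IsPullback.lift_snd]) sqU
  have e := (SpPts86.isPullback_left_of_yon sq').isoPullback_hom_snd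
  refine Iff.trans ?_ (hdeg _ g.left r)
  exact MorphismProperty.arrow_mk_iso_iff (finLocFreeOfDeg.{u} r)
    (Arrow.isoMk (SpPts86.isPullback_left_of_yon sq').isoPullback (Iso.refl _) (by simp [e]))

omit p f WU in
theorem exists_degree_stratification (hfl : RepWith @Flat w) (hfp : RepWith @LocallyOfFinitePresentation w)
    (hsep : RepWith @IsSeparated w) (hqf : RepWith @LocallyQuasiFinite w) (hb : W4dec.HasUnivBddFibres w) :
    ∃ (n : ℕ) (D : Points X.obj → ℕ), (∀ x, D x ≤ n) ∧ (∀ r, IsClosed {x | D x ≤ r}) ∧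
      ∀ (r : ℕ) (T : Space S) (g : T ⟶ X) (P : Sp S) (fst : P ⟶ (yon S).obj W) (snd : P ⟶ T.obj),
        IsPullback fst snd w g.hom →
          (IsFinLocFreeOfDegMor r snd ↔ ∀ t : Points T.obj, D (Points.map g.hom t) = r) := by
  obtain ⟨U, a, ha, has⟩ := X.property.atlas
  obtain ⟨WU, p, f, sqU⟩ := SpFP87.exists_isPullback_yon X.property.diag w a
  have : Flat f.left := hfl.property a _ f sqU
  have : LocallyOfFinitePresentation f.left := hfp.property a _ f sqU
  have : AlgebraicGeometry.IsSeparated f.left := hsep.property a _ f sqU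
  have : LocallyQuasiFinite f.left := hqf.property a _ f sqU
  obtain ⟨n, hn⟩ := hb
  obtain ⟨deg, hle, hcl, hdeg⟩ := S1447.result f.left n (by
    intro K _ g
    let Kp : Over S := Over.mk (g ≫ U.hom)
    let g' : Kp ⟶ U := Over.homMk g rfl
    let T : Over S := Over.mk (pullback.snd f.left g ≫ Kp.hom)
    let c : T ⟶ Kp := Over.homMk (pullback.snd f.left g) rfl
    let pT : T ⟶ WU := Over.homMk (pullback.fst f.left g) (by
      show pullback.fst f.left g ≫ WU.hom = pullback.snd f.left g ≫ g ≫ U.hom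
      rw [← Over.w f, pullback.condition_assoc])
    have sq : IsPullback pT c f g' :=
      IsPullback.of_map (Over.forget S) (Over.OverMorphism.ext pullback.condition)
        (IsPullback.of_hasPullback f.left g)
    let q : FieldPt X.obj := ⟨K, g ≫ U.hom, uE ((yon S).map g' ≫ a)⟩
    have hq : q.toHom = (yon S).map g' ≫ a := by
      apply (uE (S := S)).injective
      rw [FieldPt.uliftYonedaEquiv_toHom]
    obtain ⟨hfin, hrk⟩ := hn q T c ((yon S).map pT ≫ (yon S).map p)
      (by rw [hq]; exact ((sq.map (yon S)).paste_horiz sqU).flip)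
    have : IsFinite (pullback.snd f.left g) := hfin
    show FlatMor66.fieldRank f.left g ≤ _
    rw [FlatMor66.fieldRank_eq_finrank]
    exact Nat.cast_le.2 (hrk _))
  have key : ∀ {T V : Over S} (g : T ⟶ U) {v₁ : (yon S).obj V ⟶ (yon S).obj W} {v₂ : V ⟶ T},
      IsPullback v₁ ((yon S).map v₂) w ((yon S).map g ≫ a) → ∀ r, (Mor2.IsFinLocFreeOfDeg r v₂.left ↔
        ∀ t : ↥T.left, deg (g.left t) = r) := fun g _ _ sq r => deg_iff_of_chart sqU hdeg g sq r
  have hinv : ∀ u u', Points.ofPt a u = Points.ofPt a u' → deg u = deg u' := by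
    intro u u' e
    obtain ⟨R, t, s, sqR⟩ := SpFP87.exists_isPullback_yon X.property.diag a a
    obtain ⟨z, rfl, rfl⟩ := exists_pt_of_isPullback' sqR u u' e
    let K : Over S := Over.mk (R.left.fromSpecResidueField z ≫ R.hom)
    let i : K ⟶ R := Over.homMk (R.left.fromSpecResidueField z) rfl
    have hpt : ∀ k : ↥K.left, R.left.fromSpecResidueField z k = z := fun k => Scheme.fromSpecResidueField_apply _ _
    obtain ⟨V, v₁, v₂, sq1⟩ := SpFP87.exists_isPullback_yon X.property.diag w ((yon S).map (i ≫ t) ≫ a)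
    have h1 : Mor2.IsFinLocFreeOfDeg (deg (t.left z)) v₂.left := (key (i ≫ t) sq1 _).2 fun k => by
      show deg (t.left (R.left.fromSpecResidueField z k)) = _
      rw [hpt]
    have e' : (yon S).map (i ≫ t) ≫ a = (yon S).map (i ≫ s) ≫ a := by
      rw [Functor.map_comp, Functor.map_comp, Category.assoc, Category.assoc, sqR.w]
    have h2 := (key (i ≫ s) (e' ▸ sq1) _).1 h1 (IsLocalRing.closedPoint _)
    rw [← h2]
    show deg (s.left (R.left.fromSpecResidueField z _)) = _
    rw [hpt]
  choose σ hσ using surjective_ofPt has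
  have hD : ∀ u, deg (σ (Points.ofPt a u)) = deg u := fun u => hinv _ _ (hσ _)
  refine ⟨n, fun x => deg (σ x), fun x => hle _, fun r => ?_, fun r T g P fst snd sq => ?_⟩
  · rw [← ((isOpenMap_ofPt ha).isQuotientMap (Points.continuous_ofPt a) (surjective_ofPt has)).isClosed_preimage]
    convert hcl r using 1
    ext u
    simp [hD]
  obtain ⟨T₀, aT, g₀, haT, haTs, wT⟩ := exists_compatible_chart g.hom T.property X.property.diag ha has
  have hpt : ∀ t₀ : ↥T₀.left, deg (σ (Points.map g.hom (Points.ofPt aT t₀))) = deg (g₀.left t₀) := fun t₀ => by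
    rw [Points.map_ofPt, wT, ofPt_comp, hD]
  have hrep : Representable snd :=
    ((repWith_isStableUnderBaseChange (@Flat : MorphismProperty Scheme.{u})).of_isPullback sq hfl).rep
  constructor
  · intro h t
    obtain ⟨t₀, rfl⟩ := surjective_ofPt haTs t
    obtain ⟨V, v₂, v₁, sqV⟩ := hrep aT
    show deg (σ _) = r
    rw [hpt]
    refine (key g₀ (v₁ := v₁ ≫ fst) (v₂ := v₂) ?_ r).1 (h.property aT _ v₂ sqV) t₀
    rw [← wT]
    exact sqV.paste_horiz sq
  · intro h
    refine ⟨hrep, fun T' V h' fstV v₂ sqV => ?_⟩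
    obtain ⟨T'', c, l, sqT⟩ := SpFP87.exists_isPullback_yon T.property.diag h' aT
    have : Etale c.left := etale_snd_of_isPullback sqT.flip haT
    have : Surjective c.left := etale_snd_of_isPullback sqT.flip haTs
    obtain ⟨V', n₁, v₂', sqV'⟩ :=
      SpFP87.exists_isPullback_yon (IsAlgSpace.yon_obj T').diag ((yon S).map v₂) ((yon S).map c)
    refine finLocFreeOfDeg_descend (SpPts86.isPullback_left_of_yon sqV') ((key (l ≫ g₀)
      (v₁ := ((yon S).map n₁ ≫ fstV) ≫ fst) (v₂ := v₂') ?_ r).2 fun t => ?_)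
    · rw [Functor.map_comp, Category.assoc ((yon S).map l), ← wT, ← Category.assoc ((yon S).map l), ← sqT.w]
      exact (sqV'.paste_horiz sqV).paste_horiz sq
    · show deg (g₀.left (l.left t)) = r
      rw [← hpt]
      exact h _

theorem exists_redInduced_stratification (hfl : RepWith @Flat w) (hfp : RepWith @LocallyOfFinitePresentation w)
    (hsep : RepWith @IsSeparated w) (hqf : RepWith @LocallyQuasiFinite w) (hb : W4dec.HasUnivBddFibres w) :
    ∃ (n : ℕ) (Zs : ℕ → Space S) (i : ∀ r, Zs r ⟶ X),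
      (∀ r, IsRedInduced (Set.range (Points.map (i r).hom)) (i r).hom) ∧
      IsEmpty (Points (Zs 0).obj) ∧ Set.range (Points.map (i (n + 1)).hom) = Set.univ ∧
      (∀ r, Set.range (Points.map (i r).hom) ⊆ Set.range (Points.map (i (r + 1)).hom)) ∧
      ∀ (r : ℕ) (T : Space S) (g : T ⟶ X) (P : Sp S) (fst : P ⟶ (yon S).obj W) (snd : P ⟶ T.obj),
        IsPullback fst snd w g.hom →
          (IsFinLocFreeOfDegMor r snd ↔
            Set.range (Points.map g.hom) ⊆
              Set.range (Points.map (i (r + 1)).hom) \ Set.range (Points.map (i r).hom)) := by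
  obtain ⟨n, D, hle, hcl, hD⟩ := exists_degree_stratification hfl hfp hsep hqf hb
  have hcl' : ∀ r, IsClosed {x : Points X.obj | D x < r} := fun r => by
    rcases r with _ | r
    · simp
    · simpa [Nat.lt_succ_iff] using hcl r
  choose Z i hZ hi using fun r => exists_isRedInduced X.property _ (hcl' r)
  have hr : ∀ r, Set.range (Points.map (i r)) = {x | D x < r} := fun r => (hi r).2.1
  refine ⟨n, fun r => ⟨Z r, hZ r⟩, fun r => ObjectProperty.homMk (i r), fun r => ?_, ?_, ?_, fun r => ?_,
    fun r T g P fst snd sq => (hD r T g P fst snd sq).trans ?_⟩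
  · exact ⟨(hi r).1, rfl, (hi r).2.2⟩
  · refine ⟨fun z => ?_⟩
    have h : Points.map (i 0) z ∈ {x | D x < 0} := (hr 0).le ⟨z, rfl⟩
    exact Nat.not_lt_zero _ h
  · show Set.range (Points.map (i (n + 1))) = _
    rw [hr]
    exact Set.eq_univ_of_forall fun x => Nat.lt_succ_of_le (hle x)
  · show Set.range (Points.map (i r)) ⊆ Set.range (Points.map (i (r + 1)))
    rw [hr, hr]
    exact fun x hx => Nat.lt_succ_of_lt hx
  · show _ ↔ Set.range _ ⊆ Set.range (Points.map (i (r + 1))) \ Set.range (Points.map (i r))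
    rw [hr, hr, Set.range_subset_iff]
    refine forall_congr' fun t => ?_
    simp only [Set.mem_sdiff, Set.mem_setOf_eq]
    omega

end Groth.Agent.SpProper61
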