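import Groth.Agent.SpProper61.BiratBasic
import Groth.Agent.S9677
import Groth.Agent.S9678
import Groth.Agent.S9679

/-!
Birational morphisms of decent spaces: generic isomorphisms.
-/

universe u

set_option autoImplicit false
set_option backward.isDefEq.respectTransparency false

open CategoryTheory CategoryTheory.Limits AlgebraicGeometry Topology TopologicalSpace
open AlgSp Groth.Agent.SpFP87 Groth.Agent.SpPts86

namespace Groth.Agent.SpProper61

variable {S : Scheme.{u}}

/-- Pullbacks whose projection lands in an open subscheme are computed there. -/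
theorem isPullback_of_range_subset {X Y Z P : Sp S} {fst : P ⟶ X} {snd : P ⟶ Z} {f : X ⟶ Y} {c : Z ⟶ Y}
    (sq : IsPullback fst snd f c) {U : Sp S} {a : U ⟶ X} (ha : RepWith @IsOpenImmersion a)
    (h : Set.range (Points.map fst) ⊆ Set.range (Points.map a)) :
    ∃ k : P ⟶ U, k ≫ a = fst ∧ IsPullback k snd (a ≫ f) c := by
  obtain ⟨k, hk⟩ := exists_factor_of_range_subset ha fst h
  have : Mono a := mono_of_repWith_le isOpenImmersion_le_monomorphisms ha
  refine ⟨k, hk, IsPullback.of_isLimit' ⟨by rw [← Category.assoc, hk, sq.w]⟩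
    (PullbackCone.IsLimit.mk _
      (fun s => sq.lift (s.fst ≫ a) s.snd (by rw [Category.assoc, s.condition]))
      (fun s => by rw [← cancel_mono a, Category.assoc, hk, sq.lift_fst]) (fun s => sq.lift_snd _ _ _)
      (fun s l h1 h2 => sq.hom_ext (by rw [sq.lift_fst, ← hk, ← Category.assoc, h1])
        (by rw [sq.lift_snd, h2])))⟩

theorem range_map_yon_eq {X : Sp S} {U : Over S} (a : (yon S).obj U ⟶ X) :
    Set.range (Points.map a) = Set.range (Points.ofPt a) := by
  ext z
  constructor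
  · rintro ⟨p, rfl⟩
    exact ⟨Points.toScheme U p, by rw [Points.ofPt_eq_map_ofScheme, Points.ofScheme_toScheme]⟩
  · rintro ⟨v, rfl⟩
    exact ⟨Points.ofScheme U v, (Points.ofPt_eq_map_ofScheme a v).symm⟩

variable {X Y : Space S} (f : X ⟶ Y) (hX : IsDecent X.obj) (hY : IsDecent Y.obj)
  (hXf : (irreducibleComponents (Points X.obj)).Finite) (hYf : (irreducibleComponents (Points Y.obj)).Finite)
  (hf : W4stk3decentspacesp2.IsBirational f.hom)
include hX hY hXf hYf hf

theorem isIso_snd_fromSpecStalk {V : Over S} (b : (yon S).obj V ⟶ Y.obj)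
    (hb : RepWith @IsOpenImmersion b) (v : ↥V.left)
    (hv : Points.ofPt b v ∈ genericPoints (Points Y.obj)) {P : Sp S} (fst : P ⟶ X.obj)
    (snd : P ⟶ (yon S).obj (Over.mk (V.left.fromSpecStalk v ≫ V.hom)))
    (hP : IsPullback fst snd f.hom ((yon S).map (Over.homMk (V.left.fromSpecStalk v) rfl) ≫ b)) :
    IsIso snd := by
  obtain ⟨U, a, g, ha, w, hcov⟩ := exists_generic_chart f hX hXf hb
  obtain ⟨h1, h2, h3, h4⟩ := birational_restrict f hX hY hXf hYf hf ha hb w hcov
  have hv' : closure {v} ∈ irreducibleComponents ↥V.left :=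
    Norm57.isMax'_iff.1 ((mem_genericPoints_chart_iff Y hY (repWith_etale_of_openImmersion hb) v).1 hv)
  have hiso := S9677.result g.left h1 h2 h3 h4 v hv'
  let T : Over S := Over.mk (V.left.fromSpecStalk v ≫ V.hom)
  let τ : T ⟶ V := Over.homMk (V.left.fromSpecStalk v) rfl
  obtain ⟨k, -, sqk⟩ := isPullback_of_range_subset hP ha (by
    rintro _ ⟨p, rfl⟩
    rw [range_map_yon_eq]
    have e : Points.map f.hom (Points.map fst p) = Points.ofPt b v := by
      rw [← Points.map_comp, hP.w, Points.map_comp, ← Points.ofScheme_toScheme T (Points.map snd p),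
        ← Points.ofPt_eq_map_ofScheme, ofPt_comp]
      congr 1
      have hmem : τ.left (Points.toScheme T (Points.map snd p)) ∈ Set.range (V.left.fromSpecStalk v) := ⟨_, rfl⟩
      rw [Scheme.range_fromSpecStalk] at hmem
      exact Norm57.isMax'_iff.2 hv' _ hmem
    exact hcov _ (genericPoints_of_map_mem hX hY hf (e ▸ hv)) ⟨v, e.symm⟩)
  obtain ⟨Q, q₁, q₂, sqQ⟩ := exists_isPullback_yon (IsAlgSpace.yon_obj V).diag ((yon S).map g) ((yon S).map τ)
  have : Mono b := mono_of_repWith_le isOpenImmersion_le_monomorphisms hb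
  have sqQ' : IsPullback ((yon S).map q₁) ((yon S).map q₂) (a ≫ f.hom) ((yon S).map τ ≫ b) := by
    rw [w]
    exact isPullback_comp_mono sqQ b
  have hq : IsIso q₂.left := by
    have sqS := isPullback_left_of_yon sqQ
    rw [← sqS.isoPullback_hom_snd]
    have : IsIso (pullback.snd g.left τ.left) := hiso
    infer_instance
  have : IsIso q₂ := by
    have : IsIso ((Over.forget S).map q₂) := hq
    exact isIso_of_reflects_iso q₂ (Over.forget S)
  rw [← sqk.isoIsPullback_hom_snd _ _ sqQ']
  infer_instance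

theorem exists_iso_dense
    (h : (LocP @LocallyOfFiniteType f.hom ∧ EtaleLocally (fun T => IsReduced T) Y.obj) ∨
      LocP @LocallyOfFinitePresentation f.hom) :
    ∃ (U V : Over S) (a : (yon S).obj U ⟶ X.obj) (b : (yon S).obj V ⟶ Y.obj) (g : U ⟶ V),
      RepWith @IsOpenImmersion a ∧ RepWith @IsOpenImmersion b ∧
        Dense (Set.range (Points.ofPt a)) ∧ Dense (Set.range (Points.ofPt b)) ∧
          a ≫ f.hom = (yon S).map g ≫ b ∧ IsIso g.left := by
  obtain ⟨Y', j, hj, hrep, hd⟩ := exists_dense_open_subscheme_of_isDecent Y hY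
  obtain ⟨V, b, hb, hr⟩ := exists_yon_of_representable j hj hrep
  have hbd : Dense (Set.range (Points.ofPt b)) := hr ▸ hd
  obtain ⟨U, a, g, ha, w, hcov⟩ := exists_generic_chart f hX hXf hb
  have had : Dense (Set.range (Points.ofPt a)) := (dense_codimZero X.property).mono fun x hx => by
    have hx' := (mem_genericPoints_iff_codimZero X hX x).2 hx
    exact hcov x hx' (genericPoints_subset_of_dense hYf (isOpenEmbedding_ofPt hb).isOpen_range hbd
      (hf.bijOn.mapsTo hx'))
  obtain ⟨h1, h2, h3, h4⟩ := birational_restrict f hX hY hXf hYf hf ha hb w hcov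
  have hae := repWith_etale_of_openImmersion ha
  have hbe := repWith_etale_of_openImmersion hb
  obtain ⟨U₀, V₀, hle, hU₀, hV₀, hiso⟩ := S9678.result g.left h1 h2 h3 h4
    (h.imp (fun h => ⟨h.1 a b g hae hbe w, isReduced_chart Y.property h.2 hbe⟩)
      (fun h => h a b g hae hbe w))
  let U' : Over S := Over.mk (U₀.ι ≫ U.hom)
  let V' : Over S := Over.mk (V₀.ι ≫ V.hom)
  let iU : U' ⟶ U := Over.homMk U₀.ι rfl
  let iV : V' ⟶ V := Over.homMk V₀.ι rfl
  let g' : U' ⟶ V' := Over.homMk (g.left.resLE V₀ U₀ hle) (by simp [U', V', Over.w g])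
  refine ⟨U', V', (yon S).map iU ≫ a, (yon S).map iV ≫ b, g',
    MorphismProperty.comp_mem _ _ _ ((repWith_yon_map_iff _ _).2 (inferInstanceAs (IsOpenImmersion U₀.ι))) ha,
    MorphismProperty.comp_mem _ _ _ ((repWith_yon_map_iff _ _).2 (inferInstanceAs (IsOpenImmersion V₀.ι))) hb,
    ?_, ?_, ?_, hiso⟩
  · refine ((Points.continuous_ofPt a).range_subset_closure_image_dense hU₀ |>.trans
      (closure_mono ?_) |> fun h => dense_closure.1 (had.mono h))
    rintro _ ⟨z, hz, rfl⟩
    exact ⟨⟨z, hz⟩, by rw [ofPt_comp]; rfl⟩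
  · refine ((Points.continuous_ofPt b).range_subset_closure_image_dense hV₀ |>.trans
      (closure_mono ?_) |> fun h => dense_closure.1 (hbd.mono h))
    rintro _ ⟨z, hz, rfl⟩
    exact ⟨⟨z, hz⟩, by rw [ofPt_comp]; rfl⟩
  · have e : g' ≫ iV = iU ≫ g := Over.OverMorphism.ext (by simp [g', iV, iU, V', U'])
    rw [Category.assoc, w, ← Category.assoc, ← Functor.map_comp, ← e, Functor.map_comp, Category.assoc]

theorem exists_dense_isIso_preimage (h₁ : IsQuasiCompactMor f.hom ∨ IsSeparatedMor f.hom)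
    (h₂ : (LocP @LocallyOfFiniteType f.hom ∧ EtaleLocally (fun T => IsReduced T) Y.obj) ∨
      LocP @LocallyOfFinitePresentation f.hom) :
    ∃ (V : Over S) (b : (yon S).obj V ⟶ Y.obj), RepWith @IsOpenImmersion b ∧
      Dense (Set.range (Points.ofPt b)) ∧
        ∀ ⦃P : Sp S⦄ (fst : P ⟶ X.obj) (snd : P ⟶ (yon S).obj V),
          IsPullback fst snd f.hom b → IsIso snd := by
  have := t0Space_points X.property hX
  have := t0Space_points Y.property hY
  have hlft : LocP @LocallyOfFiniteType f.hom := h₂.elim (fun h => h.1)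
    (LocP.of_le fun _ _ g (_ : LocallyOfFinitePresentation g) => (inferInstance : LocallyOfFiniteType g))
  have hX0 : {x : Points X.obj | HasAt (fun U u => ringKrullDim ↥(U.presheaf.stalk u) = 0) X.obj x}.Finite :=
    (genericPoints.finite hXf).subset fun x hx => (mem_genericPoints_iff_codimZero X hX x).2 hx
  have hY0 : {y : Points Y.obj | HasAt (fun U u => ringKrullDim ↥(U.presheaf.stalk u) = 0) Y.obj y}.Finite :=
    (genericPoints.finite hYf).subset fun x hx => (mem_genericPoints_iff_codimZero Y hY x).2 hx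
  obtain ⟨Vf, X', jf, p, e, hjf, hjfd, sqf, hfin⟩ :=
    exists_dense_open_finite f hlft hY hX0 hY0 (codimZero_iff hX hY hf) h₁
  obtain ⟨Y', j, hj, hrep, hd⟩ := exists_dense_open_subscheme_of_isDecent Y hY
  obtain ⟨V₁, b₁, hb₁, hr⟩ := exists_yon_of_representable j hj hrep
  have hb₁d : Dense (Set.range (Points.ofPt b₁)) := hr ▸ hd
  let O : V₁.left.Opens := ⟨Points.ofPt b₁ ⁻¹' Set.range (Points.map jf.hom),
    (isOpen_range_map hjf).preimage (Points.continuous_ofPt b₁)⟩
  let D : Over S := Over.mk (O.ι ≫ V₁.hom)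
  let bD : (yon S).obj D ⟶ Y.obj := (yon S).map (Over.homMk O.ι rfl : D ⟶ V₁) ≫ b₁
  have hbD : RepWith @IsOpenImmersion bD :=
    MorphismProperty.comp_mem _ _ _ ((repWith_yon_map_iff _ _).2 (inferInstanceAs (IsOpenImmersion O.ι))) hb₁
  have hsub : Set.range (Points.map bD) ⊆ Set.range (Points.map jf.hom) := by
    rw [range_map_yon_eq]
    rintro _ ⟨z, rfl⟩
    rw [ofPt_comp]
    exact z.2
  have hbDd : Dense (Set.range (Points.ofPt bD)) := by
    refine (hb₁d.inter_of_isOpen_left hjfd (isOpenEmbedding_ofPt hb₁).isOpen_range).mono ?_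
    rintro _ ⟨⟨z, rfl⟩, hz⟩
    exact ⟨⟨z, hz⟩, by rw [ofPt_comp]; rfl⟩
  obtain ⟨d, hd'⟩ := exists_factor_of_range_subset hjf bD hsub
  have hpf : RepWith @IsFinite p.hom := (isFiniteMor_iff p.hom).1 hfin
  obtain ⟨W, q, qS, sqW⟩ := hpf.rep d
  have hqf : IsFinite q.left := hpf.property d _ q sqW
  have sqWX : IsPullback (qS ≫ e.hom) ((yon S).map q) f.hom bD := by
    rw [← hd']
    exact sqW.paste_horiz sqf.flip
  let a : (yon S).obj W ⟶ X.obj := qS ≫ e.hom
  have ha : RepWith @IsOpenImmersion a := (repWith_isStableUnderBaseChange _).of_isPullback sqWX.flip hbD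
  obtain ⟨h1, h2, h3, h4⟩ := birational_restrict f hX hY hXf hYf hf ha hbD sqWX.w fun x _ ⟨z, hz⟩ => by
    obtain ⟨m, hm, -⟩ := exists_pt_of_isPullback sqWX x z hz.symm
    exact ⟨m, hm⟩
  have hae := repWith_etale_of_openImmersion ha
  have hbe := repWith_etale_of_openImmersion hbD
  obtain ⟨V₀, hV₀, hiso⟩ := S9679.result q.left h1 h2 h3 h4 (.inl inferInstance)
    (h₂.imp (fun h => ⟨h.1 a bD q hae hbe sqWX.w, isReduced_chart Y.property h.2 hbe⟩)
      (fun h => h a bD q hae hbe sqWX.w))
  let V : Over S := Over.mk (V₀.ι ≫ D.hom)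
  let iV : V ⟶ D := Over.homMk V₀.ι rfl
  refine ⟨V, (yon S).map iV ≫ bD,
    MorphismProperty.comp_mem _ _ _ ((repWith_yon_map_iff _ _).2 (inferInstanceAs (IsOpenImmersion V₀.ι))) hbD,
    ?_, fun P fst snd sq => ?_⟩
  · refine ((Points.continuous_ofPt bD).range_subset_closure_image_dense hV₀ |>.trans
      (closure_mono ?_) |> fun h => dense_closure.1 (hbDd.mono h))
    rintro _ ⟨z, hz, rfl⟩
    exact ⟨⟨z, hz⟩, by rw [ofPt_comp]; rfl⟩
  · let W' : Over S := Over.mk ((q.left ⁻¹ᵁ V₀).ι ≫ W.hom)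
    let iW : W' ⟶ W := Over.homMk (q.left ⁻¹ᵁ V₀).ι rfl
    let q' : W' ⟶ V := Over.homMk (q.left ∣_ V₀) (by simp [W', V, Over.w q])
    have hw : iW ≫ q = q' ≫ iV := Over.OverMorphism.ext (by simp [iW, q', iV, V, W'])
    have sq0 : IsPullback iW q' q iV := IsPullback.of_map (Over.forget S) hw (by
      exact (isPullback_morphismRestrict q.left V₀).flip)
    have sq1 : IsPullback ((yon S).map iW) ((yon S).map q') ((yon S).map q) ((yon S).map iV) := sq0.map (yon S)
    rw [← sq.isoIsPullback_hom_snd _ _ (sq1.paste_horiz sqWX)]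
    have : IsIso q'.left := hiso
    have : IsIso q' := by
      have : IsIso ((Over.forget S).map q') := hiso
      exact isIso_of_reflects_iso q' (Over.forget S)
    infer_instance

end Groth.Agent.SpProper61
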