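import Groth.Agent.SpProper61.BiratMain

/-!
Etale base change of birational morphisms of decent spaces.
-/

universe u

set_option autoImplicit false
set_option backward.isDefEq.respectTransparency false

open CategoryTheory CategoryTheory.Limits AlgebraicGeometry Topology TopologicalSpace
open AlgSp Groth.Agent.SpFP87 Groth.Agent.SpPts86

namespace Groth.Agent.SpProper61

section Scheme

variable {X Y : Scheme.{u}} (f : X ⟶ Y) {y : Y}

theorem exists_point_of_isIso_pullback_fromSpecStalk (hy : ∀ w : Y, w ⤳ y → w = y)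
    (h : IsIso (pullback.snd f (Y.fromSpecStalk y))) :
    ∃ x : X, f x = y ∧ (∀ x' : X, f x' = y → x' = x) ∧ (∀ w : X, w ⤳ x → w = x) ∧ IsIso (f.stalkMap x) := by
  let s : Spec (Y.presheaf.stalk y) ⟶ X := inv (pullback.snd f (Y.fromSpecStalk y)) ≫ pullback.fst f _
  have hs : s ≫ f = Y.fromSpecStalk y := by
    rw [Category.assoc, pullback.condition, IsIso.inv_hom_id_assoc]
  let c := IsLocalRing.closedPoint ↥(Y.presheaf.stalk y)
  have hc : f (s c) = y := by
    rw [← Scheme.Hom.comp_apply, hs, Scheme.fromSpecStalk_closedPoint]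
  have hsub : Subsingleton ↥(Spec (Y.presheaf.stalk y)) := ⟨fun a b => by
    have hr : ∀ r, Y.fromSpecStalk y r = y := fun r => hy _ (by
      have : Y.fromSpecStalk y r ∈ Set.range (Y.fromSpecStalk y) := ⟨r, rfl⟩
      rwa [Scheme.range_fromSpecStalk] at this)
    exact (Y.fromSpecStalk y).isEmbedding.injective ((hr a).trans (hr b).symm)⟩
  have huniq : ∀ x' : X, f x' = y → x' = s c := fun x' hx' => by
    obtain ⟨p, hp, -⟩ := Scheme.Pullback.exists_preimage_pullback (f := f) (g := Y.fromSpecStalk y) x' c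
      (hx'.trans Y.fromSpecStalk_closedPoint.symm)
    have e : pullback.fst f (Y.fromSpecStalk y) = pullback.snd f (Y.fromSpecStalk y) ≫ s := by simp [s]
    rw [← hp, e, Scheme.Hom.comp_apply]
    congr 1
    exact Subsingleton.elim _ _
  have hmax : ∀ w : X, w ⤳ s c → w = s c := fun w hw =>
    huniq w (hy _ (hc ▸ hw.map f.continuous))
  refine ⟨s c, hc, huniq, hmax, ?_⟩
  let φ : Spec (X.presheaf.stalk (s c)) ⟶ Spec (Y.presheaf.stalk y) :=
    Spec.map ((Y.presheaf.stalkCongr (.of_eq hc.symm)).hom ≫ f.stalkMap (s c))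
  have hφ : φ ≫ Y.fromSpecStalk y = X.fromSpecStalk (s c) ≫ f := by
    rw [← Scheme.SpecMap_stalkMap_fromSpecStalk]
    simp only [φ, Spec.map_comp, Category.assoc, TopCat.Presheaf.stalkCongr_hom]
    rw [Scheme.SpecMap_stalkSpecializes_fromSpecStalk]
  let ψ : Spec (Y.presheaf.stalk y) ⟶ Spec (X.presheaf.stalk (s c)) :=
    Spec.map (Scheme.stalkClosedPointTo s)
  have hψ : ψ ≫ X.fromSpecStalk (s c) = s := Scheme.Spec_stalkClosedPointTo_fromSpecStalk s
  have h1 : ψ ≫ φ = 𝟙 _ := by
    rw [← cancel_mono (Y.fromSpecStalk y), Category.assoc, hφ, ← Category.assoc, hψ, hs, Category.id_comp]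
  have h2 : φ ≫ ψ = 𝟙 _ := by
    rw [← cancel_mono (X.fromSpecStalk (s c)), Category.assoc, hψ, Category.id_comp]
    have e : pullback.lift (X.fromSpecStalk (s c)) φ hφ.symm ≫ pullback.fst f (Y.fromSpecStalk y) =
        φ ≫ s := by
      have : pullback.fst f (Y.fromSpecStalk y) = pullback.snd f (Y.fromSpecStalk y) ≫ s := by simp [s]
      rw [this, pullback.lift_snd_assoc]
    rw [← e, pullback.lift_fst]
  have : IsIso φ := ⟨ψ, h2, h1⟩
  have : IsIso ((Y.presheaf.stalkCongr (.of_eq hc.symm)).hom ≫ f.stalkMap (s c)) := by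
    have : IsIso (Scheme.Spec.map ((Y.presheaf.stalkCongr (.of_eq hc.symm)).hom ≫ f.stalkMap (s c)).op) := this
    exact (isIso_op_iff _).1 (isIso_of_reflects_iso _ Scheme.Spec)
  exact IsIso.of_isIso_comp_left (Y.presheaf.stalkCongr (.of_eq hc.symm)).hom (f.stalkMap (s c))

theorem isIso_pullback_fromSpecStalk_baseChange {X' Y' : Scheme.{u}} {g' : X' ⟶ X} {f' : X' ⟶ Y'} {g : Y' ⟶ Y}
    (sq : IsPullback g' f' f g) {y' : Y'} (hy : g y' = y) (h : IsIso (pullback.snd f (Y.fromSpecStalk y))) :
    IsIso (pullback.snd f' (Y'.fromSpecStalk y')) := by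
  subst hy
  have s1 := (IsPullback.of_hasPullback f' (Y'.fromSpecStalk y')).paste_horiz sq
  have e : Y'.fromSpecStalk y' ≫ g = Spec.map (g.stalkMap y') ≫ Y.fromSpecStalk (g y') :=
    (Scheme.SpecMap_stalkMap_fromSpecStalk g).symm
  rw [e] at s1
  let m := (IsPullback.of_hasPullback f (Y.fromSpecStalk (g y'))).lift
    (pullback.fst f' (Y'.fromSpecStalk y') ≫ g') (pullback.snd f' (Y'.fromSpecStalk y') ≫ Spec.map (g.stalkMap y'))
    (by rw [Category.assoc (pullback.snd _ _), ← s1.w])
  have s2 : IsPullback m (pullback.snd f' (Y'.fromSpecStalk y')) (pullback.snd f (Y.fromSpecStalk (g y')))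
      (Spec.map (g.stalkMap y')) :=
    IsPullback.of_right (by rw [IsPullback.lift_fst]; exact s1) (IsPullback.lift_snd _ _ _ _)
      (IsPullback.of_hasPullback f (Y.fromSpecStalk (g y')))
  exact MorphismProperty.of_isPullback (P := MorphismProperty.isomorphisms Scheme.{u}) s2 h

end Scheme

variable {S : Scheme.{u}}

theorem finite_irreducibleComponents_of_genericPoints {T : Type*} [TopologicalSpace T] [QuasiSober T]
    (h : (genericPoints T).Finite) : (irreducibleComponents T).Finite :=
  (h.image fun x => closure {x}).subset fun C hC =>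
    ⟨_, (genericPoints.ofComponent ⟨C, hC⟩).2,
      congrArg Subtype.val (genericPoints.component_ofComponent (⟨C, hC⟩ : irreducibleComponents T))⟩

theorem mem_genericPoints_ofScheme_iff {V : Over S} (v : ↥V.left) :
    Points.ofScheme V v ∈ genericPoints (Points ((yon S).obj V)) ↔ Norm57.IsMax' v := by
  let VS : Space S := ⟨(yon S).obj V, IsAlgSpace.yon_obj V⟩
  rw [← mem_genericPoints_chart_iff VS (isDecent_yon V) (a := 𝟙 _) (repWith_id _ V) v,
    Points.ofPt_eq_map_ofScheme, Points.map_id]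

theorem birational_etale_baseChange {X Y : Space S} (f : X ⟶ Y)
    (hX : IsDecent X.obj) (hY : IsDecent Y.obj)
    (hXf : (irreducibleComponents (Points X.obj)).Finite)
    (hYf : (irreducibleComponents (Points Y.obj)).Finite)
    (hf : W4stk3decentspacesp2.IsBirational f.hom) {V : Over S} [IsAffine V.left] (b : (yon S).obj V ⟶ Y.obj)
    (hb : RepWith @Etale b) {P : Sp S} (fst : P ⟶ X.obj) (snd : P ⟶ (yon S).obj V)
    (hP : IsPullback fst snd f.hom b) :
    IsDecent P ∧ (irreducibleComponents (Points P)).Finite ∧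
      (irreducibleComponents (Points ((yon S).obj V))).Finite ∧ W4stk3decentspacesp2.IsBirational snd := by
  have hfst : RepWith @Etale fst := (repWith_isStableUnderBaseChange _).of_isPullback hP.flip hb
  let PS : Space S := ⟨P, isAlgSpace_of_isPullback hP X.property (IsAlgSpace.yon_obj V) Y.property.diag⟩
  have hPd : IsDecent P := isDecent_of_representable fst hfst.rep hX
  have := t0Space_points Y.property hY
  have := t0Space_points PS.property hPd
  have := quasiSober_points PS.property hPd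
  have := quasiSober_points (IsAlgSpace.yon_obj V) (isDecent_yon V)
  -- a dense open subscheme of the target and the part of the source over it
  obtain ⟨Y', j, hj, hrep, hd⟩ := exists_dense_open_subscheme_of_isDecent Y hY
  obtain ⟨V₁, b₁, hb₁, hr⟩ := exists_yon_of_representable j hj hrep
  have hgen : genericPoints (Points Y.obj) ⊆ Set.range (Points.ofPt b₁) :=
    genericPoints_subset_of_dense hYf (isOpenEmbedding_ofPt hb₁).isOpen_range (hr ▸ hd)
  obtain ⟨U, a, g, ha, w, hcov⟩ := exists_generic_chart f hX hXf hb₁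
  obtain ⟨h1, h2, h3, h4⟩ := birational_restrict f hX hY hXf hYf hf ha hb₁ w hcov
  have hcov' : ∀ x, Points.map f.hom x ∈ genericPoints (Points Y.obj) → x ∈ Set.range (Points.ofPt a) :=
    fun x hx => hcov x (genericPoints_of_map_mem hX hY hf hx) (hgen hx)
  obtain ⟨W, q, p, sqW⟩ := exists_isPullback_yon Y.property.diag b₁ b
  have : IsOpenImmersion p.left := etale_snd_of_isPullback sqW hb₁
  obtain ⟨Q, u₂, w₂, sqQ⟩ := exists_isPullback_yon (IsAlgSpace.yon_obj V₁).diag ((yon S).map g) ((yon S).map q)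
  have sqO : IsPullback ((yon S).map u₂) ((yon S).map w₂ ≫ (yon S).map p) (a ≫ f.hom) b := by
    rw [w]
    exact sqQ.paste_vert sqW
  obtain ⟨m, hm⟩ : ∃ m, m = hP.lift ((yon S).map u₂ ≫ a) ((yon S).map w₂ ≫ (yon S).map p)
      (by rw [Category.assoc, sqO.w]) := ⟨_, rfl⟩
  have hm1 : m ≫ fst = (yon S).map u₂ ≫ a := by rw [hm, hP.lift_fst]
  have hm2 : m ≫ snd = (yon S).map (w₂ ≫ p) := by rw [hm, hP.lift_snd, Functor.map_comp]
  have sqm : IsPullback ((yon S).map u₂) m a fst :=
    IsPullback.of_bot (by rw [hm2, Functor.map_comp]; exact sqO) hm1.symm hP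
  have hmo : RepWith @IsOpenImmersion m := (repWith_isStableUnderBaseChange _).of_isPullback sqm ha
  have hmv : ∀ z, Points.map snd (Points.ofPt m z) = Points.ofScheme V (p.left (w₂.left z)) := fun z => by
    rw [Points.map_ofPt, hm2, ofPt_yon_map]
    rfl
  -- over a maximal point of the chart
  have key : ∀ v : ↥V.left, Norm57.IsMax' v → ∃ z : ↥Q.left,
      Points.map snd (Points.ofPt m z) = Points.ofScheme V v ∧ IsIso (w₂.left.stalkMap z) ∧
      Points.ofPt m z ∈ genericPoints (Points P) ∧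
      ∀ z' : Points P, Points.map snd z' = Points.ofScheme V v → z' = Points.ofPt m z := by
    intro v hv
    have hy := (mem_genericPoints_chart_iff Y hY hb v).2 hv
    obtain ⟨v₁, hv₁⟩ := hgen hy
    obtain ⟨wv, hwq, rfl⟩ := exists_pt_of_isPullback' sqW v₁ v hv₁
    have hwmax : ∀ z : ↥W.left, z ⤳ wv → z = wv := fun z hz =>
      p.left.isOpenEmbedding.injective (hv _ (hz.map p.left.continuous))
    have hv₁max : closure {v₁} ∈ irreducibleComponents ↥V₁.left :=
      Norm57.isMax'_iff.1 ((mem_genericPoints_chart_iff Y hY (repWith_etale_of_openImmersion hb₁) v₁).1 (hv₁ ▸ hy))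
    obtain ⟨z, hz, huniq, hzmax, hiso⟩ := exists_point_of_isIso_pullback_fromSpecStalk w₂.left hwmax
      (isIso_pullback_fromSpecStalk_baseChange g.left (isPullback_left_of_yon sqQ) hwq
        (S9677.result g.left h1 h2 h3 h4 v₁ hv₁max))
    refine ⟨z, by rw [hmv, hz], hiso,
      (mem_genericPoints_chart_iff PS hPd (repWith_etale_of_openImmersion hmo) z).2 hzmax, fun z' hz' => ?_⟩
    have hfz : Points.map f.hom (Points.map fst z') = Points.ofPt b (p.left wv) := by
      rw [← Points.map_comp, hP.w, Points.map_comp, hz', ← Points.ofPt_eq_map_ofScheme]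
    obtain ⟨uu, huu⟩ := hcov' _ (hfz ▸ hy)
    obtain ⟨z'', hz'', -⟩ := exists_pt_of_isPullback sqm.flip z' uu huu.symm
    rw [← hz''] at hz' ⊢
    rw [hmv] at hz'
    have := (Points.schemeHomeo V).injective hz'
    rw [huniq z'' (p.left.isOpenEmbedding.injective this)]
  have hmapg : ∀ z ∈ genericPoints (Points P), ∃ v, Norm57.IsMax' v ∧ Points.map snd z = Points.ofScheme V v := by
    intro z hz
    obtain ⟨c, hc⟩ : ∃ c, Points.ofScheme V c = Points.map snd z := ⟨_, Points.ofScheme_toScheme V _⟩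
    refine ⟨c, (mem_genericPoints_chart_iff Y hY hb c).1 ?_, hc.symm⟩
    obtain ⟨A, α, ζ, hα, hαz, hζ⟩ := (mem_genericPoints_iff_codimZero PS hPd z).1 hz
    have hx : Points.map fst z ∈ genericPoints (Points X.obj) :=
      (mem_genericPoints_iff_codimZero X hX _).2
        ⟨A, α ≫ fst, ζ, MorphismProperty.comp_mem _ _ _ hα hfst, by rw [← Points.map_ofPt, hαz], hζ⟩
    have hy := hf.bijOn.mapsTo hx
    rwa [← Points.map_comp, hP.w, Points.map_comp, ← hc, ← Points.ofPt_eq_map_ofScheme] at hy
  have hMfin : {v : ↥V.left | Norm57.IsMax' v}.Finite :=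
    ((genericPoints.finite hYf).biUnion fun y _ => (finite_fibres_of_isDecent Y.property hY hb y).1).subset
      fun v hv => Set.mem_biUnion ((mem_genericPoints_chart_iff Y hY hb v).2 hv) rfl
  have hinj : Set.InjOn (Points.map snd) (genericPoints (Points P)) := by
    intro z hz z' hz' e
    obtain ⟨v, hv, hzv⟩ := hmapg z hz
    obtain ⟨z₀, -, -, -, hu⟩ := key v hv
    rw [hu z hzv, hu z' (e ▸ hzv)]
  have hVgen : (genericPoints (Points ((yon S).obj V))).Finite :=
    (hMfin.image (Points.ofScheme V)).subset fun x hx => by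
      obtain ⟨c, rfl⟩ : ∃ c, Points.ofScheme V c = x := ⟨_, Points.ofScheme_toScheme V _⟩
      exact ⟨c, (mem_genericPoints_ofScheme_iff c).1 hx, rfl⟩
  have hPgen : (genericPoints (Points P)).Finite := Set.Finite.of_finite_image (by
    refine hVgen.subset ?_
    rintro _ ⟨z, hz, rfl⟩
    obtain ⟨v, hv, hzv⟩ := hmapg z hz
    exact hzv ▸ (mem_genericPoints_ofScheme_iff v).2 hv) hinj
  refine ⟨hPd, finite_irreducibleComponents_of_genericPoints hPgen,
    finite_irreducibleComponents_of_genericPoints hVgen, ⟨⟨?_, hinj, ?_⟩, ?_⟩⟩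
  · intro z hz
    obtain ⟨v, hv, hzv⟩ := hmapg z hz
    exact hzv ▸ (mem_genericPoints_ofScheme_iff v).2 hv
  · intro x hx
    obtain ⟨c, rfl⟩ : ∃ c, Points.ofScheme V c = x := ⟨_, Points.ofScheme_toScheme V _⟩
    obtain ⟨z, hz, -, hzg, -⟩ := key c ((mem_genericPoints_ofScheme_iff c).1 hx)
    exact ⟨_, hzg, hz⟩
  · intro x hx
    obtain ⟨v, hv, hxv⟩ := hmapg x hx
    obtain ⟨z, hz, hiso, -, hu⟩ := key v hv
    exact ⟨Q, W, m, (yon S).map p, w₂, z, hmo, (repWith_yon_map_iff _ _).2 ‹_›,
      by rw [hm2, Functor.map_comp], (hu x hxv).symm, hiso⟩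

end Groth.Agent.SpProper61
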