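import Groth.Agent.SpProper61.BiratBaseChange
import Groth.Agent.LimTop61.FiniteBirational
import Groth.Agent.An92.Rat.SectionExt
import Groth.Agent.SpPts86.FiniteCrit
import Groth.Agent.Unr55.EtStalk

/-!
Integral birational morphisms onto normal spaces.
-/

universe u

set_option autoImplicit false
set_option backward.isDefEq.respectTransparency false

open CategoryTheory CategoryTheory.Limits AlgebraicGeometry Topology TopologicalSpace
open AlgSp Groth.Agent.SpFP87 Groth.Agent.SpPts86

namespace Groth.Agent.SpProper61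

section Scheme

/-- An integral birational morphism from a reduced scheme onto a normal one with finitely many
components is an isomorphism. -/
theorem isIso_of_integral_birational_normal {X Y : Scheme.{u}} (g : X ⟶ Y) [IsIntegralHom g] [IsReduced X]
    (hN : ∀ y : Y, IsDomain ↥(Y.presheaf.stalk y) ∧ IsIntegrallyClosed ↥(Y.presheaf.stalk y))
    (hY : (irreducibleComponents ↥Y).Finite)
    (hbij : Set.BijOn g {x | Norm57.IsMax' x} {y | Norm57.IsMax' y})
    (hiso : ∀ x : X, Norm57.IsMax' x → IsIso (g.stalkMap x)) : IsIso g := by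
  have hMfin : {y : Y | Norm57.IsMax' y}.Finite :=
    (genericPoints.finite hY).subset fun y hy => Norm57.isMax'_iff.1 hy
  have hred : IsReduced Y := by
    have : ∀ y : Y, _root_.IsReduced (Y.presheaf.stalk y) := fun y => have := (hN y).1; inferInstance
    exact isReduced_of_isReduced_stalk Y
  have key : ∀ y : Y, ∃ W : Y.Opens, y ∈ W ∧ IsIso (g ∣_ W) := by
    intro y
    have := (hN y).1
    obtain ⟨η, hη, hηy⟩ := Norm57.exists_isMax'_specializes y
    have hηu : ∀ m, Norm57.IsMax' m → m ⤳ y → m = η := fun m hm hmy =>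
      (hm _ (An92.Rat.genPt_specializes_of_specializes y hmy)).symm.trans
        (hη _ (An92.Rat.genPt_specializes_of_specializes y hηy))
    let C : Set Y := ⋃ m ∈ {m : Y | Norm57.IsMax' m ∧ m ≠ η}, closure {m}
    have hC : IsClosed C := (hMfin.subset fun m hm => hm.1).isClosed_biUnion fun m _ => isClosed_closure
    have hyC : y ∉ C := by
      intro h
      obtain ⟨m, hm, hmy⟩ := Set.mem_iUnion₂.1 h
      exact hm.2 (hηu m hm.1 (specializes_iff_mem_closure.2 hmy))
    obtain ⟨W, hW, hyW, hWC⟩ := exists_isAffineOpen_mem_and_subset (x := y) (U := ⟨Cᶜ, hC.isOpen_compl⟩) hyC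
    have hηW : η ∈ W := hηy.mem_open W.2 hyW
    have hgenW : ∀ z ∈ W, η ⤳ z := fun z hz => by
      obtain ⟨m, hm, hmz⟩ := Norm57.exists_isMax'_specializes z
      by_cases hmη : m = η
      · exact hmη ▸ hmz
      · exact absurd (Set.mem_biUnion (s := {m : Y | Norm57.IsMax' m ∧ m ≠ η}) ⟨hm, hmη⟩
          (specializes_iff_mem_closure.1 hmz)) (hWC hz)
    obtain ⟨ξ, hξ, hξη⟩ := hbij.surjOn hη
    have hξW : ξ ∈ g ⁻¹ᵁ W := (hξη.symm ▸ hηW : g ξ ∈ W)
    have hgenX : ∀ z ∈ g ⁻¹ᵁ W, ξ ⤳ z := fun z hz => by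
      obtain ⟨m, hm, hmz⟩ := Norm57.exists_isMax'_specializes z
      have hgm : g m ∈ W := (hmz.map g.continuous).mem_open W.2 hz
      have : g m = η := by
        rw [← hbij.mapsTo hm _ (hgenW _ hgm)]
      exact hbij.injOn hm hξ (this.trans hξη.symm) ▸ hmz
    let ξ' : (g ⁻¹ᵁ W).toScheme := ⟨ξ, hξW⟩
    let η' : W.toScheme := ⟨η, hηW⟩
    have hW' : IsGenericPoint η' (Set.univ : Set W.toScheme) := by
      refine isGenericPoint_def.2 (Set.eq_univ_of_forall fun z => specializes_iff_mem_closure.1 ?_)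
      exact (W.ι.isOpenEmbedding.isInducing.specializes_iff).1 (hgenW z.1 z.2)
    have hX' : IsGenericPoint ξ' (Set.univ : Set (g ⁻¹ᵁ W).toScheme) := by
      refine isGenericPoint_def.2 (Set.eq_univ_of_forall fun z => specializes_iff_mem_closure.1 ?_)
      exact ((g ⁻¹ᵁ W).ι.isOpenEmbedding.isInducing.specializes_iff).1 (hgenX z.1 z.2)
    have : IrreducibleSpace W.toScheme :=
      { toPreirreducibleSpace := ⟨(hW'.isIrreducible).2⟩, toNonempty := ⟨η'⟩ }
    have : IrreducibleSpace (g ⁻¹ᵁ W).toScheme :=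
      { toPreirreducibleSpace := ⟨(hX'.isIrreducible).2⟩, toNonempty := ⟨ξ'⟩ }
    have : IsIntegral W.toScheme := isIntegral_of_irreducibleSpace_of_isReduced _
    have : IsIntegral (g ⁻¹ᵁ W).toScheme := isIntegral_of_irreducibleSpace_of_isReduced _
    have : IsIntegralHom (g ∣_ W) := MorphismProperty.of_isPullback (P := @IsIntegralHom)
      (isPullback_morphismRestrict g W).flip ‹_›
    refine ⟨W, hyW, LimTop61.isIso_of_isIntegralHom_birational (fun z => ?_) (g ∣_ W) ?_ ?_⟩
    · have := (hN (W.ι z)).2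
      exact IsIntegrallyClosed.of_equiv (asIso (W.ι.stalkMap z)).commRingCatIsoToRingEquiv
    · rw [(genericPoint_spec _).eq hX', (genericPoint_spec _).eq hW']
      refine W.ι.isOpenEmbedding.injective ?_
      rw [← Scheme.Hom.comp_apply, morphismRestrict_ι]
      exact hξη
    · rw [(genericPoint_spec _).eq hX']
      have h1 := hiso ξ hξ
      exact ((MorphismProperty.isomorphisms CommRingCat).arrow_mk_iso_iff (morphismRestrictStalkMap g W ξ')).2 h1
  choose W hyW hiso' using key
  exact (IsZariskiLocalAtTarget.iff_of_iSup_eq_top (P := MorphismProperty.isomorphisms Scheme.{u}) W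
    (top_le_iff.1 fun z _ => TopologicalSpace.Opens.mem_iSup.2 ⟨z, hyW z⟩)).2 hiso'

end Scheme

variable {S : Scheme.{u}}

theorem normal_chart {Y : Space S}
    (h : EtaleLocally (fun T => ∀ t : ↥T, IsDomain ↥(T.presheaf.stalk t) ∧
      IsIntegrallyClosed ↥(T.presheaf.stalk t)) Y.obj) {V : Over S} {b : (yon S).obj V ⟶ Y.obj}
    (hb : RepWith @Etale b) (v : ↥V.left) :
    IsDomain ↥(V.left.presheaf.stalk v) ∧ IsIntegrallyClosed ↥(V.left.presheaf.stalk v) := by
  obtain ⟨U, p, hp, hps, hU⟩ := h
  obtain ⟨W, q, r, hq, hr, -, -, hrs, -⟩ := exists_common_chart Y.property hp hb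
  have := hq
  have := hr
  have := hrs hps
  obtain ⟨w, rfl⟩ := r.left.surjective v
  exact (Unr55.isNormalDomain_stalk_iff_of_etale r.left w).1
    ((Unr55.isNormalDomain_stalk_iff_of_etale q.left w).2 (hU _))

theorem isIso_of_integral_birational {X Y : Space S} (f : X ⟶ Y) (hX : IsDecent X.obj) (hY : IsDecent Y.obj)
    (hXf : (irreducibleComponents (Points X.obj)).Finite)
    (hYf : (irreducibleComponents (Points Y.obj)).Finite)
    (hi : IsIntegralMor f.hom) (hf : W4stk3decentspacesp2.IsBirational f.hom)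
    (hYn : EtaleLocally (fun T => ∀ t : ↥T, IsDomain ↥(T.presheaf.stalk t) ∧
      IsIntegrallyClosed ↥(T.presheaf.stalk t)) Y.obj)
    (hXr : EtaleLocally (fun T => IsReduced T) X.obj) : IsIso f.hom := by
  have hrep := (isIntegralMor_iff f.hom).1 hi
  obtain ⟨V, b, hb, hbs⟩ := Y.property.atlas
  obtain ⟨Q, q, fst, sq⟩ := hrep.rep b
  have : IsIso q.left := by
    refine (IsZariskiLocalAtTarget.iff_of_iSup_eq_top (P := MorphismProperty.isomorphisms Scheme.{u})
      (fun O : V.left.affineOpens => O.1) (iSup_affineOpens_eq_top V.left)).2 ?_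
    rintro ⟨O, hO⟩
    show IsIso (q.left ∣_ O)
    let D : Over S := Over.mk (O.ι ≫ V.hom)
    have : IsAffine D.left := hO
    let iD : D ⟶ V := Over.homMk O.ι rfl
    let QD : Over S := Over.mk ((q.left ⁻¹ᵁ O).ι ≫ Q.hom)
    let iQ : QD ⟶ Q := Over.homMk (q.left ⁻¹ᵁ O).ι rfl
    let qD : QD ⟶ D := Over.homMk (q.left ∣_ O) (by simp [QD, D, Over.w q])
    have hw : iQ ≫ q = qD ≫ iD := Over.OverMorphism.ext (by simp [iQ, qD, iD, D, QD])
    have sq0 : IsPullback iQ qD q iD := IsPullback.of_map (Over.forget S) hw (by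
      exact (isPullback_morphismRestrict q.left O).flip)
    have sqD : IsPullback ((yon S).map iQ ≫ fst) ((yon S).map qD) f.hom ((yon S).map iD ≫ b) :=
      (sq0.map (yon S)).paste_horiz sq
    have hbD : RepWith @Etale ((yon S).map iD ≫ b) := MorphismProperty.comp_mem _ _ _
      ((repWith_yon_map_iff _ _).2 (inferInstanceAs (Etale O.ι))) hb
    obtain ⟨-, hfinP, hfinD, hbir⟩ := birational_etale_baseChange f hX hY hXf hYf hf _ hbD _ _ sqD
    have hfst : RepWith @Etale ((yon S).map iQ ≫ fst) :=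
      (repWith_isStableUnderBaseChange _).of_isPullback sqD.flip hbD
    have : IsReduced QD.left := isReduced_chart X.property hXr hfst
    have : IsIntegralHom qD.left := hrep.property _ _ qD sqD
    let DS : Space S := ⟨(yon S).obj D, IsAlgSpace.yon_obj D⟩
    let QS : Space S := ⟨(yon S).obj QD, IsAlgSpace.yon_obj QD⟩
    obtain ⟨-, h2, h3, h4⟩ := birational_restrict (X := QS) (Y := DS) (ObjectProperty.homMk ((yon S).map qD))
      (isDecent_yon QD) (isDecent_yon D) hfinP hfinD hbir (a := 𝟙 _) (b := 𝟙 _) (g := qD)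
      (repWith_id _ QD) (repWith_id _ D) (by simp [QS, DS]) (fun x _ _ => by
        rw [← range_map_yon_eq]
        exact ⟨x, Points.map_id x⟩)
    rw [← isMax'_eq_setOf, ← isMax'_eq_setOf] at h3
    have := isIso_of_integral_birational_normal qD.left (fun v => normal_chart hYn hbD v) h2 h3
      (fun x hx => h4 x (Norm57.isMax'_iff.1 hx))
    exact this
  have : IsIso q := by
    have : IsIso ((Over.forget S).map q) := this
    exact isIso_of_reflects_iso q (Over.forget S)
  exact isIso_of_baseChange sq (locLift_of_atlas hb hbs)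

end Groth.Agent.SpProper61
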