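import Groth.Agent.SpProper61.MonoLqf
import Groth.Agent.SpPts86.FreeQuot
import Groth.Agent.ConstQuot97.OrbitOpen

/-!
Fibre powers of an affine chart minus the diagonals.
-/

universe u

set_option autoImplicit false
set_option backward.isDefEq.respectTransparency false

open CategoryTheory CategoryTheory.Limits AlgebraicGeometry Topology
open AlgSp Groth.Agent.SpFP87 Groth.Agent.SpPts86

namespace Groth.Agent.SpProper61

variable {S : Scheme.{u}}

theorem epi_specMap_field {K : Type u} [Field K] {L : CommRingCat.{u}} [Nontrivial L]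
    (φ : CommRingCat.of K ⟶ L) : Epi (Spec.map φ) := by
  have : Flat (Spec.map φ) := Flat.SpecMap_iff.2 (RingHom.Flat.of_isField (Field.toIsField _) _)
  have : Surjective (Spec.map φ) := ⟨fun x => ⟨Classical.arbitrary (PrimeSpectrum L), Subsingleton.elim _ _⟩⟩
  exact Flat.epi_of_flat_of_surjective _

/-- A tuple of points of `U` is pointwise distinct at `t`. -/
def DistAt {ι : Type} {T U : Over S} (x : ι → (T ⟶ U)) (t : ↥T.left) : Prop :=
  ∀ i j, i ≠ j → T.left.fromSpecResidueField t ≫ (x i).left ≠ T.left.fromSpecResidueField t ≫ (x j).left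

theorem distAt_comp {ι : Type} {T T' U : Over S} (m : T ⟶ T') (x : ι → (T' ⟶ U)) (t : ↥T.left) :
    DistAt (fun i => m ≫ x i) t ↔ DistAt x (m.left t) := by
  have : Epi (Spec.map (m.left.residueFieldMap t)) :=
    epi_specMap_field (K := ↥(T'.left.residueField (m.left t))) (m.left.residueFieldMap t)
  refine forall₃_congr fun i j _ => not_congr ?_
  rw [Over.comp_left, Over.comp_left, ← Category.assoc, ← Category.assoc,
    ← Scheme.Hom.SpecMap_residueFieldMap_fromSpecResidueField, Category.assoc, Category.assoc, cancel_epi]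

theorem distAt_point_iff {ι : Type} {L : Type u} [Field L] {str : Spec (CommRingCat.of L) ⟶ S} {U : Over S}
    (x : ι → (Over.mk str ⟶ U)) (t : ↥(Over.mk str).left) : DistAt x t ↔ ∀ i j, i ≠ j → x i ≠ x j := by
  obtain ⟨φ, hφ⟩ := Spec.map_surjective ((Spec (CommRingCat.of L)).fromSpecResidueField t)
  have : Epi ((Over.mk str).left.fromSpecResidueField t) := by
    show Epi ((Spec (CommRingCat.of L)).fromSpecResidueField t)
    rw [← hφ]
    exact epi_specMap_field φ
  refine forall₃_congr fun i j _ => not_congr ?_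
  rw [cancel_epi]
  exact ⟨fun h => Over.OverMorphism.ext h, fun h => congrArg CommaMorphism.left h⟩

theorem exists_point_eq {P : Scheme.{u}} (z : P) {L : Type u} [Field L] (m : Spec (CommRingCat.of L) ⟶ P)
    (h : m (IsLocalRing.closedPoint L) = z) :
    ∃ φ : P.residueField z ⟶ CommRingCat.of L, m = Spec.map φ ≫ P.fromSpecResidueField z := by
  subst h
  exact ⟨_, (Scheme.descResidueField_stalkClosedPointTo_fromSpecResidueField L P m).symm⟩

variable {X : Space S} {U : Over S} (a : (yon S).obj U ⟶ X.obj)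

/-- A tuple in a fibre over `X`. -/
def Compat {ι : Type} {T : Over S} (x : ι → (T ⟶ U)) : Prop :=
  ∀ i j, (yon S).map (x i) ≫ a = (yon S).map (x j) ≫ a

/-- The fibre power of a chart. -/
structure Tup (ι : Type) : Type (u + 1) where
  P : Over S
  π : ι → (P ⟶ U)
  compat : Compat a π
  exists_lift : ∀ {T : Over S} (x : ι → (T ⟶ U)), Compat a x → ∃ m : T ⟶ P, ∀ i, m ≫ π i = x i
  ext : ∀ {T : Over S} (m m' : T ⟶ P), (∀ i, m ≫ π i = m' ≫ π i) → m = m'

/-- The fibre power minus the diagonals. -/
structure DTup (ι : Type) : Type (u + 1) where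
  P : Over S
  π : ι → (P ⟶ U)
  compat : Compat a π
  dist : ∀ p : ↥P.left, DistAt π p
  exists_lift : ∀ {T : Over S} (x : ι → (T ⟶ U)), Compat a x → (∀ t, DistAt x t) →
    ∃ m : T ⟶ P, ∀ i, m ≫ π i = x i
  ext : ∀ {T : Over S} (m m' : T ⟶ P), (∀ i, m ≫ π i = m' ≫ π i) → m = m'

/-- An etale map to `U` and an embedding in an affine scheme. -/
structure GoodPow {P : Over S} (π₀ : P ⟶ U) : Prop where
  etale : Etale π₀.left
  emb : ∃ (Z : Scheme.{u}) (q : P.left ⟶ Z), IsAffine Z ∧ Mono q ∧ LocallyOfFiniteType q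

variable {a}

theorem exists_tup [IsAffine U.left] (ha : RepWith @Etale a) :
    ∀ n : ℕ, ∃ T : Tup a (Fin (n + 1)), GoodPow (T.π 0) ∧ (QuasiCompact (T.π 0).left ∨ ¬ RepWith @QuasiCompact a)
  | 0 => by
    refine ⟨⟨U, fun _ => 𝟙 U, fun _ _ => rfl, fun x hx => ⟨x 0, fun i => ?_⟩, fun m m' h => ?_⟩,
      ⟨by show Etale (𝟙 U.left); infer_instance, U.left, 𝟙 _, inferInstance, inferInstance, inferInstance⟩,
      .inl (by show QuasiCompact (𝟙 U.left); infer_instance)⟩
    · rw [Category.comp_id]
      exact congrArg x (Subsingleton.elim (α := Fin 1) 0 i)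
    · simpa using h 0
  | n + 1 => by
    obtain ⟨T, ⟨he, Z, q, hZ, hqm, hql⟩, hqc⟩ := exists_tup ha n
    obtain ⟨P', p, r, sq⟩ := exists_isPullback_yon X.property.diag ((yon S).map (T.π 0) ≫ a) a
    have hp : Etale p.left := etale_snd_of_isPullback sq.flip ha
    have hP0 : (Fin.snoc (fun i => p ≫ T.π i) r : Fin (n + 1 + 1) → (P' ⟶ U)) 0 = p ≫ T.π 0 := by
      rw [← Fin.castSucc_zero, Fin.snoc_castSucc]
    refine ⟨⟨P', Fin.snoc (fun i => p ≫ T.π i) r, ?_, fun {W} x hx => ?_, fun m m' h => ?_⟩, ⟨?_, ?_⟩, ?_⟩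
    · have key : ∀ k, (yon S).map ((Fin.snoc (fun i => p ≫ T.π i) r : Fin (n + 1 + 1) → (P' ⟶ U)) k) ≫ a =
          (yon S).map r ≫ a := by
        intro k
        induction k using Fin.lastCases with
        | last => rw [Fin.snoc_last]
        | cast i => rw [Fin.snoc_castSucc, Functor.map_comp, Category.assoc, T.compat i 0, sq.w]
      exact fun i j => (key i).trans (key j).symm
    · obtain ⟨m, hm⟩ := T.exists_lift (fun i => x i.castSucc) (fun i j => hx _ _)
      obtain ⟨l, hl⟩ := (yon S).map_surjective (sq.lift ((yon S).map m) ((yon S).map (x (Fin.last _)))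
        (by rw [← Category.assoc, ← Functor.map_comp, hm]; exact hx _ _))
      refine ⟨l, fun k => ?_⟩
      induction k using Fin.lastCases with
      | last =>
        apply (yon S).map_injective
        rw [Fin.snoc_last, Functor.map_comp, hl, sq.lift_snd]
      | cast i =>
        have : l ≫ p = m := (yon S).map_injective (by rw [Functor.map_comp, hl, sq.lift_fst])
        rw [Fin.snoc_castSucc, ← Category.assoc, this, hm]
    · have h1 : m ≫ p = m' ≫ p := T.ext _ _ fun i => by simpa [Fin.snoc_castSucc] using h i.castSucc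
      have h2 : m ≫ r = m' ≫ r := by simpa [Fin.snoc_last] using h (Fin.last _)
      exact (yon S).map_injective (sq.hom_ext (by rw [← Functor.map_comp, ← Functor.map_comp, h1])
        (by rw [← Functor.map_comp, ← Functor.map_comp, h2]))
    · show Etale ((Fin.snoc (fun i => p ≫ T.π i) r : Fin (n + 1 + 1) → (P' ⟶ U)) 0).left
      rw [hP0, Over.comp_left]
      infer_instance
    · have := hZ
      refine ⟨pullback (terminal.from Z) (terminal.from U.left),
        pullback.lift (p.left ≫ q) r.left (terminal.hom_ext _ _), inferInstance, ⟨fun {W} g₁ g₂ e => ?_⟩, ?_⟩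
      · have e1 : g₁ ≫ p.left = g₂ ≫ p.left := by
          rw [← cancel_mono q]
          simpa using congrArg (· ≫ pullback.fst _ _) e
        have e2 : g₁ ≫ r.left = g₂ ≫ r.left := by simpa using congrArg (· ≫ pullback.snd _ _) e
        let W' : Over S := Over.mk (g₁ ≫ P'.hom)
        have h2 : g₂ ≫ P'.hom = g₁ ≫ P'.hom := by
          rw [← Over.w p, ← Category.assoc, ← e1, Category.assoc]
        let G₁ : W' ⟶ P' := Over.homMk g₁ rfl
        let G₂ : W' ⟶ P' := Over.homMk g₂ h2
        have : G₁ = G₂ := (yon S).map_injective (sq.hom_ext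
          (by rw [← Functor.map_comp, ← Functor.map_comp]; exact congrArg _ (Over.OverMorphism.ext e1))
          (by rw [← Functor.map_comp, ← Functor.map_comp]; exact congrArg _ (Over.OverMorphism.ext e2)))
        exact congrArg CommaMorphism.left this
      · have : LocallyOfFiniteType (pullback.lift (p.left ≫ q) r.left (terminal.hom_ext _ _) ≫
            pullback.fst (terminal.from Z) (terminal.from U.left)) := by
          rw [pullback.lift_fst]; infer_instance
        exact locallyOfFiniteType_of_comp _ (pullback.fst (terminal.from Z) (terminal.from U.left))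
    · show QuasiCompact ((Fin.snoc (fun i => p ≫ T.π i) r : Fin (n + 1 + 1) → (P' ⟶ U)) 0).left ∨ _
      by_cases hq : RepWith @QuasiCompact a
      · have : QuasiCompact p.left := etale_snd_of_isPullback sq.flip hq
        have := hqc.resolve_right (not_not.2 hq)
        exact .inl (by rw [hP0, Over.comp_left]; infer_instance)
      · exact .inr hq

theorem exists_dtup [IsAffine U.left] (ha : RepWith @Etale a) (n : ℕ) :
    ∃ W : DTup a (Fin (n + 1)), Etale (W.π 0).left ∧
      (∃ (Z : Scheme.{u}) (q : W.P.left ⟶ Z), IsAffine Z ∧ Mono q ∧ LocallyOfFiniteType q) ∧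
      (RepWith @QuasiCompact a → CompactSpace ↥W.P.left) := by
  obtain ⟨T, ⟨he, Z, q, hZ, hqm, hql⟩, hqc⟩ := exists_tup ha n
  obtain ⟨R, t, s, sq⟩ := exists_isPullback_yon X.property.diag a a
  have : Etale s.left := etale_snd_of_isPullback sq ha
  have : AlgebraicGeometry.IsSeparated s.left := isSeparated_relation sq
  obtain ⟨δ, hδ⟩ := (yon S).map_surjective (sq.lift (𝟙 ((yon S).obj U)) (𝟙 _) rfl)
  have hδt : δ ≫ t = 𝟙 U := (yon S).map_injective (by rw [Functor.map_comp, hδ, sq.lift_fst, CategoryTheory.Functor.map_id])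
  have hδs : δ ≫ s = 𝟙 U := (yon S).map_injective (by rw [Functor.map_comp, hδ, sq.lift_snd, CategoryTheory.Functor.map_id])
  have hδs' : δ.left ≫ s.left = 𝟙 U.left := congrArg CommaMorphism.left hδs
  have hδt' : δ.left ≫ t.left = 𝟙 U.left := congrArg CommaMorphism.left hδt
  have : Etale (δ.left ≫ s.left) := by rw [hδs']; infer_instance
  have : IsClosedImmersion (δ.left ≫ s.left) := by rw [hδs']; infer_instance
  have : Etale δ.left := Etale.of_comp δ.left s.left
  have : IsClosedImmersion δ.left := IsClosedImmersion.of_comp δ.left s.left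
  have : IsOpenImmersion δ.left := IsOpenImmersion.of_flat_of_mono δ.left
  have hm : ∀ i j, ∃ m : T.P ⟶ R, m ≫ t = T.π i ∧ m ≫ s = T.π j := fun i j => by
    obtain ⟨m, hm⟩ := (yon S).map_surjective (sq.lift ((yon S).map (T.π i)) ((yon S).map (T.π j)) (T.compat i j))
    exact ⟨m, (yon S).map_injective (by rw [Functor.map_comp, hm, sq.lift_fst]),
      (yon S).map_injective (by rw [Functor.map_comp, hm, sq.lift_snd])⟩
  choose m hmt hms using hm
  have key : ∀ z, DistAt T.π z ↔ ∀ i j, i ≠ j → (m i j).left z ∉ Set.range δ.left := by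
    intro z
    refine forall₃_congr fun i j _ => not_congr ⟨fun h => ?_, fun hz => ?_⟩
    · let K : Over S := Over.mk (T.P.left.fromSpecResidueField z ≫ T.P.hom)
      let ι₀ : K ⟶ T.P := Over.homMk (T.P.left.fromSpecResidueField z) rfl
      have e : ι₀ ≫ T.π i = ι₀ ≫ T.π j := Over.OverMorphism.ext h
      have e2 : ι₀ ≫ m i j = (ι₀ ≫ T.π i) ≫ δ := (yon S).map_injective (sq.hom_ext
        (by rw [← Functor.map_comp, ← Functor.map_comp, Category.assoc _ _ t, hmt,
          Category.assoc _ _ t, hδt, Category.comp_id])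
        (by rw [← Functor.map_comp, ← Functor.map_comp, Category.assoc _ _ s, hms,
          Category.assoc _ _ s, hδs, Category.comp_id, e]))
      refine ⟨(ι₀ ≫ T.π i).left (IsLocalRing.closedPoint _), ?_⟩
      have e3 := congrArg (fun g : K ⟶ R => g.left (IsLocalRing.closedPoint _)) e2
      simp only [Over.comp_left, Scheme.Hom.comp_apply] at e3 ⊢
      rw [← e3]
      exact congrArg _ (Scheme.fromSpecResidueField_apply _ _)
    · have hr : Set.range (T.P.left.fromSpecResidueField z ≫ (m i j).left) ⊆ Set.range δ.left := by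
        rintro _ ⟨k, rfl⟩
        rw [Scheme.Hom.comp_apply, Scheme.fromSpecResidueField_apply]
        exact hz
      have hl := IsOpenImmersion.lift_fac δ.left _ hr
      rw [← show (m i j).left ≫ t.left = (T.π i).left from congrArg CommaMorphism.left (hmt i j),
        ← show (m i j).left ≫ s.left = (T.π j).left from congrArg CommaMorphism.left (hms i j),
        ← Category.assoc, ← Category.assoc, ← hl, Category.assoc, Category.assoc, hδs', hδt']
  let O : Set ↥T.P.left := {z | DistAt T.π z}
  have hO : IsClopen O := by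
    have e : O = ⋂ i, ⋂ j, ⋂ (_ : i ≠ j), ((m i j).left ⁻¹' Set.range δ.left)ᶜ :=
      Set.ext fun z => by simpa [O] using key z
    rw [e]
    exact isClopen_iInter_of_finite fun i => isClopen_iInter_of_finite fun j => isClopen_iInter_of_finite fun _ =>
      (IsClopen.preimage ⟨δ.left.isClosedEmbedding.isClosed_range, δ.left.isOpenEmbedding.isOpen_range⟩
        (m i j).left.continuous).compl
  let Oo : T.P.left.Opens := ⟨O, hO.2⟩
  let W : Over S := Over.mk (Oo.ι ≫ T.P.hom)
  let ιW : W ⟶ T.P := Over.homMk Oo.ι rfl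
  refine ⟨⟨W, fun i => ιW ≫ T.π i, fun i j => by simp only [Functor.map_comp, Category.assoc, T.compat i j],
    fun p => (distAt_comp ιW T.π p).2 p.2, fun {V} x hx hd => ?_, fun g g' h => ?_⟩, ?_, ?_, fun hq => ?_⟩
  · obtain ⟨l, hl⟩ := T.exists_lift x hx
    have hr : Set.range l.left ⊆ Set.range Oo.ι := by
      rintro _ ⟨v, rfl⟩
      rw [Scheme.Opens.range_ι]
      have h1 : DistAt (fun i => l ≫ T.π i) v := by rw [funext hl]; exact hd v
      exact (distAt_comp l T.π v).1 h1
    refine ⟨Over.homMk (IsOpenImmersion.lift Oo.ι l.left hr) ?_, fun i => ?_⟩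
    · show _ ≫ Oo.ι ≫ T.P.hom = V.hom
      rw [IsOpenImmersion.lift_fac_assoc, Over.w]
    · rw [← hl i, ← Category.assoc]
      congr 1
      exact Over.OverMorphism.ext (IsOpenImmersion.lift_fac Oo.ι l.left hr)
  · have : Mono ιW.left := inferInstanceAs (Mono Oo.ι)
    have : Mono ιW := (Over.forget S).mono_of_mono_map (f := ιW) this
    rw [← cancel_mono ιW]
    exact T.ext _ _ fun i => by simpa using h i
  · show Etale (Oo.ι ≫ (T.π 0).left)
    infer_instance
  · exact ⟨Z, Oo.ι ≫ q, hZ, mono_comp Oo.ι q, inferInstance⟩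
  · have := hqc.resolve_right (not_not.2 hq)
    have : CompactSpace ↥T.P.left := QuasiCompact.compactSpace_of_compactSpace (T.π 0).left
    exact isCompact_iff_compactSpace.1 hO.1.isCompact

end Groth.Agent.SpProper61
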