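import Groth.Agent.SpProper61.FibreSpace
import Groth.Agent.E4O.FibreDim

/-!
Quasi-finiteness and isolated points of fibres of morphisms of algebraic spaces.
-/

universe u

set_option autoImplicit false
set_option backward.isDefEq.respectTransparency false

open CategoryTheory CategoryTheory.Limits AlgebraicGeometry Topology
open AlgSp Groth.Agent.SpFP87 Groth.Agent.SpPts86

namespace Groth.Agent.SpProper61

variable {S : Scheme.{u}}

abbrev QFAt : ∀ (U V : Scheme.{u}), (U ⟶ V) → ↥U → Prop :=
  fun U _ h u => ∃ W : U.Opens, u ∈ W ∧ LocallyQuasiFinite (W.ι ≫ h) ∧ LocallyOfFiniteType (W.ι ≫ h)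

variable {k : Type u} [Field k] {str : Spec (CommRingCat.of k) ⟶ S} {P : Sp S}

theorem chart_over_field' (p : P ⟶ (yon S).obj (Over.mk str)) (hp : LocP @LocallyOfFiniteType p) {U : Over S}
    {a : (yon S).obj U ⟶ P} (ha : RepWith @Etale a) : IsLocallyNoetherian U.left ∧ JacobsonSpace ↥U.left := by
  obtain ⟨g, hg⟩ := (yon S).map_surjective (a ≫ p)
  let g' : U.left ⟶ Spec (CommRingCat.of k) := g.left
  have : LocallyOfFiniteType g' := hp a (𝟙 _) g ha (repWith_id _ _) (by rw [Category.comp_id]; exact hg.symm)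
  have : JacobsonSpace ↥(Spec (CommRingCat.of k)) := inferInstanceAs (JacobsonSpace (PrimeSpectrum k))
  exact ⟨LocallyOfFiniteType.isLocallyNoetherian g', LocallyOfFiniteType.jacobsonSpace g'⟩

theorem isolated_iff (hP : IsAlgSpace P) (p : P ⟶ (yon S).obj (Over.mk str)) (hp : LocP @LocallyOfFiniteType p)
    (x : Points P) :
    (IsOpen ({x} : Set (Points P)) ↔ IsClosed ({x} : Set (Points P)) ∧ ∀ x', x' ⤳ x → x' = x) ∧
      (IsOpen ({x} : Set (Points P)) ↔ HasAt (fun U u => FlatMor.localDim ↥U u = 0) P x) ∧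
      (IsOpen ({x} : Set (Points P)) ↔ HasAtMor QFAt p x) ∧
      (IsDecent P → (FlatMor.localDim (Points P) x = 0 ↔ IsOpen ({x} : Set (Points P)))) := by
  obtain ⟨U, a, ha, has⟩ := hP.atlas
  obtain ⟨_, _⟩ := chart_over_field' p hp ha
  refine ⟨isOpen_singleton_iff hP ha has x, ?_, ?_, fun hd => ?_⟩
  · constructor
    · intro h
      obtain ⟨u, rfl⟩ := surjective_ofPt has x
      exact ⟨U, a, u, ha, rfl, (localDim_eq_zero_iff u).2 (isOpen_singleton_of_isOpen_pts hP ha h)⟩
    · rintro ⟨V, b, v, hb, rfl, hv⟩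
      obtain ⟨_, _⟩ := chart_over_field' p hp hb
      exact isOpen_singleton_pts_of_isOpen hb ((localDim_eq_zero_iff v).1 hv)
  · obtain ⟨u, rfl⟩ := surjective_ofPt has x
    obtain ⟨g, hg⟩ := (yon S).map_surjective (a ≫ p)
    have w : a ≫ p = (yon S).map g ≫ 𝟙 _ := by rw [Category.comp_id]; exact hg.symm
    let g' : U.left ⟶ Spec (CommRingCat.of k) := g.left
    have : LocallyOfFiniteType g' := hp a (𝟙 _) g ha (repWith_id _ _) w
    constructor
    · intro h
      let W : U.left.Opens := ⟨{u}, isOpen_singleton_of_isOpen_pts hP ha h⟩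
      have hs : Subsingleton ↥W.toScheme := ⟨fun x y => Subtype.ext (x.2.trans y.2.symm)⟩
      have hq : LocallyQuasiFinite (W.ι ≫ g') := locallyQuasiFinite_iff_isDiscrete_preimage_singleton.2 fun _ =>
        isDiscrete_iff_discreteTopology.2 inferInstance
      have hf : LocallyOfFiniteType (W.ι ≫ g') := inferInstance
      exact ⟨U, Over.mk str, a, 𝟙 _, g, u, ha, repWith_id _ _, w, rfl, W, rfl, hq, hf⟩
    · intro H
      obtain ⟨W, huW, hW, -⟩ := forall_diagram_of_hasAtMor hP (IsAlgSpace.yon_obj _)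
        (etInv_nearPt ((@LocallyQuasiFinite : MorphismProperty Scheme.{u}) ⊓ @LocallyOfFiniteType)) H ha
        (repWith_id _ _) w rfl
      have : LocallyQuasiFinite (W.ι ≫ g') := hW
      have : IsLocallyArtinian W.toScheme := .of_locallyQuasiFinite (W.ι ≫ g')
      have h1 : IsOpen (W.ι '' {(⟨u, huW⟩ : W.toScheme)}) := W.ι.isOpenEmbedding.isOpenMap _ (isOpen_discrete _)
      rw [Set.image_singleton] at h1
      exact isOpen_singleton_pts_of_isOpen ha h1
  · obtain ⟨u, rfl⟩ := surjective_ofPt has x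
    rw [← SpFP87.localDim_eq hP hd ha u, localDim_eq_zero_iff]
    exact ⟨isOpen_singleton_pts_of_isOpen ha, isOpen_singleton_of_isOpen_pts hP ha⟩

theorem dim_zero_iff (hP : IsAlgSpace P) (p : P ⟶ (yon S).obj (Over.mk str)) (hp : LocP @LocallyOfFiniteType p)
    [Nonempty (Points P)] :
    (DiscreteTopology (Points P) ↔ dim P = 0) ∧
      (IsDecent P → topologicalKrullDim (Points P) = 0 → DiscreteTopology (Points P)) ∧
      (IsDecent P → Finite (Points P) → DiscreteTopology (Points P)) := by
  obtain ⟨U, a, ha, has⟩ := hP.atlas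
  obtain ⟨_, _⟩ := chart_over_field' p hp ha
  have : Nonempty ↥U.left := Function.Surjective.nonempty (surjective_ofPt has)
  have hU : topologicalKrullDim ↥U.left ≤ dim P :=
    le_iSup_of_le (α := WithBot ℕ∞) U (le_iSup_of_le a (le_iSup_of_le ha le_rfl))
  have h0 : (0 : WithBot ℕ∞) ≤ topologicalKrullDim ↥U.left :=
    Order.krullDim_nonneg_iff.2 ⟨⟨closure {Classical.arbitrary ↥U.left}, isIrreducible_singleton.closure, isClosed_closure⟩⟩
  have disc_iff : DiscreteTopology (Points P) ↔ dim P = 0 := by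
    constructor
    · intro hdisc
      apply le_antisymm
      · refine iSup_le (α := WithBot ℕ∞) fun V => iSup_le fun b => iSup_le fun hb => ?_
        obtain ⟨_, _⟩ := chart_over_field' p hp hb
        have : DiscreteTopology ↥V.left := discreteTopology_iff_isOpen_singleton.2 fun v =>
          isOpen_singleton_of_isOpen_pts hP hb (isOpen_discrete _)
        exact topologicalKrullDim_zero_of_discreteTopology _
      · exact h0.trans hU
    · intro hdim
      have := discreteTopology_of_dim_le_zero (hdim ▸ hU)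
      exact discreteTopology_iff_isOpen_singleton.2 fun x => by
        obtain ⟨u, rfl⟩ := surjective_ofPt has x
        exact isOpen_singleton_pts_of_isOpen ha (isOpen_discrete _)
  refine ⟨disc_iff, fun hd h => disc_iff.2 ((topologicalKrullDim_points hP hd).symm.trans h), fun hd hfin => ?_⟩
  refine discreteTopology_iff_isOpen_singleton.2 fun x => ?_
  obtain ⟨u, rfl⟩ := surjective_ofPt has x
  obtain ⟨W, hWaff, huW, hW⟩ := exists_affine_subchart ha u
  obtain ⟨_, _⟩ := chart_over_field' p hp hW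
  let V : Over S := Over.mk (W.ι ≫ U.hom)
  let φ : (yon S).obj V ⟶ P := (yon S).map (Over.homMk W.ι rfl : V ⟶ U) ≫ a
  have := hWaff
  have : Finite ↥V.left := by
    rw [← Set.finite_univ_iff]
    exact ((Set.finite_univ (α := Points P)).biUnion fun y _ => (finite_fibres_of_isDecent hP hd hW y).1).subset
      fun v _ => Set.mem_iUnion₂.2 ⟨Points.ofPt φ v, trivial, rfl⟩
  have := isOpen_singleton_pts_of_isOpen hW (isOpen_discrete ({(⟨u, huW⟩ : W.toScheme)} : Set ↥V.left))
  rw [ofPt_comp] at this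
  exact this

variable {X Y : Space S}

theorem qfAt_iff_isolated (f : X ⟶ Y) (hf : LocP @LocallyOfFiniteType f.hom) (r : FieldPt Y.obj) (Xk : Space S)
    (fst : Xk ⟶ X) (snd : Xk.obj ⟶ (yon S).obj r.pt) (sq : IsPullback fst.hom snd f.hom r.toHom)
    (xt : Points Xk.obj) :
    HasAtMor QFAt f.hom (Points.map fst.hom xt) ↔ IsOpen ({xt} : Set (Points Xk.obj)) := by
  have h := hasAtMor_baseChange_iff (@LocallyOfFiniteType : MorphismProperty Scheme.{u})
    (etInv_nearPt ((@LocallyQuasiFinite : MorphismProperty Scheme.{u}) ⊓ @LocallyOfFiniteType))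
    (fun p q f g sq hf a => nearPt_lqf_baseChange_iff p q f g sq hf a) sq X.property Y.property
    (IsAlgSpace.yon_obj _) hf xt
  exact h.symm.trans (isolated_iff (k := r.K) Xk.property snd
    (locP_baseChange sq X.property Y.property (IsAlgSpace.yon_obj _) hf) xt).2.2.1.symm

theorem exists_point_of_fibre (f : X ⟶ Y) (r : FieldPt Y.obj) (Xk : Space S) (fst : Xk ⟶ X)
    (snd : Xk.obj ⟶ (yon S).obj r.pt) (sq : IsPullback fst.hom snd f.hom r.toHom) (x : Points X.obj)
    (hx : Points.map f.hom x = Points.mk r) : ∃ xt, Points.map fst.hom xt = x := by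
  obtain ⟨o, ho, -⟩ := exists_of_isPullback sq x (Points.ofScheme r.pt (IsLocalRing.closedPoint r.K : PrimeSpectrum r.K))
    (by rw [← Points.ofPt_eq_map_ofScheme]; exact hx.trans (Points.ofPt_toHom r _).symm)
  exact ⟨o, ho⟩

theorem map_fst_mem_fibre (f : X ⟶ Y) (r : FieldPt Y.obj) (Xk : Space S) (fst : Xk ⟶ X)
    (snd : Xk.obj ⟶ (yon S).obj r.pt) (sq : IsPullback fst.hom snd f.hom r.toHom) (xt : Points Xk.obj) :
    Points.map f.hom (Points.map fst.hom xt) = Points.mk r := by
  obtain ⟨t, ht⟩ := (Points.schemeHomeo r.pt).surjective (Points.map snd xt)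
  rw [← Points.map_comp, sq.w, Points.map_comp, ← ht]
  exact (Points.ofPt_eq_map_ofScheme _ _).symm.trans (Points.ofPt_toHom r _)

/-- Over a point of a decent space the fibre is the space of points of the scheme theoretic fibre over a
monomorphic representative. -/
theorem exists_fibre_homeo (f : X ⟶ Y) (hf : LocP @LocallyOfFiniteType f.hom) (hdY : IsDecent Y.obj)
    (r : FieldPt Y.obj) :
    ∃ (p : FieldPt Y.obj) (Xp : Space S) (snd : Xp.obj ⟶ (yon S).obj p.pt)
      (e : Points Xp.obj ≃ₜ ↥(Points.map f.hom ⁻¹' {Points.mk r})),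
      LocP @LocallyOfFiniteType snd ∧
      (∀ o, IsOpen ({o} : Set (Points Xp.obj)) ↔ HasAtMor QFAt f.hom (e o).1) ∧
      (IsDecent X.obj → IsDecent Xp.obj) := by
  obtain ⟨p, hp, hpm, hpq⟩ := hdY (Points.mk r)
  let Xp : Space S := ⟨pullback f.hom p.toHom, isAlgSpace_pullback _ _ X.property (IsAlgSpace.yon_obj _) Y.property⟩
  let fst : Xp ⟶ X := ObjectProperty.homMk (pullback.fst f.hom p.toHom)
  have sq : IsPullback fst.hom (pullback.snd f.hom p.toHom) f.hom p.toHom := IsPullback.of_hasPullback _ _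
  obtain ⟨he, hr⟩ := fibre_isEmbedding f hdY p Xp fst _ sq
  refine ⟨p, Xp, pullback.snd f.hom p.toHom, he.toHomeomorph.trans (Homeomorph.setCongr (by rw [hr, hp])),
    locP_baseChange sq X.property Y.property (IsAlgSpace.yon_obj _) hf,
    fun o => (qfAt_iff_isolated f hf p Xp fst _ sq o).symm, fun hdX => ?_⟩
  exact isDecent_of_representable fst.hom
    (MorphismProperty.of_isPullback (P := Functor.relativelyRepresentable (yon S)) sq.flip
      (Y.property.representable_from_yon p.toHom)) hdX

end Groth.Agent.SpProper61
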