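import Groth.Agent.SpProper61.CodimOne
import Groth.Agent.SpPts86.HasAtMorBC
import Groth.Agent.SpFP87.DecentDim
import Groth.Agent.SpFP87.LocPRep
import Groth.Agent.SpFP87.EtLocInst

/-!
Dominant morphisms of integral spaces quasi-finite at the generic point.
-/

universe u

set_option autoImplicit false
set_option backward.isDefEq.respectTransparency false

open CategoryTheory CategoryTheory.Limits AlgebraicGeometry Topology
open AlgSp Groth.Agent.SpFP87 Groth.Agent.SpPts86

namespace Groth.Agent.SpProper61

variable {S : Scheme.{u}} {X Y : Space S}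

theorem map_generic_eq (hYd : IsDecent Y.obj) (f : X ⟶ Y) (hd : IsDominantMor f.hom)
    {x : Points X.obj} (hx : IsGenericPoint x (Set.univ : Set (Points X.obj)))
    {y : Points Y.obj} (hy : IsGenericPoint y (Set.univ : Set (Points Y.obj))) :
    Points.map f.hom x = y := by
  have := t0Space_points Y.property hYd
  refine (IsGenericPoint.eq ?_ hy)
  have h : DenseRange (Points.map f.hom) := hd
  refine Set.eq_univ_of_univ_subset ?_
  rw [← h.closure_range]
  refine closure_minimal ?_ isClosed_closure
  rintro _ ⟨z, rfl⟩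
  exact specializes_iff_mem_closure.1 ((hx.specializes (Set.mem_univ z)).map (Points.continuous_map f.hom))

theorem ofPt_eq_generic_of_maximal (hXd : IsDecent X.obj) {x : Points X.obj}
    (hx : IsGenericPoint x (Set.univ : Set (Points X.obj))) {U : Over S} {a : (yon S).obj U ⟶ X.obj}
    (ha : RepWith @Etale a) {η : ↥U.left} (hη : ∀ w : ↥U.left, w ⤳ η → w = η) : Points.ofPt a η = x := by
  obtain ⟨η', h, e⟩ := exists_generalization_lift X.property hXd ha (hx.specializes (Set.mem_univ (Points.ofPt a η)))
  rw [← hη η' h, e]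

theorem maximal_of_ofPt_eq_generic (hXd : IsDecent X.obj) {x : Points X.obj}
    (hx : IsGenericPoint x (Set.univ : Set (Points X.obj))) {U : Over S} {a : (yon S).obj U ⟶ X.obj}
    (ha : RepWith @Etale a) {η : ↥U.left} (hη : Points.ofPt a η = x) : ∀ w : ↥U.left, w ⤳ η → w = η := by
  intro w hw
  have := t0Space_points X.property hXd
  refine eq_of_specializes_of_decent X.property hXd ha hw (Specializes.antisymm ?_ ?_).eq
  · exact hw.map (Points.continuous_ofPt a)
  · rw [hη]; exact hx.specializes (Set.mem_univ _)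

/-- Quasi-finiteness at the generic point of the source is uniqueness of the point over the generic point. -/
theorem qfAt_generic_iff (hXi : IsIntegralSp X.obj) (hYi : IsIntegralSp Y.obj) (f : X ⟶ Y)
    (hft : LocP @LocallyOfFiniteType f.hom) (hd : IsDominantMor f.hom)
    (x : Points X.obj) (hx : IsGenericPoint x (Set.univ : Set (Points X.obj)))
    (y : Points Y.obj) (hy : IsGenericPoint y (Set.univ : Set (Points Y.obj))) :
    HasAtMor QfAt f.hom x ↔ ∀ x' : Points X.obj, Points.map f.hom x' = y → x' = x := by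
  have hfx := map_generic_eq hYi.2.1 f hd hx hy
  constructor
  · intro H x' hx'
    obtain ⟨U, V, a, b, h, u, ha, hb, w, hu⟩ := exists_diagram_through X.property Y.property f.hom x'
    have : LocallyOfFiniteType h.left := hft a b h ha hb w
    obtain ⟨η, hηu, hη⟩ := VarGal.exists_maximal_generization_top u
    have hηx := ofPt_eq_generic_of_maximal hXi.2.1 hx ha hη
    have hq := (quasiFiniteAt_iff_nearPt h.left η).2
      (forall_diagram_of_hasAtMor X.property Y.property etInv_qfAt H ha hb w hηx)
    have hb' : ∀ z, Points.ofPt b (h.left z) = Points.map f.hom (Points.ofPt a z) := fun z => by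
      rw [Points.map_ofPt, w, ofPt_comp]
    have he : h.left η = h.left u :=
      eq_of_specializes_of_decent Y.property hYi.2.1 hb (hηu.map h.left.continuous)
        (by rw [hb', hb', hηx, hu, hfx, hx'])
    obtain ⟨c, hc⟩ := (h.left.range_fiberι (h.left η)).ge (show u ∈ h.left ⁻¹' {h.left η} from he.symm)
    have hs : h.left.asFiber η ⤳ c := (h.left.fiberι (h.left η)).isEmbedding.isInducing.specializes_iff.1
      (by rw [Scheme.Hom.fiberι_asFiber, hc]; exact hηu)
    have hcη : c = h.left.asFiber η := hs.mem_closed hq.isClopen_singleton_asFiber.1 rfl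
    rw [← hu, ← hc, hcη, Scheme.Hom.fiberι_asFiber, hηx]
  · intro H
    obtain ⟨U, V, a, b, h, u, ha, hb, w, hu⟩ := exists_diagram_through X.property Y.property f.hom x
    have : LocallyOfFiniteType h.left := hft a b h ha hb w
    refine ⟨U, V, a, b, h, u, ha, hb, w, hu, (quasiFiniteAt_iff_nearPt h.left u).1 ?_⟩
    have hmax := maximal_of_ofPt_eq_generic hXi.2.1 hx ha hu
    refine VarGal.quasiFiniteAt_of_fdeg_eq_zero h.left u fun z hz _ => ?_
    obtain rfl := hmax z hz
    have hs : closure {z} ∩ h.left ⁻¹' {h.left z} = {z} := by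
      refine subset_antisymm ?_ (by simp [subset_closure (Set.mem_singleton z)])
      rintro c ⟨hc, hfc⟩
      have hfc' : h.left c = h.left z := hfc
      refine (eq_of_specializes_of_decent X.property hXi.2.1 ha (specializes_iff_mem_closure.2 hc) ?_).symm
      rw [hu, H (Points.ofPt a c) (by rw [Points.map_ofPt, w, ofPt_comp, hfc', ← ofPt_comp, ← w,
        ← Points.map_ofPt, hu, hfx])]
    have h1 := E4O.dim_fibreClosure (f := h.left) z
    rw [hs] at h1
    have h2 := h1.symm.trans_le (topologicalKrullDim_zero_of_discreteTopology ↥({z} : Set U.left))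
    exact Nat.le_zero.1 (Nat.cast_le.1 (h2.trans (by simp)))

theorem isFiniteMor_qf_at {P V : Space S} (g : P ⟶ V) (hg : IsFiniteMor g.hom) (z : Points P.obj) :
    HasAtMor (fun _ _ h u => FlatMor.fibreDimAt h u ≤ ((0 : ℕ) : WithBot ℕ∞)) g.hom z := by
  have hrep := (isFiniteMor_iff g.hom).1 hg
  have h1 : RepWith (@LocallyQuasiFinite : MorphismProperty Scheme.{u}) g.hom :=
    repWith_mono (fun _ _ k (_ : IsFinite k) => (inferInstance : LocallyQuasiFinite k)) hrep
  have h2 : RepWith (@LocallyOfFiniteType : MorphismProperty Scheme.{u}) g.hom :=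
    repWith_mono (fun _ _ k (_ : IsFinite k) => (inferInstance : LocallyOfFiniteType k)) hrep
  obtain ⟨U, V', a, b, h, u, ha, hb, w, hu⟩ := exists_diagram_through P.property V.property g.hom z
  have hh : LocallyQuasiFinite h.left := locP_of_repWith P.property.diag V.property h1 a b h ha hb w
  have hh' : LocallyOfFiniteType h.left := locP_of_repWith P.property.diag V.property h2 a b h ha hb w
  exact ⟨U, V', a, b, h, u, ha, hb, w, hu, (nearPt_lqf_iff h.left u).1 ⟨⊤, trivial, inferInstance, inferInstance⟩⟩

theorem finite_open_iff_unique (hXi : IsIntegralSp X.obj) (hYi : IsIntegralSp Y.obj) (f : X ⟶ Y)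
    (hp : IsProperMor f.hom) (hd : IsDominantMor f.hom)
    (x : Points X.obj) (hx : IsGenericPoint x (Set.univ : Set (Points X.obj)))
    (y : Points Y.obj) (hy : IsGenericPoint y (Set.univ : Set (Points Y.obj))) :
    (∃ (V : Space S) (j : V ⟶ Y), RepWith @IsOpenImmersion j.hom ∧ Nonempty (Points V.obj) ∧
      ∀ (P : Space S) (fst : P ⟶ V) (snd : P ⟶ X), IsPullback fst.hom snd.hom j.hom f.hom →
        IsFiniteMor fst.hom) ↔ ∀ x' : Points X.obj, Points.map f.hom x' = y → x' = x := by
  rw [← qfAt_generic_iff hXi hYi f hp.2.1.1 hd x hx y hy]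
  have hfx := map_generic_eq hYi.2.1 f hd hx hy
  constructor
  · rintro ⟨V, j, hj, ⟨v⟩, H⟩
    have sq := IsPullback.of_hasPullback j.hom f.hom
    let P : Space S := ⟨pullback j.hom f.hom,
      isAlgSpace_of_isPullback sq V.property X.property Y.property.diag⟩
    have hfin := H P (ObjectProperty.homMk (pullback.fst j.hom f.hom))
      (ObjectProperty.homMk (pullback.snd j.hom f.hom)) sq
    obtain ⟨v', hv'⟩ : y ∈ Set.range (Points.map j.hom) :=
      (hy.specializes (Set.mem_univ (Points.map j.hom v))).mem_open (isOpen_range_map hj) ⟨v, rfl⟩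
    obtain ⟨z, -, hz⟩ := exists_of_isPullback sq v' x (by rw [hv', hfx])
    have h1 := (hasAtMor_fibreDim_baseChange (· ≤ ((0 : ℕ) : WithBot ℕ∞)) sq.flip X.property Y.property
      V.property hp.2.1.1 z).1 (isFiniteMor_qf_at (P := P) (ObjectProperty.homMk (pullback.fst j.hom f.hom)) hfin z)
    rw [hz] at h1
    obtain ⟨U, W, a, b, h, u, ha, hb, w, hu, hh⟩ := h1
    have := hp.2.1.1 a b h ha hb w
    exact ⟨U, W, a, b, h, u, ha, hb, w, hu, (nearPt_lqf_iff h.left u).2 hh⟩
  · intro hq
    obtain ⟨V, j, h1, ⟨v, hv⟩, h3⟩ := exists_finite_nhd' f y hp fun x' hx' => by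
      rw [(qfAt_generic_iff hXi hYi f hp.2.1.1 hd x hx y hy).1 hq x' hx']
      exact hq
    exact ⟨V, j, h1, ⟨v⟩, h3⟩

end Groth.Agent.SpProper61
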