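import Groth.Agent.SpProper61.IrredDecent
import Groth.Agent.SpProper61.IntegralGeneric

/-!
Dominant morphisms of integral spaces which are generically finite, on affine opens.
-/

universe u

set_option autoImplicit false
set_option backward.isDefEq.respectTransparency false

open CategoryTheory CategoryTheory.Limits AlgebraicGeometry Topology
open AlgSp Groth.Agent.SpFP87 Groth.Agent.SpPts86

namespace Groth.Agent.SpProper61

variable {S : Scheme.{u}}

theorem repWith_etale_of_openImmersion {F G : Sp S} {j : F ⟶ G} (hj : RepWith @IsOpenImmersion j) :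
    RepWith @Etale j :=
  repWith_mono (fun _ _ g (_ : IsOpenImmersion g) => (inferInstance : Etale g)) hj

/-- A point in the range of an open subscheme lies in an affine open subscheme inside a given open. -/
theorem exists_affine_open_imm {X : Space S} {M : Over S} {j : (yon S).obj M ⟶ X.obj}
    (hj : RepWith @IsOpenImmersion j) {W : Set (Points X.obj)} (hW : IsOpen W) (m : ↥M.left)
    (hm : Points.ofPt j m ∈ W) :
    ∃ (V : Over S) (b : (yon S).obj V ⟶ X.obj) (v : ↥V.left), IsAffine V.left ∧ RepWith @IsOpenImmersion b ∧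
      Points.ofPt b v = Points.ofPt j m ∧ Set.range (Points.ofPt b) ⊆ W := by
  obtain ⟨O, hO, hmO, hle⟩ := exists_isAffineOpen_mem_and_subset (x := m)
    (U := ⟨_, hW.preimage (Points.continuous_ofPt j)⟩) hm
  let V : Over S := Over.mk (O.ι ≫ M.hom)
  let iV : V ⟶ M := Over.homMk O.ι rfl
  refine ⟨V, (yon S).map iV ≫ j, (⟨m, hmO⟩ : O.toScheme), hO,
    MorphismProperty.comp_mem _ _ _ ((repWith_yon_map_iff _ _).2 (inferInstanceAs (IsOpenImmersion O.ι))) hj,
    by rw [ofPt_comp]; rfl, ?_⟩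
  rintro _ ⟨z, rfl⟩
  rw [ofPt_comp]
  exact hle z.2

theorem exists_yon_of_representable {X X' : Space S} (j : X' ⟶ X) (hj : RepWith @IsOpenImmersion j.hom)
    (h : X'.obj.obj.IsRepresentable) :
    ∃ (V : Over S) (j' : (yon S).obj V ⟶ X.obj), RepWith @IsOpenImmersion j' ∧
      Set.range (Points.ofPt j') = Set.range (Points.map j.hom) := by
  obtain ⟨V, ⟨r⟩⟩ := h.has_representation
  refine ⟨V, (AlgSp.isoOfRepresentableBy r).hom ≫ j.hom,
    (MorphismProperty.cancel_left_of_respectsIso (RepWith @IsOpenImmersion) _ _).2 hj, subset_antisymm ?_ ?_⟩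
  · rintro _ ⟨v, rfl⟩
    exact ⟨Points.map (AlgSp.isoOfRepresentableBy r).hom (Points.ofScheme V v), by
      rw [← Points.map_comp, Points.ofPt_eq_map_ofScheme]⟩
  · rintro _ ⟨z, rfl⟩
    refine ⟨Points.toScheme V (Points.map (AlgSp.isoOfRepresentableBy r).inv z), ?_⟩
    rw [Points.ofPt_eq_map_ofScheme, Points.ofScheme_toScheme, ← Points.map_comp, Iso.inv_hom_id_assoc]

theorem qfAt_of_isFinite {U V : Scheme.{u}} (g : U ⟶ V) [IsFinite g] (u : U) : QfAt U V g u :=
  ⟨⊤, trivial, inferInstance, inferInstance⟩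

theorem affine_finite_iff_unique {X Y : Space S} (hXi : IsIntegralSp X.obj) (hYi : IsIntegralSp Y.obj) (f : X ⟶ Y)
    (hft : LocP @LocallyOfFiniteType f.hom) (hd : IsDominantMor f.hom)
    (x : Points X.obj) (hx : IsGenericPoint x (Set.univ : Set (Points X.obj)))
    (y : Points Y.obj) (hy : IsGenericPoint y (Set.univ : Set (Points Y.obj))) :
    (∃ (U V : Over S) (a : (yon S).obj U ⟶ X.obj) (b : (yon S).obj V ⟶ Y.obj) (g : U ⟶ V),
      IsAffine U.left ∧ IsAffine V.left ∧ Nonempty ↥U.left ∧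
        RepWith @IsOpenImmersion a ∧ RepWith @IsOpenImmersion b ∧
          a ≫ f.hom = (yon S).map g ≫ b ∧ IsFinite g.left) ↔
      ∀ x' : Points X.obj, Points.map f.hom x' = y → x' = x := by
  have hfx := map_generic_eq hYi.2.1 f hd hx hy
  have : Nonempty (Points X.obj) := ⟨x⟩
  have : Nonempty (Points Y.obj) := ⟨y⟩
  constructor
  · rintro ⟨U, V, a, b, g, -, -, ⟨u₀⟩, ha, hb, w, hg⟩
    obtain ⟨u, hu⟩ : x ∈ Set.range (Points.ofPt a) :=
      (hx.specializes (Set.mem_univ (Points.ofPt a u₀))).mem_open (isOpenEmbedding_ofPt ha).isOpen_range ⟨u₀, rfl⟩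
    have := hg
    exact (qfAt_generic_iff hXi hYi f hft hd x hx y hy).1
      ⟨U, V, a, b, g, u, repWith_etale_of_openImmersion ha, repWith_etale_of_openImmersion hb, w, hu,
        qfAt_of_isFinite g.left u⟩
  · intro H
    obtain ⟨Y', jY, hjY, hYrep, hYd⟩ := exists_dense_open_subscheme_of_isDecent Y hYi.2.1
    obtain ⟨X', jX, hjX, hXrep, hXd⟩ := exists_dense_open_subscheme_of_isDecent X hXi.2.1
    obtain ⟨M, jM, hjM, hrM⟩ := exists_yon_of_representable jY hjY hYrep
    obtain ⟨N, jN, hjN, hrN⟩ := exists_yon_of_representable jX hjX hXrep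
    obtain ⟨m, hm⟩ : y ∈ Set.range (Points.ofPt jM) := by
      rw [hrM]
      obtain ⟨z, hz⟩ := hYd.nonempty
      exact (hy.specializes (Set.mem_univ z)).mem_open (isOpen_range_map hjY) hz
    obtain ⟨V, b, v, hV, hb, hv, -⟩ := exists_affine_open_imm hjM isOpen_univ m trivial
    have := hV
    rw [hm] at hv
    obtain ⟨n, hn⟩ : x ∈ Set.range (Points.ofPt jN) := by
      rw [hrN]
      obtain ⟨z, hz⟩ := hXd.nonempty
      exact (hx.specializes (Set.mem_univ z)).mem_open (isOpen_range_map hjX) hz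
    obtain ⟨U, a, u, hU, ha, hu, hUW⟩ := exists_affine_open_imm hjN
      ((isOpenEmbedding_ofPt hb).isOpen_range.preimage (Points.continuous_map f.hom)) n
      (by show Points.map f.hom _ ∈ Set.range (Points.ofPt b); rw [hn, hfx]; exact ⟨v, hv⟩)
    have := hU
    rw [hn] at hu
    obtain ⟨g₀, hg₀⟩ := exists_factor_of_range_subset hb (a ≫ f.hom) (by
      rintro _ ⟨z, rfl⟩
      obtain ⟨t, rfl⟩ : ∃ t, Points.ofScheme U t = z := ⟨_, Points.ofScheme_toScheme U _⟩
      obtain ⟨v', hv'⟩ := hUW ⟨t, rfl⟩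
      refine ⟨Points.ofScheme V v', ?_⟩
      rw [← Points.ofPt_eq_map_ofScheme, hv', Points.map_comp, ← Points.ofPt_eq_map_ofScheme])
    obtain ⟨g, rfl⟩ := (yon S).map_surjective g₀
    have : LocallyOfFiniteType g.left :=
      hft a b g (repWith_etale_of_openImmersion ha) (repWith_etale_of_openImmersion hb) hg₀.symm
    have : QuasiCompact g.left := (quasiCompact_iff_compactSpace g.left).2 inferInstance
    have hvmax := maximal_of_ofPt_eq_generic hYi.2.1 hy (repWith_etale_of_openImmersion hb) hv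
    have hinj : ∀ t : ↥U.left, g.left t = v → t = u := by
      intro t ht
      have e : Points.ofPt a t = x := H _ (by rw [Points.map_ofPt, ← hg₀, ofPt_comp, ht, hv])
      exact (isOpenEmbedding_ofPt ha).injective (e.trans hu.symm)
    obtain ⟨D, hD, hvD, hfD⟩ := (S2080.result g.left v (Norm57.isMax'_iff.1 hvmax)).1
      ((Set.finite_singleton u).subset fun t ht => hinj t ht)
    let U₁ : Over S := Over.mk ((g.left ⁻¹ᵁ D).ι ≫ U.hom)
    let V₁ : Over S := Over.mk (D.ι ≫ V.hom)
    let iU : U₁ ⟶ U := Over.homMk (g.left ⁻¹ᵁ D).ι rfl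
    let iV : V₁ ⟶ V := Over.homMk D.ι rfl
    let g₁ : U₁ ⟶ V₁ := Over.homMk (g.left ∣_ D) (by
      show (g.left ∣_ D) ≫ D.ι ≫ V.hom = (g.left ⁻¹ᵁ D).ι ≫ U.hom
      rw [morphismRestrict_ι_assoc, Over.w g])
    have hgu : g.left u = v := (isOpenEmbedding_ofPt hb).injective (by
      rw [hv, ← ofPt_comp, hg₀, ← Points.map_ofPt, hu, hfx])
    have hV₁ : IsAffine V₁.left := hD
    have : IsAffine D.toScheme := hD
    have : IsFinite (g.left ∣_ D) := hfD
    refine ⟨U₁, V₁, (yon S).map iU ≫ a, (yon S).map iV ≫ b, g₁, isAffine_of_isAffineHom (g.left ∣_ D), hV₁,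
      ⟨(⟨u, by show g.left u ∈ D; rw [hgu]; exact hvD⟩ : (g.left ⁻¹ᵁ D).toScheme)⟩,
      MorphismProperty.comp_mem _ _ _ ((repWith_yon_map_iff _ _).2 (inferInstanceAs (IsOpenImmersion (g.left ⁻¹ᵁ D).ι))) ha,
      MorphismProperty.comp_mem _ _ _ ((repWith_yon_map_iff _ _).2 (inferInstanceAs (IsOpenImmersion D.ι))) hb,
      ?_, hfD⟩
    rw [Category.assoc, ← hg₀, ← Category.assoc, ← Category.assoc, ← Functor.map_comp, ← Functor.map_comp]
    congr 2
    exact Over.OverMorphism.ext (morphismRestrict_ι _ _).symm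

theorem finite_affine_preimage_iff_unique {X Y : Space S} (hXi : IsIntegralSp X.obj) (hYi : IsIntegralSp Y.obj)
    (f : X ⟶ Y) (hft : LocP @LocallyOfFiniteType f.hom) (hd : IsDominantMor f.hom)
    (x : Points X.obj) (hx : IsGenericPoint x (Set.univ : Set (Points X.obj)))
    (y : Points Y.obj) (hy : IsGenericPoint y (Set.univ : Set (Points Y.obj)))
    (hsq : IsSeparatedMor f.hom ∨ IsQuasiCompactMor f.hom) :
    (∀ x' : Points X.obj, Points.map f.hom x' = y → x' = x) ↔
      ∃ (V : Over S) (b : (yon S).obj V ⟶ Y.obj) (U : Over S) (g : U ⟶ V) (a : (yon S).obj U ⟶ X.obj),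
        IsAffine V.left ∧ Nonempty ↥V.left ∧ RepWith @IsOpenImmersion b ∧
          IsPullback a ((yon S).map g) f.hom b ∧ IsAffine U.left ∧ IsFinite g.left := by
  have hfx := map_generic_eq hYi.2.1 f hd hx hy
  have : Nonempty (Points X.obj) := ⟨x⟩
  have : Nonempty (Points Y.obj) := ⟨y⟩
  constructor
  · intro H
    have hX0 : ∀ x', HasAt (fun U u => ringKrullDim ↥(U.presheaf.stalk u) = 0) X.obj x' ↔ x' = x := by
      intro x'
      constructor
      · rintro ⟨U, a, u, ha, rfl, hu⟩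
        exact ofPt_eq_generic_of_maximal hXi.2.1 hx ha ((SpFP87.dim_stalk_eq_zero_iff u).1 hu)
      · rintro rfl
        obtain ⟨U, a, ha, has⟩ := X.property.atlas
        obtain ⟨u, hu⟩ := surjective_ofPt has x'
        exact ⟨U, a, u, ha, hu, (SpFP87.dim_stalk_eq_zero_iff u).2 (maximal_of_ofPt_eq_generic hXi.2.1 hx ha hu)⟩
    have hY0 : ∀ y', HasAt (fun U u => ringKrullDim ↥(U.presheaf.stalk u) = 0) Y.obj y' ↔ y' = y := by
      intro y'
      constructor
      · rintro ⟨U, a, u, ha, rfl, hu⟩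
        exact ofPt_eq_generic_of_maximal hYi.2.1 hy ha ((SpFP87.dim_stalk_eq_zero_iff u).1 hu)
      · rintro rfl
        obtain ⟨U, a, ha, has⟩ := Y.property.atlas
        obtain ⟨u, hu⟩ := surjective_ofPt has y'
        exact ⟨U, a, u, ha, hu, (SpFP87.dim_stalk_eq_zero_iff u).2 (maximal_of_ofPt_eq_generic hYi.2.1 hy ha hu)⟩
    obtain ⟨Y₁, X₁, j, fst, snd, hj, hdj, hsqj, hfin⟩ := exists_dense_open_finite f hft hYi.2.1
      ((Set.finite_singleton x).subset fun x' hx' => (hX0 x').1 hx')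
      ((Set.finite_singleton y).subset fun y' hy' => (hY0 y').1 hy')
      (fun x' => by
        rw [hX0, hY0]
        exact ⟨fun e => e ▸ hfx, H x'⟩)
      hsq.symm
    obtain ⟨Y', jY, hjY, hYrep, hYd⟩ := exists_dense_open_subscheme_of_isDecent Y hYi.2.1
    obtain ⟨M, jM, hjM, hrM⟩ := exists_yon_of_representable jY hjY hYrep
    obtain ⟨m, hm⟩ : y ∈ Set.range (Points.ofPt jM) := by
      rw [hrM]
      obtain ⟨z, hz⟩ := hYd.nonempty
      exact (hy.specializes (Set.mem_univ z)).mem_open (isOpen_range_map hjY) hz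
    have hyj : y ∈ Set.range (Points.map j.hom) := by
      obtain ⟨z, hz⟩ := hdj.nonempty
      exact (hy.specializes (Set.mem_univ z)).mem_open (isOpen_range_map hj) hz
    obtain ⟨V, b, v, hV, hb, hv, hVW⟩ := exists_affine_open_imm hjM (isOpen_range_map hj) m (hm ▸ hyj)
    obtain ⟨b', hb'⟩ := exists_factor_of_range_subset hj b (by
      rintro _ ⟨z, rfl⟩
      obtain ⟨t, rfl⟩ : ∃ t, Points.ofScheme V t = z := ⟨_, Points.ofScheme_toScheme V _⟩
      rw [← Points.ofPt_eq_map_ofScheme]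
      exact hVW ⟨t, rfl⟩)
    obtain ⟨U, g, a', sq, hU, hg⟩ := hfin hV b'
    refine ⟨V, b, U, g, a' ≫ snd.hom, hV, ⟨v⟩, hb, ?_, hU, hg⟩
    rw [← hb']
    exact (sq.flip.paste_vert hsqj).flip
  · rintro ⟨V, b, U, g, a, hV, ⟨v₀⟩, hb, sq, hU, hg⟩
    have ha : RepWith @IsOpenImmersion a := (repWith_isStableUnderBaseChange _).of_isPullback sq.flip hb
    obtain ⟨v, hv⟩ : y ∈ Set.range (Points.ofPt b) :=
      (hy.specializes (Set.mem_univ (Points.ofPt b v₀))).mem_open (isOpenEmbedding_ofPt hb).isOpen_range ⟨v₀, rfl⟩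
    obtain ⟨z, hz, -⟩ := exists_of_isPullback sq x (Points.ofScheme V v)
      (by rw [hfx, ← Points.ofPt_eq_map_ofScheme, hv])
    have := hg
    exact (qfAt_generic_iff hXi hYi f hft hd x hx y hy).1
      ⟨U, V, a, b, g, Points.toScheme U z, repWith_etale_of_openImmersion ha, repWith_etale_of_openImmersion hb,
        sq.w, by rw [Points.ofPt_eq_map_ofScheme, Points.ofScheme_toScheme, hz], qfAt_of_isFinite g.left _⟩

end Groth.Agent.SpProper61
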