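import Groth.Agent.SpProper61.QfFinite
import Groth.Agent.SpPts86.ProperCrit
import Groth.Agent.SpPts86.QFFinite
import Groth.Agent.SpPts86.Compact
import Groth.Agent.SpFP87.DecentPts
import Groth.Agent.LimTop61.QfSplit
import Groth.Agent.EGA73.ProperCrit

/-!
Etale localisation splitting off the quasi-finite part of a separated morphism of algebraic spaces.
-/

universe u

set_option autoImplicit false
set_option backward.isDefEq.respectTransparency false

open CategoryTheory CategoryTheory.Limits AlgebraicGeometry Topology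
open AlgSp Groth.Agent.SpFP87 Groth.Agent.SpPts86

namespace Groth.Agent.SpProper61

theorem exists_scheme_split {Z V : Scheme.{u}} (f : Z ⟶ V) [LocallyOfFiniteType f] [IsSeparated f]
    [LocallyQuasiFinite f] (v : V) (T : Set Z) (hT : T.Finite) (hTv : ∀ z ∈ T, f z = v) :
    ∃ (U : Scheme.{u}) (g : U ⟶ V) (u : U), Etale g ∧ g u = v ∧
      ∀ (Z' : Scheme.{u}) (a : Z' ⟶ Z) (c : Z' ⟶ U), IsPullback a c f g →
        ∃ W : Z'.Opens, IsFinite (W.ι ≫ c) ∧ ∀ w, c w = u → (w ∈ W ↔ a w ∈ T) := by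
  classical
  have := hT.to_subtype
  obtain ⟨n, ⟨e⟩⟩ := Finite.exists_equiv_fin T
  let x : Fin n → Z := fun k => (e.symm k).1
  obtain ⟨U, g, u, hg, hgu, J, hJ, O, w₀, hcl, -, h1, h2⟩ :=
    LimTop61.exists_qf_splitting_clopen f v x (Subtype.val_injective.comp e.symm.injective)
      (fun k => hTv _ (e.symm k).2) (fun k => f.quasiFiniteAt _)
  let W₀ : (pullback f g).Opens := ⨆ p : Σ k, J k, O p.1 p.2
  have hmem : ∀ w, w ∈ W₀ ↔ ∃ k j, w ∈ O k j := fun w => by
    simp only [W₀, TopologicalSpace.Opens.mem_iSup, Sigma.exists]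
  have hfin : IsFinite (W₀.ι ≫ pullback.snd f g) := by
    have : UniversallyClosed (W₀.ι ≫ pullback.snd f g) := by
      refine EGA73.universallyClosed_of_closed_cover _ (ι := ULift.{u} (Σ k, J k))
        (fun p => (O p.down.1 p.down.2).toScheme)
        (fun p => (pullback f g).homOfLE (le_iSup (fun p : Σ k, J k => O p.1 p.2) p.down)) (fun p => ?_)
        (fun y => ?_)
      · have := (h1 p.down.1 p.down.2).2.1
        rw [Scheme.homOfLE_ι_assoc]
        infer_instance
      · obtain ⟨k, j, hy⟩ := (hmem y.1).1 y.2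
        refine ⟨⟨⟨k, j⟩⟩, ⟨y.1, hy⟩, W₀.ι.isOpenEmbedding.injective ?_⟩
        rw [← Scheme.Hom.comp_apply, Scheme.homOfLE_ι]
        rfl
    have : IsProper (W₀.ι ≫ pullback.snd f g) := {}
    exact IsFinite.of_isProper_of_locallyQuasiFinite _
  refine ⟨U, g, u, hg, hgu, fun Z' a c sq => ⟨sq.isoPullback.hom ⁻¹ᵁ W₀, ?_, fun w hw => ?_⟩⟩
  · have e : (sq.isoPullback.hom ⁻¹ᵁ W₀).ι ≫ c = (sq.isoPullback.hom ∣_ W₀) ≫ W₀.ι ≫ pullback.snd f g := by
      rw [morphismRestrict_ι_assoc, sq.isoPullback_hom_snd]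
    rw [e]
    exact (MorphismProperty.cancel_left_of_respectsIso @IsFinite _ _).2 hfin
  · let w' := sq.isoPullback.hom w
    have hw'c : pullback.snd f g w' = u := by
      rw [← Scheme.Hom.comp_apply, sq.isoPullback_hom_snd]; exact hw
    have hw'a : pullback.fst f g w' = a w := by
      rw [← Scheme.Hom.comp_apply, sq.isoPullback_hom_fst]
    show w' ∈ W₀ ↔ _
    rw [hmem]
    refine ⟨fun ⟨k, j, hj⟩ => ?_, fun ht => ?_⟩
    · rw [← hw'a, (h1 k j).2.2.2.1 w' hj hw'c, (h1 k j).2.2.2.2.2]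
      exact (e.symm k).2
    · obtain ⟨j, hj⟩ := h2 w' (e ⟨_, ht⟩) hw'c (by
        rw [hw'a]; show a w = (e.symm (e ⟨_, ht⟩)).1; rw [Equiv.symm_apply_apply])
      exact ⟨_, j, hj⟩

variable {S : Scheme.{u}}

/-- Splitting off finitely many points of a scheme chart of the quasi-finite part. -/
theorem exists_split {X Y X0 : Space S} (f : X ⟶ Y) (hsep : IsSeparatedMor f.hom) (i : X0 ⟶ X)
    (hi : RepWith @IsOpenImmersion i.hom)
    {V Z : Over S} {b : (yon S).obj V ⟶ Y.obj} (hb : RepWith @Etale b)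
    {z₁ : (yon S).obj Z ⟶ X0.obj} {z₂ : Z ⟶ V} (sqZ : IsPullback z₁ ((yon S).map z₂) (i ≫ f).hom b)
    [IsSeparated z₂.left] [LocallyOfFiniteType z₂.left] [LocallyQuasiFinite z₂.left]
    (v : ↥V.left) (T : Set ↥Z.left) (hT : T.Finite) (hTv : ∀ z ∈ T, z₂.left z = v) :
    ∃ (U : Space S) (a : U ⟶ Y) (u : Points U.obj), IsEtaleMor a.hom ∧
      Points.map a.hom u = Points.ofPt b v ∧
      ∀ (P : Space S) (prX : P ⟶ X) (prU : P ⟶ U), IsPullback prX.hom prU.hom f.hom a.hom →
        ∃ (W : Space S) (jV : W ⟶ P), RepWith @IsOpenImmersion jV.hom ∧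
          RepWith @IsClosedImmersion jV.hom ∧ IsFiniteMor (jV ≫ prU).hom ∧
          (∀ w : Points W.obj, Points.map (jV ≫ prU).hom w = u →
            ∃ z ∈ T, Points.map (jV ≫ prX).hom w = Points.map i.hom (Points.ofPt z₁ z)) ∧
          (∀ w : Points P.obj, w ∉ Set.range (Points.map jV.hom) → Points.map prU.hom w = u →
            ∀ x₀, Points.map prX.hom w = Points.map i.hom x₀ →
              ∃ z, z ∉ T ∧ z₂.left z = v ∧ Points.ofPt z₁ z = x₀) ∧
          (∀ z ∈ T, ∃ w : Points W.obj, Points.map (jV ≫ prX).hom w = Points.map i.hom (Points.ofPt z₁ z) ∧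
            Points.map (jV ≫ prU).hom w = u) := by
  obtain ⟨U₀, g, u₀, hg, hgu, hsplit⟩ := exists_scheme_split z₂.left v T hT hTv
  let U' : Over S := Over.mk (g ≫ V.hom)
  let gO : U' ⟶ V := Over.homMk g rfl
  let a₀ : (yon S).obj U' ⟶ Y.obj := (yon S).map gO ≫ b
  have ha₀ : RepWith @Etale a₀ :=
    (repWith_isMultiplicative (S := S) @Etale).comp_mem _ _ ((repWith_yon_map_iff _ _).2 hg) hb
  refine ⟨⟨(yon S).obj U', IsAlgSpace.yon_obj U'⟩, ObjectProperty.homMk a₀, Points.ofScheme U' u₀,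
    isEtaleMor_of_repWith_etale ha₀, ?_, fun P prX prU sqP => ?_⟩
  · show Points.map a₀ (Points.ofPt (𝟙 _) u₀) = _
    rw [Points.map_ofPt, Category.id_comp, ofPt_comp]
    exact congrArg (Points.ofPt b) hgu
  let Z' : Over S := Over.mk (pullback.fst z₂.left g ≫ Z.hom)
  let aZ : Z' ⟶ Z := Over.homMk (pullback.fst z₂.left g) rfl
  let cZ : Z' ⟶ U' := Over.homMk (pullback.snd z₂.left g) (by
    show pullback.snd z₂.left g ≫ g ≫ V.hom = pullback.fst z₂.left g ≫ Z.hom
    rw [← Category.assoc, ← pullback.condition, Category.assoc, Over.w z₂])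
  have sqZ' : IsPullback aZ cZ z₂ gO :=
    IsPullback.of_map_of_faithful (Over.forget S) (IsPullback.of_hasPullback z₂.left g)
  let z' : (yon S).obj Z' ⟶ X0.obj := (yon S).map aZ ≫ z₁
  have big : IsPullback z' ((yon S).map cZ) (i.hom ≫ f.hom) a₀ := (sqZ'.map (yon S)).paste_horiz sqZ
  let j₀ : (yon S).obj Z' ⟶ P.obj :=
    sqP.lift (z' ≫ i.hom) ((yon S).map cZ) (by rw [Category.assoc]; exact big.w)
  have hj₁ : j₀ ≫ prX.hom = z' ≫ i.hom := sqP.lift_fst _ _ _
  have hj₂ : j₀ ≫ prU.hom = (yon S).map cZ := sqP.lift_snd _ _ _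
  have sqj : IsPullback j₀ z' prX.hom i.hom :=
    IsPullback.of_right (by rw [hj₂]; exact big.flip) hj₁ sqP.flip
  have hj₀ : RepWith @IsOpenImmersion j₀ := (repWith_isStableUnderBaseChange _).of_isPullback sqj.flip hi
  obtain ⟨W, hWfin, hW⟩ := hsplit _ aZ.left cZ.left (IsPullback.of_hasPullback z₂.left g)
  let Wo : Over S := Over.mk (W.ι ≫ Z'.hom)
  let wι : Wo ⟶ Z' := Over.homMk W.ι rfl
  let jV : (yon S).obj Wo ⟶ P.obj := (yon S).map wι ≫ j₀
  have hjV : RepWith @IsOpenImmersion jV :=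
    (repWith_isMultiplicative (S := S) @IsOpenImmersion).comp_mem _ _
      ((repWith_yon_map_iff _ _).2 (inferInstanceAs (IsOpenImmersion W.ι))) hj₀
  have hjU : jV ≫ prU.hom = (yon S).map (wι ≫ cZ) := by rw [Category.assoc, hj₂, Functor.map_comp]
  have hWi : IsFinite (wι ≫ cZ).left := hWfin
  have hfin : IsFiniteMor (jV ≫ prU.hom) := by
    rw [hjU, isFiniteMor_iff]
    exact (repWith_yon_map_iff _ _).2 hWi
  have hsU : IsSeparatedMor prU.hom :=
    (repWith_isStableUnderBaseChange _).of_isPullback (isPullback_diagonal_baseChange sqP) hsep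
  let WS : Space S := ⟨(yon S).obj Wo, IsAlgSpace.yon_obj Wo⟩
  let jS : WS ⟶ P := ObjectProperty.homMk jV
  have huc := (univClosed_over_separated (f := jV) (q := prU.hom) (IsAlgSpace.yon_obj Wo) P.property
    (IsAlgSpace.yon_obj U') rfl hsU
    ((isFiniteMor_iff_affine_proper' _ (IsAlgSpace.yon_obj Wo) (IsAlgSpace.yon_obj U')).1 hfin).2.2.2).1
  have hci : RepWith @IsClosedImmersion jV := by
    refine ⟨hjV.rep, fun T' V' g' fst snd sq => ?_⟩
    have : IsOpenImmersion snd.left := hjV.property g' fst snd sq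
    show IsClosedImmersion snd.left
    have : UniversallyClosed snd.left := ((S9922.result jS hjV.rep).2 huc).property g' fst snd sq
    exact IsClosedImmersion.of_isPreimmersion _ snd.left.isClosedMap.isClosed_range
  have hjX : ∀ s : ↥Z'.left, Points.map prX.hom (Points.ofPt j₀ s) = Points.map i.hom (Points.ofPt z₁ (aZ.left s)) :=
    fun s => by rw [Points.map_ofPt, hj₁, ← Points.map_ofPt, ofPt_comp]
  have hjU' : ∀ s : ↥Z'.left, Points.map prU.hom (Points.ofPt j₀ s) = Points.ofScheme U' (cZ.left s) :=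
    fun s => by rw [Points.map_ofPt, hj₂, ofPt_yon_map]
  have hinj : Function.Injective (Points.map i.hom) := (isEmbedding_map_of_openImmersion hi).isEmbedding.injective
  have hof : ∀ s : ↥Wo.left, Points.map jV (Points.ofScheme Wo s) = Points.ofPt j₀ (W.ι s) := fun s => by
    show Points.map jV (Points.ofPt (𝟙 _) s) = _
    rw [Points.map_ofPt, Category.id_comp, ofPt_comp]
    rfl
  refine ⟨WS, jS, hjV, hci, hfin, fun w hw => ?_, fun w hw hwu x₀ hx₀ => ?_, fun z hz => ?_⟩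
  · obtain ⟨s, rfl⟩ := (Points.schemeHomeo Wo).surjective w
    change Points.map (jV ≫ prU.hom) (Points.ofScheme Wo s) = _ at hw
    rw [Points.map_comp, hof, hjU'] at hw
    refine ⟨aZ.left (W.ι s), (hW _ ((Points.schemeHomeo U').injective hw)).1 s.2, ?_⟩
    show Points.map (jV ≫ prX.hom) (Points.ofScheme Wo s) = _
    rw [Points.map_comp, hof, hjX]
  · obtain ⟨s, hs, hs'⟩ := exists_of_isPullback sqj w x₀ hx₀
    obtain ⟨s, rfl⟩ := (Points.schemeHomeo Z').surjective s
    change Points.map j₀ (Points.ofPt (𝟙 _) s) = _ at hs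
    rw [Points.map_ofPt, Category.id_comp] at hs
    change Points.map z' (Points.ofPt (𝟙 _) s) = _ at hs'
    rw [Points.map_ofPt, Category.id_comp, ofPt_comp] at hs'
    subst hs
    rw [hjU'] at hwu
    have hc : cZ.left s = u₀ := (Points.schemeHomeo U').injective hwu
    refine ⟨aZ.left s, fun hT' => hw ?_, ?_, hs'⟩
    · exact ⟨Points.ofScheme Wo ⟨s, (hW s hc).2 hT'⟩, hof _⟩
    · rw [← hgu, ← hc]
      show z₂.left (pullback.fst z₂.left g s) = g (pullback.snd z₂.left g s)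
      rw [← Scheme.Hom.comp_apply, pullback.condition, Scheme.Hom.comp_apply]
  · obtain ⟨s, hs₁, hs₂⟩ := Scheme.exists_preimage_of_isPullback (IsPullback.of_hasPullback z₂.left g) z u₀
      ((hTv z hz).trans hgu.symm)
    have hsW : s ∈ W := (hW s hs₂).2 (by
      show pullback.fst z₂.left g s ∈ T
      rw [hs₁]; exact hz)
    refine ⟨Points.ofScheme Wo ⟨s, hsW⟩, ?_, ?_⟩
    · show Points.map (jV ≫ prX.hom) _ = _
      rw [Points.map_comp, hof, hjX]
      exact congrArg (fun t => Points.map i.hom (Points.ofPt z₁ t)) hs₁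
    · show Points.map (jV ≫ prU.hom) _ = _
      rw [Points.map_comp, hof, hjU']
      exact congrArg (Points.ofScheme U') hs₂

theorem exists_chart_lqf {X Y : Space S} (f : X ⟶ Y) (hft : LocP @LocallyOfFiniteType f.hom)
    (hsep : IsSeparatedMor f.hom) :
    ∃ (X0 : Space S) (i : X0 ⟶ X), RepWith @IsOpenImmersion i.hom ∧
      (∀ x, x ∈ Set.range (Points.map i.hom) ↔ HasAtMor QfAt f.hom x) ∧
      ∀ {V : Over S} (b : (yon S).obj V ⟶ Y.obj), ∃ (Z : Over S) (z₁ : (yon S).obj Z ⟶ X0.obj) (z₂ : Z ⟶ V),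
        IsPullback z₁ ((yon S).map z₂) (i ≫ f).hom b ∧
          IsSeparated z₂.left ∧ LocallyOfFiniteType z₂.left ∧ LocallyQuasiFinite z₂.left := by
  obtain ⟨X0, i, hi, hqf, -, hO⟩ := S10313.result f hft
  have hs : IsSeparatedMor (i ≫ f).hom := by
    have : Mono i.hom := mono_of_repWith_le isOpenImmersion_le_monomorphisms hi
    exact isSeparatedMor_comp (isSeparatedMor_of_mono i.hom) hsep
  have hrep := S10260.result (i ≫ f) hqf hs
  refine ⟨X0, i, hi, fun x => ?_, fun {V} b => ?_⟩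
  · have h1 := hO Y X (𝟙 Y) (𝟙 X) f (IsPullback.of_horiz_isIso ⟨by simp⟩) x
    rw [show (𝟙 X : X ⟶ X).hom = 𝟙 X.obj from rfl, Points.map_id] at h1
    exact h1
  · obtain ⟨Z, z₂, z₁, sq⟩ := hrep b
    obtain ⟨h1, h2⟩ := (locP_yon_map_iff (P := @LocallyQuasiFinite ⊓ @LocallyOfFiniteType) z₂).1
      (locP_baseChange sq X0.property Y.property (IsAlgSpace.yon_obj V) hqf)
    exact ⟨Z, z₁, z₂, sq, ((S9905.result (i ≫ f) hrep).1.1 hs).property b z₁ z₂ sq, h2, h1⟩

theorem exists_split_one {X Y : Space S} (f : X ⟶ Y) (x : Points X.obj)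
    (hft : LocP @LocallyOfFiniteType f.hom) (hsep : IsSeparatedMor f.hom) (hx : HasAtMor QfAt f.hom x) :
    ∃ (U : Space S) (a : U ⟶ Y) (u : Points U.obj), IsEtaleMor a.hom ∧
      Points.map a.hom u = Points.map f.hom x ∧
      ∀ (P : Space S) (prX : P ⟶ X) (prU : P ⟶ U), IsPullback prX.hom prU.hom f.hom a.hom →
        ∃ (V : Space S) (jV : V ⟶ P), RepWith @IsOpenImmersion jV.hom ∧ RepWith @IsClosedImmersion jV.hom ∧
          IsFiniteMor (jV ≫ prU).hom ∧
          ∃ v : Points V.obj, Points.map (jV ≫ prX).hom v = x ∧ Points.map (jV ≫ prU).hom v = u := by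
  obtain ⟨X0, i, hi, hO, hZ⟩ := exists_chart_lqf f hft hsep
  obtain ⟨V, b, hb, hbs⟩ := Y.property.atlas
  obtain ⟨Z, z₁, z₂, sqZ, _, _, _⟩ := hZ b
  obtain ⟨x₀, hx₀⟩ := (hO x).2 hx
  obtain ⟨v, hv⟩ := surjective_ofPt hbs (Points.map f.hom x)
  obtain ⟨z, hz₁, hz₂⟩ := exists_pt_of_isPullback sqZ x₀ v (by
    show Points.map (i.hom ≫ f.hom) x₀ = _
    rw [Points.map_comp, hx₀, hv])
  obtain ⟨U, a, u, ha, hu, H⟩ := exists_split f hsep i hi hb sqZ v {z} (Set.finite_singleton z)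
    fun z' hz' => by rw [Set.mem_singleton_iff.1 hz', hz₂]
  refine ⟨U, a, u, ha, hu.trans hv, fun P prX prU sq => ?_⟩
  obtain ⟨W, jV, h1, h2, h3, -, -, h4⟩ := H P prX prU sq
  obtain ⟨w, hw1, hw2⟩ := h4 z rfl
  exact ⟨W, jV, h1, h2, h3, w, by rw [hw1, hz₁, hx₀], hw2⟩

/-- The points of the chart over `v` and a given point, when the image has a quasi-compact point. -/
theorem finite_over_qc_point {X0 Y : Space S} (g : X0 ⟶ Y) {V Z : Over S} [IsAffine V.left]
    {b : (yon S).obj V ⟶ Y.obj} (hb : RepWith @Etale b)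
    {z₁ : (yon S).obj Z ⟶ X0.obj} {z₂ : Z ⟶ V} (sqZ : IsPullback z₁ ((yon S).map z₂) g.hom b)
    (x₀ : Points X0.obj) {p : FieldPt Y.obj} (hp : Points.mk p = Points.map g.hom x₀)
    (hq : RepWith @QuasiCompact p.toHom) : {z : ↥Z.left | Points.ofPt z₁ z = x₀}.Finite := by
  induction x₀ using Points.ind with
  | h q =>
    rw [Points.map_mk] at hp
    obtain ⟨Ω, _, w, a, c, hac⟩ := Points.mk_eq_mk_iff.1 hp
    let t : (yon S).obj (Over.mk w) ⟶ X0.obj := (yon S).map c ≫ q.toHom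
    have ht : t ≫ g.hom = (yon S).map a ≫ p.toHom := by
      rw [Category.assoc, ← FieldPt.toHom_map]
      apply (J S).uliftYonedaEquiv.injective
      rw [GrothendieckTopology.uliftYonedaEquiv_comp, GrothendieckTopology.uliftYonedaEquiv_comp,
        GrothendieckTopology.uliftYonedaEquiv_uliftYoneda_map,
        GrothendieckTopology.uliftYonedaEquiv_uliftYoneda_map]
      erw [FieldPt.toHom_app, FieldPt.toHom_app]
      exact hac.symm
    have hqc : RepWith @QuasiCompact (t ≫ g.hom) := by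
      rw [ht]
      refine (repWith_isMultiplicative (S := S) @QuasiCompact).comp_mem _ _ ((repWith_yon_map_iff _ _).2 ?_) hq
      obtain ⟨φ, hφ⟩ := Spec.map_surjective (show Spec (CommRingCat.of Ω) ⟶ Spec (CommRingCat.of p.K) from a.left)
      show QuasiCompact (show Spec (CommRingCat.of Ω) ⟶ Spec (CommRingCat.of p.K) from a.left)
      rw [← hφ]
      infer_instance
    obtain ⟨R, r, s, sqR⟩ := exists_isPullback_yon X0.property.diag z₁ t
    have big := sqR.paste_horiz sqZ.flip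
    rw [← Functor.map_comp] at big
    have : QuasiCompact (r ≫ z₂).left := hqc.property b ((yon S).map s) (r ≫ z₂) big.flip
    have : CompactSpace ↥R.left := QuasiCompact.compactSpace_of_compactSpace (r ≫ z₂).left
    have hs : Etale s.left := hb.property (t ≫ g.hom) ((yon S).map (r ≫ z₂)) s big
    let s' : R.left ⟶ Spec (CommRingCat.of Ω) := s.left
    have : Etale s' := hs
    have : LocallyQuasiFinite s' := etale_locallyQuasiFinite s' hs
    have : QuasiCompact s' := by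
      have : QuasiCompact (s' ≫ terminal.from _) := by
        rw [terminal.comp_from]; exact (compactSpace_iff_quasiCompact _).1 inferInstance
      exact QuasiCompact.of_comp _ (terminal.from _)
    have hR : (Set.univ : Set ↥R.left).Finite := by
      have : Subsingleton ↥(Spec (CommRingCat.of Ω)) := inferInstanceAs (Subsingleton (PrimeSpectrum Ω))
      refine (s'.finite_preimage_singleton (IsLocalRing.closedPoint Ω)).subset fun y _ => ?_
      exact Subsingleton.elim _ _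
    refine (hR.image fun y => r.left y).subset fun z hz => ?_
    obtain ⟨y, hy, -⟩ := exists_pt_of_isPullback' sqR z
      (IsLocalRing.closedPoint Ω : ↥(Over.mk w).left) (by
        rw [hz, show t = (yon S).map c ≫ q.toHom from rfl, ofPt_comp, Points.ofPt_toHom])
    exact ⟨y, trivial, hy⟩

/-- The quasi-finite points of the chart over `v`, for a quasi-compact morphism. -/
theorem finite_over_of_qc {X Y X0 : Space S} (f : X ⟶ Y) (hft : LocP @LocallyOfFiniteType f.hom)
    (hqc : IsQuasiCompactMor f.hom) (i : X0 ⟶ X) (hi : RepWith @IsOpenImmersion i.hom)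
    (hO : ∀ x, x ∈ Set.range (Points.map i.hom) → HasAtMor QfAt f.hom x)
    {V Z : Over S} [IsAffine V.left] {b : (yon S).obj V ⟶ Y.obj} (hb : RepWith @Etale b)
    {z₁ : (yon S).obj Z ⟶ X0.obj} {z₂ : Z ⟶ V} (sqZ : IsPullback z₁ ((yon S).map z₂) (i ≫ f).hom b)
    (v : ↥V.left) : {z : ↥Z.left | z₂.left z = v}.Finite := by
  have sqP := IsPullback.of_hasPullback f.hom b
  let pX : pullback f.hom b ⟶ X.obj := pullback.fst f.hom b
  let pV : pullback f.hom b ⟶ (yon S).obj V := pullback.snd f.hom b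
  have hP : IsAlgSpace (pullback f.hom b) :=
    isAlgSpace_of_isPullback sqP X.property (IsAlgSpace.yon_obj _) Y.property.diag
  have := compactSpace_points_yon V
  have := compactSpace_of_isQuasiCompactMor hqc (IsAlgSpace.yon_obj V) sqP
  obtain ⟨U, α, hU, hα, hαs⟩ := exists_affine_chart_of_compactSpace hP
  have := hU
  obtain ⟨h, hh⟩ := (yon S).map_surjective (α ≫ pV)
  have haX : RepWith @Etale (α ≫ pX) := (repWith_isMultiplicative (S := S) @Etale).comp_mem _ _ hα
    ((repWith_isStableUnderBaseChange _).of_isPullback sqP.flip hb)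
  have w : (α ≫ pX) ≫ f.hom = (yon S).map h ≫ b := by rw [hh, Category.assoc, Category.assoc, sqP.w]
  have : LocallyOfFiniteType h.left := hft _ b h haX hb w
  let F := {u : ↥U.left | h.left u = v ∧ FlatMor.fibreDimAt h.left u ≤ ((0 : ℕ) : WithBot ℕ∞)}
  have hF : F.Finite := finite_quasiFiniteAt_fibre h.left v
  let jZ : (yon S).obj Z ⟶ pullback f.hom b :=
    sqP.lift (z₁ ≫ i.hom) ((yon S).map z₂) (by rw [Category.assoc]; exact sqZ.w)
  have hz1 : jZ ≫ pX = z₁ ≫ i.hom := sqP.lift_fst _ _ _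
  have hz2 : jZ ≫ pV = (yon S).map z₂ := sqP.lift_snd _ _ _
  have sqj : IsPullback jZ z₁ pX i.hom := IsPullback.of_right (by rw [hz2]; exact sqZ.flip) hz1 sqP.flip
  have hj : RepWith @IsOpenImmersion jZ := (repWith_isStableUnderBaseChange _).of_isPullback sqj.flip hi
  have hinj : Function.Injective (Points.ofPt jZ) := by
    rw [ofPt_eq_comp]
    exact (isEmbedding_map_of_openImmersion hj).isEmbedding.injective.comp (Points.schemeHomeo Z).injective
  refine ((hF.image (Points.ofPt α)).preimage hinj.injOn).subset fun z hz => ?_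
  obtain ⟨u, hu⟩ := surjective_ofPt hαs (Points.ofPt jZ z)
  refine ⟨u, ⟨?_, ?_⟩, hu⟩
  · apply (Points.schemeHomeo V).injective
    show Points.ofScheme V (h.left u) = Points.ofScheme V v
    rw [← hz, ← ofPt_yon_map, ← ofPt_yon_map, hh, ← hz2, ← Points.map_ofPt, ← Points.map_ofPt, hu]
  · have hx : Points.ofPt (α ≫ pX) u = Points.map i.hom (Points.ofPt z₁ z) := by
      rw [← Points.map_ofPt, hu, Points.map_ofPt, hz1, ← Points.map_ofPt]
    obtain ⟨U₁, V₁, a₁, b₁, h₁, u₁, ha₁, hb₁, w₁, hu₁, hd⟩ := hO _ ⟨_, rfl⟩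
    have := hft a₁ b₁ h₁ ha₁ hb₁ w₁
    exact forall_diagram_of_hasAtMor X.property Y.property
      (Q := fun _ _ h u => FlatMor.fibreDimAt h u ≤ ((0 : ℕ) : WithBot ℕ∞))
      (etInv_fibreDim (· ≤ ((0 : ℕ) : WithBot ℕ∞)))
      ⟨U₁, V₁, a₁, b₁, h₁, u₁, ha₁, hb₁, w₁, hu₁, (nearPt_lqf_iff h₁.left u₁).1 hd⟩ haX hb w hx

theorem exists_split_finset {X Y : Space S} (f : X ⟶ Y) (y : Points Y.obj)
    (xs : Finset (Points X.obj)) (hxs : ∀ x ∈ xs, Points.map f.hom x = y)
    (hft : LocP @LocallyOfFiniteType f.hom) (hsep : IsSeparatedMor f.hom)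
    (hq : ∀ x ∈ xs, HasAtMor QfAt f.hom x) (hd : IsQuasiCompactMor f.hom ∨ IsDecent Y.obj) :
    ∃ (U : Space S) (a : U ⟶ Y) (u : Points U.obj), IsEtaleMor a.hom ∧ Points.map a.hom u = y ∧
      ∀ (P : Space S) (prX : P ⟶ X) (prU : P ⟶ U), IsPullback prX.hom prU.hom f.hom a.hom →
        ∃ (V : Space S) (jV : V ⟶ P), RepWith @IsOpenImmersion jV.hom ∧ RepWith @IsClosedImmersion jV.hom ∧
          IsFiniteMor (jV ≫ prU).hom ∧
          (∀ v : Points V.obj, Points.map (jV ≫ prU).hom v = u → Points.map (jV ≫ prX).hom v ∈ xs) ∧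
          ∀ w : Points P.obj, w ∉ Set.range (Points.map jV.hom) → Points.map prU.hom w = u →
            Points.map prX.hom w ∉ xs := by
  obtain ⟨X0, i, hi, hO, hZ⟩ := exists_chart_lqf f hft hsep
  obtain ⟨V₀, b₀, hb₀, hbs₀⟩ := Y.property.atlas
  obtain ⟨v₀, hv₀⟩ := surjective_ofPt hbs₀ y
  obtain ⟨A, hA, hvA, hb⟩ := exists_affine_subchart hb₀ v₀
  let b := (yon S).map (Over.homMk A.ι rfl : Over.mk (A.ι ≫ V₀.hom) ⟶ V₀) ≫ b₀
  let v : ↥(Over.mk (A.ι ≫ V₀.hom) : Over S).left := (⟨v₀, hvA⟩ : A.toScheme)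
  have hv : Points.ofPt b v = y := by rw [ofPt_comp]; exact hv₀
  have := hA
  obtain ⟨Z, z₁, z₂, sqZ, _, _, _⟩ := hZ b
  let T := {z : ↥Z.left | z₂.left z = v ∧ Points.map i.hom (Points.ofPt z₁ z) ∈ xs}
  have hinj : Function.Injective (Points.map i.hom) := (isEmbedding_map_of_openImmersion hi).isEmbedding.injective
  have hT : T.Finite := by
    rcases hd with hd | hd
    · exact (finite_over_of_qc f hft hd i hi (fun x hx => (hO x).1 hx) hb sqZ v).subset fun z hz => hz.1
    · refine Set.Finite.subset (((xs.finite_toSet.preimage hinj.injOn)).biUnion (t := fun x₀ =>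
        {z : ↥Z.left | Points.ofPt z₁ z = x₀}) fun x₀ hx₀ => ?_)
        fun z hz => Set.mem_biUnion hz.2 rfl
      obtain ⟨p, hp, -, hpq⟩ := hd (Points.map (i ≫ f).hom x₀)
      exact finite_over_qc_point (i ≫ f) hb sqZ x₀ hp hpq
  obtain ⟨U, a, u, ha, hu, H⟩ := exists_split f hsep i hi hb sqZ v T hT fun z hz => hz.1
  refine ⟨U, a, u, ha, hu.trans hv, fun P prX prU sq => ?_⟩
  obtain ⟨W, jV, h1, h2, h3, h4, h5, -⟩ := H P prX prU sq
  refine ⟨W, jV, h1, h2, h3, fun w hw => ?_, fun w hw hwu hxs' => ?_⟩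
  · obtain ⟨z, hz, e⟩ := h4 w hw
    rw [e]; exact hz.2
  · obtain ⟨x₀, hx₀⟩ := (hO _).2 (hq _ hxs')
    obtain ⟨z, hzT, hz2, hz1⟩ := h5 w hw hwu x₀ hx₀.symm
    exact hzT ⟨hz2, by rw [hz1, hx₀]; exact hxs'⟩

end Groth.Agent.SpProper61
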