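import Groth.Agent.S10260
import Groth.Agent.S9905
import Groth.Agent.S9922
import Groth.Agent.S10313
import Groth.Agent.SpPts86.FiniteCrit
import Groth.Agent.SpPts86.Proper
import Groth.Agent.SpPts86.LocPNear
import Groth.Agent.SpFP87.LocPRep
import Groth.Agent.SpFP87.EtLocInst
import Mathlib.AlgebraicGeometry.ZariskisMainTheorem

/-!
Proper morphisms of algebraic spaces with quasi-finite fibres are finite.
-/

universe u

set_option autoImplicit false
set_option backward.isDefEq.respectTransparency false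

open CategoryTheory CategoryTheory.Limits AlgebraicGeometry Topology
open AlgSp Groth.Agent.SpFP87 Groth.Agent.SpPts86

namespace Groth.Agent.SpProper61

variable {S : Scheme.{u}} {X Y : Space S}

theorem isFiniteMor_of_proper_lqf (f : X ⟶ Y) (hp : IsProperMor f.hom)
    (hqf : LocP (@LocallyQuasiFinite ⊓ @LocallyOfFiniteType) f.hom) : IsFiniteMor f.hom := by
  have hrep := S10260.result f hqf hp.1
  refine (isFiniteMor_iff f.hom).2 ⟨hrep, fun T U g fst s sq => ?_⟩
  have : IsSeparated s.left := ((S9905.result f hrep).1.1 hp.1).property g fst s sq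
  have : UniversallyClosed s.left := ((S9922.result f hrep).2 hp.2.2).property g fst s sq
  have : QuasiCompact s.left :=
    (repWith_quasiCompact_of_isQuasiCompactMor hrep hp.2.1.2).property g fst s sq
  obtain ⟨_, _⟩ := (locP_yon_map_iff (P := @LocallyQuasiFinite ⊓ @LocallyOfFiniteType) s).1
    (locP_baseChange sq X.property Y.property (IsAlgSpace.yon_obj T) hqf)
  have : IsProper s.left := {}
  exact IsFinite.of_isProper_of_locallyQuasiFinite s.left

/-- A morphism of scheme property `quasi-finite near a point`. -/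
def QfAt : ∀ (U V : Scheme.{u}), (U ⟶ V) → ↥U → Prop :=
  fun U _ h u => ∃ W : U.Opens, u ∈ W ∧ LocallyQuasiFinite (W.ι ≫ h) ∧ LocallyOfFiniteType (W.ι ≫ h)

theorem exists_finite_nhd (f : X ⟶ Y) (y : Points Y.obj) (hf : IsProperMor f.hom)
    (hq : ∀ x : Points X.obj, Points.map f.hom x = y → HasAtMor QfAt f.hom x) :
    ∃ (V : Space S) (j : V ⟶ Y), RepWith @IsOpenImmersion j.hom ∧ y ∈ Set.range (Points.map j.hom) ∧
      ∀ (P : Space S) (fst : P ⟶ X) (snd : P ⟶ V), IsPullback fst.hom snd.hom f.hom j.hom →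
        IsFiniteMor snd.hom := by
  obtain ⟨X', i, hi, -, -, hO⟩ := S10313.result f hf.2.1.1
  let O : Set (Points X.obj) := Set.range (Points.map i.hom)
  have hOo : IsOpen O := isOpen_range_map hi
  have hcl : IsClosedMap (Points.map f.hom) :=
    hf.2.2 Y.property (𝟙 _) (𝟙 _) f.hom (IsPullback.of_horiz_isIso ⟨by simp⟩)
  let W : Set (Points Y.obj) := (Points.map f.hom '' Oᶜ)ᶜ
  have hW : IsOpen W := (hcl _ hOo.isClosed_compl).isOpen_compl
  have hyW : y ∈ W := by
    rintro ⟨x, hx, hxy⟩
    refine hx ?_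
    have h1 := hO Y X (𝟙 Y) (𝟙 X) f (IsPullback.of_horiz_isIso ⟨by simp⟩) x
    rw [show (𝟙 X : X ⟶ X).hom = 𝟙 X.obj from rfl, Points.map_id] at h1
    exact h1.2 (hq x hxy)
  let V : Space S := ⟨restrictSheaf Y.obj W, isAlgSpace_restrictSheaf Y.property hW⟩
  let j : V ⟶ Y := ObjectProperty.homMk (restrictι Y.obj W)
  refine ⟨V, j, repWith_restrictι hW, (range_map_restrictι hW).ge hyW, fun P fst snd sq => ?_⟩
  refine isFiniteMor_of_proper_lqf snd (isProperMor_baseChange X.property Y.property V.property hf sq) ?_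
  have : IsZariskiLocalAtSource ((@LocallyQuasiFinite : MorphismProperty Scheme.{u}) ⊓ @LocallyOfFiniteType) :=
    inferInstance
  refine (locP_iff_forall_near P.property V.property snd.hom).2 fun x => ?_
  have hx : Points.map fst.hom x ∈ O := by
    by_contra hx
    have h1 : Points.map f.hom (Points.map fst.hom x) ∈ W := by
      rw [← Points.map_comp, sq.w, Points.map_comp]
      exact (range_map_restrictι hW).le ⟨_, rfl⟩
    exact h1 ⟨_, hx, rfl⟩
  obtain ⟨U, V', a, b, h, u, ha, hb, w, hu, W', hW', h1, h2⟩ := (hO V P j fst snd sq x).1 hx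
  exact ⟨U, V', a, b, h, u, ha, hb, w, hu, W', hW', h1, h2⟩

end Groth.Agent.SpProper61
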