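import Groth.Agent.SpProper61.ElemQuot
import Groth.Agent.SpFP87.FpqcMono
import Groth.Agent.SpFP87.RedInduced
import Groth.Agent.SpFP87.IntegralSub
import Groth.Prelude.Def_AlgSpSub

/-!
Glueing an open subspace along a separated étale map.
-/

set_option autoImplicit false
set_option linter.style.haveILetI false
set_option backward.isDefEq.respectTransparency false

universe u

open CategoryTheory CategoryTheory.Limits AlgebraicGeometry
open AlgSp Groth.Agent.SpFP87

noncomputable section

namespace Groth.Agent.SpProper61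

variable {S : Scheme.{u}}

/-- The pushout of an open immersion along a separated étale map. -/
theorem exists_elemDistSq {U V V' : Sp S} (hU : IsAlgSpace U) (hV : IsAlgSpace V) (hV' : IsAlgSpace V')
    {jV : V' ⟶ V} (hjV : RepWith @IsOpenImmersion jV) {f' : V' ⟶ U} (hsep : IsSeparatedMor f')
    (het : IsEtaleMor f') :
    ∃ (W : Sp S) (j : U ⟶ W) (f : V ⟶ W), IsAlgSpace W ∧ IsPullback jV f' f j ∧ IsElemDistSq j f := by
  haveI : Mono jV := SpPts86.mono_of_repWith_le SpPts86.isOpenImmersion_le_monomorphisms hjV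
  have hop : ∀ {X Y : Sp S} {g : X ⟶ Y}, RepWith @IsOpenImmersion g → IsEtaleMor g := fun hg =>
    SpPts86.isEtaleMor_of_repWith_etale
      (SpPts86.repWith_mono (fun _ _ g (_ : IsOpenImmersion g) => (inferInstance : Etale g)) hg)
  let F : ULift.{u} Bool → Sp S := fun i => cond i.down U V
  let F' : ULift.{u} Bool → Sp S := fun i => cond i.down U V'
  have hF : ∀ i, IsAlgSpace (F i) := fun i => by
    obtain ⟨_ | _⟩ := i
    · exact hV
    · exact hU
  have hF' : ∀ i, IsAlgSpace (F' i) := fun i => by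
    obtain ⟨_ | _⟩ := i
    · exact hV'
    · exact hU
  obtain ⟨c, ⟨hc⟩⟩ : ∃ c : Cofan F, Nonempty (IsColimit c) := ⟨Cofan.mk _ (Sigma.ι F), ⟨coproductIsCoproduct F⟩⟩
  obtain ⟨c', ⟨hc'⟩⟩ : ∃ c : Cofan F', Nonempty (IsColimit c) := ⟨Cofan.mk _ (Sigma.ι F'), ⟨coproductIsCoproduct F'⟩⟩
  let iU : U ⟶ c.pt := c.inj ⟨true⟩
  let iV : V ⟶ c.pt := c.inj ⟨false⟩
  let iU' : U ⟶ c'.pt := c'.inj ⟨true⟩
  let iV' : V' ⟶ c'.pt := c'.inj ⟨false⟩
  haveI : ∀ i, Mono (c.inj i) := SpPts86.mono_cofan_inj hc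
  haveI : ∀ i, Mono (c'.inj i) := SpPts86.mono_cofan_inj hc'
  haveI : Mono iU := inferInstanceAs (Mono (c.inj _))
  haveI : Mono iV := inferInstanceAs (Mono (c.inj _))
  have hM : IsAlgSpace c.pt := isAlgSpace_cofan hc hF
  have hM' : IsAlgSpace c'.pt := isAlgSpace_cofan hc' hF'
  let jf : ∀ i, F' i ⟶ c.pt := fun i =>
    match i with
    | ⟨true⟩ => iU
    | ⟨false⟩ => jV ≫ iV
  let φf : ∀ i, F' i ⟶ U := fun i =>
    match i with
    | ⟨true⟩ => 𝟙 U
    | ⟨false⟩ => f'
  let j : c'.pt ⟶ c.pt := Cofan.IsColimit.desc hc' jf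
  let φ : c'.pt ⟶ U := Cofan.IsColimit.desc hc' φf
  have hjf : ∀ i, c'.inj i ≫ j = jf i := Cofan.IsColimit.fac hc' jf
  have hφf : ∀ i, c'.inj i ≫ φ = φf i := Cofan.IsColimit.fac hc' φf
  have hiU : IsEtaleMor iU := hop (SpPts86.repWith_openImmersion_cofan_inj hc _)
  have hiV : IsEtaleMor iV := hop (SpPts86.repWith_openImmersion_cofan_inj hc _)
  have hje : IsEtaleMor j := isEtaleMor_cofan_desc hc' hF' hM fun i => by
    rw [hjf]
    obtain ⟨_ | _⟩ := i
    · exact SpPts86.isEtaleMor_comp (hop hjV) hiV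
    · exact hiU
  have hφe : IsEtaleMor φ := isEtaleMor_cofan_desc hc' hF' hU fun i => by
    rw [hφf]
    obtain ⟨_ | _⟩ := i
    · exact het
    · exact fun V ψ hψ => by rwa [show φf ⟨true⟩ = 𝟙 _ from rfl, Category.comp_id]
  haveI : Mono j := SpPts86.mono_of_forall_yon fun T a b e => hom_ext_of_near fun z => by
    obtain ⟨O₁, i₁, a₁, hO₁, ha₁⟩ := exists_piece_near hc' a z
    obtain ⟨O₂, i₂, a₂, hO₂, ha₂⟩ := exists_piece_near hc' b z
    obtain ⟨r₁, hr₁⟩ := ElemQuot.exists_restrict T (inf_le_left : O₁ ⊓ O₂ ≤ O₁)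
    obtain ⟨r₂, hr₂⟩ := ElemQuot.exists_restrict T (inf_le_right : O₁ ⊓ O₂ ≤ O₂)
    refine ⟨O₁ ⊓ O₂, ⟨hO₁, hO₂⟩, ?_⟩
    have hx : ((yon S).map r₁ ≫ a₁) ≫ c'.inj i₁ = (yon S).map (SpPts86.openIncl T (O₁ ⊓ O₂)) ≫ a := by
      rw [Category.assoc, ha₁, ← Functor.map_comp_assoc, hr₁]
    have hy : ((yon S).map r₂ ≫ a₂) ≫ c'.inj i₂ = (yon S).map (SpPts86.openIncl T (O₁ ⊓ O₂)) ≫ b := by
      rw [Category.assoc, ha₂, ← Functor.map_comp_assoc, hr₂]
    generalize (yon S).map r₁ ≫ a₁ = u₁ at hx
    generalize (yon S).map r₂ ≫ a₂ = u₂ at hy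
    have et : u₁ ≫ jf i₁ = u₂ ≫ jf i₂ := by
      rw [← hjf, ← hjf, ← Category.assoc, hx, ← Category.assoc, hy, Category.assoc, e, Category.assoc]
    rw [← hx, ← hy]
    obtain ⟨_ | _⟩ := i₁ <;> obtain ⟨_ | _⟩ := i₂
    · rw [show u₁ = u₂ from (cancel_mono (jV ≫ iV)).1 et]
    · haveI := SpPts86.isEmpty_of_inj_eq hc (i := (⟨false⟩ : ULift.{u} Bool)) (j := ⟨true⟩) (by simp)
        (u₁ ≫ jV) u₂ ((Category.assoc _ _ _).trans et)
      exact SpPts86.hom_ext_of_isEmpty
    · haveI := SpPts86.isEmpty_of_inj_eq hc (i := (⟨false⟩ : ULift.{u} Bool)) (j := ⟨true⟩) (by simp)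
        (u₂ ≫ jV) u₁ ((Category.assoc _ _ _).trans et.symm)
      exact SpPts86.hom_ext_of_isEmpty
    · rw [show u₁ = u₂ from (cancel_mono iU).1 et]
  have hjo : RepWith @IsOpenImmersion j :=
    repWith_isOpenImmersion_of_mono_of_etale j hM' hM (SpPts86.locP_etale_of_isEtaleMor hje)
  have hcl : IsClosed (Set.range (Points.map (pullback.diagonal φ))) := by
    have hsep' : ∀ i, IsSeparatedMor (c'.inj i ≫ φ) := fun i => by
      rw [hφf]
      obtain ⟨_ | _⟩ := i
      · exact hsep
      · exact SpPts86.isSeparatedMor_of_mono (𝟙 U)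
    let ι₂ : ∀ i l, pullback (c'.inj i ≫ φ) (c'.inj l ≫ φ) ⟶ pullback φ φ := fun i l =>
      pullback.lift (pullback.fst _ _ ≫ c'.inj i) (pullback.snd _ _ ≫ c'.inj l)
        (by simp only [Category.assoc]; exact pullback.condition)
    have hQ : IsAlgSpace (pullback φ φ) := isAlgSpace_pullback _ _ hM' hM' hU
    have hP : ∀ i l, IsAlgSpace (pullback (c'.inj i ≫ φ) (c'.inj l ≫ φ)) := fun i l =>
      isAlgSpace_pullback _ _ (hF' i) (hF' l) hU
    have hι : ∀ i l, IsEtaleMor (ι₂ i l) := fun i l => by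
      refine SpPts86.isEtaleMor_of_comp hQ (g := pullback.fst φ φ)
        (SpPts86.isEtaleMor_baseChange (IsPullback.of_hasPullback φ φ).flip hM' hU hM' hφe) ?_
      rw [pullback.lift_fst]
      refine SpPts86.isEtaleMor_comp ?_ (hop (SpPts86.repWith_openImmersion_cofan_inj hc' i))
      refine SpPts86.isEtaleMor_baseChange (IsPullback.of_hasPullback _ _).flip (hF' l) hU (hF' i) ?_
      exact SpPts86.isEtaleMor_comp (hop (SpPts86.repWith_openImmersion_cofan_inj hc' l)) hφe
    have hpre : ∀ i l, IsClosed (Points.map (ι₂ i l) ⁻¹' Set.range (Points.map (pullback.diagonal φ))) := by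
      intro i l
      by_cases hil : i = l
      · subst hil
        have he : pullback.diagonal (c'.inj i ≫ φ) ≫ ι₂ i i = c'.inj i ≫ pullback.diagonal φ :=
          pullback.hom_ext (by simp [ι₂]) (by simp [ι₂])
        haveI : Mono (ι₂ i i) := ⟨fun x y e => pullback.hom_ext
          (by rw [← cancel_mono (c'.inj i)]; simpa [ι₂] using congrArg (· ≫ pullback.fst φ φ) e)
          (by rw [← cancel_mono (c'.inj i)]; simpa [ι₂] using congrArg (· ≫ pullback.snd φ φ) e)⟩
        have : Points.map (ι₂ i i) ⁻¹' Set.range (Points.map (pullback.diagonal φ)) =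
            Set.range (Points.map (pullback.diagonal (c'.inj i ≫ φ))) := by
          ext q
          constructor
          · rintro ⟨m, hm⟩
            refine ⟨Points.map (pullback.fst _ _) q, SpPts86.injective_map_of_mono (ι₂ i i) ?_⟩
            have h1 := congrArg (Points.map (pullback.fst φ φ)) hm
            rw [← Points.map_comp, ← Points.map_comp, pullback.diagonal_fst, Points.map_id,
              pullback.lift_fst, Points.map_comp] at h1
            rw [← Points.map_comp, he, Points.map_comp, ← h1, hm]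
          · rintro ⟨y, rfl⟩
            refine ⟨Points.map (c'.inj i) y, ?_⟩
            rw [← Points.map_comp, ← Points.map_comp, he]
        rw [this]
        exact (isClosedEmbedding_map_of_closedImmersion (hP i i) (hsep' i)).isClosed_range
      · have : Points.map (ι₂ i l) ⁻¹' Set.range (Points.map (pullback.diagonal φ)) = ∅ := by
          refine Set.eq_empty_of_forall_notMem fun q ⟨m, hm⟩ => ?_
          have h1 := congrArg (Points.map (pullback.fst φ φ)) hm
          have h2 := congrArg (Points.map (pullback.snd φ φ)) hm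
          rw [← Points.map_comp, ← Points.map_comp, pullback.diagonal_fst, Points.map_id, pullback.lift_fst,
            Points.map_comp] at h1
          rw [← Points.map_comp, ← Points.map_comp, pullback.diagonal_snd, Points.map_id, pullback.lift_snd,
            Points.map_comp] at h2
          exact map_inj_ne hc' hil _ _ (h1.symm.trans h2)
        rw [this]
        exact isClosed_empty
    rw [← isOpen_compl_iff]
    have e : (Set.range (Points.map (pullback.diagonal φ)))ᶜ =
        ⋃ (i) (l), Points.map (ι₂ i l) '' (Points.map (ι₂ i l) ⁻¹' Set.range (Points.map (pullback.diagonal φ)))ᶜ := by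
      ext q
      constructor
      · intro hq
        obtain ⟨i, x, hx⟩ := SpPts86.exists_mem_range_cofan_inj hc' (Points.map (pullback.fst φ φ) q)
        obtain ⟨l, y, hy⟩ := SpPts86.exists_mem_range_cofan_inj hc' (Points.map (pullback.snd φ φ) q)
        obtain ⟨q₁, hq₁, -⟩ := SpPts86.exists_of_isPullback
          (IsPullback.of_hasPullback (pullback.fst φ φ) (c'.inj i)) q x hx.symm
        obtain ⟨q₂, hq₂, -⟩ := SpPts86.exists_of_isPullback
          (IsPullback.of_hasPullback (pullback.fst (pullback.fst φ φ) (c'.inj i) ≫ pullback.snd φ φ) (c'.inj l)) q₁ y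
          (by rw [Points.map_comp, hq₁, hy])
        let d : pullback (pullback.fst (pullback.fst φ φ) (c'.inj i) ≫ pullback.snd φ φ) (c'.inj l) ⟶
            pullback (c'.inj i ≫ φ) (c'.inj l ≫ φ) :=
          pullback.lift (pullback.fst _ _ ≫ pullback.snd _ _) (pullback.snd _ _) (by
            rw [Category.assoc, ← pullback.condition_assoc, pullback.condition (f := φ) (g := φ),
              ← Category.assoc (pullback.fst (pullback.fst φ φ) (c'.inj i)), pullback.condition_assoc])
        have hd : d ≫ ι₂ i l = pullback.fst _ _ ≫ pullback.fst _ _ := pullback.hom_ext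
          (by simp [d, ι₂, pullback.condition]) (by simp [d, ι₂, pullback.condition])
        have hdq : Points.map (ι₂ i l) (Points.map d q₂) = q := by
          rw [← Points.map_comp, hd, Points.map_comp, hq₂, hq₁]
        exact Set.mem_iUnion₂.2 ⟨i, l, Points.map d q₂, by
          show ¬ Points.map (ι₂ i l) _ ∈ Set.range _
          rw [hdq]; exact hq, hdq⟩
      · intro hq
        obtain ⟨i, l, p, hp, rfl⟩ := Set.mem_iUnion₂.1 hq
        exact hp
    rw [e]
    exact isOpen_iUnion fun i => isOpen_iUnion fun l =>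
      SpPts86.isOpenMap_of_isEtaleMor (hP i l) (hι i l) _ (hpre i l).isOpen_compl
  obtain ⟨W, π, hW, hπe, hπs, hkp⟩ := ElemQuot.exists_quot hM hM' hU hjo hφe hcl
  let jU : U ⟶ W := iU ≫ π
  let f : V ⟶ W := iV ≫ π
  have hjUe : IsEtaleMor jU := SpPts86.isEtaleMor_comp hiU hπe
  have hfe : IsEtaleMor f := SpPts86.isEtaleMor_comp hiV hπe
  haveI : Mono jU := SpPts86.mono_of_forall_yon fun T a b e => hom_ext_of_near fun z => by
    obtain ⟨O, hO, h⟩ := (hkp T (a ≫ iU) (b ≫ iU)).1 (by simpa only [jU, Category.assoc] using e) z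
    refine ⟨O, hO, ?_⟩
    rcases h with h | ⟨a', b', ha, hb, hab⟩
    · exact (cancel_mono iU).1 (by simpa only [Category.assoc] using h)
    · have hjU : iU' ≫ j = iU := hjf ⟨true⟩
      have hφU : iU' ≫ φ = 𝟙 U := hφf ⟨true⟩
      have ea : a' = ((yon S).map (SpPts86.openIncl T O) ≫ a) ≫ iU' := by
        rw [← cancel_mono j, ha, Category.assoc _ iU', hjU, Category.assoc]
      have eb : b' = ((yon S).map (SpPts86.openIncl T O) ≫ b) ≫ iU' := by
        rw [← cancel_mono j, hb, Category.assoc _ iU', hjU, Category.assoc]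
      simpa only [ea, eb, Category.assoc, hφU, Category.comp_id] using hab
  have hjUo : RepWith @IsOpenImmersion jU :=
    repWith_isOpenImmersion_of_mono_of_etale jU hU hW (SpPts86.locP_etale_of_isEtaleMor hjUe)
  have hw : jV ≫ f = f' ≫ jU := sp_hom_ext fun T x => by
    simp only [f, jU, ← Category.assoc]
    refine (hkp T _ _).2 fun z => ⟨⊤, trivial, Or.inr ⟨((yon S).map (SpPts86.openIncl T ⊤) ≫ x) ≫ iV',
      ((yon S).map (SpPts86.openIncl T ⊤) ≫ x ≫ f') ≫ iU', ?_, ?_, ?_⟩⟩
    · rw [Category.assoc _ iV', show iV' ≫ j = jV ≫ iV from hjf ⟨false⟩]; simp only [Category.assoc]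
    · rw [Category.assoc _ iU', show iU' ≫ j = iU from hjf ⟨true⟩]; simp only [Category.assoc]
    · rw [Category.assoc _ iV', show iV' ≫ φ = f' from hφf ⟨false⟩, Category.assoc _ iU',
        show iU' ≫ φ = 𝟙 U from hφf ⟨true⟩, Category.comp_id, Category.assoc]
  have hjπ : j ≫ π = φ ≫ jU := Cofan.IsColimit.hom_ext hc' _ _ fun i => by
    rw [← Category.assoc, hjf, ← Category.assoc, hφf]
    obtain ⟨_ | _⟩ := i
    · show (jV ≫ iV) ≫ π = f' ≫ jU
      rw [Category.assoc]; exact hw
    · show iU ≫ π = 𝟙 U ≫ jU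
      rw [Category.id_comp]
  have hfac : ∀ {Z : Sp S} (a : Z ⟶ V) (b : Z ⟶ U), a ≫ f = b ≫ jU → ∃ v, v ≫ jV = a ∧ v ≫ f' = b := by
    intro Z a b e
    obtain ⟨v, hv⟩ := SpPts86.exists_factor_of_forall_yon (j := jV) a fun T x => exists_factor_of_near _ fun z => by
      obtain ⟨O, hO, h⟩ := (hkp T ((x ≫ a) ≫ iV) ((x ≫ b) ≫ iU)).1
        (by simpa only [f, jU, Category.assoc] using congrArg (x ≫ ·) e) z
      rcases h with h | ⟨a', b', ha, -, -⟩
      · have := SpPts86.isEmpty_of_inj_eq hc (i := (⟨false⟩ : ULift.{u} Bool)) (j := ⟨true⟩) (by simp)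
          ((yon S).map (SpPts86.openIncl T O) ≫ x ≫ a) ((yon S).map (SpPts86.openIncl T O) ≫ x ≫ b)
          (by simpa only [Category.assoc] using h)
        exact (this.false ⟨z, hO⟩).elim
      · obtain ⟨O', i, e', hO', he'⟩ := exists_piece_near hc' a' (⟨z, hO⟩ : ↥(SpPts86.openOver T O).left)
        let OO : T.left.Opens := O.ι ''ᵁ O'
        have hOO : z ∈ OO := ⟨⟨z, hO⟩, hO', rfl⟩
        obtain ⟨r, hr⟩ := ElemQuot.exists_restrict T (show OO ≤ O from O.ι_image_le O')
        have hrO : Set.range r.left ⊆ Set.range (SpPts86.openIncl (SpPts86.openOver T O) O').left := by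
          rintro _ ⟨y, rfl⟩
          have h1 : O.ι (r.left y) = OO.ι y :=
            (Scheme.Hom.comp_apply r.left O.ι y).symm.trans
              (congrArg (fun g : SpPts86.openOver T OO ⟶ T => g.left y) hr)
          obtain ⟨w, hw', hwy⟩ : (OO.ι y : ↥T.left) ∈ O.ι ''ᵁ O' := y.2
          have : r.left y = w := O.ι.isOpenEmbedding.injective (h1.trans hwy.symm)
          exact ⟨⟨w, hw'⟩, this.symm⟩
        haveI : IsOpenImmersion (SpPts86.openIncl (SpPts86.openOver T O) O').left :=
          inferInstanceAs (IsOpenImmersion O'.ι)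
        obtain ⟨l, hl⟩ : ∃ l, l ≫ SpPts86.openIncl (SpPts86.openOver T O) O' = r :=
          ⟨Over.homMk (IsOpenImmersion.lift _ r.left hrO) (by
            rw [← Over.w (SpPts86.openIncl (SpPts86.openOver T O) O'), ← Category.assoc,
              IsOpenImmersion.lift_fac, Over.w r]),
            Over.OverMorphism.ext (IsOpenImmersion.lift_fac _ _ _)⟩
        have key : ((yon S).map l ≫ e') ≫ jf i = (yon S).map (SpPts86.openIncl T OO) ≫ (x ≫ a) ≫ iV := by
          rw [← hjf, ← Category.assoc, Category.assoc _ e', he', ← Functor.map_comp_assoc, hl, Category.assoc, ha,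
            ← Functor.map_comp_assoc, hr]
        obtain ⟨_ | _⟩ := i
        · refine ⟨OO, (yon S).map l ≫ e', hOO, (cancel_mono iV).1 ?_⟩
          exact (Category.assoc _ _ _).trans (key.trans (by simp only [Category.assoc]))
        · have := SpPts86.isEmpty_of_inj_eq hc (i := (⟨true⟩ : ULift.{u} Bool)) (j := ⟨false⟩) (by simp)
            ((yon S).map l ≫ e') (((yon S).map (SpPts86.openIncl T OO) ≫ x ≫ a))
            (key.trans (by simp only [Category.assoc]; rfl))
          exact (this.false ⟨z, hOO⟩).elim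
    exact ⟨v, hv, by rw [← cancel_mono jU, Category.assoc, ← hw, ← Category.assoc, hv, e]⟩
  have hpb : IsPullback jV f' f jU := IsPullback.mk' hw
    (fun Z x y e₁ _ => (cancel_mono jV).1 e₁) (fun Z a b e => hfac a b e)
  obtain ⟨T, i, hT, hTi⟩ := exists_isRedInduced hW (Set.range (Points.map jU))ᶜ
    (SpPts86.isOpen_range_map hjUo).isClosed_compl
  have hP : IsAlgSpace (pullback i f) := isAlgSpace_pullback _ _ hT hV hW
  have hp₁ : IsEtaleMor (pullback.fst i f) :=
    SpPts86.isEtaleMor_baseChange (IsPullback.of_hasPullback i f).flip hV hW hT hfe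
  have hmem : ∀ w : Points W, w ∈ Set.range (Points.map jU) ∨ w ∈ Set.range (Points.map f) := fun w => by
    obtain ⟨m, rfl⟩ := hπs w
    obtain ⟨⟨_ | _⟩, x, rfl⟩ := SpPts86.exists_mem_range_cofan_inj hc m
    · exact Or.inr ⟨x, Points.map_comp _ _ _⟩
    · exact Or.inl ⟨x, Points.map_comp _ _ _⟩
  have hp₁s : IsSurjectiveMor (pullback.fst i f) := fun t => by
    have hi : Points.map i t ∈ (Set.range (Points.map jU))ᶜ := hTi.2.1.le ⟨t, rfl⟩
    obtain h | ⟨v, hv⟩ := hmem (Points.map i t)
    · exact absurd h hi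
    · obtain ⟨p, hp, -⟩ := SpPts86.exists_of_isPullback (IsPullback.of_hasPullback i f) t v hv.symm
      exact ⟨p, hp⟩
  haveI : Mono (pullback.fst i f) := SpPts86.mono_of_forall_yon fun T' x y e => by
    refine pullback.hom_ext e (hom_ext_of_near fun z => ?_)
    have e' : (x ≫ pullback.snd i f) ≫ f = (y ≫ pullback.snd i f) ≫ f := by
      rw [Category.assoc, ← pullback.condition, ← Category.assoc, e, Category.assoc, pullback.condition,
        Category.assoc]
    obtain ⟨O, hO, h⟩ := (hkp T' ((x ≫ pullback.snd i f) ≫ iV) ((y ≫ pullback.snd i f) ≫ iV)).1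
      (by simpa only [f, Category.assoc] using e') z
    refine ⟨O, hO, ?_⟩
    rcases h with h | ⟨a', b', ha, -, -⟩
    · exact (cancel_mono iV).1 (by simpa only [Category.assoc] using h)
    · exfalso
      let z₀ : ↥(SpPts86.openOver T' O).left := ⟨z, hO⟩
      have h1 : Points.map i (Points.ofPt ((yon S).map (SpPts86.openIncl T' O) ≫ x ≫ pullback.fst i f) z₀) ∈
          Set.range (Points.map jU) := by
        refine ⟨Points.ofPt (a' ≫ φ) z₀, ?_⟩
        rw [Points.map_ofPt, Points.map_ofPt, Category.assoc a', ← hjπ, reassoc_of% ha]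
        simp only [Category.assoc]
        rw [pullback.condition]
      exact hTi.2.1.le ⟨_, rfl⟩ h1
  haveI : IsIso (pullback.fst i f) :=
    isIso_of_mono_of_locLift _ (locLift_of_etale_surjective hP hT hp₁ hp₁s)
  exact ⟨W, jU, f, hW, hpb, hjUo, hfe, T, _, i, pullback.fst i f, pullback.snd i f, hTi,
    IsPullback.of_hasPullback i f, inferInstance⟩

end Groth.Agent.SpProper61
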