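import Groth.Agent.Pinch2.Milnor
import Groth.Agent.Pinch2.Pairs
import Groth.Agent.SpFP87.Cover
import Groth.Agent.SpPts86.EtaleMor
import Groth.Agent.Unr55.Et.UHEquiv
import Groth.Prelude.Def_MoreMor

/-!
Pushouts of schemes along thickenings, tested against algebraic spaces.
-/

set_option autoImplicit false
set_option linter.style.haveILetI false
set_option backward.isDefEq.respectTransparency false

universe u

open CategoryTheory CategoryTheory.Limits AlgebraicGeometry
open AlgSp Groth.Agent.SpFP87

noncomputable section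

namespace Groth.Agent.SpProper61

variable {S : Scheme.{u}}

/-- Maps from a pushout of schemes to an algebraic space are determined by their restrictions. -/
theorem hom_ext_of_scheme_pushout {Z : Sp S} (hZ : IsAlgSpace Z) {W W' V V' : Over S} {t : W ⟶ W'} {a : W ⟶ V}
    {a' : W' ⟶ V'} {b : V ⟶ V'} (hpo : IsPushout t a a' b) {h₁ h₂ : (yon S).obj V' ⟶ Z}
    (e₁ : (yon S).map a' ≫ h₁ = (yon S).map a' ≫ h₂) (e₂ : (yon S).map b ≫ h₁ = (yon S).map b ≫ h₂) :
    h₁ = h₂ := by
  have hr : Representable (Limits.diag Z) := hZ.diag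
  let g := prod.lift h₁ h₂
  obtain ⟨E, ι, p, sq⟩ : ∃ (E : Over S) (ι : E ⟶ V') (p : (yon S).obj E ⟶ Z),
      IsPullback p ((yon S).map ι) (Limits.diag Z) g := ⟨_, hr.snd g, hr.fst g, hr.isPullback g⟩
  haveI : Mono ((yon S).map ι) :=
    MorphismProperty.of_isPullback (P := MorphismProperty.monomorphisms _) sq
      (inferInstanceAs (Mono (Limits.diag Z)))
  haveI : Mono ι := (yon S).mono_of_mono_map ‹_›
  have hl : ∀ {T : Over S} (c : T ⟶ V'), (yon S).map c ≫ h₁ = (yon S).map c ≫ h₂ →
      ∃ d : T ⟶ E, d ≫ ι = c := fun c h => by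
    obtain ⟨d, hd⟩ := (yon S).map_surjective (sq.lift ((yon S).map c ≫ h₁) ((yon S).map c)
      (prod.hom_ext (by simp [g]) (by simp [g, h])))
    exact ⟨d, (yon S).map_injective (by rw [Functor.map_comp, hd, sq.lift_snd])⟩
  obtain ⟨d', hd'⟩ := hl a' e₁
  obtain ⟨d, hd⟩ := hl b e₂
  obtain ⟨k, hk', hk⟩ := hpo.exists_desc d' d
    ((cancel_mono ι).1 (by rw [Category.assoc, Category.assoc, hd', hd, hpo.w]))
  have hkι : k ≫ ι = 𝟙 V' := hpo.hom_ext (by rw [reassoc_of% hk', hd', Category.comp_id])
    (by rw [reassoc_of% hk, hd, Category.comp_id])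
  have hw := congrArg ((yon S).map k ≫ ·) sq.w
  simp only [← Functor.map_comp_assoc, hkι, CategoryTheory.Functor.map_id, Category.id_comp] at hw
  have h1 := congrArg (· ≫ Limits.prod.fst) hw
  have h2 := congrArg (· ≫ Limits.prod.snd) hw
  simp only [g, Category.assoc, prod.lift_fst, prod.lift_snd, Category.comp_id] at h1 h2
  exact h1.symm.trans h2

/-- Base change of a pushout of schemes along a closed immersion by a flat morphism. -/
theorem isPushout_flat {X X' Y Y' : Over S} {t : X ⟶ X'} {a : X ⟶ Y} {a' : X' ⟶ Y'} {b : Y ⟶ Y'}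
    [IsClosedImmersion t.left] (H : Pinch2.HasPairs t.left a.left) (hpo : IsPushout t a a' b)
    {W W' V V' : Over S} {c : V' ⟶ Y'} [Flat c.left] {w' : W' ⟶ X'} {p' : W' ⟶ V'} {v : V ⟶ Y} {q : V ⟶ V'}
    {w : W ⟶ X} {i : W ⟶ W'} {j : W ⟶ V} (hX : IsPullback w' p' a' c) (hY : IsPullback v q b c)
    (hi : IsPullback w i t w') (hj : j ≫ v = w ≫ a) (hw : i ≫ p' = j ≫ q) : IsPushout i j p' q := by
  have hpo' : IsPushout t.left a.left a'.left b.left := hpo.map (Over.forget S)
  haveI : IsAffineHom a'.left := Pinch2.isAffineHom_inl H hpo'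
  haveI : IsClosedImmersion b.left := Pinch2.isClosedImmersion_inr H hpo'
  refine IsPushout.of_map (Over.forget S) hw ?_
  have hX' : IsPullback w'.left p'.left a'.left c.left := hX.map (Over.forget S)
  have hY' : IsPullback v.left q.left b.left c.left := hY.map (Over.forget S)
  have hi' : IsPullback w.left i.left t.left w'.left := hi.map (Over.forget S)
  show IsPushout i.left j.left p'.left q.left
  exact Pinch2.isPushout_baseChange_of_flat (r := 𝟙 Y'.left) (g := c.left) (pP := c.left) (rT := 𝟙 V'.left)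
    (IsPullback.of_vert_isIso ⟨by simp⟩)  hX' hY' hi' (congrArg CommaMorphism.left hj) (congrArg CommaMorphism.left hw) H hpo'
    (Or.inl inferInstance)

/-- A map on the restriction of an étale scheme along a universal homeomorphism extends. -/
theorem exists_extend_etale {A A' : Scheme.{u}} (t : A ⟶ A') [IsIntegralHom t] [UniversallyInjective t]
    [Surjective t] {E' F' : Scheme.{u}} (p : E' ⟶ A') (q : F' ⟶ A') [Etale p] [Etale q] {E : Scheme.{u}}
    {pE : E ⟶ E'} {eA : E ⟶ A} (sq : IsPullback pE eA p t) (ψ : E ⟶ F') (h : ψ ≫ q = eA ≫ t) :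
    ∃ φ : E' ⟶ F', φ ≫ q = p ∧ pE ≫ φ = ψ := by
  haveI := Groth.Agent.Unr55.EtGlue.bc_isEquivalence_of_isIntegralHom t
  let E₀ := Scheme.Etale.mk p
  let F₀ := Scheme.Etale.mk q
  let θ : pullback p t ⟶ pullback q t := pullback.lift (sq.isoPullback.inv ≫ ψ) (pullback.snd p t)
    (by rw [Category.assoc, h, IsPullback.isoPullback_inv_snd_assoc])
  let g : (EtCoh.bc t).obj E₀ ⟶ (EtCoh.bc t).obj F₀ :=
    MorphismProperty.Over.homMk θ (pullback.lift_snd _ _ _) trivial
  obtain ⟨f, hf⟩ := (EtCoh.bc t).map_surjective g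
  have hfl := congrArg (fun x => x.left ≫ pullback.fst q t) hf
  refine ⟨f.left, MorphismProperty.Over.w f, ?_⟩
  calc pE ≫ f.left = sq.isoPullback.hom ≫ pullback.fst p t ≫ f.left := by simp
    _ = sq.isoPullback.hom ≫ ((EtCoh.bc t).map f).left ≫ pullback.fst q t := by
        congr 1
        exact (pullback.lift_fst _ _ _).symm
    _ = ψ := by
        rw [hfl]
        simp [g, θ]

/-- Étale schemes lift uniquely along universal homeomorphisms: existence. -/
theorem exists_lift_etale {Y Y' V : Over S} (b : Y ⟶ Y') [IsIntegralHom b.left] [UniversallyInjective b.left]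
    [Surjective b.left] (v : V ⟶ Y) [Etale v.left] :
    ∃ (V' : Over S) (c : V' ⟶ Y') (q : V ⟶ V'), Etale c.left ∧ IsPullback v q b c := by
  haveI := Groth.Agent.Unr55.EtGlue.bc_isEquivalence_of_isIntegralHom b.left
  let F := (EtCoh.bc b.left).objPreimage (Scheme.Etale.mk v.left)
  let j := (EtCoh.bc b.left).objObjPreimageIso (Scheme.Etale.mk v.left)
  let j' : V.left ≅ pullback F.hom b.left :=
    ((MorphismProperty.Over.forget _ _ _ ⋙ Over.forget _).mapIso j).symm
  have hj : j'.hom ≫ pullback.snd F.hom b.left = v.left := MorphismProperty.Over.w j.inv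
  haveI : Etale F.hom := F.prop
  let V' : Over S := Over.mk (F.hom ≫ Y'.hom)
  let c : V' ⟶ Y' := Over.homMk F.hom rfl
  let q : V ⟶ V' := Over.homMk (j'.hom ≫ pullback.fst F.hom b.left) (by
    show (j'.hom ≫ pullback.fst F.hom b.left) ≫ F.hom ≫ Y'.hom = V.hom
    rw [Category.assoc, pullback.condition_assoc, reassoc_of% hj, Over.w b, Over.w v])
  have sq : IsPullback v.left q.left b.left c.left :=
    ((IsPullback.of_hasPullback F.hom b.left).of_iso j'.symm (Iso.refl _) (Iso.refl _) (Iso.refl _)
      (by simp [q]) (by simp [← hj]) (by simp [c]) (by simp)).flip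
  exact ⟨V', c, q, inferInstanceAs (Etale F.hom), IsPullback.of_map (Over.forget S) (Over.OverMorphism.ext sq.w) sq⟩

theorem exists_desc_of_thickening {X X' Y Y' : Over S} {t : X ⟶ X'} {a : X ⟶ Y} {a' : X' ⟶ Y'} {b : Y ⟶ Y'}
    [IsClosedImmersion t.left] [Surjective t.left] [IsAffineHom a.left] (hpo : IsPushout t a a' b)
    {Z : Sp S} (hZ : IsAlgSpace Z) (u : (yon S).obj X' ⟶ Z) (v : (yon S).obj Y ⟶ Z)
    (huv : (yon S).map t ≫ u = (yon S).map a ≫ v) :
    ∃ m : (yon S).obj Y' ⟶ Z, (yon S).map a' ≫ m = u ∧ (yon S).map b ≫ m = v := by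
  have H : Pinch2.HasPairs t.left a.left := Pinch2.hasPairs_thickening
  have hpo' : IsPushout t.left a.left a'.left b.left := hpo.map (Over.forget S)
  haveI : IsAffineHom a'.left := Pinch2.isAffineHom_inl H hpo'
  haveI : IsClosedImmersion b.left := Pinch2.isClosedImmersion_inr H hpo'
  haveI : Surjective b.left := ⟨fun p => by
    rcases Pinch2.jointly_surjective' H hpo' p with ⟨x, rfl⟩ | hy
    · obtain ⟨z, rfl⟩ := t.left.surjective x
      exact ⟨a.left z, (congrArg (fun f : X.left ⟶ Y'.left => f z) hpo'.w).symm⟩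
    · exact hy⟩
  obtain ⟨U, y, hy, hys⟩ := hZ.atlas
  obtain ⟨V, sV, qV, sqV⟩ : ∃ (V : Over S) (sV : V ⟶ Y) (qV : V ⟶ U),
      IsPullback ((yon S).map sV) ((yon S).map qV) v y := by
    have hr := hZ.representable_from_yon v
    obtain ⟨qV, hq⟩ := (yon S).map_surjective (hr.fst y)
    refine ⟨_, qV, hr.snd y, ?_⟩
    rw [hq]
    exact hr.isPullback y
  haveI : Etale sV.left := hy.property v _ _ sqV.flip
  haveI : Surjective sV.left := hys.property v _ _ sqV.flip
  obtain ⟨V', c, q, hc, sqc⟩ := exists_lift_etale b sV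
  haveI := hc
  haveI : Surjective c.left := ⟨fun p => by
    obtain ⟨z, rfl⟩ := b.left.surjective p
    obtain ⟨x, rfl⟩ := sV.left.surjective z
    exact ⟨q.left x, congrArg (fun f : V.left ⟶ Y'.left => f x) (congrArg CommaMorphism.left sqc.w.symm)⟩⟩
  have hfc : fppfSurj c.left := etale_surjective_le_fppfSurj _ ⟨‹_›, ‹_›⟩
  -- the étale chart of `X'`
  obtain ⟨U', sU, qU, sqU⟩ : ∃ (U' : Over S) (sU : U' ⟶ X') (qU : U' ⟶ U),
      IsPullback ((yon S).map sU) ((yon S).map qU) u y := by
    have hr := hZ.representable_from_yon u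
    obtain ⟨qU, hq⟩ := (yon S).map_surjective (hr.fst y)
    refine ⟨_, qU, hr.snd y, ?_⟩
    rw [hq]
    exact hr.isPullback y
  haveI : Etale sU.left := hy.property u _ _ sqU.flip
  -- the base changes of the square to `V'`
  let pW' : pullback a' c ⟶ X' := pullback.fst a' c
  have hX : IsPullback pW' (pullback.snd a' c) a' c := IsPullback.of_hasPullback a' c
  have hXl : IsPullback pW'.left (pullback.snd a' c).left a'.left c.left := hX.map (Over.forget S)
  haveI : Etale pW'.left := MorphismProperty.of_isPullback hXl.flip ‹Etale c.left›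
  haveI : Surjective pW'.left := MorphismProperty.of_isPullback hXl.flip ‹Surjective c.left›
  let W : Over S := pullback t pW'
  let w : W ⟶ X := pullback.fst t pW'
  let i : W ⟶ pullback a' c := pullback.snd t pW'
  have hwi : w ≫ t = i ≫ pW' := pullback.condition
  let j : W ⟶ V := sqc.lift (w ≫ a) (i ≫ pullback.snd a' c)
    (by rw [Category.assoc, ← hpo.w, Category.assoc, ← hX.w, reassoc_of% hwi])
  have hj : j ≫ sV = w ≫ a := sqc.lift_fst _ _ _
  have hjq : i ≫ pullback.snd a' c = j ≫ q := (sqc.lift_snd _ _ _).symm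
  -- the map from `W` to the chart of `X'`
  obtain ⟨ψ, hψs, hψq⟩ : ∃ ψ : W ⟶ U', ψ ≫ sU = w ≫ t ∧ ψ ≫ qU = j ≫ qV := by
    obtain ⟨ψ, hψ⟩ := (yon S).map_surjective (sqU.lift ((yon S).map (w ≫ t)) ((yon S).map (j ≫ qV)) (by
      rw [Functor.map_comp, Functor.map_comp, Category.assoc, huv, Category.assoc, ← sqV.w,
        ← Functor.map_comp_assoc, ← Functor.map_comp_assoc, hj]))
    exact ⟨ψ, (yon S).map_injective (by rw [Functor.map_comp, hψ, sqU.lift_fst]),
      (yon S).map_injective (by rw [Functor.map_comp, hψ, sqU.lift_snd])⟩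
  have hsq : IsPullback i.left w.left pW'.left t.left :=
    ((IsPullback.of_hasPullback t pW').map (Over.forget S)).flip
  haveI : UniversallyInjective t.left := inferInstance
  obtain ⟨φl, hφ1, hφ2⟩ := exists_extend_etale t.left pW'.left sU.left hsq ψ.left
    (congrArg CommaMorphism.left hψs)
  let φ : pullback a' c ⟶ U' := Over.homMk φl (by rw [← Over.w sU, reassoc_of% hφ1, Over.w pW'])
  have hφs : φ ≫ sU = pW' := Over.OverMorphism.ext hφ1
  have hiφ : i ≫ φ = ψ := Over.OverMorphism.ext hφ2
  have hpoV : IsPushout i j (pullback.snd a' c) q :=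
    isPushout_flat H hpo hX sqc (IsPullback.of_hasPullback t pW') hj hjq
  obtain ⟨g, hg1, hg2⟩ := hpoV.exists_desc (φ ≫ qU) qV (by rw [reassoc_of% hiφ, hψq])
  let h := (yon S).map g ≫ y
  have hh1 : (yon S).map (pullback.snd a' c) ≫ h = (yon S).map pW' ≫ u := by
    rw [← Functor.map_comp_assoc, hg1, ← hφs, Functor.map_comp_assoc, Functor.map_comp_assoc, sqU.w]
  have hh2 : (yon S).map q ≫ h = (yon S).map sV ≫ v := by
    rw [← Functor.map_comp_assoc, hg2, sqV.w]
  -- descent
  obtain ⟨m, hm, -⟩ := cover_existsUnique_desc c hfc h fun T p₁ p₂ hp => by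
    suffices (yon S).map (pullback.fst c c) ≫ h = (yon S).map (pullback.snd c c) ≫ h by
      have := congrArg ((yon S).map (pullback.lift p₁ p₂ hp) ≫ ·) this
      simpa only [← Functor.map_comp_assoc, pullback.lift_fst, pullback.lift_snd] using this
    let r : pullback c c ⟶ Y' := pullback.fst c c ≫ c
    haveI : Flat (pullback.fst c c).left :=
      MorphismProperty.of_isPullback
        (((IsPullback.of_hasPullback c c).map (Over.forget S)).flip : IsPullback _ _ c.left c.left)
        (inferInstance : Flat c.left)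
    haveI : Flat r.left := inferInstanceAs (Flat ((pullback.fst c c).left ≫ c.left))
    let A₁ := pullback a' r
    let A₀ := pullback t (pullback.fst a' r)
    let B₀ := pullback b r
    let k : A₀ ⟶ B₀ := pullback.lift (pullback.fst t _ ≫ a) (pullback.snd t _ ≫ pullback.snd a' r)
      (by rw [Category.assoc, ← hpo.w, Category.assoc, ← pullback.condition, pullback.condition_assoc])
    have hP := isPushout_flat H hpo (IsPullback.of_hasPullback a' r) (IsPullback.of_hasPullback b r)
      (IsPullback.of_hasPullback t (pullback.fst a' r)) (pullback.lift_fst _ _ _ : k ≫ pullback.fst b r = _)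
      (pullback.lift_snd _ _ _).symm
    refine hom_ext_of_scheme_pushout hZ hP ?_ ?_
    · have key : ∀ s : pullback c c ⟶ V', s ≫ c = r →
          (yon S).map (pullback.snd a' r) ≫ (yon S).map s ≫ h = (yon S).map (pullback.fst a' r) ≫ u := by
        intro s hs
        let l : A₁ ⟶ pullback a' c := pullback.lift (pullback.fst a' r) (pullback.snd a' r ≫ s)
          (by rw [Category.assoc, hs, pullback.condition])
        rw [← Functor.map_comp_assoc, show pullback.snd a' r ≫ s = l ≫ pullback.snd a' c from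
          (pullback.lift_snd _ _ _).symm, Functor.map_comp_assoc, hh1, ← Functor.map_comp_assoc,
          show l ≫ pW' = pullback.fst a' r from pullback.lift_fst _ _ _]
      rw [key _ rfl, key _ pullback.condition.symm]
    · have key : ∀ s : pullback c c ⟶ V', s ≫ c = r →
          (yon S).map (pullback.snd b r) ≫ (yon S).map s ≫ h = (yon S).map (pullback.fst b r) ≫ v := by
        intro s hs
        let l : B₀ ⟶ V := sqc.lift (pullback.fst b r) (pullback.snd b r ≫ s)
          (by rw [Category.assoc, hs, pullback.condition])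
        rw [← Functor.map_comp_assoc, show pullback.snd b r ≫ s = l ≫ q from
          (sqc.lift_snd _ _ _).symm, Functor.map_comp_assoc, hh2, ← Functor.map_comp_assoc,
          show l ≫ sV = pullback.fst b r from sqc.lift_fst _ _ _]
      rw [key _ rfl, key _ pullback.condition.symm]
  refine ⟨m, ?_, ?_⟩
  · refine cover_hom_ext pW' (etale_surjective_le_fppfSurj _ ⟨‹_›, ‹_›⟩) ?_
    rw [← Functor.map_comp_assoc, hX.w, Functor.map_comp_assoc, hm, hh1]
  · refine cover_hom_ext sV (etale_surjective_le_fppfSurj _ ⟨‹_›, ‹_›⟩) ?_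
    rw [← Functor.map_comp_assoc, sqc.w, Functor.map_comp_assoc, hm, hh2]

/-- A pushout of schemes along a thickening and an affine morphism is a pushout of algebraic spaces. -/
theorem isPushout_ofScheme {X X' Y Y' : Over S} {t : X ⟶ X'} {a : X ⟶ Y} {a' : X' ⟶ Y'} {b : Y ⟶ Y'}
    [IsClosedImmersion t.left] [Surjective t.left] [IsAffineHom a.left] (hpo : IsPushout t a a' b) :
    IsPushout ((ofScheme S).map t) ((ofScheme S).map a) ((ofScheme S).map a') ((ofScheme S).map b) := by
  refine IsPushout.of_isColimit' ⟨by rw [← Functor.map_comp, ← Functor.map_comp, hpo.w]⟩ ?_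
  refine PushoutCocone.IsColimit.mk _ (fun s => ⟨(exists_desc_of_thickening hpo s.pt.property s.inl.hom s.inr.hom
    (congrArg (fun f => f.hom) s.condition)).choose⟩) (fun s => ?_) (fun s => ?_) fun s m h₁ h₂ => ?_
  · exact ObjectProperty.hom_ext _ (exists_desc_of_thickening hpo s.pt.property s.inl.hom s.inr.hom
      (congrArg (fun f => f.hom) s.condition)).choose_spec.1
  · exact ObjectProperty.hom_ext _ (exists_desc_of_thickening hpo s.pt.property s.inl.hom s.inr.hom
      (congrArg (fun f => f.hom) s.condition)).choose_spec.2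
  · refine ObjectProperty.hom_ext _ (hom_ext_of_scheme_pushout s.pt.property hpo ?_ ?_)
    · exact (congrArg (fun f => f.hom) h₁).trans (exists_desc_of_thickening hpo s.pt.property s.inl.hom s.inr.hom
        (congrArg (fun f => f.hom) s.condition)).choose_spec.1.symm
    · exact (congrArg (fun f => f.hom) h₂).trans (exists_desc_of_thickening hpo s.pt.property s.inl.hom s.inr.hom
        (congrArg (fun f => f.hom) s.condition)).choose_spec.2.symm

end Groth.Agent.SpProper61
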