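import Groth.Agent.SpProper61.PushLift
import Groth.Agent.CAlg1.EtaleShrink
import Groth.Agent.Desc59.HensSplit
import Groth.Agent.Pinch2.MapRing
import Mathlib.AlgebraicGeometry.Morphisms.QuasiFinite
import Groth.Agent.Unr55.UnrQF

/-!
Sections of separated étale schemes over an integral scheme extend over an étale neighbourhood of the base.
-/

set_option autoImplicit false
set_option linter.style.haveILetI false
set_option backward.isDefEq.respectTransparency false

universe u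

open CategoryTheory CategoryTheory.Limits AlgebraicGeometry TensorProduct

noncomputable section

namespace Groth.Agent.SpProper61

/-- An étale neighbourhood of `(R, J)` over which a section extends, with unchanged quotient by `J`. -/
theorem exists_etale_nbhd_section' {R : Type u} [CommRing R] (J : Ideal R) (A : Type u) [CommRing A]
    [Algebra R A] [Algebra.IsIntegral R A] (A₁ : Type u) [CommRing A₁] [Algebra A A₁] [Algebra.Etale A A₁]
    (σ : A₁ →ₐ[A] A ⊗[R] (R ⧸ J)) :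
    ∃ (S : Type u) (_ : CommRing S) (_ : Algebra R S) (_ : Algebra.Etale R S) (π : S →ₐ[R] R ⧸ J)
      (τ : A₁ →ₐ[A] A ⊗[R] S), (Algebra.TensorProduct.map (AlgHom.id A A) π).comp τ = σ ∧
      Function.Bijective (algebraMap (R ⧸ J) (S ⧸ J.map (algebraMap R S))) := by
  obtain ⟨S, _, _, _, π, τ, h⟩ := exists_etale_nbhd_section J A A₁ σ
  obtain ⟨S', _, _, hS', hb, φ, hφ⟩ := CAlg1.exists_etale_shrink J π
  let bar : R ⧸ J →ₐ[R] S' ⧸ J.map (algebraMap R S') := IsScalarTower.toAlgHom R (R ⧸ J) _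
  let e := AlgEquiv.ofBijective bar hb
  let π' : S' →ₐ[R] R ⧸ J := e.symm.toAlgHom.comp (Ideal.Quotient.mkₐ R _)
  refine ⟨S', _, _, hS', π', (Algebra.TensorProduct.map (AlgHom.id A A) φ).comp τ, ?_, hb⟩
  have hπ : π'.comp φ = π := AlgHom.ext fun x => by
    show e.symm (Ideal.Quotient.mk _ (φ x)) = π x
    rw [hφ, AlgEquiv.symm_apply_eq]
    rfl
  rw [← h, ← AlgHom.comp_assoc, ← Algebra.TensorProduct.map_id_comp, hπ]

/-- A closed affine subscheme of a separated étale scheme over an affine scheme has an affine open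
neighbourhood. -/
theorem exists_affine_nhd_of_section {A : CommRingCat.{u}} {X₁ Z : Scheme.{u}} (s : X₁ ⟶ Spec A) [Etale s]
    [IsSeparated s] [IsAffine Z] (σ : Z ⟶ X₁) [IsClosedImmersion (σ ≫ s)] :
    ∃ (A₁ : CommRingCat.{u}) (o : Spec A₁ ⟶ X₁) (σ₀ : Z ⟶ Spec A₁), IsOpenImmersion o ∧ σ₀ ≫ o = σ := by
  obtain ⟨O, hO, hσO⟩ : ∃ O : X₁.Opens, IsCompact (O : Set X₁) ∧ Set.range σ ⊆ O := by
    obtain ⟨t, ht⟩ := (isCompact_range σ.continuous).elim_finite_subcover (fun V : X₁.affineOpens => (V.1 : Set X₁))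
      (fun V => V.1.2) (fun x _ => by
        obtain ⟨V, hV, hxV, -⟩ := exists_isAffineOpen_mem_and_subset (x := x) (U := (⊤ : X₁.Opens)) trivial
        exact Set.mem_iUnion.2 ⟨⟨V, hV⟩, hxV⟩)
    refine ⟨⨆ V ∈ t, V.1, ?_, ht.trans fun x hx => ?_⟩
    · simp only [TopologicalSpace.Opens.coe_iSup]
      exact t.isCompact_biUnion fun V _ => V.2.isCompact
    · simpa using hx
  haveI : CompactSpace O.toScheme := isCompact_iff_compactSpace.mp hO
  haveI : QuasiCompact (O.ι ≫ s) := HasAffineProperty.iff_of_isAffine.2 ‹CompactSpace O.toScheme›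
  haveI : LocallyQuasiFinite (O.ι ≫ s) := Unr55.locallyQuasiFinite_of_formallyUnramified _
  obtain ⟨B, φ, q, hq, -, hqs⟩ := Desc59.HensSplit.exists_openImmersion_integral (O.ι ≫ s)
  let σO : Z ⟶ O.toScheme := IsOpenImmersion.lift O.ι σ (by rwa [Scheme.Opens.range_ι])
  have hσO' : σO ≫ O.ι = σ := IsOpenImmersion.lift_fac _ _ _
  haveI : IsClosedImmersion ((σO ≫ q) ≫ Spec.map φ) := by
    rw [Category.assoc, hqs, reassoc_of% hσO']; infer_instance
  haveI : IsClosedImmersion (σO ≫ q) := IsClosedImmersion.of_comp (σO ≫ q) (Spec.map φ)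
  obtain ⟨I, hI⟩ := (PrimeSpectrum.isClosed_iff_zeroLocus_ideal _).1 q.opensRange.isOpen.isClosed_compl
  obtain ⟨K, hK⟩ := (PrimeSpectrum.isClosed_iff_zeroLocus_ideal _).1
    (σO ≫ q).isClosedEmbedding.isClosed_range
  have hIK : I ⊔ K = ⊤ := by
    by_contra h
    obtain ⟨m, hm, hle⟩ := Ideal.exists_le_maximal _ h
    have h1 : (⟨m, hm.isPrime⟩ : PrimeSpectrum B) ∈ PrimeSpectrum.zeroLocus (I : Set B) := le_sup_left.trans hle
    have h2 : (⟨m, hm.isPrime⟩ : PrimeSpectrum B) ∈ PrimeSpectrum.zeroLocus (K : Set B) := le_sup_right.trans hle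
    rw [← hI] at h1
    rw [← hK] at h2
    obtain ⟨z, hz⟩ := h2
    exact h1 ⟨σO z, (Scheme.Hom.comp_apply σO q z).symm.trans hz⟩
  obtain ⟨f, hfI, k, hk, hfk⟩ := Submodule.mem_sup.1 ((Ideal.eq_top_iff_one _).1 hIK)
  let g : Spec (CommRingCat.of (Localization.Away f)) ⟶ Spec B :=
    Spec.map (CommRingCat.ofHom (algebraMap B (Localization.Away f)))
  have hgr : Set.range g = (PrimeSpectrum.basicOpen f : Set (PrimeSpectrum B)) :=
    PrimeSpectrum.localization_away_comap_range (Localization.Away f) f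
  have hr₁ : Set.range g ⊆ Set.range q := by
    rw [hgr]
    intro x hx
    by_contra hc
    have : x ∈ PrimeSpectrum.zeroLocus (I : Set B) := hI ▸ hc
    exact hx (this hfI)
  have hr₂ : Set.range (σO ≫ q) ⊆ Set.range g := by
    rw [hgr]
    intro x hx hf
    have hxK : x ∈ PrimeSpectrum.zeroLocus (K : Set B) := hK ▸ hx
    exact x.isPrime.ne_top ((Ideal.eq_top_iff_one _).2 (hfk ▸ add_mem hf (hxK hk)))
  let o₀ : Spec (CommRingCat.of (Localization.Away f)) ⟶ O.toScheme := IsOpenImmersion.lift q g hr₁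
  have ho₀ : o₀ ≫ q = g := IsOpenImmersion.lift_fac _ _ _
  haveI : IsOpenImmersion (o₀ ≫ q) := by rw [ho₀]; infer_instance
  haveI : IsOpenImmersion o₀ := IsOpenImmersion.of_comp o₀ q
  let σ₀ : Z ⟶ Spec (CommRingCat.of (Localization.Away f)) := IsOpenImmersion.lift g (σO ≫ q) hr₂
  refine ⟨CommRingCat.of (Localization.Away f), o₀ ≫ O.ι, σ₀, inferInstance, ?_⟩
  have : σ₀ ≫ o₀ = σO := by
    rw [← cancel_mono q, Category.assoc, ho₀, IsOpenImmersion.lift_fac]
  rw [reassoc_of% this, hσO']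

/-- Over an étale neighbourhood of `J` the section extends. -/
theorem exists_section_extension {T X Y Z X₁ : Scheme.{u}} [IsAffine T] {a : X ⟶ T} [IsIntegralHom a]
    {b : Y ⟶ T} [IsClosedImmersion b] {i : Z ⟶ X} {j : Z ⟶ Y} (sq : IsPullback i j a b)
    (s : X₁ ⟶ X) [Etale s] [IsSeparated s] (σ : Z ⟶ X₁) (hσ : σ ≫ s = i) :
    ∃ (T' : Scheme.{u}) (c : T' ⟶ T), Etale c ∧ IsIso (pullback.fst b c) ∧
      ∃ (l : pullback a c ⟶ X₁), l ≫ s = pullback.fst a c ∧
        ∀ (z : pullback i (pullback.fst a c) ⟶ Z), z = pullback.fst i (pullback.fst a c) →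
          pullback.snd i (pullback.fst a c) ≫ l = z ≫ σ := by
  haveI : IsAffine X := isAffine_of_isAffineHom a
  haveI : IsAffine Y := isAffine_of_isAffineHom b
  let R := Γ(T, ⊤)
  let A := Γ(X, ⊤)
  let J := RingHom.ker b.appTop.hom
  have hbs : Function.Surjective b.appTop.hom := b.app_surjective ⊤ (isAffineOpen_top T)
  letI : Algebra R A := a.appTop.hom.toAlgebra
  haveI : Algebra.IsIntegral R A := ⟨IsIntegralHom.isIntegral_app (f := a) ⊤ (isAffineOpen_top T)⟩
  let a₀ : CommRingCat.of R ⟶ CommRingCat.of A := CommRingCat.ofHom (algebraMap R A)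
  let m : CommRingCat.of R ⟶ CommRingCat.of (R ⧸ J) := CommRingCat.ofHom (Ideal.Quotient.mk J)
  let eY : Y ≅ Spec (CommRingCat.of (R ⧸ J)) :=
    Y.isoSpec ≪≫ Scheme.Spec.mapIso (RingHom.quotientKerEquivOfSurjective hbs).toCommRingCatIso.op
  let eX : X ≅ Spec (CommRingCat.of A) := X.isoSpec
  let eT : T ≅ Spec (CommRingCat.of R) := T.isoSpec
  have hbw : eY.hom ≫ Spec.map m = b ≫ eT.hom := by
    show (Y.isoSpec.hom ≫ Spec.map (CommRingCat.ofHom (RingHom.quotientKerEquivOfSurjective hbs).toRingHom)) ≫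
      Spec.map m = b ≫ T.isoSpec.hom
    rw [Category.assoc, ← Spec.map_comp, ← Scheme.isoSpec_hom_naturality]
    congr 2
  have haw : eX.hom ≫ Spec.map a₀ = a ≫ eT.hom := by
    show X.isoSpec.hom ≫ Spec.map a.appTop = _
    exact Scheme.isoSpec_hom_naturality a
  let C := A ⊗[R] (R ⧸ J)
  let incA : CommRingCat.of A ⟶ CommRingCat.of C :=
    CommRingCat.ofHom (Algebra.TensorProduct.includeLeftRingHom : A →+* A ⊗[R] (R ⧸ J))
  let incB : CommRingCat.of (R ⧸ J) ⟶ CommRingCat.of C :=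
    CommRingCat.ofHom (Algebra.TensorProduct.includeRight : R ⧸ J →ₐ[R] A ⊗[R] (R ⧸ J)).toRingHom
  have sqC : IsPullback (Spec.map incA) (Spec.map incB) (Spec.map a₀) (Spec.map m) :=
    isPullback_SpecMap_of_isPushout _ _ _ _ (CommRingCat.isPushout_tensorProduct R A (R ⧸ J))
  have sq' : IsPullback (i ≫ eX.hom) (j ≫ eY.hom) (Spec.map a₀) (Spec.map m) :=
    sq.of_iso (Iso.refl _) eX eY eT (by simp) (by simp) haw.symm hbw.symm
  let eZ : Spec (CommRingCat.of C) ≅ Z := sqC.isoIsPullback _ _ sq'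
  have hZi : eZ.hom ≫ i ≫ eX.hom = Spec.map incA := IsPullback.isoIsPullback_hom_fst _ _ sqC sq'
  haveI : IsAffine Z := IsAffine.of_isIso eZ.inv
  haveI : IsClosedImmersion i := MorphismProperty.of_isPullback sq.flip ‹IsClosedImmersion b›
  -- an affine open containing the section
  haveI : IsClosedImmersion (σ ≫ s ≫ eX.hom) := by rw [reassoc_of% hσ]; infer_instance
  obtain ⟨A₁, o, σ₀, ho, hσ₀⟩ := exists_affine_nhd_of_section (A := CommRingCat.of A) (s ≫ eX.hom) σ
  haveI := ho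
  obtain ⟨ψ, hψ⟩ := Spec.map_surjective (o ≫ s ≫ eX.hom)
  obtain ⟨σr, hσr⟩ := Spec.map_surjective (eZ.hom ≫ σ₀)
  letI : Algebra A A₁ := ψ.hom.toAlgebra
  haveI : Algebra.Etale A A₁ := by
    have h : Etale (Spec.map ψ) := by rw [hψ]; infer_instance
    exact RingHom.etale_algebraMap.1 (HasRingHomProperty.Spec_iff.1 h)
  have hψσ : ψ ≫ σr = incA := Spec.map_injective (by
    rw [Spec.map_comp, hσr, hψ, Category.assoc, reassoc_of% hσ₀, reassoc_of% hσ, hZi])
  let σa : A₁ →ₐ[A] A ⊗[R] (R ⧸ J) := { σr.hom with commutes' := fun x => congr($hψσ x) }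
  obtain ⟨S, _, _, hSet, π, τ, hτ, hbij⟩ := exists_etale_nbhd_section' J A A₁ σa
  let κ : CommRingCat.of R ⟶ CommRingCat.of S := CommRingCat.ofHom (algebraMap R S)
  let c : Spec (CommRingCat.of S) ⟶ T := Spec.map κ ≫ eT.inv
  haveI : Etale (Spec.map κ) := HasRingHomProperty.Spec_iff.2 (RingHom.etale_algebraMap.2 hSet)
  haveI : IsIso (pullback.fst b c) := by
    let J' := J.map (algebraMap R S)
    have hpo : IsPushout m κ (CommRingCat.ofHom (algebraMap (R ⧸ J) (S ⧸ J')))
        (CommRingCat.ofHom (Ideal.Quotient.mk J')) :=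
      Pinch2.isPushout_of_surjective (CommRingCat.hom_ext (RingHom.ext fun r => rfl)) Ideal.Quotient.mk_surjective
        Ideal.Quotient.mk_surjective (fun r hr => by
          have hk : RingHom.ker m.hom = J := Ideal.mk_ker
          rw [hk]
          exact Ideal.Quotient.eq_zero_iff_mem.1 hr)
    haveI : IsIso (CommRingCat.ofHom (algebraMap (R ⧸ J) (S ⧸ J'))) :=
      (ConcreteCategory.isIso_iff_bijective _).2 hbij
    have hsq := (isPullback_SpecMap_of_isPushout _ _ _ _ hpo).of_iso (Iso.refl _) eY.symm (Iso.refl _) eT.symm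
      (fst' := Spec.map (CommRingCat.ofHom (algebraMap (R ⧸ J) (S ⧸ J'))) ≫ eY.inv) (snd' := Spec.map (CommRingCat.ofHom (Ideal.Quotient.mk J')))
      (f' := b) (g' := c) (by simp) (by simp)
      (by simp only [Iso.symm_hom]; rw [Iso.comp_inv_eq, Category.assoc, ← hbw, Iso.inv_hom_id_assoc])
      (by simp [c])
    rw [← hsq.isoPullback_inv_fst]
    infer_instance
  -- the base change of `a`
  let incS : CommRingCat.of A ⟶ CommRingCat.of (A ⊗[R] S) :=
    CommRingCat.ofHom (Algebra.TensorProduct.includeLeftRingHom : A →+* A ⊗[R] S)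
  let incR : CommRingCat.of S ⟶ CommRingCat.of (A ⊗[R] S) :=
    CommRingCat.ofHom (Algebra.TensorProduct.includeRight : S →ₐ[R] A ⊗[R] S).toRingHom
  have sqS : IsPullback (Spec.map incS) (Spec.map incR) (Spec.map a₀) (Spec.map κ) :=
    isPullback_SpecMap_of_isPushout _ _ _ _ (CommRingCat.isPushout_tensorProduct R A S)
  have hsqX : IsPullback (Spec.map incS ≫ eX.inv) (Spec.map incR) a c :=
    sqS.of_iso (Iso.refl _) eX.symm (Iso.refl _) eT.symm (by simp) (by simp)
      (by simp only [Iso.symm_hom]; rw [Iso.comp_inv_eq, Category.assoc, ← haw, Iso.inv_hom_id_assoc])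
      (by simp [c])
  let e : Spec (CommRingCat.of (A ⊗[R] S)) ≅ pullback a c := hsqX.isoPullback
  let t : CommRingCat.of A₁ ⟶ CommRingCat.of (A ⊗[R] S) := CommRingCat.ofHom τ.toRingHom
  let l : pullback a c ⟶ X₁ := e.inv ≫ Spec.map t ≫ o
  have hlX : (Spec.map t ≫ o) ≫ s = Spec.map incS ≫ eX.inv := by
    rw [Iso.eq_comp_inv, Category.assoc, Category.assoc, ← hψ, ← Spec.map_comp]
    congr 1
    exact CommRingCat.hom_ext (RingHom.ext fun x => τ.commutes x)
  refine ⟨_, c, inferInstance, ‹_›, l, ?_, fun z hz => ?_⟩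
  · rw [Category.assoc, hlX, ← hsqX.isoPullback_hom_fst, Iso.inv_hom_id_assoc]
  -- compare on the closed part
  subst hz
  let f₁ := pullback.fst i (pullback.fst a c)
  let g₁ := pullback.snd i (pullback.fst a c)
  have h₁ : f₁ ≫ i = g₁ ≫ pullback.fst a c := pullback.condition
  have hw : (f₁ ≫ j) ≫ b = (g₁ ≫ pullback.snd a c) ≫ c := by
    rw [Category.assoc, ← sq.w, reassoc_of% h₁, pullback.condition, Category.assoc]
  have sqb : IsPullback (pullback.lift (f₁ ≫ j) (g₁ ≫ pullback.snd a c) hw) f₁ (pullback.fst b c) j := by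
    refine IsPullback.of_right (h₁₂ := pullback.snd b c) (h₂₂ := b) (v₁₃ := c) ?_
      (pullback.lift_fst _ _ _) (IsPullback.of_hasPullback b c).flip
    rw [pullback.lift_snd, ← sq.w]
    exact (IsPullback.of_hasPullback i (pullback.fst a c)).flip.paste_horiz (IsPullback.of_hasPullback a c).flip
  haveI : IsIso f₁ := MorphismProperty.of_isPullback (P := MorphismProperty.isomorphisms Scheme.{u}) sqb
    (MorphismProperty.isomorphisms.infer_property (pullback.fst b c))
  let πt : CommRingCat.of (A ⊗[R] S) ⟶ CommRingCat.of C :=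
    CommRingCat.ofHom (Algebra.TensorProduct.map (AlgHom.id A A) π).toRingHom
  let ρ : Z ⟶ Spec (CommRingCat.of (A ⊗[R] S)) := eZ.inv ≫ Spec.map πt
  have hρ : i = (ρ ≫ e.hom) ≫ pullback.fst a c := by
    rw [Category.assoc, hsqX.isoPullback_hom_fst, Category.assoc, ← Spec.map_comp_assoc,
      show incS ≫ πt = incA from CommRingCat.hom_ext (RingHom.ext fun x => (Algebra.TensorProduct.map (AlgHom.id A A) π).commutes x), ← hZi]
    simp
  let ε : Z ⟶ pullback i (pullback.fst a c) := pullback.lift (𝟙 Z) (ρ ≫ e.hom) (by rw [Category.id_comp, ← hρ])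
  have hε₁ : ε ≫ f₁ = 𝟙 Z := pullback.lift_fst _ _ _
  have hε₂ : ε ≫ g₁ = ρ ≫ e.hom := pullback.lift_snd _ _ _
  haveI : IsIso ε := by
    have : ε = inv f₁ := by rw [← cancel_mono f₁, hε₁, IsIso.inv_hom_id]
    rw [this]; infer_instance
  rw [← cancel_epi ε]
  show ε ≫ g₁ ≫ l = ε ≫ f₁ ≫ σ
  rw [reassoc_of% hε₂, reassoc_of% hε₁]
  show ρ ≫ e.hom ≫ e.inv ≫ Spec.map t ≫ o = σ
  rw [Iso.hom_inv_id_assoc]
  show (eZ.inv ≫ Spec.map πt) ≫ Spec.map t ≫ o = σ
  rw [Category.assoc, ← Spec.map_comp_assoc,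
    show t ≫ πt = σr from CommRingCat.hom_ext (RingHom.ext fun x => DFunLike.congr_fun hτ x), hσr, Category.assoc,
    Iso.inv_hom_id_assoc, hσ₀]

end Groth.Agent.SpProper61
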