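import Groth.Agent.SpProper61.PushThick
import Groth.Agent.SpProper61.PushLiftSch
import Groth.Agent.Big47.ClosedLift
import Groth.Agent.SpPts86.CovSigma

/-!
Pushouts of schemes along a closed immersion and an integral morphism, tested against algebraic spaces.
-/

set_option autoImplicit false
set_option linter.style.haveILetI false
set_option backward.isDefEq.respectTransparency false

universe u

open CategoryTheory CategoryTheory.Limits AlgebraicGeometry
open AlgSp Groth.Agent.SpFP87

noncomputable section

namespace Groth.Agent.SpProper61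

variable {S : Scheme.{u}}

/-- Maps out of a flat neighbourhood of a pushout, restricting to `u` and `v`. -/
def IsLocalDesc {X Y P C : Over S} (a : X ⟶ P) (b : Y ⟶ P) {Z : Sp S} (u : (yon S).obj X ⟶ Z)
    (v : (yon S).obj Y ⟶ Z) (c : C ⟶ P) (m : (yon S).obj C ⟶ Z) : Prop :=
  (yon S).map (pullback.snd a c) ≫ m = (yon S).map (pullback.fst a c) ≫ u ∧
    (yon S).map (pullback.snd b c) ≫ m = (yon S).map (pullback.fst b c) ≫ v

/-- A local solution on an étale covering of a pushout descends. -/
theorem exists_desc_of_cover_map {X' X Y P C : Over S} {t : X' ⟶ X} {j : X' ⟶ Y} {a : X ⟶ P} {b : Y ⟶ P}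
    [IsClosedImmersion t.left] (H : Pinch2.HasPairs t.left j.left) (hpo : IsPushout t j a b) {Z : Sp S}
    (hZ : IsAlgSpace Z) {u : (yon S).obj X ⟶ Z} {v : (yon S).obj Y ⟶ Z} {c : C ⟶ P} [Etale c.left]
    [Surjective c.left] {h : (yon S).obj C ⟶ Z} (hloc : IsLocalDesc a b u v c h) :
    ∃ m : (yon S).obj P ⟶ Z, (yon S).map a ≫ m = u ∧ (yon S).map b ≫ m = v := by
  obtain ⟨hh1, hh2⟩ := hloc
  have hfc : fppfSurj c.left := etale_surjective_le_fppfSurj _ ⟨‹_›, ‹_›⟩
  obtain ⟨m, hm, -⟩ := cover_existsUnique_desc c hfc h fun T p₁ p₂ hp => by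
    suffices (yon S).map (pullback.fst c c) ≫ h = (yon S).map (pullback.snd c c) ≫ h by
      have := congrArg ((yon S).map (pullback.lift p₁ p₂ hp) ≫ ·) this
      simpa only [← Functor.map_comp_assoc, pullback.lift_fst, pullback.lift_snd] using this
    let r : pullback c c ⟶ P := pullback.fst c c ≫ c
    haveI : Flat (pullback.fst c c).left :=
      MorphismProperty.of_isPullback
        (((IsPullback.of_hasPullback c c).map (Over.forget S)).flip : IsPullback _ _ c.left c.left)
        (inferInstance : Flat c.left)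
    haveI : Flat r.left := inferInstanceAs (Flat ((pullback.fst c c).left ≫ c.left))
    let k : pullback t (pullback.fst a r) ⟶ pullback b r :=
      pullback.lift (pullback.fst t _ ≫ j) (pullback.snd t _ ≫ pullback.snd a r)
        (by rw [Category.assoc, ← hpo.w, Category.assoc, ← pullback.condition, pullback.condition_assoc])
    have hP := isPushout_flat H hpo (IsPullback.of_hasPullback a r) (IsPullback.of_hasPullback b r)
      (IsPullback.of_hasPullback t (pullback.fst a r)) (pullback.lift_fst _ _ _ : k ≫ pullback.fst b r = _)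
      (pullback.lift_snd _ _ _).symm
    refine hom_ext_of_scheme_pushout hZ hP ?_ ?_
    · have key : ∀ s : pullback c c ⟶ C, s ≫ c = r →
          (yon S).map (pullback.snd a r) ≫ (yon S).map s ≫ h = (yon S).map (pullback.fst a r) ≫ u := by
        intro s hs
        let l : pullback a r ⟶ pullback a c := pullback.lift (pullback.fst a r) (pullback.snd a r ≫ s)
          (by rw [Category.assoc, hs, pullback.condition])
        rw [← Functor.map_comp_assoc, show pullback.snd a r ≫ s = l ≫ pullback.snd a c from
          (pullback.lift_snd _ _ _).symm, Functor.map_comp_assoc, hh1, ← Functor.map_comp_assoc,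
          show l ≫ pullback.fst a c = pullback.fst a r from pullback.lift_fst _ _ _]
      rw [key _ rfl, key _ pullback.condition.symm]
    · have key : ∀ s : pullback c c ⟶ C, s ≫ c = r →
          (yon S).map (pullback.snd b r) ≫ (yon S).map s ≫ h = (yon S).map (pullback.fst b r) ≫ v := by
        intro s hs
        let l : pullback b r ⟶ pullback b c := pullback.lift (pullback.fst b r) (pullback.snd b r ≫ s)
          (by rw [Category.assoc, hs, pullback.condition])
        rw [← Functor.map_comp_assoc, show pullback.snd b r ≫ s = l ≫ pullback.snd b c from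
          (pullback.lift_snd _ _ _).symm, Functor.map_comp_assoc, hh2, ← Functor.map_comp_assoc,
          show l ≫ pullback.fst b c = pullback.fst b r from pullback.lift_fst _ _ _]
      rw [key _ rfl, key _ pullback.condition.symm]
  have hcov : ∀ {K : Over S} (k : K ⟶ P), fppfSurj (pullback.fst k c).left := fun k =>
    MorphismProperty.of_isPullback (P := fppfSurj)
      (((IsPullback.of_hasPullback k c).map (Over.forget S)).flip) hfc
  refine ⟨m, cover_hom_ext (pullback.fst a c) (hcov a) ?_, cover_hom_ext (pullback.fst b c) (hcov b) ?_⟩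
  · rw [← Functor.map_comp_assoc, pullback.condition, Functor.map_comp_assoc, hm, hh1]
  · rw [← Functor.map_comp_assoc, pullback.condition, Functor.map_comp_assoc, hm, hh2]

/-- Agreement on the pieces of a disjoint union, after base change. -/
theorem hom_ext_pullback_sigma {ι : Type u} {V : ι → Over S} {K P : Over S} (k : K ⟶ P) (c : ∀ i, V i ⟶ P)
    {F : Sp S} {α β : (yon S).obj (pullback k (SpPts86.sigmaOut c)) ⟶ F}
    (h : ∀ i, (yon S).map (pullback.map k (c i) k (SpPts86.sigmaOut c) (𝟙 _) (SpPts86.sigmaIn V i) (𝟙 _) (by simp)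
        (by rw [Category.comp_id, SpPts86.sigmaIn_out])) ≫ α =
      (yon S).map (pullback.map k (c i) k (SpPts86.sigmaOut c) (𝟙 _) (SpPts86.sigmaIn V i) (𝟙 _) (by simp)
        (by rw [Category.comp_id, SpPts86.sigmaIn_out])) ≫ β) : α = β := by
  have sq : ∀ i, IsPullback (pullback.map k (c i) k (SpPts86.sigmaOut c) (𝟙 _) (SpPts86.sigmaIn V i) (𝟙 _)
      (by simp) (by rw [Category.comp_id, SpPts86.sigmaIn_out])).left (pullback.snd k (c i)).left
      (pullback.snd k (SpPts86.sigmaOut c)).left (SpPts86.sigmaIn V i).left := fun i => by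
    refine (IsPullback.of_right (h₁₂ := pullback.fst k (SpPts86.sigmaOut c)) (v₁₃ := k)
      (h₂₂ := SpPts86.sigmaOut c) ?_ (pullback.lift_snd _ _ _)
      (IsPullback.of_hasPullback k (SpPts86.sigmaOut c))).map (Over.forget S)
    rw [pullback.lift_fst, Category.comp_id, SpPts86.sigmaIn_out]
    exact IsPullback.of_hasPullback k (c i)
  refine SpPts86.open_cover_hom_ext _ (fun i => pullback.map k (c i) k (SpPts86.sigmaOut c) (𝟙 _)
    (SpPts86.sigmaIn V i) (𝟙 _) (by simp) (by rw [Category.comp_id, SpPts86.sigmaIn_out]))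
    (fun i => MorphismProperty.of_isPullback (P := @IsOpenImmersion) (sq i).flip
      (inferInstanceAs (IsOpenImmersion (Sigma.ι (fun i => (V i).left) i)))) (fun t => ?_) h
  obtain ⟨⟨i, x⟩, hx⟩ := (sigmaMk (fun i => (V i).left)).surjective ((pullback.snd k (SpPts86.sigmaOut c)).left t)
  have hx' : (SpPts86.sigmaIn V i).left x = (pullback.snd k (SpPts86.sigmaOut c)).left t := by
    rw [← hx, sigmaMk_mk]; rfl
  obtain ⟨z, hz, -⟩ := Scheme.Pullback.exists_preimage_pullback t x hx'.symm
  refine ⟨i, (sq i).isoPullback.inv z, ?_⟩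
  rw [← Scheme.Hom.comp_apply, (sq i).isoPullback_inv_fst, hz]

variable {X' X Y P : Over S} {t : X' ⟶ X} {j : X' ⟶ Y} {a : X ⟶ P} {b : Y ⟶ P}
  [IsClosedImmersion t.left] [IsIntegralHom j.left]

/-- Local solutions away from the closed part. -/
theorem exists_localDesc_away (H : Pinch2.HasPairs t.left j.left) (hpo : IsPushout t j a b) {Z : Sp S}
    (u : (yon S).obj X ⟶ Z) (v : (yon S).obj Y ⟶ Z)
    (p : ↥P.left) (hp : p ∉ Set.range b.left) :
    ∃ (C : Over S) (c : C ⟶ P) (_ : Etale c.left) (m : (yon S).obj C ⟶ Z),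
      p ∈ Set.range c.left ∧ IsLocalDesc a b u v c m := by
  haveI : IsClosedImmersion b.left := Pinch2.isClosedImmersion_inr H (hpo.map (Over.forget S))
  let U : P.left.Opens := ⟨(Set.range b.left)ᶜ, b.left.isClosedEmbedding.isClosed_range.isOpen_compl⟩
  let C : Over S := Over.mk (U.ι ≫ P.hom)
  let c : C ⟶ P := Over.homMk U.ι rfl
  haveI : IsOpenImmersion c.left := inferInstanceAs (IsOpenImmersion U.ι)
  haveI : IsEmpty ↥(pullback b c).left := ⟨fun z => by
    have h := congrArg (fun f : (pullback b c).left ⟶ P.left => f z)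
      (congrArg CommaMorphism.left (pullback.condition (f := b) (g := c)))
    exact ((pullback.snd b c).left z).2 ⟨_, h⟩⟩
  let k : pullback t (pullback.fst a c) ⟶ pullback b c :=
    pullback.lift (pullback.fst t _ ≫ j) (pullback.snd t _ ≫ pullback.snd a c)
      (by rw [Category.assoc, ← hpo.w, Category.assoc, ← pullback.condition, pullback.condition_assoc])
  haveI : IsEmpty ↥(pullback t (pullback.fst a c)).left := ⟨fun z => IsEmpty.false (k.left z)⟩
  haveI : IsIso k.left := inferInstance
  haveI : IsIso ((Over.forget S).map k) := inferInstanceAs (IsIso k.left)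
  haveI : IsIso k := isIso_of_reflects_iso k (Over.forget S)
  have hC := isPushout_flat H hpo (IsPullback.of_hasPullback a c) (IsPullback.of_hasPullback b c)
    (IsPullback.of_hasPullback t (pullback.fst a c)) (pullback.lift_fst _ _ _ : k ≫ pullback.fst b c = _)
    (pullback.lift_snd _ _ _).symm
  haveI : IsIso (pullback.snd a c) := hC.isIso_inl_of_isIso
  refine ⟨C, c, inferInstance, (yon S).map (inv (pullback.snd a c) ≫ pullback.fst a c) ≫ u, ⟨⟨p, hp⟩, rfl⟩, ?_, ?_⟩
  · rw [← Functor.map_comp_assoc, IsIso.hom_inv_id_assoc]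
  · exact SpPts86.hom_ext_of_isEmpty

/-- Local solutions at the closed part. -/
theorem exists_localDesc_at (H : Pinch2.HasPairs t.left j.left) (hpo : IsPushout t j a b) {Z : Sp S}
    (hZ : IsAlgSpace Z) (u : (yon S).obj X ⟶ Z) (v : (yon S).obj Y ⟶ Z)
    (huv : (yon S).map t ≫ u = (yon S).map j ≫ v) (y₀ : ↥Y.left) :
    ∃ (C : Over S) (c : C ⟶ P) (_ : Etale c.left) (m : (yon S).obj C ⟶ Z),
      b.left y₀ ∈ Set.range c.left ∧ IsLocalDesc a b u v c m := by
  have hpo' : IsPushout t.left j.left a.left b.left := hpo.map (Over.forget S)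
  haveI : IsClosedImmersion b.left := Pinch2.isClosedImmersion_inr H hpo'
  haveI : IsIntegralHom a.left := Pinch2.isIntegralHom_inl H hpo'
  -- an affine chart of `Z` around the image of `y₀`
  obtain ⟨Wa, ya, hya, hyas⟩ := hZ.atlas
  obtain ⟨Va, qa, fa, sqa⟩ : ∃ (Va : Over S) (qa : Va ⟶ Y) (fa : Va ⟶ Wa),
      IsPullback ((yon S).map qa) ((yon S).map fa) v ya := by
    have hr := hZ.representable_from_yon v
    obtain ⟨q, hq⟩ := (yon S).map_surjective (hr.fst ya)
    exact ⟨_, q, hr.snd ya, hq ▸ hr.isPullback ya⟩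
  haveI : Surjective qa.left := hyas.property v _ _ sqa.flip
  obtain ⟨w₀, hw₀⟩ : ∃ w₀, qa.left w₀ = y₀ := qa.left.surjective y₀
  obtain ⟨O, hO, hwO, -⟩ := exists_isAffineOpen_mem_and_subset (x := fa.left w₀) (U := (⊤ : Wa.left.Opens)) trivial
  let W : Over S := Over.mk (O.ι ≫ Wa.hom)
  let wi : W ⟶ Wa := Over.homMk O.ι rfl
  haveI : IsOpenImmersion wi.left := inferInstanceAs (IsOpenImmersion O.ι)
  haveI : IsAffine W.left := hO
  let y : (yon S).obj W ⟶ Z := (yon S).map wi ≫ ya
  have hy : RepWith @Etale y := MorphismProperty.comp_mem (W := RepWith (@Etale : MorphismProperty Scheme.{u})) _ _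
    ((repWith_yon_map_iff _ wi).2 inferInstance) hya
  -- the chart of `Y`
  let V₁ := pullback fa wi
  let qV : V₁ ⟶ W := pullback.snd fa wi
  let sV : V₁ ⟶ Y := pullback.fst fa wi ≫ qa
  have sqV : IsPullback ((yon S).map sV) ((yon S).map qV) v y := by
    have := ((IsPullback.of_hasPullback fa wi).map (yon S)).flip.paste_vert sqa.flip
    rw [← Functor.map_comp] at this
    exact this.flip
  haveI : Etale sV.left := hy.property v _ _ sqV.flip
  obtain ⟨x₁, hx₁⟩ : ∃ x₁ : ↥V₁.left, sV.left x₁ = y₀ := by
    have hx : fa.left w₀ ∈ Set.range wi.left := ⟨⟨fa.left w₀, hwO⟩, rfl⟩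
    obtain ⟨o, ho⟩ := hx
    have sqf : IsPullback (pullback.fst fa wi).left (pullback.snd fa wi).left fa.left wi.left :=
      (IsPullback.of_hasPullback fa wi).map (Over.forget S)
    obtain ⟨z, hz, -⟩ := Scheme.Pullback.exists_preimage_pullback w₀ o ho.symm
    refine ⟨sqf.isoPullback.inv z, ?_⟩
    show qa.left ((pullback.fst fa wi).left (sqf.isoPullback.inv z)) = y₀
    rw [← Scheme.Hom.comp_apply sqf.isoPullback.inv, sqf.isoPullback_inv_fst, hz, hw₀]
  -- a neighbourhood of `b y₀` lifting the chart
  obtain ⟨T₁, g, hg, hp, α, hα⟩ := Big47.exists_nhd (P := @Etale) Big47.ringLifts_etale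
    (fun j _ => inferInstance) b.left sV.left (inferInstance : Etale sV.left) x₁
  haveI : Etale g := hg
  rw [hx₁] at hp
  obtain ⟨t₁, ht₁⟩ := hp
  obtain ⟨O₁, hO₁, htO, -⟩ := exists_isAffineOpen_mem_and_subset (x := t₁) (U := (⊤ : T₁.Opens)) trivial
  let T : Over S := Over.mk (O₁.ι ≫ g ≫ P.hom)
  let cT : T ⟶ P := Over.homMk (O₁.ι ≫ g) (Category.assoc _ _ _)
  haveI : IsAffine T.left := hO₁
  haveI : Etale cT.left := inferInstanceAs (Etale (O₁.ι ≫ g))
  have hbT : IsPullback (pullback.fst b cT).left (pullback.snd b cT).left b.left cT.left :=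
    (IsPullback.of_hasPullback b cT).map (Over.forget S)
  obtain ⟨ℓ, hℓ⟩ : ∃ ℓ : pullback b cT ⟶ V₁, ℓ ≫ sV = pullback.fst b cT := by
    let k : (pullback b cT).left ⟶ pullback b.left g := pullback.lift (pullback.fst b cT).left
      ((pullback.snd b cT).left ≫ O₁.ι) (by rw [Category.assoc]; exact hbT.w)
    have hk : (k ≫ α) ≫ sV.left = (pullback.fst b cT).left := by
      rw [Category.assoc, hα, pullback.lift_fst]
    exact ⟨Over.homMk (k ≫ α) (by rw [← Over.w sV, ← Category.assoc, hk, Over.w]), Over.OverMorphism.ext hk⟩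
  -- the base change of the square
  let aT : pullback a cT ⟶ T := pullback.snd a cT
  let bT : pullback b cT ⟶ T := pullback.snd b cT
  let iT : pullback t (pullback.fst a cT) ⟶ pullback a cT := pullback.snd _ _
  let jT : pullback t (pullback.fst a cT) ⟶ pullback b cT :=
    pullback.lift (pullback.fst t _ ≫ j) (iT ≫ aT)
      (by rw [Category.assoc, ← hpo.w, Category.assoc, ← pullback.condition, pullback.condition_assoc])
  haveI : IsIntegralHom aT.left := MorphismProperty.of_isPullback
    ((IsPullback.of_hasPullback a cT).map (Over.forget S)) ‹IsIntegralHom a.left›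
  haveI : IsClosedImmersion bT.left := MorphismProperty.of_isPullback hbT ‹IsClosedImmersion b.left›
  have hcart : IsPullback t.left j.left a.left b.left := by
    obtain ⟨e, ha, hb⟩ := Pinch2.exists_iso H hpo'
    exact (Pinch2.isPullback H).of_iso (Iso.refl _) (Iso.refl _) (Iso.refl _) e (by simp) (by simp)
      (by simp [ha]) (by simp [hb])
  have sqT : IsPullback iT.left jT.left aT.left bT.left := by
    refine (?_ : IsPullback iT jT aT bT).map (Over.forget S)
    refine (IsPullback.of_right (h₁₂ := pullback.fst b cT) (v₁₃ := b) (h₂₂ := cT) ?_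
      (pullback.lift_snd _ _ _) (IsPullback.of_hasPullback b cT)).flip
    rw [pullback.lift_fst]
    have h1 := (IsPullback.of_hasPullback t (pullback.fst a cT)).paste_horiz
      (IsPullback.of_map (Over.forget S) hpo.w hcart).flip
    show IsPullback _ _ b (pullback.snd a cT ≫ cT)
    rw [← pullback.condition]
    exact h1
  obtain ⟨X₁, sX, qX, sqX⟩ : ∃ (X₁ : Over S) (sX : X₁ ⟶ pullback a cT) (qX : X₁ ⟶ W),
      IsPullback ((yon S).map sX) ((yon S).map qX) ((yon S).map (pullback.fst a cT) ≫ u) y := by
    have hr := hZ.representable_from_yon ((yon S).map (pullback.fst a cT) ≫ u)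
    obtain ⟨q, hq⟩ := (yon S).map_surjective (hr.fst y)
    exact ⟨_, q, hr.snd y, hq ▸ hr.isPullback y⟩
  haveI : Etale sX.left := hy.property _ _ _ sqX.flip
  haveI : IsSeparated sX.left := by
    let m : X₁.left ⟶ pullback (pullback a cT).hom W.hom :=
      pullback.lift sX.left qX.left ((Over.w sX).trans (Over.w qX).symm)
    haveI : Mono m := ⟨fun {K} k k' hk => by
      let K' : Over S := Over.mk (k ≫ X₁.hom)
      have h1 : k ≫ sX.left = k' ≫ sX.left := by
        simpa [m] using congrArg (· ≫ pullback.fst (pullback a cT).hom W.hom) hk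
      have h2 : k ≫ qX.left = k' ≫ qX.left := by
        simpa [m] using congrArg (· ≫ pullback.snd (pullback a cT).hom W.hom) hk
      let κ : K' ⟶ X₁ := Over.homMk k rfl
      let κ' : K' ⟶ X₁ := Over.homMk k' (by
        show k' ≫ X₁.hom = k ≫ X₁.hom
        rw [← Over.w sX, ← Category.assoc, ← h1, Category.assoc])
      have : κ = κ' := (yon S).map_injective (sqX.hom_ext
        (by rw [← Functor.map_comp, ← Functor.map_comp]; exact congrArg _ (Over.OverMorphism.ext h1))
        (by rw [← Functor.map_comp, ← Functor.map_comp]; exact congrArg _ (Over.OverMorphism.ext h2)))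
      exact congrArg CommaMorphism.left this⟩
    haveI : IsSeparated W.hom := inferInstance
    have : sX.left = m ≫ pullback.fst (pullback a cT).hom W.hom := (pullback.lift_fst _ _ _).symm
    rw [this]; infer_instance
  obtain ⟨σ, hσs, hσq⟩ : ∃ σ : pullback t (pullback.fst a cT) ⟶ X₁, σ ≫ sX = iT ∧ σ ≫ qX = jT ≫ ℓ ≫ qV := by
    obtain ⟨σ, hσ⟩ := (yon S).map_surjective (sqX.lift ((yon S).map iT) ((yon S).map (jT ≫ ℓ ≫ qV)) (by
      rw [← Functor.map_comp_assoc, ← pullback.condition, Functor.map_comp_assoc, huv,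
        Functor.map_comp_assoc, Functor.map_comp_assoc, ← sqV.w, ← Functor.map_comp_assoc, ← Functor.map_comp_assoc,
        ← Functor.map_comp_assoc]
      simp only [Category.assoc, hℓ, jT, pullback.lift_fst]))
    exact ⟨σ, (yon S).map_injective (by rw [Functor.map_comp, hσ, sqX.lift_fst]),
      (yon S).map_injective (by rw [Functor.map_comp, hσ, sqX.lift_snd])⟩
  obtain ⟨T', c', hc', hiso, l, hl, hlz⟩ :=
    exists_section_extension sqT sX.left σ.left (congrArg CommaMorphism.left hσs)
  haveI := hc'
  let C : Over S := Over.mk (c' ≫ T.hom)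
  let cc : C ⟶ T := Over.homMk c' rfl
  let c : C ⟶ P := cc ≫ cT
  haveI : Etale c.left := inferInstanceAs (Etale (c' ≫ cT.left))
  let k : pullback t (pullback.fst a c) ⟶ pullback b c :=
    pullback.lift (pullback.fst t _ ≫ j) (pullback.snd t _ ≫ pullback.snd a c)
      (by rw [Category.assoc, ← hpo.w, Category.assoc, ← pullback.condition, pullback.condition_assoc])
  have hC := isPushout_flat H hpo (IsPullback.of_hasPullback a c) (IsPullback.of_hasPullback b c)
    (IsPullback.of_hasPullback t (pullback.fst a c)) (pullback.lift_fst _ _ _ : k ≫ pullback.fst b c = _)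
    (pullback.lift_snd _ _ _).symm
  -- the solution over `X`
  let xT : pullback a c ⟶ pullback a cT := pullback.lift (pullback.fst a c) (pullback.snd a c ≫ cc)
    (by rw [Category.assoc]; exact pullback.condition)
  let xl : (pullback a c).left ⟶ pullback aT.left c' := pullback.lift xT.left (pullback.snd a c).left
    (by rw [← Over.comp_left, pullback.lift_snd]; rfl)
  have hxl : (xl ≫ l) ≫ sX.left = xT.left := by rw [Category.assoc, hl, pullback.lift_fst]
  let lX : pullback a c ⟶ X₁ := Over.homMk (xl ≫ l) (by rw [← Over.w sX, ← Category.assoc, hxl, Over.w xT])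
  have hlX : lX ≫ sX = xT := Over.OverMorphism.ext hxl
  let yT : pullback b c ⟶ pullback b cT := pullback.lift (pullback.fst b c) (pullback.snd b c ≫ cc)
    (by rw [Category.assoc]; exact pullback.condition)
  let wT : pullback t (pullback.fst a c) ⟶ pullback t (pullback.fst a cT) :=
    pullback.lift (pullback.fst _ _) (pullback.snd _ _ ≫ xT) (by rw [Category.assoc, pullback.lift_fst, pullback.condition])
  have hwσ : pullback.snd t (pullback.fst a c) ≫ lX = wT ≫ σ := by
    refine Over.OverMorphism.ext ?_
    let z : (pullback t (pullback.fst a c)).left ⟶ pullback iT.left (pullback.fst aT.left c') :=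
      pullback.lift wT.left ((pullback.snd t (pullback.fst a c)).left ≫ xl)
        (by rw [Category.assoc, pullback.lift_fst, ← Over.comp_left, ← Over.comp_left, pullback.lift_snd])
    show (pullback.snd t (pullback.fst a c)).left ≫ xl ≫ l = wT.left ≫ σ.left
    rw [← Category.assoc, show (pullback.snd t (pullback.fst a c)).left ≫ xl =
      z ≫ pullback.snd iT.left (pullback.fst aT.left c') from (pullback.lift_snd _ _ _).symm,
      Category.assoc, hlz _ rfl, ← Category.assoc, pullback.lift_fst]
  have hwj : wT ≫ jT = k ≫ yT := by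
    refine pullback.hom_ext ?_ ?_
    · simp only [jT, yT, k, wT, Category.assoc, pullback.lift_fst, pullback.lift_fst_assoc]
    · simp only [jT, yT, k, wT, iT, aT, xT, Category.assoc, pullback.lift_snd, pullback.lift_snd_assoc]
  obtain ⟨m, hm₁, hm₂⟩ := hC.exists_desc (lX ≫ qX) (yT ≫ ℓ ≫ qV) (by
    rw [← Category.assoc, hwσ, Category.assoc, hσq, reassoc_of% hwj])
  refine ⟨C, c, inferInstance, (yon S).map m ≫ y, ?_, ?_, ?_⟩
  · -- the point lies in the image
    obtain ⟨zb, hzb, hzb'⟩ := Scheme.Pullback.exists_preimage_pullback (f := b.left) (g := cT.left) y₀ ⟨t₁, htO⟩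
      (by show b.left y₀ = g (O₁.ι ⟨t₁, htO⟩); exact ht₁.symm)
    haveI := hiso
    let zT := hbT.isoPullback.inv zb
    refine ⟨(pullback.snd bT.left c') ((inv (pullback.fst bT.left c')) zT), ?_⟩
    show cT.left (c' ((pullback.snd bT.left c') ((inv (pullback.fst bT.left c')) zT))) = _
    rw [← Scheme.Hom.comp_apply (pullback.snd bT.left c'), ← pullback.condition, Scheme.Hom.comp_apply,
      ← Scheme.Hom.comp_apply (inv (pullback.fst bT.left c')), IsIso.inv_hom_id]
    show cT.left (bT.left (hbT.isoPullback.inv zb)) = _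
    rw [← Scheme.Hom.comp_apply hbT.isoPullback.inv, hbT.isoPullback_inv_snd, hzb']
    exact ht₁
  · rw [← Functor.map_comp_assoc, hm₁, Functor.map_comp_assoc, ← sqX.w, ← Functor.map_comp_assoc, hlX,
      ← Functor.map_comp_assoc, pullback.lift_fst]
  · rw [← Functor.map_comp_assoc, hm₂, Functor.map_comp_assoc, Functor.map_comp_assoc, ← sqV.w,
      ← Functor.map_comp_assoc, ← Functor.map_comp_assoc]
    simp only [Category.assoc, hℓ, yT, pullback.lift_fst]

/-- A pushout of schemes along a closed immersion and an integral morphism stays one among spaces. -/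
theorem isPushout_ofScheme_of_integral (H : Pinch2.HasPairs t.left j.left) (hpo : IsPushout t j a b) :
    IsPushout ((ofScheme S).map t) ((ofScheme S).map j) ((ofScheme S).map a) ((ofScheme S).map b) := by
  have hex : ∀ (Z : Space S) (u : (ofScheme S).obj X ⟶ Z) (v : (ofScheme S).obj Y ⟶ Z),
      (ofScheme S).map t ≫ u = (ofScheme S).map j ≫ v →
      ∃ m : (yon S).obj P ⟶ Z.obj, (yon S).map a ≫ m = u.hom ∧ (yon S).map b ≫ m = v.hom := by
    intro Z u v huv
    have huv' : (yon S).map t ≫ u.hom = (yon S).map j ≫ v.hom := congrArg (fun f => f.hom) huv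
    haveI : IsClosedImmersion b.left := Pinch2.isClosedImmersion_inr H (hpo.map (Over.forget S))
    have key : ∀ p : ↥P.left, ∃ (C : Over S) (c : C ⟶ P) (_ : Etale c.left) (m : (yon S).obj C ⟶ Z.obj),
        p ∈ Set.range c.left ∧ IsLocalDesc a b u.hom v.hom c m := fun p => by
      by_cases hp : p ∈ Set.range b.left
      · obtain ⟨y₀, rfl⟩ := hp
        exact exists_localDesc_at H hpo Z.property u.hom v.hom huv' y₀
      · exact exists_localDesc_away H hpo u.hom v.hom p hp
    choose V c hc m hp hm using key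
    obtain ⟨L, hL⟩ := SpPts86.sigma_glue V m
    haveI : Etale (SpPts86.sigmaOut c).left := IsZariskiLocalAtSource.sigmaDesc fun p => hc p
    haveI : Surjective (SpPts86.sigmaOut c).left := ⟨fun p => by
      obtain ⟨x, hx⟩ := hp p
      refine ⟨(SpPts86.sigmaIn V p).left x, ?_⟩
      rw [← Scheme.Hom.comp_apply, ← Over.comp_left, SpPts86.sigmaIn_out, hx]⟩
    refine exists_desc_of_cover_map H hpo Z.property (c := SpPts86.sigmaOut c) (h := L)
      ⟨hom_ext_pullback_sigma a c fun p => ?_, hom_ext_pullback_sigma b c fun p => ?_⟩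
    · rw [← Functor.map_comp_assoc, pullback.lift_snd, Functor.map_comp_assoc, hL, (hm p).1,
        ← Functor.map_comp_assoc, pullback.lift_fst, Category.comp_id]
    · rw [← Functor.map_comp_assoc, pullback.lift_snd, Functor.map_comp_assoc, hL, (hm p).2,
        ← Functor.map_comp_assoc, pullback.lift_fst, Category.comp_id]
  refine IsPushout.of_isColimit' ⟨by rw [← Functor.map_comp, ← Functor.map_comp, hpo.w]⟩ ?_
  refine PushoutCocone.IsColimit.mk _ (fun s => ⟨(hex s.pt s.inl s.inr s.condition).choose⟩)
    (fun s => ObjectProperty.hom_ext _ (hex s.pt s.inl s.inr s.condition).choose_spec.1)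
    (fun s => ObjectProperty.hom_ext _ (hex s.pt s.inl s.inr s.condition).choose_spec.2) fun s m h₁ h₂ => ?_
  refine ObjectProperty.hom_ext _ (hom_ext_of_scheme_pushout s.pt.property hpo ?_ ?_)
  · exact (congrArg (fun f => f.hom) h₁).trans (hex s.pt s.inl s.inr s.condition).choose_spec.1.symm
  · exact (congrArg (fun f => f.hom) h₂).trans (hex s.pt s.inl s.inr s.condition).choose_spec.2.symm

end Groth.Agent.SpProper61
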