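import Groth.Agent.SpProper61.PushChart

/-!
Pushouts of algebraic spaces along thickenings and affine morphisms.
-/

set_option autoImplicit false
set_option linter.style.haveILetI false
set_option backward.isDefEq.respectTransparency false

universe u

open CategoryTheory CategoryTheory.Limits AlgebraicGeometry
open AlgSp Groth.Agent.SpFP87 Groth.Agent.SpPts86

namespace Groth.Agent.SpProper61

variable {S : Scheme.{u}}

theorem isPushout_of_existsUnique {X X' Y Y' : Space S} {t : X ⟶ X'} {f : X ⟶ Y} {f' : X' ⟶ Y'} {t' : Y ⟶ Y'}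
    (w : t ≫ f' = f ≫ t')
    (h : ∀ (Z : Sp S), IsAlgSpace Z → ∀ (u : X'.obj ⟶ Z) (v : Y.obj ⟶ Z), t.hom ≫ u = f.hom ≫ v →
      ∃! m : Y'.obj ⟶ Z, f'.hom ≫ m = u ∧ t'.hom ≫ m = v) : IsPushout t f f' t' := by
  choose m hm hu using fun (s : PushoutCocone t f) =>
    h s.pt.obj s.pt.property s.inl.hom s.inr.hom (congrArg (fun k => k.hom) s.condition)
  refine IsPushout.of_isColimit' ⟨w⟩ (PushoutCocone.IsColimit.mk _ (fun s => ⟨m s⟩)
    (fun s => ObjectProperty.hom_ext _ (hm s).1) (fun s => ObjectProperty.hom_ext _ (hm s).2)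
    fun s k h₁ h₂ => ObjectProperty.hom_ext _
      (hu s _ ⟨congrArg (fun k => k.hom) h₁, congrArg (fun k => k.hom) h₂⟩))

/-- Existence of pushouts, with a chart. -/
theorem exists_isPushout_space {X X' Y : Space S} (t : X ⟶ X') (ht : IsThickMor t.hom) (f : X ⟶ Y)
    (hf : RepWith @IsAffineHom f.hom) :
    ∃ (Y' : Space S) (f' : X' ⟶ Y') (t' : Y ⟶ Y'), IsPushout t f f' t' ∧ IsThickMor t'.hom ∧
      Nonempty (PushChart t.hom f.hom f'.hom t'.hom) := by
  obtain ⟨Y', f', t', hY', w, ht', hch, hdesc⟩ := exists_pushout_chart X.property X'.property Y.property ht hf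
  exact ⟨⟨Y', hY'⟩, ⟨f'⟩, ⟨t'⟩, isPushout_of_existsUnique (ObjectProperty.hom_ext _ w) hdesc, ht', hch⟩

/-- Every such pushout has a chart. -/
theorem exists_chart_of_isPushout {X X' Y Y' : Space S} {t : X ⟶ X'} (ht : IsThickMor t.hom) {f : X ⟶ Y}
    (hf : RepWith @IsAffineHom f.hom) {f' : X' ⟶ Y'} {t' : Y ⟶ Y'} (hY' : IsPushout t f f' t') :
    IsThickMor t'.hom ∧ Nonempty (PushChart t.hom f.hom f'.hom t'.hom) := by
  obtain ⟨P, fP, tP, hP, htP, ⟨c⟩⟩ := exists_isPushout_space t ht f hf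
  let e := (hP.isoIsPushout _ _ hY')
  let φ : P.obj ≅ Y'.obj := (ObjectProperty.ι _).mapIso e
  have h₁ : fP.hom ≫ φ.hom = f'.hom := congrArg (fun k => k.hom) (hP.inl_isoIsPushout_hom _ _ hY')
  have h₂ : tP.hom ≫ φ.hom = t'.hom := congrArg (fun k => k.hom) (hP.inr_isoIsPushout_hom _ _ hY')
  refine ⟨?_, ⟨{ c with
    q := c.q ≫ φ.hom
    etQ := MorphismProperty.RespectsIso.postcomp _ _ _ c.etQ
    surjQ := MorphismProperty.RespectsIso.postcomp _ _ _ c.surjQ
    sqt' := c.sqt'.of_iso (Iso.refl _) (Iso.refl _) (Iso.refl _) φ (by simp) (by simp) (by simp [h₂]) (by simp)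
    sqf' := c.sqf'.of_iso (Iso.refl _) (Iso.refl _) (Iso.refl _) φ (by simp) (by simp) (by simp [h₁]) (by simp) }⟩⟩
  rw [← h₂]
  haveI : (IsThickMor (S := S)).RespectsIso := (repWith_isStableUnderBaseChange thick).respectsIso
  exact MorphismProperty.RespectsIso.postcomp _ _ _ htP

end Groth.Agent.SpProper61
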