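import Groth.Agent.EtAlg23.GlueBasic
import Mathlib.LinearAlgebra.TensorProduct.Tower
import Mathlib.RingTheory.Flat.Basic
import Mathlib.RingTheory.Flat.Localization

/-!
Glueability is local for flat covers.
-/

set_option autoImplicit false
set_option linter.style.haveILetI false
set_option backward.isDefEq.respectTransparency false

universe u

open TensorProduct

noncomputable section

namespace Groth.Agent.SpProper61.GlueLocal

variable {R R' : Type u} [CommRing R] [CommRing R'] [Algebra R R'] {f : R}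

/-- Glueability, read on the power torsion. -/
theorem crit (hq : EtGlue.QuotPowBijective R R' f) (M : Type u) [AddCommGroup M] [Module R M] :
    EtGlue.IsGlueable R R' f M ↔
      ((∀ (n : ℕ) (m : M), f ^ n • m = 0 → m ⊗ₜ[R] (1 : R') = 0 → m = 0) ∧
        ∀ (n : ℕ) (x : M ⊗[R] R'), f ^ n • x = 0 → ∃ m : M, f ^ n • m = 0 ∧ m ⊗ₜ[R] (1 : R') = x) := by
  let c := TensorProduct.comm R M R'
  have hc : ∀ m : M, c (m ⊗ₜ[R] (1 : R')) = (1 : R') ⊗ₜ[R] m := fun m => rfl
  rw [EtAlg23.isGlueable_iff hq M]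
  constructor
  · rintro ⟨h₁, h₂⟩
    refine ⟨fun n m hn hm => h₁ m ⟨n, hn⟩ (by rw [← hc, hm, map_zero]), fun n x hx => ?_⟩
    obtain ⟨m, hm, hmx⟩ := h₂ (c x) ⟨n, by rw [← map_smul, hx, map_zero]⟩
    refine ⟨m, h₁ _ ?_ ?_, c.injective (by rw [hc, hmx])⟩
    · obtain ⟨k, hk⟩ := hm
      exact ⟨k, by rw [smul_comm, hk, smul_zero]⟩
    · rw [tmul_smul, hmx, ← map_smul, hx, map_zero]
  · rintro ⟨h₁, h₂⟩
    refine ⟨fun m ⟨n, hn⟩ hm => h₁ n m hn (c.injective (by rw [hc, hm, map_zero])), fun x ⟨n, hn⟩ => ?_⟩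
    obtain ⟨m, hm, hmx⟩ := h₂ n (c.symm x) (by rw [← map_smul, hn, map_zero])
    exact ⟨m, ⟨n, hm⟩, by rw [← hc, hmx, LinearEquiv.apply_symm_apply]⟩

variable {A : Type u} [CommRing A] [Algebra R A] {B : Type u} [CommRing B] [Algebra R B] [Algebra A B]
  [IsScalarTower R A B]

/-- The identification of the base change. -/
abbrev bc (R' : Type u) [CommRing R'] [Algebra R R'] (A B : Type u) [CommRing A] [Algebra R A] [CommRing B]
    [Algebra R B] [Algebra A B] [IsScalarTower R A B] : B ⊗[A] (A ⊗[R] R') ≃ₗ[B] B ⊗[R] R' :=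
  TensorProduct.AlgebraTensorModule.cancelBaseChange R A B B R'

theorem bc_tmul (b : B) (a : A) (r : R') : bc R' A B (b ⊗ₜ[A] (a ⊗ₜ[R] r)) = (a • b) ⊗ₜ[R] r :=
  TensorProduct.AlgebraTensorModule.cancelBaseChange_tmul R A B b r a

theorem pow_smul (n : ℕ) {M : Type u} [AddCommGroup M] [Module R M] [Module A M] [IsScalarTower R A M] (x : M) :
    (algebraMap R A f ^ n) • x = f ^ n • x := by
  rw [← map_pow, algebraMap_smul]

variable (A) in
/-- The `f ^ n` torsion of an algebra. -/
abbrev tors (f : R) (n : ℕ) : Submodule A A := LinearMap.ker (LinearMap.lsmul A A (algebraMap R A f ^ n))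

variable (A R') in
/-- The `f ^ n` torsion of the base change. -/
abbrev tors' (f : R) (n : ℕ) : Submodule A (A ⊗[R] R') :=
  LinearMap.ker (LinearMap.lsmul A (A ⊗[R] R') (algebraMap R A f ^ n))

variable (A R') in
/-- The map on torsion. -/
def torsMap (f : R) (n : ℕ) : tors A f n →ₗ[A] tors' R' A f n :=
  ((LinearMap.toSpanSingleton A (A ⊗[R] R') ((1 : A) ⊗ₜ[R] (1 : R'))).comp (tors A f n).subtype).codRestrict _
    fun m => by
      have hm : algebraMap R A f ^ n • (m : A) = 0 := m.2
      show algebraMap R A f ^ n • ((m : A) • ((1 : A) ⊗ₜ[R] (1 : R'))) = 0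
      rw [← mul_smul, ← smul_eq_mul (algebraMap R A f ^ n), hm, zero_smul]

theorem torsMap_apply (n : ℕ) (m : tors A f n) :
    (torsMap R' A f n m : A ⊗[R] R') = (m : A) ⊗ₜ[R] (1 : R') := by
  show (m : A) • ((1 : A) ⊗ₜ[R] (1 : R')) = _
  rw [smul_tmul', smul_eq_mul, mul_one]

theorem smul_tors_eq_zero (n : ℕ) (y : B ⊗[A] tors A f n) : (algebraMap R A f ^ n) • y = 0 := by
  induction y using TensorProduct.induction_on with
  | zero => simp
  | tmul b m => rw [← tmul_smul, show algebraMap R A f ^ n • m = 0 from Subtype.ext m.2, tmul_zero]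
  | add u v hu hv => rw [smul_add, hu, hv, add_zero]

/-- Torsion commutes with flat base change. -/
theorem exists_tors_preimage [Module.Flat A B] {N : Type u} [AddCommGroup N] [Module A N] (a : A)
    (x : B ⊗[A] N) (hx : a • x = 0) :
    ∃ y : B ⊗[A] LinearMap.ker (LinearMap.lsmul A N a),
      (LinearMap.ker (LinearMap.lsmul A N a)).subtype.lTensor B y = x := by
  have hex : Function.Exact (LinearMap.ker (LinearMap.lsmul A N a)).subtype (LinearMap.lsmul A N a) :=
    LinearMap.exact_subtype_ker_map _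
  refine (Module.Flat.lTensor_exact B hex x).1 ?_
  have : (LinearMap.lsmul A N a).lTensor B = LinearMap.lsmul A (B ⊗[A] N) a := by
    ext b m
    simp
  rw [this]
  exact hx

variable (A B) in
/-- The map on torsion followed by the base change. -/
theorem bc_lTensor_torsMap (n : ℕ) (y : B ⊗[A] tors A f n) :
    bc R' A B ((tors' R' A f n).subtype.lTensor B ((torsMap R' A f n).lTensor B y)) =
      (TensorProduct.rid A B ((tors A f n).subtype.lTensor B y)) ⊗ₜ[R] (1 : R') := by
  induction y using TensorProduct.induction_on with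
  | zero => simp
  | tmul b m => simp [torsMap_apply, bc_tmul]
  | add u v hu hv => simp only [map_add, hu, hv, add_tmul]

/-- Glueability passes to flat algebras. -/
theorem of_flat (hq : EtGlue.QuotPowBijective R R' f) [Module.Flat A B] (hA : EtGlue.IsGlueable R R' f A) :
    EtGlue.IsGlueable R R' f B := by
  obtain ⟨hi, hs⟩ := (crit hq A).1 hA
  have hinj : ∀ n, Function.Injective (torsMap R' A f n) := fun n => (injective_iff_map_eq_zero _).2 fun m hm => by
    refine Subtype.ext (hi n m ((pow_smul n (m : A)).symm.trans m.2) ?_)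
    rw [← torsMap_apply, hm]; rfl
  have hsur : ∀ n, Function.Surjective (torsMap R' A f n) := fun n x => by
    obtain ⟨m, hm, hmx⟩ := hs n x ((pow_smul n (x : A ⊗[R] R')).symm.trans x.2)
    exact ⟨⟨m, (pow_smul n m).trans hm⟩, Subtype.ext ((torsMap_apply n _).trans hmx)⟩
  refine (crit hq B).2 ⟨fun n m hn hm => ?_, fun n x hx => ?_⟩
  · obtain ⟨y, hy⟩ := exists_tors_preimage (algebraMap R A f ^ n) ((TensorProduct.rid A B).symm m) (by
      rw [← map_smul, pow_smul, hn, map_zero])
    have h0 : (tors' R' A f n).subtype.lTensor B ((torsMap R' A f n).lTensor B y) = 0 := (bc R' A B).injective (by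
      rw [bc_lTensor_torsMap, hy, LinearEquiv.apply_symm_apply, hm, map_zero])
    have h1 : y = 0 := (Module.Flat.lTensor_preserves_injective_linearMap (M := B) _ (hinj n))
      ((Module.Flat.lTensor_preserves_injective_linearMap (M := B) (tors' R' A f n).subtype
        (Submodule.injective_subtype _)) (by rw [h0, map_zero, map_zero]))
    rw [h1, map_zero] at hy
    simpa using congrArg (TensorProduct.rid A B) hy.symm
  · obtain ⟨y', hy'⟩ := exists_tors_preimage (algebraMap R A f ^ n) ((bc R' A B).symm x) (by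
      refine (bc R' A B).injective ?_
      rw [← algebraMap_smul B (algebraMap R A f ^ n), map_smul, LinearEquiv.apply_symm_apply, map_zero,
        algebraMap_smul, pow_smul, hx])
    obtain ⟨y, rfl⟩ := LinearMap.lTensor_surjective B (hsur n) y'
    refine ⟨TensorProduct.rid A B ((tors A f n).subtype.lTensor B y), ?_, ?_⟩
    · rw [← pow_smul (A := A) n, ← map_smul]
      have : (algebraMap R A f ^ n) • (tors A f n).subtype.lTensor B y = 0 := by
        rw [← map_smul]
        rw [smul_tors_eq_zero, map_zero]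
      rw [this, map_zero]
    · rw [← bc_lTensor_torsMap, hy', LinearEquiv.apply_symm_apply]

/-- An element killed by a jointly surjective flat family is zero. -/
theorem eq_zero_of_family {K : Type u} (B : K → Type u) [∀ k, CommRing (B k)] [∀ k, Algebra A (B k)]
    [∀ k, Module.Flat A (B k)]
    (hs : ∀ p : Ideal A, p.IsPrime → ∃ (k : K) (P : Ideal (B k)), P.IsPrime ∧ P.comap (algebraMap A (B k)) = p)
    {N : Type u} [AddCommGroup N] [Module A N] (q : N) (h : ∀ k, (1 : B k) ⊗ₜ[A] q = 0) : q = 0 := by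
  by_contra hne
  let I : Ideal A := LinearMap.ker (LinearMap.toSpanSingleton A N q)
  have hI : I ≠ ⊤ := fun e => hne (by
    have : (1 : A) ∈ I := e ▸ Submodule.mem_top
    simpa [I] using this)
  obtain ⟨p, hp, hIp⟩ := I.exists_le_maximal hI
  obtain ⟨k, P, hP, hPp⟩ := hs p hp.isPrime
  let j : (A ⧸ I) →ₗ[A] N := Submodule.liftQ I (LinearMap.toSpanSingleton A N q) le_rfl
  have hj : Function.Injective j := by
    rw [← LinearMap.ker_eq_bot, Submodule.ker_liftQ_eq_bot' I _ rfl]
  have h0 : (1 : B k) ⊗ₜ[A] (Submodule.Quotient.mk (1 : A) : A ⧸ I) = 0 := by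
    refine Module.Flat.lTensor_preserves_injective_linearMap (M := B k) j hj ?_
    rw [map_zero, LinearMap.lTensor_tmul]
    show (1 : B k) ⊗ₜ[A] ((1 : A) • q) = 0
    rw [one_smul, h k]
  let ψ : (A ⧸ I) →ₐ[A] B k ⧸ P := Ideal.Quotient.liftₐ I (Algebra.ofId A (B k ⧸ P)) fun a ha => by
    have h1 : a ∈ p := hIp ha
    rw [← hPp] at h1
    exact (Ideal.Quotient.eq_zero_iff_mem.2 h1 : Ideal.Quotient.mk P (algebraMap A (B k) a) = 0)
  let φ : B k ⊗[A] (A ⧸ I) →ₐ[A] B k ⧸ P :=
    Algebra.TensorProduct.lift (Ideal.Quotient.mkₐ A P) ψ fun _ _ => Commute.all _ _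
  have h1 : (1 : B k ⧸ P) = 0 := by
    have := congrArg φ h0
    rw [map_zero, Algebra.TensorProduct.lift_tmul, map_one, one_mul] at this
    rw [← this]
    exact (map_one ψ).symm
  exact hP.ne_top (P.eq_top_iff_one.2 (Ideal.Quotient.eq_zero_iff_mem.1 ((map_one _).trans h1)))

/-- Glueability descends along jointly surjective flat families. -/
theorem of_family (hq : EtGlue.QuotPowBijective R R' f) {K : Type u} (B : K → Type u) [∀ k, CommRing (B k)]
    [∀ k, Algebra R (B k)] [∀ k, Algebra A (B k)] [∀ k, IsScalarTower R A (B k)] [∀ k, Module.Flat A (B k)]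
    (hs : ∀ p : Ideal A, p.IsPrime → ∃ (k : K) (P : Ideal (B k)), P.IsPrime ∧ P.comap (algebraMap A (B k)) = p)
    (hB : ∀ k, EtGlue.IsGlueable R R' f (B k)) : EtGlue.IsGlueable R R' f A := by
  refine (crit hq A).2 ⟨fun n m hn hm => ?_, fun n x hx => ?_⟩
  · refine eq_zero_of_family B hs m fun k => (TensorProduct.rid A (B k)).injective ?_
    rw [map_zero, TensorProduct.rid_tmul]
    refine ((crit hq (B k)).1 (hB k)).1 n _ ?_ ?_
    · rw [← smul_assoc, hn, zero_smul]
    · rw [← bc_tmul, hm, tmul_zero, map_zero]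
  · let T := LinearMap.range (torsMap R' A f n)
    let x' : tors' R' A f n := ⟨x, (pow_smul n x).trans hx⟩
    have h0 : T.mkQ x' = 0 := eq_zero_of_family B hs _ fun k => by
      obtain ⟨m', hm', hm'x⟩ := ((crit hq (B k)).1 (hB k)).2 n (bc R' A (B k) ((1 : B k) ⊗ₜ[A] x)) (by
        rw [← pow_smul (A := A) n, ← algebraMap_smul (B k) (algebraMap R A f ^ n), ← map_smul, algebraMap_smul,
          ← tmul_smul, pow_smul, hx, tmul_zero, map_zero])
      obtain ⟨w, hw⟩ := exists_tors_preimage (algebraMap R A f ^ n) ((TensorProduct.rid A (B k)).symm m') (by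
        rw [← map_smul, pow_smul, hm', map_zero])
      have e : (torsMap R' A f n).lTensor (B k) w = (1 : B k) ⊗ₜ[A] x' := by
        refine Module.Flat.lTensor_preserves_injective_linearMap (M := B k) (tors' R' A f n).subtype
          (Submodule.injective_subtype _) ((bc R' A (B k)).injective ?_)
        rw [bc_lTensor_torsMap, hw, LinearEquiv.apply_symm_apply, hm'x, LinearMap.lTensor_tmul]
        rfl
      have hz : T.mkQ.lTensor (B k) ((torsMap R' A f n).lTensor (B k) w) = 0 := by
        rw [← LinearMap.comp_apply, ← LinearMap.lTensor_comp, show T.mkQ.comp (torsMap R' A f n) = 0 from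
          LinearMap.ext fun z => (Submodule.Quotient.mk_eq_zero T).2 ⟨z, rfl⟩, LinearMap.lTensor_zero,
          LinearMap.zero_apply]
      rw [e, LinearMap.lTensor_tmul] at hz
      exact hz
    obtain ⟨m, hm⟩ := (Submodule.Quotient.mk_eq_zero T).1 h0
    exact ⟨m, (pow_smul n (m : A)).symm.trans m.2, (torsMap_apply n m).symm.trans (congrArg Subtype.val hm)⟩

end Groth.Agent.SpProper61.GlueLocal
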