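import Groth.Agent.SpProper61.GlueHomAffine
import Groth.Agent.SpProper61.GlueFlatLocal
import Mathlib.RingTheory.RingHom.Etale

/-!
Glueability of spaces is étale local.
-/

set_option autoImplicit false
set_option linter.style.haveILetI false
set_option backward.isDefEq.respectTransparency false

universe u

open TensorProduct CategoryTheory CategoryTheory.Limits AlgebraicGeometry
open AlgSp Groth.Agent.SpFP87

noncomputable section

namespace Groth.Agent.SpProper61.GlueEq

variable {R R' : Type u} [CommRing R] [CommRing R'] [Algebra R R'] {f : R}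

theorem glueable_of_flat_hom (hq : EtGlue.QuotPowBijective R R' f) {A B : Type u} [CommRing A] [Algebra R A]
    [CommRing B] [Algebra R B] (h : A →ₐ[R] B) (he : h.toRingHom.Etale)
    (hA : EtGlue.IsGlueable R R' f A) : EtGlue.IsGlueable R R' f B := by
  letI := h.toRingHom.toAlgebra
  haveI : IsScalarTower R A B := IsScalarTower.of_algebraMap_eq fun r => (h.commutes r).symm
  haveI : Algebra.Etale A B := RingHom.etale_algebraMap.1 he
  exact GlueLocal.of_flat hq hA

theorem glueable_of_family (hq : EtGlue.QuotPowBijective R R' f) {A : Type u} [CommRing A] [Algebra R A]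
    {K : Type u} (B : K → Type u) [∀ k, CommRing (B k)] [∀ k, Algebra R (B k)] (τ : ∀ k, A →ₐ[R] B k)
    (he : ∀ k, (τ k).toRingHom.Etale)
    (hs : ∀ p : Ideal A, p.IsPrime → ∃ (k : K) (P : Ideal (B k)), P.IsPrime ∧ P.comap (τ k).toRingHom = p)
    (hB : ∀ k, EtGlue.IsGlueable R R' f (B k)) : EtGlue.IsGlueable R R' f A := by
  letI : ∀ k, Algebra A (B k) := fun k => (τ k).toRingHom.toAlgebra
  haveI : ∀ k, IsScalarTower R A (B k) := fun k =>
    IsScalarTower.of_algebraMap_eq fun r => ((τ k).commutes r).symm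
  haveI : ∀ k, Algebra.Etale A (B k) := fun k => RingHom.etale_algebraMap.1 (he k)
  haveI : ∀ k, Module.Flat A (B k) := fun k => inferInstance
  exact GlueLocal.of_family hq B hs hB

/-- Glueability of affine étale schemes follows from a glueable étale covering. -/
theorem glueable_of_cover (hg : EtGlue.IsGlueingPair R R' f) {Y : Sp (Spec (CommRingCat.of R))}
    (hY : IsAlgSpace Y) {ι : Type u} (C : ι → Type u) [∀ k, CommRing (C k)] [∀ k, Algebra R (C k)]
    (g : ∀ k, (yon _).obj (aff R (C k)) ⟶ Y) (hge : ∀ k, RepWith @Etale (g k))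
    (hgs : ∀ y : Points Y, ∃ k, y ∈ Set.range (Points.map (g k)))
    (hC : ∀ k, EtGlue.IsGlueable R R' f (C k)) {A : Type u} [CommRing A] [Algebra R A]
    (a : (yon _).obj (aff R A) ⟶ Y) (ha : RepWith @Etale a) : EtGlue.IsGlueable R R' f A := by
  have hA : IsAlgSpace ((yon (Spec (CommRingCat.of R))).obj (aff R A)) := IsAlgSpace.yon_obj _
  have hP : ∀ k, IsAlgSpace (pullback a (g k)) := fun k =>
    isAlgSpace_pullback _ _ hA (IsAlgSpace.yon_obj _) hY
  choose L B iB iB' q hq hqs using fun k => exists_alg_charts (hP k)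
  choose τ hτ using fun n : Σ k, L k => exists_ym (q n.1 n.2 ≫ pullback.fst _ _)
  choose h hh using fun n : Σ k, L k => exists_ym (q n.1 n.2 ≫ pullback.snd _ _)
  refine glueable_of_family hg.1 (fun n : Σ k, L k => B n.1 n.2) τ (fun n => ?_) (fun p hp => ?_) fun n => ?_
  · refine etale_of_affMap ((repWith_yon_map_iff _ _).1 (?_ : RepWith @Etale (ym (τ n))))
    rw [hτ]
    exact SpPts86.isEtaleMor_baseChange (IsPullback.of_hasPullback a (g n.1)).flip (IsAlgSpace.yon_obj _) hY hA
      (SpPts86.isEtaleMor_of_repWith_etale (hge n.1)) _ (hq n.1 n.2)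
  · obtain ⟨k, z, hz⟩ := hgs (Points.map a (Points.ofScheme (aff R A) (⟨p, hp⟩ : ↥(aff R A).left)))
    obtain ⟨y, hy, -⟩ := SpPts86.exists_of_isPullback (IsPullback.of_hasPullback a (g k)) _ z hz.symm
    obtain ⟨l, r, hr⟩ := hqs k y
    refine ⟨⟨k, l⟩, r.asIdeal, r.isPrime, congrArg PrimeSpectrum.asIdeal (?_ : (affMap (τ ⟨k, l⟩)).left r = ⟨p, hp⟩)⟩
    refine (Points.schemeHomeo (aff R A)).injective ?_
    show Points.ofScheme _ ((affMap (τ ⟨k, l⟩)).left r) = Points.ofScheme _ _
    rw [← SpPts86.ofPt_yon_map, ← hy, ← hr, Points.map_ofPt]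
    exact congrArg (fun m => Points.ofPt m r) (hτ ⟨k, l⟩)
  · refine glueable_of_flat_hom hg.1 (h n) ?_ (hC n.1)
    refine etale_of_affMap ((repWith_yon_map_iff _ _).1 (?_ : RepWith @Etale (ym (h n))))
    rw [hh]
    exact SpPts86.isEtaleMor_baseChange (IsPullback.of_hasPullback a (g n.1)) hA hY (IsAlgSpace.yon_obj _)
      (SpPts86.isEtaleMor_of_repWith_etale ha) _ (hq n.1 n.2)

end Groth.Agent.SpProper61.GlueEq
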