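import Groth.Agent.SpProper61.SepColim
import Groth.Agent.SpPts86.CovSigma
import Groth.Agent.SpPts86.ZarGlue

/-!
Covers of spaces by families of etale maps from schemes.
-/

set_option autoImplicit false
set_option linter.style.haveILetI false
set_option backward.isDefEq.respectTransparency false

universe w v u

open CategoryTheory CategoryTheory.Limits AlgebraicGeometry
open AlgSp Groth.Agent.SpFP87

noncomputable section

namespace Groth.Agent.SpProper61

variable {S : Scheme.{u}}

theorem exists_sigmaIn {K : Type u} (V : K → Over S) (x : ↥(SpPts86.sigmaOver V).left) :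
    ∃ (k : K) (v : ↥(V k).left), (SpPts86.sigmaIn V k).left v = x := by
  obtain ⟨⟨k, v⟩, hv⟩ := (sigmaMk (fun k => (V k).left)).surjective x
  exact ⟨k, v, by rw [← hv, sigmaMk_mk]; rfl⟩

theorem sigmaIn_openImmersion {K : Type u} (V : K → Over S) (k : K) :
    IsOpenImmersion (SpPts86.sigmaIn V k).left :=
  inferInstanceAs (IsOpenImmersion (Sigma.ι (fun k => (V k).left) k))

/-- A jointly surjective family of etale maps from schemes gives a chart from their disjoint union. -/
theorem exists_sigma_chart {U : Sp S} (hU : IsAlgSpace U) {K : Type u} (V : K → Over S)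
    (g : ∀ k, (yon S).obj (V k) ⟶ U) (hg : ∀ k, RepWith @Etale (g k))
    (hs : ∀ x : Points U, ∃ (k : K) (t : ↥(V k).left), Points.ofPt (g k) t = x) :
    ∃ L : (yon S).obj (SpPts86.sigmaOver V) ⟶ U, (∀ k, (yon S).map (SpPts86.sigmaIn V k) ≫ L = g k) ∧
      RepWith @Etale L ∧ RepWith @Surjective L := by
  obtain ⟨L, hL⟩ := SpPts86.sigma_glue V g
  refine ⟨L, hL, ?_, SpPts86.repWith_surjective_of_surjective_ofPt (hU.representable_from_yon L) fun x => ?_⟩
  · refine SpPts86.repWith_etale_of_isEtaleMor hU (hU.representable_from_yon L) ?_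
    refine SpPts86.isEtaleMor_of_locP_etale hU fun A A' a b h ha hb w => ?_
    obtain ⟨a, rfl⟩ := (yon S).map_surjective a
    have hae : Etale a.left := (repWith_yon_map_iff _ _).1 ha
    let O : K → A.left.Opens := fun k => a.left ⁻¹ᵁ (SpPts86.sigmaIn V k).left.opensRange (H := sigmaIn_openImmersion V k)
    have hO : iSup O = ⊤ := top_le_iff.1 fun t _ => by
      obtain ⟨k, v, hv⟩ := exists_sigmaIn V (a.left t)
      exact TopologicalSpace.Opens.mem_iSup.2 ⟨k, ⟨v, hv⟩⟩
    refine (IsZariskiLocalAtSource.iff_of_iSup_eq_top (P := @Etale) O hO).2 fun k => ?_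
    haveI := sigmaIn_openImmersion V k
    let Ak : Over S := Over.mk ((O k).ι ≫ A.hom)
    let i : Ak ⟶ A := Over.homMk (O k).ι rfl
    have hr : Set.range ((O k).ι ≫ a.left) ⊆ Set.range (SpPts86.sigmaIn V k).left := by
      rintro _ ⟨t, rfl⟩
      exact t.2
    let l : Ak ⟶ V k := Over.homMk (IsOpenImmersion.lift (SpPts86.sigmaIn V k).left ((O k).ι ≫ a.left) hr) (by
      show _ ≫ (V k).hom = (O k).ι ≫ A.hom
      rw [← Over.w (SpPts86.sigmaIn V k), ← Category.assoc, IsOpenImmersion.lift_fac, Category.assoc, Over.w])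
    have hl : l ≫ SpPts86.sigmaIn V k = i ≫ a :=
      Over.OverMorphism.ext (IsOpenImmersion.lift_fac _ _ hr)
    have hle : Etale l.left := by
      have : Etale (l.left ≫ (SpPts86.sigmaIn V k).left) := by
        rw [← Over.comp_left, hl]
        exact inferInstanceAs (Etale ((O k).ι ≫ a.left))
      exact Etale.of_comp l.left (SpPts86.sigmaIn V k).left
    have he : Etale (i ≫ h).left := SpPts86.etale_of_comm
      (a := (yon S).map l ≫ g k) (SpPts86.repWith_etale_comp l (hg k)) hb (by
        rw [← hL k, ← Functor.map_comp_assoc, hl]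
        simp only [Functor.map_comp, Category.assoc, w])
    exact he
  · obtain ⟨k, t, rfl⟩ := hs x
    exact ⟨(SpPts86.sigmaIn V k).left t, by rw [← SpPts86.ofPt_comp, hL]⟩

/-- An algebraic space has a chart by a disjoint union of affine schemes. -/
theorem exists_affine_charts {U : Sp S} (hU : IsAlgSpace U) :
    ∃ (K : Type u) (V : K → Over S) (g : ∀ k, (yon S).obj (V k) ⟶ U),
      (∀ k, IsAffine (V k).left) ∧ (∀ k, RepWith @Etale (g k)) ∧
      ∀ x : Points U, ∃ (k : K) (t : ↥(V k).left), Points.ofPt (g k) t = x := by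
  obtain ⟨W, w, hw, hws⟩ := hU.atlas
  refine ⟨↥W.left.affineOpens, fun A => SpPts86.openOver W A.1,
    fun A => (yon S).map (SpPts86.openIncl W A.1) ≫ w, fun A => A.2, fun A => ?_, fun x => ?_⟩
  · haveI : Etale (SpPts86.openIncl W A.1).left := inferInstanceAs (Etale A.1.ι)
    exact SpPts86.repWith_etale_comp _ hw
  · obtain ⟨s, rfl⟩ := SpPts86.surjective_ofPt hws x
    obtain ⟨A, hA, hs, -⟩ := exists_isAffineOpen_mem_and_subset (x := s) (U := ⊤) trivial
    exact ⟨⟨A, hA⟩, ⟨s, hs⟩, SpPts86.ofPt_comp _ _ _⟩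

/-- Maps agreeing on a jointly surjective etale family agree. -/
theorem hom_ext_of_charts {U : Sp S} (hU : IsAlgSpace U) {K : Type u} (V : K → Over S)
    (g : ∀ k, (yon S).obj (V k) ⟶ U) (hg : ∀ k, RepWith @Etale (g k))
    (hs : ∀ x : Points U, ∃ (k : K) (t : ↥(V k).left), Points.ofPt (g k) t = x) {Z : Sp S}
    {m m' : U ⟶ Z} (h : ∀ k, g k ≫ m = g k ≫ m') : m = m' := by
  obtain ⟨L, hL, he, hsu⟩ := exists_sigma_chart hU V g hg hs
  refine SpPts86.hom_ext_of_locLift (locLift_of_atlas he hsu) ?_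
  refine SpPts86.open_cover_hom_ext V (SpPts86.sigmaIn V) (sigmaIn_openImmersion V) (fun x => ?_) fun k => ?_
  · obtain ⟨k, v, hv⟩ := exists_sigmaIn V x
    exact ⟨k, v, hv⟩
  · rw [reassoc_of% hL k, reassoc_of% hL k, h k]

end Groth.Agent.SpProper61
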