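import Groth.Agent.SpProper61.GlueIdem
import Groth.Agent.SpProper61.EtaleCover
import Groth.Agent.SpPts86.DiagProps
import Mathlib.AlgebraicGeometry.ZariskisMainTheorem

/-!
Morphisms of glueable spaces agreeing on both pieces agree.
-/

set_option autoImplicit false
set_option linter.style.haveILetI false
set_option backward.isDefEq.respectTransparency false

universe u

open TensorProduct CategoryTheory CategoryTheory.Limits AlgebraicGeometry
open AlgSp Groth.Agent.SpFP87

noncomputable section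

namespace Groth.Agent.SpProper61.GlueEq

variable {R R' : Type u} [CommRing R] [CommRing R'] [Algebra R R'] {f : R}

/-- The spectrum of an algebra over the base. -/
abbrev aff (R : Type u) [CommRing R] (A : Type u) [CommRing A] [Algebra R A] : Over (Spec (CommRingCat.of R)) :=
  Over.mk (Spec.map (CommRingCat.ofHom (algebraMap R A)))

/-- The morphism of spectra of an algebra map. -/
def affMap {A A' : Type u} [CommRing A] [Algebra R A] [CommRing A'] [Algebra R A'] (φ : A →ₐ[R] A') :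
    aff R A' ⟶ aff R A :=
  Over.homMk (Spec.map (CommRingCat.ofHom φ.toRingHom)) (by
    show Spec.map _ ≫ Spec.map _ = Spec.map _
    rw [← Spec.map_comp, ← CommRingCat.ofHom_comp]
    exact congrArg (fun ψ => Spec.map (CommRingCat.ofHom ψ)) φ.comp_algebraMap)

/-- An affine scheme over the base is the spectrum of an algebra. -/
theorem exists_algebra_iso (T : Over (Spec (CommRingCat.of R))) [IsAffine T.left] :
    ∃ (C : Type u) (_ : CommRing C) (_ : Algebra R C), Nonempty (aff R C ≅ T) := by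
  let φ := Spec.preimage (T.left.isoSpec.inv ≫ T.hom)
  refine ⟨Γ(T.left, ⊤), inferInstance, φ.hom.toAlgebra, ⟨Over.isoMk T.left.isoSpec.symm ?_⟩⟩
  exact (Spec.map_preimage (T.left.isoSpec.inv ≫ T.hom)).symm

theorem mem_range_loc {A : Type u} [CommRing A] [Algebra R A] (x : ↥(aff R A).left)
    (hx : algebraMap R A f ∉ x.asIdeal) :
    x ∈ Set.range (affMap (IsScalarTower.toAlgHom R A (Localization.Away (algebraMap R A f)))).left := by
  have := PrimeSpectrum.localization_away_comap_range (Localization.Away (algebraMap R A f)) (algebraMap R A f)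
  obtain ⟨y, hy⟩ := this.ge (show x ∈ (PrimeSpectrum.basicOpen (algebraMap R A f) : Set (PrimeSpectrum A)) from hx)
  exact ⟨y, hy⟩

theorem mem_range_tensor (hg : EtGlue.IsGlueingPair R R' f) {A : Type u} [CommRing A] [Algebra R A]
    (x : ↥(aff R A).left) (hx : algebraMap R A f ∈ x.asIdeal) :
    x ∈ Set.range (affMap (Algebra.TensorProduct.includeRight : A →ₐ[R] R' ⊗[R] A)).left := by
  obtain ⟨P, hP, hPx⟩ := exists_prime_over hg x.asIdeal (hp := x.isPrime) hx
  exact ⟨⟨P, hP⟩, PrimeSpectrum.ext hPx⟩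

/-- A monomorphism through which a base change factors: a closed piece becomes open. -/
theorem isOpenImmersion_fst {D T P Q : Scheme.{u}} (a : D ⟶ T) (k : P ⟶ T) [Mono k] (j : Q ⟶ P)
    [IsOpenImmersion j] (s : D ⟶ P) (hs : s ≫ k = a) : IsOpenImmersion (pullback.fst a (j ≫ k)) := by
  have : IsIso (pullback.fst a k) :=
    ⟨pullback.lift (𝟙 D) s (by rw [Category.id_comp, hs]),
      (cancel_mono (pullback.fst a k)).1 (by rw [Category.assoc, pullback.lift_fst, Category.comp_id, Category.id_comp]),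
      pullback.lift_fst _ _ _⟩
  let m := pullback.map a (j ≫ k) a k (𝟙 D) j (𝟙 T) (by simp) (by simp)
  have : IsOpenImmersion m := inferInstance
  have e : pullback.fst a (j ≫ k) = m ≫ pullback.fst a k := by simp [m]
  rw [e]
  infer_instance

/-- A monomorphism split over both pieces has sections étale locally. -/
theorem exists_etale_section (hg : EtGlue.IsGlueingPair R R' f) {A : Type u} [CommRing A] [Algebra R A]
    {E : Scheme.{u}} (ι : E ⟶ (aff R A).left) [Mono ι] [LocallyOfFiniteType ι]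
    (hglue : ∀ (C : Type u) [CommRing C] [Algebra R C] (t : aff R C ⟶ aff R A), Etale t.left →
      EtGlue.IsGlueable R R' f C)
    (hsec : ∀ (C : Type u) [CommRing C] [Algebra R C] (t : aff R C ⟶ aff R A), Etale t.left →
      (∃ s, s ≫ ι = (affMap (IsScalarTower.toAlgHom R C (Localization.Away (algebraMap R C f)))).left ≫ t.left) ∧
      (∃ s, s ≫ ι = (affMap (Algebra.TensorProduct.includeRight : C →ₐ[R] R' ⊗[R] C)).left ≫ t.left))
    (x : ↥(aff R A).left) :
    ∃ (T : Over (Spec (CommRingCat.of R))) (t : T ⟶ aff R A) (r : T.left ⟶ E),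
      Etale t.left ∧ x ∈ Set.range t.left ∧ r ≫ ι = t.left := by
  obtain ⟨e, he⟩ : ∃ e, ι e = x := by
    obtain ⟨⟨s₁, h₁⟩, ⟨s₂, h₂⟩⟩ := hsec A (𝟙 _) (by rw [Over.id_left]; infer_instance)
    rw [Over.id_left, Category.comp_id] at h₁ h₂
    by_cases hx : algebraMap R A f ∈ x.asIdeal
    · obtain ⟨y, hy⟩ := mem_range_tensor hg x hx
      exact ⟨s₂ y, by rw [← Scheme.Hom.comp_apply, h₂, hy]⟩
    · obtain ⟨y, hy⟩ := mem_range_loc (f := f) x hx
      exact ⟨s₁ y, by rw [← Scheme.Hom.comp_apply, h₁, hy]⟩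
  haveI : LocallyQuasiFinite ι := SpPts86.mono_inf_lft_le_lqf _ ⟨‹Mono ι›, ‹LocallyOfFiniteType ι›⟩
  obtain ⟨U, h, hh, -, V, W, v, -, hfin, hv⟩ :=
    exists_etale_isCompl_of_quasiFiniteAt ι he (ι.quasiFiniteAt e)
  let u := pullback.snd ι h v.1
  have hu : h u = x := by
    rw [← Scheme.Hom.comp_apply, ← pullback.condition, Scheme.Hom.comp_apply, hv, he]
  obtain ⟨O, hO, huO, -⟩ := exists_isAffineOpen_mem_and_subset (x := u) (U := ⊤) trivial
  let T₀ : Over (Spec (CommRingCat.of R)) := Over.mk (O.ι ≫ h ≫ (aff R A).hom)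
  haveI : IsAffine T₀.left := hO
  obtain ⟨C, _, _, ⟨θ⟩⟩ := exists_algebra_iso T₀
  haveI : IsIso θ.hom.left := inferInstanceAs (IsIso ((Over.forget _).map θ.hom))
  let g : (aff R C).left ⟶ U := θ.hom.left ≫ O.ι
  haveI : IsOpenImmersion g := inferInstanceAs (IsOpenImmersion (θ.hom.left ≫ O.ι))
  let tC : aff R C ⟶ aff R A := Over.homMk (g ≫ h) (by
    show (g ≫ h) ≫ (aff R A).hom = (aff R C).hom
    rw [← Over.w θ.hom]; simp [g, T₀])
  haveI := hh
  have htC : Etale tC.left := inferInstanceAs (Etale (g ≫ h))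
  obtain ⟨⟨s₁, hs₁⟩, ⟨s₂, hs₂⟩⟩ := hsec C tC htC
  let k : pullback (pullback.snd ι h) g ⟶ (aff R C).left := pullback.snd _ _
  haveI : Mono k := inferInstance
  let j : pullback (V.ι ≫ pullback.snd ι h) g ⟶ pullback (pullback.snd ι h) g :=
    pullback.map _ _ _ _ V.ι (𝟙 _) (𝟙 _) (by simp) (by simp)
  haveI : IsOpenImmersion j := inferInstance
  let q : pullback (V.ι ≫ pullback.snd ι h) g ⟶ (aff R C).left := pullback.snd _ _
  have hjk : j ≫ k = q := by simp [j, k, q]
  haveI : IsFinite q := inferInstanceAs (IsFinite (pullback.snd (V.ι ≫ pullback.snd ι h) g))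
  haveI : Mono q := hjk ▸ inferInstance
  haveI : IsClosedImmersion q := (IsClosedImmersion.iff_isFinite_and_mono q).2 ⟨‹_›, ‹_›⟩
  obtain ⟨J, iso, hiso⟩ := IsClosedImmersion.Spec_iff.1 ‹IsClosedImmersion q›
  have hmk : Spec.map (CommRingCat.ofHom (Ideal.Quotient.mk J)) = (iso.inv ≫ j) ≫ k := by
    rw [Category.assoc, hjk, hiso, Iso.inv_hom_id_assoc]
  have hlift : ∀ {D : Scheme.{u}} (a : D ⟶ (aff R C).left) (s : D ⟶ E), s ≫ ι = a ≫ tC.left →
      IsOpenImmersion (pullback.fst a (Spec.map (CommRingCat.ofHom (Ideal.Quotient.mk J)))) := by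
    intro D a s hs
    rw [hmk]
    exact isOpenImmersion_fst a k (iso.inv ≫ j)
      (pullback.lift (pullback.lift s (a ≫ g) (by rw [hs]; simp [tC])) a (pullback.lift_snd _ _ _))
      (pullback.lift_snd _ _ _)
  obtain ⟨e₀, he₁, he₂⟩ := exists_idem hg (hglue C tC htC) J
    (exists_idem_of_openImmersion J (hlift _ s₁ hs₁))
    (by
      letI := (Algebra.TensorProduct.includeRight : C →ₐ[R] R' ⊗[R] C).toRingHom.toAlgebra
      exact exists_idem_of_openImmersion (L := R' ⊗[R] C) J (hlift _ s₂ hs₂))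
  obtain ⟨u', hu'⟩ : ∃ u' : ↥(aff R C).left, g u' = u := by
    obtain ⟨w, hw⟩ : ∃ w, θ.hom.left w = (⟨u, huO⟩ : O.toScheme) := θ.hom.left.surjective _
    exact ⟨w, (Scheme.Hom.comp_apply _ _ _).trans (congrArg O.ι hw)⟩
  obtain ⟨z, -, hz⟩ := Scheme.Pullback.exists_preimage_pullback (f := V.ι ≫ pullback.snd ι h) (g := g) v u'
    (by rw [hu']; rfl)
  have hJu : J ≤ u'.asIdeal := by
    have hmem : u' ∈ Set.range (Spec.map (CommRingCat.ofHom (Ideal.Quotient.mk J))) := by
      refine ⟨iso.hom z, ?_⟩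
      rw [← Scheme.Hom.comp_apply, ← hiso]
      exact hz
    obtain ⟨w, rfl⟩ := hmem
    intro c hc
    show Ideal.Quotient.mk J c ∈ w.asIdeal
    rw [Ideal.Quotient.eq_zero_iff_mem.2 hc]
    exact zero_mem _
  have heu : e₀ ∈ u'.asIdeal := he₂ _ u'.isPrime hJu
  let C' := Localization.Away (1 - e₀)
  let ψ : C ⧸ J →+* C' := Ideal.Quotient.lift J (algebraMap C C') fun c hc => by
    refine (IsLocalization.map_eq_zero_iff (Submonoid.powers (1 - e₀)) C' c).2 ⟨⟨_, 1, rfl⟩, ?_⟩
    show (1 - e₀) ^ 1 * c = 0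
    rw [pow_one, sub_mul, one_mul, mul_comm, he₁ c hc, sub_self]
  let r : (aff R C').left ⟶ E :=
    Spec.map (CommRingCat.ofHom ψ) ≫ (iso.inv ≫ j) ≫ pullback.fst _ _ ≫ pullback.fst ι h
  refine ⟨aff R C', affMap (IsScalarTower.toAlgHom R C C') ≫ tC, r, ?_, ?_, ?_⟩
  · haveI : IsOpenImmersion (affMap (IsScalarTower.toAlgHom R C C')).left :=
      IsOpenImmersion.of_isLocalization (R := CommRingCat.of C) (1 - e₀)
    haveI := htC
    rw [Over.comp_left]
    infer_instance
  · have hnot : 1 - e₀ ∉ u'.asIdeal := fun hne =>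
      u'.isPrime.ne_top (u'.asIdeal.eq_top_iff_one.2 (by simpa using add_mem hne heu))
    obtain ⟨w, hw⟩ := (PrimeSpectrum.localization_away_comap_range C' (1 - e₀)).ge
      (show u' ∈ (PrimeSpectrum.basicOpen (1 - e₀) : Set (PrimeSpectrum C)) from hnot)
    refine ⟨w, ?_⟩
    rw [Over.comp_left, Scheme.Hom.comp_apply]
    show (g ≫ h) ((affMap (IsScalarTower.toAlgHom R C C')).left w) = x
    rw [show (affMap (IsScalarTower.toAlgHom R C C')).left w = u' from hw, Scheme.Hom.comp_apply, hu', hu]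
  · have hc : pullback.fst (pullback.snd ι h) g ≫ pullback.fst ι h ≫ ι = k ≫ tC.left := by
      rw [pullback.condition, pullback.condition_assoc]; rfl
    show (Spec.map (CommRingCat.ofHom ψ) ≫ (iso.inv ≫ j) ≫ pullback.fst _ _ ≫ pullback.fst ι h) ≫ ι = _
    simp only [Category.assoc]
    rw [hc]
    have h3 : Spec.map (CommRingCat.ofHom ψ) ≫ iso.inv ≫ j ≫ k =
        (affMap (IsScalarTower.toAlgHom R C C')).left := by
      rw [← Category.assoc iso.inv, ← hmk, ← Spec.map_comp, ← CommRingCat.ofHom_comp]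
      rfl
    rw [Over.comp_left, reassoc_of% h3]

/-- Morphisms from a glueable space agreeing over both pieces agree. -/
theorem eq_of_pieces (hg : EtGlue.IsGlueingPair R R' f) {Y Z : Sp (Spec (CommRingCat.of R))}
    (hY : IsAlgSpace Y) (hZ : IsAlgSpace Z)
    (hglue : ∀ (A : Type u) [CommRing A] [Algebra R A] (g : (yon _).obj (aff R A) ⟶ Y),
      RepWith @Etale g → EtGlue.IsGlueable R R' f A)
    (a b : Y ⟶ Z)
    (hab : ∀ (A : Type u) [CommRing A] [Algebra R A] (g : (yon _).obj (aff R A) ⟶ Y),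
      (yon _).map (affMap (IsScalarTower.toAlgHom R A (Localization.Away (algebraMap R A f)))) ≫ g ≫ a =
        (yon _).map (affMap (IsScalarTower.toAlgHom R A (Localization.Away (algebraMap R A f)))) ≫ g ≫ b ∧
      (yon _).map (affMap (Algebra.TensorProduct.includeRight : A →ₐ[R] R' ⊗[R] A)) ≫ g ≫ a =
        (yon _).map (affMap (Algebra.TensorProduct.includeRight : A →ₐ[R] R' ⊗[R] A)) ≫ g ≫ b) : a = b := by
  obtain ⟨K, V, p, hV, hp, hps⟩ := exists_affine_charts hY
  refine hom_ext_of_charts hY V p hp hps fun k => ?_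
  haveI := hV k
  obtain ⟨A, _, _, ⟨θ⟩⟩ := exists_algebra_iso (V k)
  haveI : IsIso θ.hom.left := inferInstanceAs (IsIso ((Over.forget _).map θ.hom))
  let g := (yon _).map θ.hom ≫ p k
  have hge : RepWith @Etale g := SpPts86.repWith_etale_comp θ.hom (hp k)
  rw [← cancel_epi ((yon _).map θ.hom), ← Category.assoc, ← Category.assoc]
  change g ≫ a = g ≫ b
  have hr : Representable (Limits.diag Z) := hZ.diag
  obtain ⟨E, ι, q, sq⟩ : ∃ (E : Over (Spec (CommRingCat.of R))) (ι : E ⟶ aff R A) (q : (yon _).obj E ⟶ Z),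
      IsPullback q ((yon _).map ι) (Limits.diag Z) (prod.lift (g ≫ a) (g ≫ b)) :=
    ⟨_, hr.snd _, hr.fst _, hr.isPullback _⟩
  haveI : Mono ι.left := (SpPts86.repWith_mono_diag hZ).property _ _ _ sq
  haveI : LocallyOfFiniteType ι.left := (SpPts86.repWith_lft_diag hZ).property _ _ _ sq
  have hfac : ∀ (D : Over (Spec (CommRingCat.of R))) (l : D ⟶ aff R A),
      (yon _).map l ≫ g ≫ a = (yon _).map l ≫ g ≫ b → ∃ s : D ⟶ E, s ≫ ι = l := fun D l hl => by
    obtain ⟨s, hs⟩ := (yon _).map_surjective (sq.lift ((yon _).map l ≫ g ≫ a) ((yon _).map l)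
      (prod.hom_ext (by simp) (by simp [hl])))
    exact ⟨s, (yon _).map_injective (by rw [Functor.map_comp, hs, sq.lift_snd])⟩
  have hι : (yon _).map ι ≫ g ≫ a = (yon _).map ι ≫ g ≫ b := by
    have h1 := congrArg (· ≫ Limits.prod.fst) sq.w
    have h2 := congrArg (· ≫ Limits.prod.snd) sq.w
    simp only [Category.assoc, prod.lift_fst, prod.lift_snd, Category.comp_id] at h1 h2
    exact h1.symm.trans h2
  have key := exists_etale_section hg ι.left
    (fun C _ _ t ht => hglue C ((yon _).map t ≫ g) (SpPts86.repWith_etale_comp t hge))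
    (fun C _ _ t ht => by
      obtain ⟨h1, h2⟩ := hab C ((yon _).map t ≫ g)
      simp only [Category.assoc] at h1 h2
      obtain ⟨s₁, hs₁⟩ := hfac _ (affMap (IsScalarTower.toAlgHom R C (Localization.Away (algebraMap R C f))) ≫ t)
        (by simpa using h1)
      obtain ⟨s₂, hs₂⟩ := hfac _ (affMap (Algebra.TensorProduct.includeRight : C →ₐ[R] R' ⊗[R] C) ≫ t)
        (by simpa using h2)
      exact ⟨⟨s₁.left, by rw [← Over.comp_left, hs₁, Over.comp_left]⟩,
        ⟨s₂.left, by rw [← Over.comp_left, hs₂, Over.comp_left]⟩⟩)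
  choose T t r ht htx hr' using key
  refine hom_ext_of_charts (IsAlgSpace.yon_obj (aff R A)) T (fun x => (yon _).map (t x))
    (fun x => (repWith_yon_map_iff _ _).2 (ht x)) (fun y => ?_) fun x => ?_
  · obtain ⟨x, rfl⟩ := (Points.schemeHomeo (aff R A)).surjective y
    obtain ⟨w, hw⟩ := htx x
    exact ⟨x, w, by rw [SpPts86.ofPt_yon_map, hw]; rfl⟩
  · let rx : T x ⟶ E := Over.homMk (r x) (by rw [← Over.w ι, ← Category.assoc, hr', Over.w (t x)])
    have : rx ≫ ι = t x := Over.OverMorphism.ext (hr' x)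
    rw [← this, Functor.map_comp]
    simp only [g, Category.assoc] at hι ⊢
    rw [hι]

end Groth.Agent.SpProper61.GlueEq
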