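import Groth.Agent.SpProper61.PushFlat

/-!
Maps between pushouts of spaces along thickenings: cartesian faces and descent of properties.
-/

set_option autoImplicit false
set_option linter.style.haveILetI false
set_option backward.isDefEq.respectTransparency false

universe u

open CategoryTheory CategoryTheory.Limits AlgebraicGeometry
open AlgSp Groth.Agent.SpFP87 Groth.Agent.SpPts86

namespace Groth.Agent.SpProper61

variable {S : Scheme.{u}}

/-- A square is cartesian if it is so after a covering of one of its corners. -/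
theorem isPullback_of_cover {X A B Z : Sp S} {p₁ : X ⟶ A} {p₂ : X ⟶ B} {a : A ⟶ Z} {b : B ⟶ Z} {T T' : Over S}
    {π : (yon S).obj T ⟶ A} (hπ : LocLift π) {πX : (yon S).obj T' ⟶ X} {k : T' ⟶ T}
    (w : p₁ ≫ a = p₂ ≫ b) (sq₁ : IsPullback πX ((yon S).map k) p₁ π)
    (sq₂ : IsPullback (πX ≫ p₂) ((yon S).map k) b (π ≫ a)) : IsPullback p₁ p₂ a b := by
  let l : X ⟶ pullback a b := pullback.lift p₁ p₂ w
  haveI : Mono l := ⟨fun {G} x x' h => by
    refine sp_hom_ext fun U g => ?_
    obtain ⟨W, c, z, hc, hz⟩ := hπ U (g ≫ x ≫ p₁)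
    refine cover_hom_ext c hc ?_
    have h₁ : x ≫ p₁ = x' ≫ p₁ := by
      simpa only [l, Category.assoc, pullback.lift_fst] using congrArg (· ≫ pullback.fst a b) h
    have h₂ : x ≫ p₂ = x' ≫ p₂ := by
      simpa only [l, Category.assoc, pullback.lift_snd] using congrArg (· ≫ pullback.snd a b) h
    let e := sq₁.lift ((yon S).map c ≫ g ≫ x) z (by simp only [Category.assoc]; exact hz.symm)
    let e' := sq₁.lift ((yon S).map c ≫ g ≫ x') z (by simp only [Category.assoc, ← h₁]; exact hz.symm)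
    have he : e = e' := sq₂.hom_ext (by simp only [e, e', ← Category.assoc, sq₁.lift_fst]; simp only [Category.assoc, h₂])
      (by simp only [e, e', sq₁.lift_snd])
    have := congrArg (· ≫ πX) he
    simpa only [e, e', sq₁.lift_fst] using this⟩
  haveI : IsIso l := isIso_of_mono_of_locLift l fun U g => by
    obtain ⟨W, c, z, hc, hz⟩ := hπ U (g ≫ pullback.fst a b)
    let e := sq₂.lift ((yon S).map c ≫ g ≫ pullback.snd a b) z
      (by rw [reassoc_of% hz]; simp only [Category.assoc, pullback.condition])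
    refine ⟨W, c, e ≫ πX, hc, pullback.hom_ext ?_ ?_⟩
    · simp only [l, Category.assoc, pullback.lift_fst, sq₁.w]
      rw [← Category.assoc, sq₂.lift_snd, hz]
    · simp only [l, Category.assoc, pullback.lift_snd]
      exact sq₂.lift_fst _ _ _
  exact IsPullback.of_iso_pullback ⟨w⟩ (asIso l) (pullback.lift_fst _ _ _) (pullback.lift_snd _ _ _)

variable {X X' Y Y' : Sp S} {t : X ⟶ X'} {f : X ⟶ Y} {f' : X' ⟶ Y'} {t' : Y ⟶ Y'}

theorem PushChart.comm (C : PushChart t f f' t') : t ≫ f' = f ≫ t' :=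
  hom_ext_of_locLift (locLift_of_atlas C.etX C.surjX) (by
    rw [reassoc_of% C.sqt.w, C.sqf'.w, reassoc_of% C.sqf.w, C.sqt'.w, ← Functor.map_comp_assoc,
      ← Functor.map_comp_assoc, C.po.w])

/-- The pushout square is cartesian. -/
theorem PushChart.isPullback (C : PushChart t f f' t') : IsPullback t f f' t' := by
  haveI := C.closed; haveI := C.surj; haveI := C.affine
  have hpo : IsPushout C.tU.left C.fU.left C.a.left C.b.left := C.po.map (Over.forget S)
  have hcart : IsPullback C.tU.left C.fU.left C.a.left C.b.left := by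
    obtain ⟨e, ha, hb⟩ := Pinch2.exists_iso (Pinch2.hasPairs_thickening (i := C.tU.left) (j := C.fU.left)) hpo
    exact (Pinch2.isPullback (Pinch2.hasPairs_thickening (i := C.tU.left) (j := C.fU.left))).of_iso
      (Iso.refl _) (Iso.refl _) (Iso.refl _) e (by simp) (by simp) (by simp [ha]) (by simp [hb])
  have hcart' := (IsPullback.of_map (Over.forget S) C.po.w hcart).map (yon S)
  refine isPullback_of_cover (locLift_of_atlas C.etX' C.surjX') C.comm C.sqt ?_
  have := hcart'.flip.paste_horiz C.sqt'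
  rw [← C.sqf.w] at this
  rwa [← C.sqf'.w] at this

/-- The map from the thickened part to a pushout is affine. -/
theorem PushChart.affine_inl (C : PushChart t f f' t') (hX' : IsAlgSpace X') (hY' : IsAlgSpace Y') :
    RepWith @IsAffineHom f' := by
  haveI := C.closed; haveI := C.surj; haveI := C.affine
  haveI : IsAffineHom C.a.left := Pinch2.isAffineHom_inl
    (Pinch2.hasPairs_thickening (i := C.tU.left) (j := C.fU.left)) (C.po.map (Over.forget S))
  have hcov : IsFpqcCover (fun _ : PUnit.{u + 1} => (yon S).obj C.V') (fun _ => C.q) :=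
    isFpqcCover_of_isFppfCover _ _ hY' (fun _ => IsAlgSpace.yon_obj C.V')
      ⟨fun _ => ⟨locP_of_repWith (IsAlgSpace.yon_obj C.V').diag hY'
          (Groth.Agent.SpPts86.repWith_mono (fun _ _ k (hk : Etale k) => (inferInstance : Flat k)) C.etQ),
        locP_of_repWith (IsAlgSpace.yon_obj C.V').diag hY' (Groth.Agent.SpPts86.repWith_mono
          (fun _ _ k (hk : Etale k) => (inferInstance : LocallyOfFinitePresentation k)) C.etQ)⟩,
        fun y => ⟨PUnit.unit, (repWith_surjective_iff C.etQ.rep).1 C.surjQ y⟩⟩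
  exact (isLocalOnBase_fpqc_repWith Groth.Agent.Unr55.isAffineHom
    (fun _ _ k (_ : IsAffineHom k) => isIndQuasiAffineHom_of_isAffineHom k)
    (fun _ : PUnit.{u + 1} => (yon S).obj C.V') (fun _ => C.q) hY' (fun _ => IsAlgSpace.yon_obj C.V')
    hcov f' hX' (fun _ => (yon S).obj C.U') (fun _ => (yon S).map C.a) (fun _ => C.pX')
    (fun _ => IsAlgSpace.yon_obj C.U') (fun _ => C.sqf')).2
    fun _ => (repWith_yon_map_iff _ C.a).2 inferInstance

variable {X X' Y Y' U U' V V' : Space S} {t : X ⟶ X'} {f : X ⟶ Y} {f' : X' ⟶ Y'} {t' : Y ⟶ Y'}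
  {v : V ⟶ Y} {u' : U' ⟶ X'} {uV : U ⟶ V} {uU' : U ⟶ U'} {uX : U ⟶ X} {iV : V ⟶ V'} {iU' : U' ⟶ V'}
  {v' : V' ⟶ Y'}

/-- The faces of a map of pushouts are cartesian, and the properties of the legs pass to the map. -/
theorem pushout_map_props (ht : IsThickMor t.hom) (hf : RepWith @IsAffineHom f.hom) (hY' : IsPushout t f f' t')
    (hUV : IsPullback uV.hom uX.hom v.hom f.hom) (hUU' : IsPullback uU'.hom uX.hom u'.hom t.hom)
    (hV' : IsPushout uV uU' iV iU') (hv'₁ : iV ≫ v' = v ≫ t') (hv'₂ : iU' ≫ v' = u' ≫ f') :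
    (IsPullback iV.hom v.hom v'.hom t'.hom ∧ IsPullback iU'.hom u'.hom v'.hom f'.hom) ∧
    (LocP @LocallyOfFiniteType v.hom → LocP @LocallyOfFiniteType u'.hom → LocP @LocallyOfFiniteType v'.hom) ∧
    (LocP @Flat v.hom → LocP @Flat u'.hom → LocP @Flat v'.hom) ∧
    (LocP @Flat v.hom → LocP @Flat u'.hom → LocP @LocallyOfFinitePresentation v.hom →
      LocP @LocallyOfFinitePresentation u'.hom → LocP @LocallyOfFinitePresentation v'.hom) ∧
    (LocP @Smooth v.hom → LocP @Smooth u'.hom → LocP @Smooth v'.hom) ∧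
    (LocP @Etale v.hom → LocP @Etale u'.hom → LocP @Etale v'.hom) := by
  have hv₁ : iV.hom ≫ v'.hom = v.hom ≫ t'.hom := congrArg (fun k => k.hom) hv'₁
  have hv₂ : iU'.hom ≫ v'.hom = u'.hom ≫ f'.hom := congrArg (fun k => k.hom) hv'₂
  have haffV : RepWith @IsAffineHom uV.hom := (repWith_isStableUnderBaseChange _).of_isPullback hUV.flip hf
  have hthU : IsThickMor uU'.hom := (repWith_isStableUnderBaseChange thick).of_isPullback hUU'.flip ht
  obtain ⟨-, ⟨C⟩⟩ := exists_chart_of_isPushout ht hf hY'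
  obtain ⟨hiV, ⟨C₂⟩⟩ := exists_chart_of_isPushout hthU haffV hV'.flip
  have haU' := C₂.affine_inl U'.property V'.property
  have hcart := C₂.isPullback
  obtain ⟨T, π, c, hπ, hπs, hπc⟩ := exists_compatible_chart v'.hom V'.property Y'.property.diag C.etQ C.surjQ
  -- base changes of the atlas
  obtain ⟨B, q, πV, sqV⟩ : ∃ (B : Over S) (q : B ⟶ T) (πV : (yon S).obj B ⟶ V.obj),
      IsPullback πV ((yon S).map q) iV.hom π := ⟨_, hiV.rep.snd π, hiV.rep.fst π, hiV.rep.isPullback π⟩
  obtain ⟨A', p, πU', sqU'⟩ : ∃ (A' : Over S) (p : A' ⟶ T) (πU' : (yon S).obj A' ⟶ U'.obj),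
      IsPullback πU' ((yon S).map p) iU'.hom π := ⟨_, haU'.rep.snd π, haU'.rep.fst π, haU'.rep.isPullback π⟩
  obtain ⟨A, i, πU, sqU⟩ : ∃ (A : Over S) (i : A ⟶ A') (πU : (yon S).obj A ⟶ U.obj),
      IsPullback πU ((yon S).map i) uU'.hom πU' := ⟨_, hthU.rep.snd πU', hthU.rep.fst πU', hthU.rep.isPullback πU'⟩
  obtain ⟨j, hjq, hjV⟩ : ∃ j : A ⟶ B, j ≫ q = i ≫ p ∧ (yon S).map j ≫ πV = πU ≫ uV.hom := by
    obtain ⟨j, hj⟩ := (yon S).map_surjective (sqV.lift (πU ≫ uV.hom) ((yon S).map (i ≫ p))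
      (by rw [Category.assoc, ← hcart.w, reassoc_of% sqU.w, sqU'.w, Functor.map_comp_assoc]))
    exact ⟨j, (yon S).map_injective (by rw [Functor.map_comp, hj, sqV.lift_snd]), by rw [hj, sqV.lift_fst]⟩
  have sqA : IsPullback ((yon S).map j) ((yon S).map i) ((yon S).map q) ((yon S).map p) := by
    refine IsPullback.of_right (h₁₂ := πV) (v₁₃ := iV.hom) (h₂₂ := π) ?_
      (by rw [← Functor.map_comp, ← Functor.map_comp, hjq]) sqV
    have := sqU.paste_horiz hcart.flip
    rwa [← hjV, sqU'.w] at this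
  have sqU₂ : IsPullback πU ((yon S).map j) uV.hom πV := by
    refine IsPullback.of_right (h₁₂ := uU'.hom) (v₁₃ := iU'.hom) (h₂₂ := iV.hom) ?_ hjV.symm hcart
    have := sqA.flip.paste_horiz sqU'
    rwa [← sqU.w, ← sqV.w] at this
  have hpoSp := isPushout_of_flat (W' := (ofScheme S).obj T) (WY := (ofScheme S).obj B)
    (WX' := (ofScheme S).obj A') (WX := (ofScheme S).obj A) hthU haffV hV'.flip
    (w := (⟨π⟩ : (ofScheme S).obj T ⟶ V'))
    (locP_of_repWith (IsAlgSpace.yon_obj T).diag V'.property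
      (Groth.Agent.SpPts86.repWith_mono (fun _ _ k (hk : Etale k) => (inferInstance : Flat k)) hπ))
    (aY := (ofScheme S).map q) (bY := ⟨πV⟩) sqV.flip (aX' := (ofScheme S).map p) (bX' := ⟨πU'⟩) sqU'.flip
    (cY := (ofScheme S).map j) (cX' := (ofScheme S).map i) (bX := ⟨πU⟩) hjV sqU.flip
    (by rw [← Functor.map_comp, ← Functor.map_comp, hjq])
  have hpoA : IsPushout i j p q :=
    IsPushout.of_map (ofScheme S) hjq.symm hpoSp.flip
  -- maps to the chart of `Y'`
  obtain ⟨vT, hvY, hvb⟩ : ∃ vT : B ⟶ C.V, (yon S).map vT ≫ C.pY = πV ≫ v.hom ∧ vT ≫ C.b = q ≫ c := by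
    obtain ⟨k, hk⟩ := (yon S).map_surjective (C.sqt'.lift (πV ≫ v.hom) ((yon S).map (q ≫ c))
      (by rw [Category.assoc, ← hv₁, reassoc_of% sqV.w, hπc, Functor.map_comp_assoc]))
    exact ⟨k, by rw [hk, C.sqt'.lift_fst], (yon S).map_injective (by rw [Functor.map_comp, hk, C.sqt'.lift_snd])⟩
  obtain ⟨wT', hwX', hwa⟩ : ∃ wT' : A' ⟶ C.U', (yon S).map wT' ≫ C.pX' = πU' ≫ u'.hom ∧ wT' ≫ C.a = p ≫ c := by
    obtain ⟨k, hk⟩ := (yon S).map_surjective (C.sqf'.lift (πU' ≫ u'.hom) ((yon S).map (p ≫ c))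
      (by rw [Category.assoc, ← hv₂, reassoc_of% sqU'.w, hπc, Functor.map_comp_assoc]))
    exact ⟨k, by rw [hk, C.sqf'.lift_fst], (yon S).map_injective (by rw [Functor.map_comp, hk, C.sqf'.lift_snd])⟩
  obtain ⟨wT, hwX, hwt⟩ : ∃ wT : A ⟶ C.U, (yon S).map wT ≫ C.pX = πU ≫ uX.hom ∧ wT ≫ C.tU = i ≫ wT' := by
    obtain ⟨k, hk⟩ := (yon S).map_surjective (C.sqt.lift (πU ≫ uX.hom) ((yon S).map (i ≫ wT'))
      (by rw [Category.assoc, ← hUU'.w, reassoc_of% sqU.w, ← hwX', Functor.map_comp_assoc]))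
    exact ⟨k, by rw [hk, C.sqt.lift_fst], (yon S).map_injective (by rw [Functor.map_comp, hk, C.sqt.lift_snd])⟩
  haveI : Mono C.b.left := by
    haveI := C.closed; haveI := C.surj; haveI := C.affine
    haveI : IsClosedImmersion C.b.left :=
      Pinch2.isClosedImmersion_inr (Pinch2.hasPairs_thickening (i := C.tU.left) (j := C.fU.left))
        (C.po.map (Over.forget S))
    infer_instance
  haveI : Mono C.b := (Over.forget S).mono_of_mono_map (inferInstanceAs (Mono C.b.left))
  have hwf : wT ≫ C.fU = j ≫ vT := by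
    rw [← cancel_mono C.b, Category.assoc, Category.assoc, hvb, ← C.po.w, reassoc_of% hwt, hwa, reassoc_of% hjq]
  have hi : IsPullback i wT wT' C.tU := IsPullback.of_map (yon S) hwt.symm (by
    refine IsPullback.of_bot (v₂₁ := C.pX) (v₂₂ := C.pX') (h₃₁ := t.hom) ?_
      (by rw [← Functor.map_comp, ← Functor.map_comp, hwt]) C.sqt.flip
    have := sqU.flip.paste_vert hUU'
    rwa [← hwX, ← hwX'] at this)
  have hj : IsPullback j wT vT C.fU := IsPullback.of_map (yon S) hwf.symm (by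
    refine IsPullback.of_bot (v₂₁ := C.pX) (v₂₂ := C.pY) (h₃₁ := f.hom) ?_
      (by rw [← Functor.map_comp, ← Functor.map_comp, hwf]) C.sqf.flip
    have := sqU₂.flip.paste_vert hUV
    rwa [← hwX, ← hvY] at this)
  haveI := C.closed; haveI := C.surj; haveI := C.affine
  have hpo : IsPushout C.tU.left C.fU.left C.a.left C.b.left := C.po.map (Over.forget S)
  have hi' : IsPullback i.left wT.left wT'.left C.tU.left := hi.map (Over.forget S)
  have hj' : IsPullback j.left wT.left vT.left C.fU.left := hj.map (Over.forget S)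
  have hA : IsPushout i.left j.left p.left q.left := hpoA.map (Over.forget S)
  have hp' : p.left ≫ c.left = wT'.left ≫ C.a.left := congrArg CommaMorphism.left hwa.symm
  have hq' : q.left ≫ c.left = vT.left ≫ C.b.left := congrArg CommaMorphism.left hvb.symm
  obtain ⟨fX, fY⟩ := isPullback_faces hpo hi' hj' hA hp' hq'
  have fX' : IsPullback wT' p C.a c := (IsPullback.of_map (Over.forget S) hwa.symm fX).flip
  have fY' : IsPullback vT q C.b c := (IsPullback.of_map (Over.forget S) hvb.symm fY).flip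
  have hπl : LocLift π := locLift_of_atlas hπ hπs
  refine ⟨⟨isPullback_of_cover hπl hv₁ sqV ?_, isPullback_of_cover hπl hv₂ sqU' ?_⟩, ?_⟩
  · have := (fY'.map (yon S)).paste_horiz C.sqt'
    rwa [hvY, ← hπc] at this
  · have := (fX'.map (yon S)).paste_horiz C.sqf'
    rwa [hwX', ← hπc] at this
  have hπV : RepWith @Etale πV := (repWith_isStableUnderBaseChange _).of_isPullback sqV.flip hπ
  have hπU' : RepWith @Etale πU' := (repWith_isStableUnderBaseChange _).of_isPullback sqU'.flip hπ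
  obtain ⟨d₁, d₂, d₃, d₄, d₅⟩ := descend_thick hpo hi' hj' hA hp' hq'
  have kv : ∀ {P : MorphismProperty Scheme.{u}}, LocP P v.hom → P vT.left :=
    fun h => h πV C.pY vT hπV C.etY hvY.symm
  have ku : ∀ {P : MorphismProperty Scheme.{u}}, LocP P u'.hom → P wT'.left :=
    fun h => h πU' C.pX' wT' hπU' C.etX' hwX'.symm
  exact ⟨fun hv hu => locP_of_chart V'.property.diag Y'.property.diag hπ hπs C.etQ hπc (d₁ (ku hu) (kv hv)),
    fun hv hu => locP_of_chart V'.property.diag Y'.property.diag hπ hπs C.etQ hπc (d₂ (ku hu) (kv hv)),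
    fun hv hu hv₂ hu₂ => locP_of_chart V'.property.diag Y'.property.diag hπ hπs C.etQ hπc
      (d₃ (ku hu) (kv hv) (ku hu₂) (kv hv₂)),
    fun hv hu => locP_of_chart V'.property.diag Y'.property.diag hπ hπs C.etQ hπc (d₄ (ku hu) (kv hv)),
    fun hv hu => locP_of_chart V'.property.diag Y'.property.diag hπ hπs C.etQ hπc (d₅ (ku hu) (kv hv))⟩

end Groth.Agent.SpProper61
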