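import Groth.Agent.SpProper61.PushSpaceBasic

/-!
Spaces flat over a pushout along a thickening are pushouts of their restrictions.
-/

set_option autoImplicit false
set_option linter.style.haveILetI false
set_option backward.isDefEq.respectTransparency false

universe u

open CategoryTheory CategoryTheory.Limits AlgebraicGeometry
open AlgSp Groth.Agent.SpFP87 Groth.Agent.SpPts86

namespace Groth.Agent.SpProper61

variable {S : Scheme.{u}} {X X' Y Y' : Sp S} {t : X ⟶ X'} {f : X ⟶ Y} {f' : X' ⟶ Y'} {t' : Y ⟶ Y'}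

/-- A space flat over a pushout is the pushout of its restrictions. -/
theorem existsUnique_desc_of_flat (C : PushChart t f f' t') (hY' : IsAlgSpace Y') {W WX WX' WY : Sp S}
    (hW : IsAlgSpace W) {w : W ⟶ Y'} (hw : LocP @Flat w) {aY : WY ⟶ W} {bY : WY ⟶ Y}
    (hWY : IsPullback aY bY w t') {aX' : WX' ⟶ W} {bX' : WX' ⟶ X'} (hWX' : IsPullback aX' bX' w f')
    {cY : WX ⟶ WY} {cX' : WX ⟶ WX'} {bX : WX ⟶ X}
    (hc₁ : cY ≫ bY = bX ≫ f) (hWX₂ : IsPullback cX' bX bX' t) (hcomm : cY ≫ aY = cX' ≫ aX')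
    {Z : Sp S} (hZ : IsAlgSpace Z) (u : WX' ⟶ Z) (v : WY ⟶ Z) (huv : cX' ≫ u = cY ≫ v) :
    ∃! m : W ⟶ Z, aX' ≫ m = u ∧ aY ≫ m = v := by
  haveI := C.closed; haveI := C.surj; haveI := C.affine
  obtain ⟨T, π, c, hπ, hπs, hπc⟩ := exists_compatible_chart w hW hY'.diag C.etQ C.surjQ
  haveI : Flat c.left := hw π C.q c hπ C.etQ hπc
  have H : Pinch2.HasPairs C.tU.left C.fU.left := Pinch2.hasPairs_thickening
  -- base changes to the chart
  let p : pullback C.a c ⟶ T := pullback.snd C.a c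
  let q : pullback C.b c ⟶ T := pullback.snd C.b c
  let i : pullback C.tU (pullback.fst C.a c) ⟶ pullback C.a c := pullback.snd _ _
  let j : pullback C.tU (pullback.fst C.a c) ⟶ pullback C.b c :=
    pullback.lift (pullback.fst _ _ ≫ C.fU) (i ≫ p)
      (by rw [Category.assoc, ← C.po.w, Category.assoc, ← pullback.condition, pullback.condition_assoc])
  have hT : IsPushout i j p q := isPushout_flat H C.po (IsPullback.of_hasPullback C.a c)
    (IsPullback.of_hasPullback C.b c) (IsPullback.of_hasPullback C.tU (pullback.fst C.a c))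
    (pullback.lift_fst _ _ _) (pullback.lift_snd _ _ _).symm
  have hX1 : IsPullback ((yon S).map (pullback.fst C.a c) ≫ C.pX') ((yon S).map p) f' (π ≫ w) := by
    rw [hπc]
    exact ((IsPullback.of_hasPullback C.a c).map (yon S)).paste_horiz C.sqf'
  have hY1 : IsPullback ((yon S).map (pullback.fst C.b c) ≫ C.pY) ((yon S).map q) t' (π ≫ w) := by
    rw [hπc]
    exact ((IsPullback.of_hasPullback C.b c).map (yon S)).paste_horiz C.sqt'
  let πX' : (yon S).obj (pullback C.a c) ⟶ WX' :=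
    hWX'.lift ((yon S).map p ≫ π) ((yon S).map (pullback.fst C.a c) ≫ C.pX') (by rw [Category.assoc]; exact hX1.w.symm)
  let πY : (yon S).obj (pullback C.b c) ⟶ WY :=
    hWY.lift ((yon S).map q ≫ π) ((yon S).map (pullback.fst C.b c) ≫ C.pY) (by rw [Category.assoc]; exact hY1.w.symm)
  have sqX : IsPullback πX' ((yon S).map p) aX' π :=
    IsPullback.of_right (by rw [hWX'.lift_snd]; exact hX1) (hWX'.lift_fst _ _ _) hWX'.flip
  have sqY : IsPullback πY ((yon S).map q) aY π :=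
    IsPullback.of_right (by rw [hWY.lift_snd]; exact hY1) (hWY.lift_fst _ _ _) hWY.flip
  have hπX'l : LocLift πX' := locLift_of_atlas
    ((repWith_isStableUnderBaseChange _).of_isPullback sqX.flip hπ)
    ((repWith_isStableUnderBaseChange _).of_isPullback sqX.flip hπs)
  have hπYl : LocLift πY := locLift_of_atlas
    ((repWith_isStableUnderBaseChange _).of_isPullback sqY.flip hπ)
    ((repWith_isStableUnderBaseChange _).of_isPullback sqY.flip hπs)
  obtain ⟨πX, hπX₁, hπX₂⟩ : ∃ πX : (yon S).obj (pullback C.tU (pullback.fst C.a c)) ⟶ WX,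
      πX ≫ cX' = (yon S).map i ≫ πX' ∧ πX ≫ bX = (yon S).map (pullback.fst C.tU _) ≫ C.pX := by
    refine ⟨hWX₂.lift _ _ ?_, hWX₂.lift_fst _ _ _, hWX₂.lift_snd _ _ _⟩
    rw [Category.assoc, hWX'.lift_snd, ← Functor.map_comp_assoc]
    rw [← pullback.condition, Functor.map_comp_assoc, ← C.sqt.w, Category.assoc]
  have hjπ : (yon S).map j ≫ πY = πX ≫ cY := by
    refine hWY.hom_ext ?_ ?_
    · simp only [Category.assoc, πY, hWY.lift_fst, hcomm]
      rw [reassoc_of% hπX₁, hWX'.lift_fst, ← Functor.map_comp_assoc, ← Functor.map_comp_assoc, pullback.lift_snd]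
    · simp only [Category.assoc, πY, hWY.lift_snd, hc₁]
      rw [reassoc_of% hπX₂, C.sqf.w, ← Functor.map_comp_assoc, pullback.lift_fst, Functor.map_comp_assoc]
  -- the double cover
  obtain ⟨T₂, l₁, l₂, hker⟩ := exists_isPullback_yon hW.diag π π
  haveI : Etale l₁.left := hπ.property π _ l₁ hker.flip
  let c₂ := l₁ ≫ c
  haveI : Flat c₂.left := inferInstanceAs (Flat (l₁.left ≫ c.left))
  let j₂ : pullback C.tU (pullback.fst C.a c₂) ⟶ pullback C.b c₂ :=
    pullback.lift (pullback.fst _ _ ≫ C.fU) (pullback.snd C.tU _ ≫ pullback.snd C.a c₂)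
      (by rw [Category.assoc, ← C.po.w, Category.assoc, ← pullback.condition, pullback.condition_assoc])
  have hT₂ := isPushout_flat H C.po (IsPullback.of_hasPullback C.a c₂)
    (IsPullback.of_hasPullback C.b c₂) (IsPullback.of_hasPullback C.tU (pullback.fst C.a c₂))
    (pullback.lift_fst _ _ _ : j₂ ≫ _ = _) (pullback.lift_snd _ _ _).symm
  let x₁ : pullback C.a c₂ ⟶ pullback C.a c :=
    pullback.lift (pullback.fst _ _) (pullback.snd C.a c₂ ≫ l₁) (by rw [Category.assoc]; exact pullback.condition)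
  let y₁ : pullback C.b c₂ ⟶ pullback C.b c :=
    pullback.lift (pullback.fst _ _) (pullback.snd C.b c₂ ≫ l₁) (by rw [Category.assoc]; exact pullback.condition)
  have hx₁ : x₁ ≫ p = pullback.snd C.a c₂ ≫ l₁ := pullback.lift_snd _ _ _
  have hy₁ : y₁ ≫ q = pullback.snd C.b c₂ ≫ l₁ := pullback.lift_snd _ _ _
  obtain ⟨x₂, hx₂e⟩ := (yon S).map_surjective (sqX.lift ((yon S).map x₁ ≫ πX')
    ((yon S).map (pullback.snd C.a c₂ ≫ l₂))
    (by rw [Category.assoc, sqX.w, ← Functor.map_comp_assoc, hx₁, Functor.map_comp_assoc, hker.w,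
      Functor.map_comp_assoc]))
  obtain ⟨y₂, hy₂e⟩ := (yon S).map_surjective (sqY.lift ((yon S).map y₁ ≫ πY)
    ((yon S).map (pullback.snd C.b c₂ ≫ l₂))
    (by rw [Category.assoc, sqY.w, ← Functor.map_comp_assoc, hy₁, Functor.map_comp_assoc, hker.w,
      Functor.map_comp_assoc]))
  have hx₂ : x₂ ≫ p = pullback.snd C.a c₂ ≫ l₂ :=
    (yon S).map_injective (by rw [Functor.map_comp, hx₂e, sqX.lift_snd])
  have hy₂ : y₂ ≫ q = pullback.snd C.b c₂ ≫ l₂ :=
    (yon S).map_injective (by rw [Functor.map_comp, hy₂e, sqY.lift_snd])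
  haveI : IsClosedImmersion i.left := MorphismProperty.of_isPullback
    (((IsPullback.of_hasPullback C.tU (pullback.fst C.a c)).map (Over.forget S)) :
      IsPullback _ _ C.tU.left _) C.closed
  haveI : Surjective i.left := MorphismProperty.of_isPullback
    (((IsPullback.of_hasPullback C.tU (pullback.fst C.a c)).map (Over.forget S)) :
      IsPullback _ _ C.tU.left _) C.surj
  have hjsq : IsPullback (pullback.fst C.tU (pullback.fst C.a c)) j C.fU (pullback.fst C.b c) := by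
    refine IsPullback.of_bot ?_ (pullback.lift_fst _ _ _).symm (IsPullback.of_hasPullback C.b c)
    show IsPullback _ (j ≫ q) (C.fU ≫ C.b) c
    rw [pullback.lift_snd, ← C.po.w]
    exact (IsPullback.of_hasPullback C.tU (pullback.fst C.a c)).paste_vert (IsPullback.of_hasPullback C.a c)
  haveI : IsAffineHom j.left := MorphismProperty.of_isPullback
    ((hjsq.map (Over.forget S)) : IsPullback _ _ C.fU.left _) C.affine
  obtain ⟨m, hm₁, hm₂⟩ := exists_desc_of_cover hT hT₂ (locLift_of_atlas hπ hπs) hπX'l hπYl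
    hπX₁.symm hjπ sqX.w sqY.w hker (x₁ := x₁) (x₂ := x₂) hx₁ hx₂
    (by rw [hx₂e, sqX.lift_fst]) (y₁ := y₁) (y₂ := y₂) hy₁ hy₂ (by rw [hy₂e, sqY.lift_fst]) hZ u v huv
  exact ⟨m, ⟨hm₁, hm₂⟩, fun m' hm' => hom_ext_of_cover hT (locLift_of_atlas hπ hπs) sqX.w sqY.w hZ
    (hm'.1.trans hm₁.symm) (hm'.2.trans hm₂.symm)⟩

/-- The restrictions of a space flat over a pushout glue to it. -/
theorem isPushout_of_flat {X X' Y Y' W' WY WX' WX : Space S}
    {t : X ⟶ X'} (ht : IsThickMor t.hom) {f : X ⟶ Y} (hf : RepWith @IsAffineHom f.hom) {f' : X' ⟶ Y'}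
    {t' : Y ⟶ Y'} (hY' : IsPushout t f f' t') {w : W' ⟶ Y'} (hw : LocP @Flat w.hom) {aY : WY ⟶ W'}
    {bY : WY ⟶ Y} (hWY : IsPullback aY.hom bY.hom w.hom t'.hom) {aX' : WX' ⟶ W'} {bX' : WX' ⟶ X'}
    (hWX' : IsPullback aX'.hom bX'.hom w.hom f'.hom) {cY : WX ⟶ WY} {cX' : WX ⟶ WX'} {bX : WX ⟶ X}
    (hc₁ : cY.hom ≫ bY.hom = bX.hom ≫ f.hom) (hWX₂ : IsPullback cX'.hom bX.hom bX'.hom t.hom)
    (hcomm : cY ≫ aY = cX' ≫ aX') : IsPushout cY cX' aY aX' := by
  obtain ⟨-, ⟨C⟩⟩ := exists_chart_of_isPushout ht hf hY'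
  exact (isPushout_of_existsUnique hcomm.symm fun Z hZ u v huv =>
    existsUnique_desc_of_flat C Y'.property W'.property hw hWY hWX' hc₁ hWX₂
      (congrArg (fun k => k.hom) hcomm) hZ u v huv).flip

end Groth.Agent.SpProper61
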