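import Groth.Agent.SpFP87.Cover
import Groth.Agent.SpPts86.BootLqf

/-!
Colimits of schemes which are colimits of algebraic spaces.
-/

set_option autoImplicit false
set_option linter.style.haveILetI false
set_option backward.isDefEq.respectTransparency false

universe u v w

open CategoryTheory CategoryTheory.Limits AlgebraicGeometry
open AlgSp Groth.Agent.SpFP87

noncomputable section

namespace Groth.Agent.SpProper61

variable {S : Scheme.{u}} {I : Type v} [Category.{w} I]

/-- A cocone of morphisms of schemes over `S` descends to a colimit in schemes. -/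
theorem exists_over_desc {D : I ⥤ Over S} {c : Cocone D} (hc : IsColimit ((Over.forget S).mapCocone c))
    {E : Over S} (d : ∀ i, D.obj i ⟶ E) (hd : ∀ {i j : I} (f : i ⟶ j), D.map f ≫ d j = d i) :
    ∃ k : c.pt ⟶ E, ∀ i, c.ι.app i ≫ k = d i := by
  let s : Cocone (D ⋙ Over.forget S) :=
    { pt := E.left
      ι := { app := fun i => (d i).left
             naturality := fun i j f => by
              simpa using congrArg CommaMorphism.left (hd f) } }
  have hk : ∀ i, (c.ι.app i).left ≫ hc.desc s = (d i).left := fun i => hc.fac s i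
  refine ⟨Over.homMk (hc.desc s) (hc.hom_ext fun i => ?_), fun i => Over.OverMorphism.ext (hk i)⟩
  show (c.ι.app i).left ≫ hc.desc s ≫ E.hom = (c.ι.app i).left ≫ c.pt.hom
  rw [← Category.assoc, hk, Over.w]
  exact (Over.w (c.ι.app i)).symm

theorem over_hom_ext {D : I ⥤ Over S} {c : Cocone D} (hc : IsColimit ((Over.forget S).mapCocone c))
    {E : Over S} {k k' : c.pt ⟶ E} (h : ∀ i, c.ι.app i ≫ k = c.ι.app i ≫ k') : k = k' :=
  Over.OverMorphism.ext (hc.hom_ext fun i => congrArg CommaMorphism.left (h i))

/-- Maps from a colimit of schemes to a space are determined by their restrictions. -/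
theorem hom_ext_of_scheme_colimit {D : I ⥤ Over S} {c : Cocone D} (hc : IsColimit ((Over.forget S).mapCocone c))
    {Z : Sp S} (hZ : IsAlgSpace Z) {h₁ h₂ : (yon S).obj c.pt ⟶ Z}
    (e : ∀ i, (yon S).map (c.ι.app i) ≫ h₁ = (yon S).map (c.ι.app i) ≫ h₂) : h₁ = h₂ := by
  have hr : Representable (Limits.diag Z) := hZ.diag
  let g := prod.lift h₁ h₂
  obtain ⟨E, ι, p, sq⟩ : ∃ (E : Over S) (ι : E ⟶ c.pt) (p : (yon S).obj E ⟶ Z),
      IsPullback p ((yon S).map ι) (Limits.diag Z) g := ⟨_, hr.snd g, hr.fst g, hr.isPullback g⟩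
  haveI : Mono ((yon S).map ι) :=
    MorphismProperty.of_isPullback (P := MorphismProperty.monomorphisms _) sq
      (inferInstanceAs (Mono (Limits.diag Z)))
  haveI : Mono ι := (yon S).mono_of_mono_map ‹_›
  have hl : ∀ i, ∃ d : D.obj i ⟶ E, d ≫ ι = c.ι.app i := fun i => by
    obtain ⟨d, hd⟩ := (yon S).map_surjective (sq.lift ((yon S).map (c.ι.app i) ≫ h₁) ((yon S).map (c.ι.app i))
      (prod.hom_ext (by simp [g]) (by simp [g, e i])))
    exact ⟨d, (yon S).map_injective (by rw [Functor.map_comp, hd, sq.lift_snd])⟩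
  choose d hd using hl
  obtain ⟨k, hk⟩ := exists_over_desc hc d fun {i j} f => (cancel_mono ι).1 (by
    rw [Category.assoc, hd, hd]; exact c.w f)
  have hkι : k ≫ ι = 𝟙 c.pt := over_hom_ext hc fun i => by rw [reassoc_of% hk i, hd]; exact (Category.comp_id _).symm
  have hw := congrArg ((yon S).map k ≫ ·) sq.w
  simp only [← Functor.map_comp_assoc, hkι, CategoryTheory.Functor.map_id, Category.id_comp] at hw
  have h1 := congrArg (· ≫ Limits.prod.fst) hw
  have h2 := congrArg (· ≫ Limits.prod.snd) hw
  simp only [g, Category.assoc, prod.lift_fst, prod.lift_snd, Category.comp_id] at h1 h2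
  exact h1.symm.trans h2

/-- An atlas with separated total scheme. -/
theorem exists_atlas_isSeparated {Z : Sp S} (hZ : IsAlgSpace Z) :
    ∃ (U : Over S) (y : (yon S).obj U ⟶ Z), RepWith @Etale y ∧ RepWith @Surjective y ∧ IsSeparated U.hom := by
  obtain ⟨U, p, hp, hps⟩ := hZ.atlas
  let Vi : ↥U.left.affineOpens → Over S := fun V => SpPts86.openOver U V.1
  have hVi : ∀ V, IsAffine (Vi V).left := fun V => V.2
  let w : SpPts86.sigmaOver Vi ⟶ U := SpPts86.sigmaOut fun V => SpPts86.openIncl U V.1
  have hwe : Etale w.left :=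
    IsZariskiLocalAtSource.sigmaDesc (P := @Etale) fun V => (inferInstance : Etale V.1.ι)
  have hws : Surjective w.left := ⟨fun x => by
    obtain ⟨W, hW, hxW, -⟩ := exists_isAffineOpen_mem_and_subset (x := x) (U := ⊤) trivial
    refine ⟨(SpPts86.sigmaIn Vi ⟨W, hW⟩).left ⟨x, hxW⟩, ?_⟩
    refine (Scheme.Hom.comp_apply _ _ _).symm.trans ?_
    rw [← Over.comp_left, SpPts86.sigmaIn_out]
    rfl⟩
  have h1 : RepWith (@Etale ⊓ @Surjective) ((yon S).map w ≫ p) :=
    MorphismProperty.comp_mem (W := RepWith (@Etale ⊓ @Surjective : MorphismProperty Scheme.{u})) _ _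
      ((repWith_yon_map_iff _ w).2 ⟨hwe, hws⟩) ((repWith_inf_iff p).2 ⟨hp, hps⟩)
  refine ⟨_, _, ((repWith_inf_iff _).1 h1).1, ((repWith_inf_iff _).1 h1).2, ?_⟩
  have : (SpPts86.sigmaOver Vi).left.IsSeparated := SpPts86.isSeparated_sigma _
  have : IsSeparated ((SpPts86.sigmaOver Vi).hom ≫ terminal.from S) := by
    rw [terminal.comp_from]
    infer_instance
  exact IsSeparated.of_comp (SpPts86.sigmaOver Vi).hom (terminal.from S)

/-- The base change of a diagram with a cocone along a map to the vertex. -/
def pullDiagram (D : I ⥤ Over S) (c : Cocone D) {P : Over S} (r : P ⟶ c.pt) : I ⥤ Over S where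
  obj i := pullback (c.ι.app i) r
  map {i j} f := pullback.map _ _ _ _ (D.map f) (𝟙 _) (𝟙 _)
    (by rw [Category.comp_id]; exact (c.w f).symm) (by simp)
  map_id i := by ext1 <;> simp
  map_comp f g := by ext1 <;> simp

/-- Colimits of schemes satisfying étale descent are colimits of spaces. -/
theorem isColimit_ofScheme (D : I ⥤ Over S) (c : Cocone D)
    (h₁ : IsColimit ((Over.forget S).mapCocone c))
    (h₂ : ∀ x : ↥c.pt.left, ∃ (i : I) (y : ↥(D.obj i).left), (c.ι.app i).left y = x)
    (h₃ : ∀ (D' : I ⥤ Over S) (α : D' ⟶ D) (c' : Cocone D') (a : c'.pt ⟶ c.pt), Etale a.left →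
      (∀ i, IsPullback (c'.ι.app i) (α.app i) a (c.ι.app i)) → Nonempty (IsColimit ((Over.forget S).mapCocone c')))
    (h₄ : ∀ (D' : I ⥤ Over S) (α : D' ⟶ D), NatTrans.Equifibered α → (∀ i, Etale (α.app i).left) →
      (∀ i, IsSeparated (α.app i).left) →
      ∃ (c' : Cocone D') (a : c'.pt ⟶ c.pt), Etale a.left ∧ ∀ i, IsPullback (c'.ι.app i) (α.app i) a (c.ι.app i)) :
    Nonempty (IsColimit ((ofScheme S).mapCocone c)) := by
  have hex : ∀ s : Cocone (D ⋙ ofScheme S), ∃ m : (yon S).obj c.pt ⟶ s.pt.obj,
      ∀ i, (yon S).map (c.ι.app i) ≫ m = (s.ι.app i).hom := by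
    intro s
    let Z := s.pt.obj
    have hZ : IsAlgSpace Z := s.pt.property
    let u : ∀ i, (yon S).obj (D.obj i) ⟶ Z := fun i => (s.ι.app i).hom
    have hu : ∀ {i j : I} (f : i ⟶ j), (yon S).map (D.map f) ≫ u j = u i := fun f =>
      congrArg (fun g => g.hom) (s.w f)
    obtain ⟨U, y, hy, hys, hUsep⟩ := exists_atlas_isSeparated hZ
    have hch : ∀ i, ∃ (E : Over S) (p : E ⟶ D.obj i) (q : E ⟶ U),
        IsPullback ((yon S).map p) ((yon S).map q) (u i) y := fun i => by
      have hr := hZ.representable_from_yon (u i)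
      obtain ⟨p, hp⟩ := (yon S).map_surjective (hr.fst y)
      exact ⟨_, p, hr.snd y, hp ▸ hr.isPullback y⟩
    choose E p q sq using hch
    have hmap : ∀ {i j : I} (f : i ⟶ j), ∃ l : E i ⟶ E j, l ≫ p j = p i ≫ D.map f ∧ l ≫ q j = q i := by
      intro i j f
      obtain ⟨l, hl⟩ := (yon S).map_surjective ((sq j).lift ((yon S).map (p i ≫ D.map f)) ((yon S).map (q i))
        (by rw [Functor.map_comp, Category.assoc, hu f, (sq i).w]))
      exact ⟨l, (yon S).map_injective (by rw [Functor.map_comp, hl, (sq j).lift_fst]),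
        (yon S).map_injective (by rw [Functor.map_comp, hl, (sq j).lift_snd])⟩
    choose l hlp hlq using @hmap
    have hext : ∀ (j : I) {K : Over S} {x x' : K ⟶ E j}, x ≫ p j = x' ≫ p j → x ≫ q j = x' ≫ q j → x = x' :=
      fun j K x x' e₁ e₂ => (yon S).map_injective ((sq j).hom_ext
        (by rw [← Functor.map_comp, ← Functor.map_comp, e₁]) (by rw [← Functor.map_comp, ← Functor.map_comp, e₂]))
    let D' : I ⥤ Over S :=
      { obj := E
        map := fun f => l f
        map_id := fun i => hext i (by rw [hlp, D.map_id]; simp) (by rw [hlq]; simp)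
        map_comp := fun {i j k} f g => hext k
          (by rw [hlp, Category.assoc, hlp, reassoc_of% hlp f, D.map_comp])
          (by rw [hlq, Category.assoc, hlq, hlq]) }
    let α : D' ⟶ D := { app := p, naturality := fun i j f => hlp f }
    have heq : NatTrans.Equifibered α := fun i j f => by
      refine IsPullback.of_map (yon S) (hlp f) ?_
      refine IsPullback.of_right (h₁₂ := (yon S).map (q j)) (h₂₂ := u j) (v₁₃ := y) ?_
        (by rw [← Functor.map_comp, ← Functor.map_comp]; exact congrArg _ (hlp f)) (sq j).flip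
      rw [← Functor.map_comp, hu f]
      show IsPullback ((yon S).map (l f ≫ q j)) _ _ _
      rw [hlq f]
      exact (sq i).flip
    have het : ∀ i, Etale (α.app i).left := fun i => hy.property (u i) _ _ (sq i).flip
    have hsep : ∀ i, IsSeparated (α.app i).left := fun i => by
      let m : (E i).left ⟶ pullback (D.obj i).hom U.hom :=
        pullback.lift (p i).left (q i).left ((Over.w (p i)).trans (Over.w (q i)).symm)
      haveI : Mono m := ⟨fun {K} k k' hk => by
        let K' : Over S := Over.mk (k ≫ (E i).hom)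
        have e1 : k ≫ (p i).left = k' ≫ (p i).left := by
          simpa [m] using congrArg (· ≫ pullback.fst (D.obj i).hom U.hom) hk
        have e2 : k ≫ (q i).left = k' ≫ (q i).left := by
          simpa [m] using congrArg (· ≫ pullback.snd (D.obj i).hom U.hom) hk
        let κ : K' ⟶ E i := Over.homMk k rfl
        let κ' : K' ⟶ E i := Over.homMk k' (by
          show k' ≫ (E i).hom = k ≫ (E i).hom
          rw [← Over.w (p i), ← Category.assoc, ← e1, Category.assoc])
        exact congrArg CommaMorphism.left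
          (hext i (x := κ) (x' := κ') (Over.OverMorphism.ext e1) (Over.OverMorphism.ext e2))⟩
      haveI := hUsep
      have : (α.app i).left = m ≫ pullback.fst (D.obj i).hom U.hom := (pullback.lift_fst _ _ _).symm
      rw [this]; infer_instance
    obtain ⟨c', a, ha, hsq⟩ := h₄ D' α heq het hsep
    haveI := ha
    obtain ⟨hc'⟩ := h₃ D' α c' a ha hsq
    obtain ⟨g, hg⟩ := exists_over_desc hc' q fun f => hlq f
    haveI : Surjective a.left := ⟨fun x => by
      obtain ⟨i, z, rfl⟩ := h₂ x
      haveI : Surjective (p i).left := hys.property (u i) _ _ (sq i).flip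
      obtain ⟨e, rfl⟩ := (p i).left.surjective z
      refine ⟨(c'.ι.app i).left e, ?_⟩
      exact congrArg (fun f : (E i).left ⟶ c.pt.left => f e) (congrArg CommaMorphism.left (hsq i).w)⟩
    let h := (yon S).map g ≫ y
    have hh : ∀ i, (yon S).map (c'.ι.app i) ≫ h = (yon S).map (p i) ≫ u i := fun i => by
      rw [← Functor.map_comp_assoc, hg, (sq i).w]
    have hfa : fppfSurj a.left := etale_surjective_le_fppfSurj _ ⟨ha, ‹_›⟩
    obtain ⟨m, hm, -⟩ := cover_existsUnique_desc a hfa h fun T p₁ p₂ hp => by
      suffices (yon S).map (pullback.fst a a) ≫ h = (yon S).map (pullback.snd a a) ≫ h by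
        have := congrArg ((yon S).map (pullback.lift p₁ p₂ hp) ≫ ·) this
        simpa only [← Functor.map_comp_assoc, pullback.lift_fst, pullback.lift_snd] using this
      let r : pullback a a ⟶ c.pt := pullback.fst a a ≫ a
      haveI : Etale (pullback.fst a a).left :=
        MorphismProperty.of_isPullback
          (((IsPullback.of_hasPullback a a).map (Over.forget S)).flip : IsPullback _ _ a.left a.left) ha
      haveI : Etale r.left := inferInstanceAs (Etale ((pullback.fst a a).left ≫ a.left))
      let c₂ : Cocone (pullDiagram D c r) :=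
        { pt := pullback a a
          ι := { app := fun i => pullback.snd (c.ι.app i) r
                 naturality := fun i j f => by simp [pullDiagram] } }
      obtain ⟨hc₂⟩ := h₃ (pullDiagram D c r)
        { app := fun i => pullback.fst (c.ι.app i) r, naturality := fun i j f => pullback.lift_fst _ _ _ } c₂ r
        inferInstance (fun i => (IsPullback.of_hasPullback (c.ι.app i) r).flip)
      refine hom_ext_of_scheme_colimit hc₂ hZ fun i => ?_
      have key : ∀ s : pullback a a ⟶ c'.pt, s ≫ a = r →
          (yon S).map (c₂.ι.app i) ≫ (yon S).map s ≫ h = (yon S).map (pullback.fst (c.ι.app i) r) ≫ u i := by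
        intro s hs
        let k : pullback (c.ι.app i) r ⟶ E i := (hsq i).lift (pullback.snd (c.ι.app i) r ≫ s)
          (pullback.fst (c.ι.app i) r) (by rw [Category.assoc, hs]; exact pullback.condition.symm)
        rw [← Functor.map_comp_assoc, show c₂.ι.app i ≫ s = k ≫ c'.ι.app i from ((hsq i).lift_fst _ _ _).symm,
          Functor.map_comp_assoc, hh, ← Functor.map_comp_assoc]
        congr 2
        exact (hsq i).lift_snd _ _ _
      rw [key _ rfl, key _ pullback.condition.symm]
    refine ⟨m, fun i => ?_⟩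
    haveI : Etale (p i).left := het i
    haveI : Surjective (p i).left := hys.property (u i) _ _ (sq i).flip
    refine cover_hom_ext (p i) (etale_surjective_le_fppfSurj _ ⟨‹_›, ‹_›⟩) ?_
    rw [← Functor.map_comp_assoc, show p i ≫ c.ι.app i = c'.ι.app i ≫ a from (hsq i).w.symm,
      Functor.map_comp_assoc, hm, hh]
  choose m hm using hex
  exact ⟨{ desc := fun s => ⟨m s⟩
           fac := fun s i => ObjectProperty.hom_ext _ (hm s i)
           uniq := fun s k hk => ObjectProperty.hom_ext _ (hom_ext_of_scheme_colimit h₁ s.pt.property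
             fun i => (congrArg (fun g => g.hom) (hk i)).trans (hm s i).symm) }⟩

end Groth.Agent.SpProper61
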