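import Groth.Agent.SpProper61.GlueHomAffine

/-!
Glueing morphisms to a space with affine diagonal along a glueing pair.
-/

set_option autoImplicit false
set_option linter.style.haveILetI false
set_option backward.isDefEq.respectTransparency false

universe u

open TensorProduct CategoryTheory CategoryTheory.Limits AlgebraicGeometry
open AlgSp Groth.Agent.SpFP87

noncomputable section

namespace Groth.Agent.SpProper61.GlueEq

variable {R R' : Type u} [CommRing R] [CommRing R'] [Algebra R R'] {f : R}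

/-- Equality of maps out of an affine scheme tested over the charts of a space it maps to. -/
theorem ext_on_cover {Y Z : Sp (Spec (CommRingCat.of R))} (hY : IsAlgSpace Y) {K : Type u} (A : K → Type u)
    [∀ k, CommRing (A k)] [∀ k, Algebra R (A k)] (g : ∀ k, (yon _).obj (aff R (A k)) ⟶ Y)
    (hg : ∀ k, RepWith @Etale (g k))
    (hgs : ∀ x : Points Y, ∃ (k : K) (t : ↥(aff R (A k)).left), Points.ofPt (g k) t = x)
    {T : Type u} [CommRing T] [Algebra R T] (t : (yon _).obj (aff R T) ⟶ Y)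
    {m m' : (yon _).obj (aff R T) ⟶ Z}
    (hm : ∀ (k : K) (B : Type u) [CommRing B] [Algebra R B] (τ : T →ₐ[R] B) (h : A k →ₐ[R] B),
      ym τ ≫ t = ym h ≫ g k → ym τ ≫ m = ym τ ≫ m') : m = m' := by
  have hT : IsAlgSpace ((yon _).obj (aff R T)) := IsAlgSpace.yon_obj _
  have hP : ∀ k, IsAlgSpace (pullback t (g k)) := fun k =>
    isAlgSpace_pullback _ _ hT (IsAlgSpace.yon_obj _) hY
  choose L B iB iB' q hq hqs using fun k => exists_alg_charts (hP k)
  refine hom_ext_of_charts hT (fun n : Σ k, L k => aff R (B n.1 n.2))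
    (fun n => q n.1 n.2 ≫ pullback.fst _ _) (fun n => ?_) (fun x => ?_) fun n => ?_
  · exact SpPts86.isEtaleMor_baseChange (IsPullback.of_hasPullback t (g n.1)).flip (IsAlgSpace.yon_obj _) hY hT
      (SpPts86.isEtaleMor_of_repWith_etale (hg n.1)) _ (hq n.1 n.2)
  · obtain ⟨k, s, hs⟩ := hgs (Points.map t x)
    obtain ⟨y, hy, -⟩ := SpPts86.exists_of_isPullback (IsPullback.of_hasPullback t (g k)) x
      (Points.ofScheme _ s) (hs.symm.trans (Points.ofPt_eq_map_ofScheme (g k) s))
    obtain ⟨l, r, hr⟩ := hqs k y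
    exact ⟨⟨k, l⟩, r, by rw [← Points.map_ofPt, hr, hy]⟩
  · obtain ⟨τ, hτ⟩ := exists_ym (q n.1 n.2 ≫ pullback.fst _ _)
    obtain ⟨h, hh⟩ := exists_ym (q n.1 n.2 ≫ pullback.snd _ _)
    show (q n.1 n.2 ≫ pullback.fst _ _) ≫ m = (q n.1 n.2 ≫ pullback.fst _ _) ≫ m'
    rw [← hτ]
    exact hm n.1 _ τ h (by rw [hτ, hh, Category.assoc, Category.assoc, pullback.condition])

/-- Glueing morphisms out of an affine scheme. -/
theorem exists_glued_affine (hg : EtGlue.IsGlueingPair R R' f) {Z : Sp (Spec (CommRingCat.of R))}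
    (hZ : IsAlgSpace Z) (hd : IsAffineMor (Limits.diag Z)) {A : Type u} [CommRing A] [Algebra R A]
    (hA : ∀ (B : Type u) [CommRing B] [Algebra R B] (t : aff R B ⟶ aff R A), Etale t.left →
      EtGlue.IsGlueable R R' f B)
    (α : (yon _).obj (aff R (AwF f A)) ⟶ Z) (β : (yon _).obj (aff R (R' ⊗[R] A)) ⟶ Z)
    (hαβ : ∀ (B : Type u) [CommRing B] [Algebra R B] (k : AwF f A →ₐ[R] B) (k' : R' ⊗[R] A →ₐ[R] B),
      k.comp (locHom f A) = k'.comp (incR R' A) → ym k ≫ α = ym k' ≫ β) :
    ∃ φ : (yon _).obj (aff R A) ⟶ Z, ym (locHom f A) ≫ φ = α ∧ ym (incR R' A) ≫ φ = β := by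
  have hA₀ : EtGlue.IsGlueable R R' f A := hA A (𝟙 _) (by rw [Over.id_left]; infer_instance)
  obtain ⟨J, C, _, _, p, hp, hps⟩ := exists_alg_charts hZ
  choose A₃ iA₃ iA₃' u v hue hF hT hsF hsT using fun j =>
    exists_glued_chart hg hZ hd hA₀ α β hαβ (p j) (hp j)
  have hYA : IsAlgSpace ((yon (Spec (CommRingCat.of R))).obj (aff R A)) := IsAlgSpace.yon_obj _
  have het : ∀ j, RepWith @Etale (ym (u j)) := fun j => (repWith_yon_map_iff _ _).2 (hue j)
  have hmem : ∀ {T : Over (Spec (CommRingCat.of R))} (q : (yon _).obj T ⟶ Z) (y : Points ((yon _).obj T)),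
      ∃ j, Points.map q y ∈ Set.range (Points.map (p j)) := fun q y => by
    obtain ⟨j, s, hs⟩ := hps (Points.map q y)
    exact ⟨j, _, (Points.ofPt_eq_map_ofScheme (p j) s).symm.trans hs⟩
  have hsur : ∀ x : Points ((yon (Spec (CommRingCat.of R))).obj (aff R A)),
      ∃ (j : J) (t : ↥(aff R (A₃ j)).left), Points.ofPt (ym (u j)) t = x := fun x => by
    obtain ⟨a, rfl⟩ := (Points.schemeHomeo (aff R A)).surjective x
    suffices h : ∃ j, (Points.schemeHomeo (aff R A)) a ∈ Set.range (Points.map (ym (u j))) by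
      obtain ⟨j, y, hy⟩ := h
      obtain ⟨t, rfl⟩ := (Points.schemeHomeo (aff R (A₃ j))).surjective y
      exact ⟨j, t, (Points.ofPt_eq_map_ofScheme _ t).trans hy⟩
    by_cases ha : algebraMap R A f ∈ a.asIdeal
    · obtain ⟨b, rfl⟩ := mem_range_tensor hg a ha
      obtain ⟨j, hj⟩ := hmem β (Points.ofScheme _ b)
      have := hsT j _ hj
      rw [← Points.ofPt_eq_map_ofScheme, SpPts86.ofPt_yon_map] at this
      exact ⟨j, this⟩
    · obtain ⟨b, rfl⟩ := mem_range_loc (f := f) a ha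
      obtain ⟨j, hj⟩ := hmem α (Points.ofScheme _ b)
      have := hsF j _ hj
      rw [← Points.ofPt_eq_map_ofScheme, SpPts86.ofPt_yon_map] at this
      exact ⟨j, this⟩
  have hagree : ∀ i j, pullback.fst (ym (u i)) (ym (u j)) ≫ ym (v i) ≫ p i =
      pullback.snd (ym (u i)) (ym (u j)) ≫ ym (v j) ≫ p j := by
    intro i j
    have hR : IsAlgSpace (pullback (ym (u i)) (ym (u j))) :=
      isAlgSpace_pullback _ _ (IsAlgSpace.yon_obj _) (IsAlgSpace.yon_obj _) hYA
    have hre : IsEtaleMor (pullback.fst (ym (u i)) (ym (u j)) ≫ ym (u i)) := SpPts86.isEtaleMor_comp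
      (SpPts86.isEtaleMor_baseChange (IsPullback.of_hasPullback (ym (u i)) (ym (u j))).flip (IsAlgSpace.yon_obj _)
        hYA (IsAlgSpace.yon_obj _) (SpPts86.isEtaleMor_of_repWith_etale (het j)))
      (SpPts86.isEtaleMor_of_repWith_etale (het i))
    refine eq_of_pieces hg hR hZ (fun B _ _ g hge => ?_) _ _ fun B _ _ g => ?_
    · obtain ⟨t, ht⟩ := (yon _).map_surjective (g ≫ pullback.fst (ym (u i)) (ym (u j)) ≫ ym (u i))
      exact hA B t ((repWith_yon_map_iff _ _).1 (ht ▸ hre g hge))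
    · obtain ⟨h, hh⟩ := exists_ym (g ≫ pullback.fst (ym (u i)) (ym (u j)))
      obtain ⟨h', hh'⟩ := exists_ym (g ≫ pullback.snd (ym (u i)) (ym (u j)))
      have huu : h.comp (u i) = h'.comp (u j) := ym_injective (by
        rw [ym_comp, ym_comp, hh, hh', Category.assoc, Category.assoc, pullback.condition])
      simp only [← Category.assoc g, ← hh, ← hh']
      refine ⟨?_, ?_⟩
      · obtain ⟨k, hk⟩ := exists_ext_loc f (((locHom f B).comp h).comp (u i))
          (isUnit_of_loc (AlgHom.id R (AwF f B)))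
        have h1 := hF i _ ((locHom f B).comp h) k hk
        have h2 := hF j _ ((locHom f B).comp h') k (by rw [hk, AlgHom.comp_assoc, huu, AlgHom.comp_assoc])
        rw [← h2, ym_comp h, ym_comp h'] at h1
        simpa only [Category.assoc] using h1
      · let k := Algebra.TensorProduct.map (AlgHom.id R R') (h.comp (u i))
        have hk : k.comp (incR R' A) = ((incR R' B).comp h).comp (u i) := AlgHom.ext fun a => by simp [k]
        have h1 := hT i _ ((incR R' B).comp h) k hk
        have h2 := hT j _ ((incR R' B).comp h') k (by rw [hk, AlgHom.comp_assoc, huu, AlgHom.comp_assoc])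
        rw [← h2, ym_comp h, ym_comp h'] at h1
        simpa only [Category.assoc] using h1
  obtain ⟨φ, hφ⟩ := exists_desc_of_charts hYA (fun j => aff R (A₃ j)) (fun j => ym (u j)) het hsur
    (fun j => ym (v j) ≫ p j) hagree
  refine ⟨φ, ext_on_cover hYA A₃ (fun j => ym (u j)) het hsur (ym (locHom f A)) fun j B _ _ τ h w => ?_,
    ext_on_cover hYA A₃ (fun j => ym (u j)) het hsur (ym (incR R' A)) fun j B _ _ τ h w => ?_⟩
  · have hc : τ.comp (locHom f A) = h.comp (u j) := ym_injective (by rw [ym_comp, ym_comp, w])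
    rw [← Category.assoc, w, Category.assoc, hφ, hF j B h τ hc]
  · have hc : τ.comp (incR R' A) = h.comp (u j) := ym_injective (by rw [ym_comp, ym_comp, w])
    rw [← Category.assoc, w, Category.assoc, hφ, hT j B h τ hc]

/-- Morphisms on the pieces of a glueable space, agreeing on the overlap, glue uniquely. -/
theorem existsUnique_glue (hg : EtGlue.IsGlueingPair R R' f) {Y Z YU YX YU' : Sp (Spec (CommRingCat.of R))}
    (hY : IsAlgSpace Y) (hZ : IsAlgSpace Z)
    (hglue : ∀ (A : Type u) [CommRing A] [Algebra R A] (g : (yon _).obj (aff R A) ⟶ Y),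
      RepWith @Etale g → EtGlue.IsGlueable R R' f A)
    (hd : IsAffineMor (Limits.diag Z))
    (πY : Y ⟶ (yon _).obj (Over.mk (𝟙 (Spec (CommRingCat.of R)))))
    (inU : aff R (Localization.Away f) ⟶ Over.mk (𝟙 _)) (inX : aff R R' ⟶ Over.mk (𝟙 _))
    (uY : YU ⟶ Y) (sY : YU ⟶ (yon _).obj (aff R (Localization.Away f)))
    (hYU : IsPullback uY sY πY ((yon _).map inU)) (hYUs : IsAlgSpace YU)
    (xY : YX ⟶ Y) (rY : YX ⟶ (yon _).obj (aff R R'))
    (hYX : IsPullback xY rY πY ((yon _).map inX)) (hYXs : IsAlgSpace YX)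
    (m₁ : YU' ⟶ YU) (m₂ : YU' ⟶ YX) (hYU' : IsPullback m₁ m₂ uY xY)
    (a : YU ⟶ Z) (b : YX ⟶ Z) (hab : m₁ ≫ a = m₂ ≫ b) :
    ∃! φ : Y ⟶ Z, uY ≫ φ = a ∧ xY ≫ φ = b := by
  have hid : IsTerminal ((yon (Spec (CommRingCat.of R))).obj (Over.mk (𝟙 (Spec (CommRingCat.of R))))) :=
    IsTerminal.isTerminalObj (yon _) _ Over.mkIdTerminal
  have hR₁ : ∀ {B : Type u} [CommRing B] [Algebra R B] (k k' : Localization.Away f →ₐ[R] B), k = k' :=
    fun k k' => IsLocalization.algHom_ext (Submonoid.powers f) (Subsingleton.elim _ _)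
  have hmU : ∀ (A : Type u) [CommRing A] [Algebra R A], ∃ k : Localization.Away f →ₐ[R] AwF f A, True := by
    intro A _ _
    exact ⟨IsLocalization.liftAlgHom (M := Submonoid.powers f) (f := Algebra.ofId R (AwF f A)) (by
      rintro ⟨_, n, rfl⟩
      show IsUnit (algebraMap R (AwF f A) (f ^ n))
      rw [map_pow]
      exact (isUnit_of_loc (AlgHom.id R (AwF f A))).pow n), trivial⟩
  choose mU hmU' using fun (A : Type u) [CommRing A] [Algebra R A] => hmU A
  let L := fun (A : Type u) [CommRing A] [Algebra R A] (g : (yon _).obj (aff R A) ⟶ Y) =>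
    hYU.lift (ym (locHom f A) ≫ g) (ym (mU A)) (hid.hom_ext _ _)
  let L' := fun (A : Type u) [CommRing A] [Algebra R A] (g : (yon _).obj (aff R A) ⟶ Y) =>
    hYX.lift (ym (incR R' A) ≫ g) (ym (Algebra.TensorProduct.includeLeft : R' →ₐ[R] R' ⊗[R] A)) (hid.hom_ext _ _)
  have hLn : ∀ {A : Type u} [CommRing A] [Algebra R A] {B : Type u} [CommRing B] [Algebra R B] (h : A →ₐ[R] B)
      (k : AwF f A →ₐ[R] AwF f B), k.comp (locHom f A) = (locHom f B).comp h →
      ∀ g : (yon _).obj (aff R A) ⟶ Y, ym k ≫ L A g = L B (ym h ≫ g) := fun {A} _ _ {B} _ _ h k hk g =>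
    hYU.hom_ext
      (by rw [Category.assoc, hYU.lift_fst, hYU.lift_fst, ← Category.assoc, ← ym_comp, hk, ym_comp, Category.assoc])
      (by rw [Category.assoc, hYU.lift_snd, hYU.lift_snd, ← ym_comp]; exact congrArg ym (hR₁ _ _))
  have hLn' : ∀ {A : Type u} [CommRing A] [Algebra R A] {B : Type u} [CommRing B] [Algebra R B] (h : A →ₐ[R] B)
      (g : (yon _).obj (aff R A) ⟶ Y),
      ym (Algebra.TensorProduct.map (AlgHom.id R R') h) ≫ L' A g = L' B (ym h ≫ g) := fun {A} _ _ {B} _ _ h g => by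
    have e1 : (Algebra.TensorProduct.map (AlgHom.id R R') h).comp (incR R' A) = (incR R' B).comp h :=
      AlgHom.ext fun x => by simp
    have e2 : (Algebra.TensorProduct.map (AlgHom.id R R') h).comp
        (Algebra.TensorProduct.includeLeft : R' →ₐ[R] R' ⊗[R] A) = Algebra.TensorProduct.includeLeft :=
      AlgHom.ext fun x => by simp
    exact hYX.hom_ext
      (by rw [Category.assoc, hYX.lift_fst, hYX.lift_fst, ← Category.assoc, ← ym_comp, e1, ym_comp, Category.assoc])
      (by rw [Category.assoc, hYX.lift_snd, hYX.lift_snd, ← ym_comp, e2])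
  have huniq : ∀ ψ ψ' : Y ⟶ Z, uY ≫ ψ = uY ≫ ψ' → xY ≫ ψ = xY ≫ ψ' → ψ = ψ' := fun ψ ψ' h1 h2 =>
    eq_of_pieces hg hY hZ hglue ψ ψ' fun A _ _ g => by
      have e1 : L A g ≫ uY = ym (locHom f A) ≫ g := hYU.lift_fst _ _ _
      have e2 : L' A g ≫ xY = ym (incR R' A) ≫ g := hYX.lift_fst _ _ _
      exact ⟨by rw [← Category.assoc, ← e1, Category.assoc, h1, ← Category.assoc, e1, Category.assoc],
        by rw [← Category.assoc, ← e2, Category.assoc, h2, ← Category.assoc, e2, Category.assoc]⟩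
  obtain ⟨K, A, _, _, g, hge, hgs⟩ := exists_alg_charts hY
  have hsol : ∀ k, ∃ φ : (yon _).obj (aff R (A k)) ⟶ Z,
      ym (locHom f (A k)) ≫ φ = L (A k) (g k) ≫ a ∧ ym (incR R' (A k)) ≫ φ = L' (A k) (g k) ≫ b := fun k => by
    refine exists_glued_affine hg hZ hd (fun B _ _ t ht => hglue B ((yon _).map t ≫ g k)
      (SpPts86.repWith_etale_comp t (hge k))) _ _ fun B _ _ c c' hc => ?_
    obtain ⟨l, hl₁, hl₂⟩ : ∃ l, l ≫ m₁ = ym c ≫ L (A k) (g k) ∧ l ≫ m₂ = ym c' ≫ L' (A k) (g k) :=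
      ⟨hYU'.lift _ _ (by
        rw [Category.assoc, hYU.lift_fst, Category.assoc, hYX.lift_fst, ← Category.assoc, ← ym_comp,
          ← Category.assoc, ← ym_comp, hc]), hYU'.lift_fst _ _ _, hYU'.lift_snd _ _ _⟩
    rw [← Category.assoc, ← hl₁, ← Category.assoc, ← hl₂, Category.assoc, Category.assoc, hab]
  choose φk hφ₁ hφ₂ using hsol
  have hF : ∀ (k : K) {B : Type u} [CommRing B] [Algebra R B] (h : A k →ₐ[R] B),
      ym (locHom f B) ≫ ym h ≫ φk k = L B (ym h ≫ g k) ≫ a := fun k {B} _ _ h => by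
    obtain ⟨c, hc⟩ := exists_ext_loc f ((locHom f B).comp h) (isUnit_of_loc (AlgHom.id R (AwF f B)))
    rw [← hLn h c hc, Category.assoc, ← hφ₁, ← Category.assoc, ← ym_comp, ← hc, ym_comp, Category.assoc]
  have hT : ∀ (k : K) {B : Type u} [CommRing B] [Algebra R B] (h : A k →ₐ[R] B),
      ym (incR R' B) ≫ ym h ≫ φk k = L' B (ym h ≫ g k) ≫ b := fun k {B} _ _ h => by
    have e1 : (Algebra.TensorProduct.map (AlgHom.id R R') h).comp (incR R' (A k)) = (incR R' B).comp h :=
      AlgHom.ext fun x => by simp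
    rw [← hLn' h, Category.assoc, ← hφ₂, ← Category.assoc, ← ym_comp, ← e1, ym_comp, Category.assoc]
  obtain ⟨φ, hφ⟩ := exists_desc_of_charts hY (fun k => aff R (A k)) g hge hgs φk fun i j => by
    have hR : IsAlgSpace (pullback (g i) (g j)) :=
      isAlgSpace_pullback _ _ (IsAlgSpace.yon_obj _) (IsAlgSpace.yon_obj _) hY
    have hre : IsEtaleMor (pullback.fst (g i) (g j) ≫ g i) := SpPts86.isEtaleMor_comp
      (SpPts86.isEtaleMor_baseChange (IsPullback.of_hasPullback (g i) (g j)).flip (IsAlgSpace.yon_obj _) hY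
        (IsAlgSpace.yon_obj _) (SpPts86.isEtaleMor_of_repWith_etale (hge j)))
      (SpPts86.isEtaleMor_of_repWith_etale (hge i))
    refine eq_of_pieces hg hR hZ (fun B _ _ r hr => hglue B _ (hre r hr)) _ _ fun B _ _ r => ?_
    obtain ⟨h, hh⟩ := exists_ym (r ≫ pullback.fst (g i) (g j))
    obtain ⟨h', hh'⟩ := exists_ym (r ≫ pullback.snd (g i) (g j))
    have e : ym h ≫ g i = ym h' ≫ g j := by
      rw [hh, hh', Category.assoc, Category.assoc, pullback.condition]
    simp only [← Category.assoc r, ← hh, ← hh']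
    exact ⟨by rw [hF, hF, e], by rw [hT, hT, e]⟩
  have hall : ∀ (T : Type u) [CommRing T] [Algebra R T] (t : (yon _).obj (aff R T) ⟶ Y),
      ym (locHom f T) ≫ t ≫ φ = L T t ≫ a ∧ ym (incR R' T) ≫ t ≫ φ = L' T t ≫ b := fun T _ _ t => by
    refine ⟨ext_on_cover hY A g hge hgs (ym (locHom f T) ≫ t) fun k B _ _ τ h w => ?_,
      ext_on_cover hY A g hge hgs (ym (incR R' T) ≫ t) fun k B _ _ τ h w => ?_⟩
    · have hu : IsUnit (algebraMap R B f) := isUnit_of_loc τ
      obtain ⟨c, hc⟩ := exists_ext_loc f h hu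
      have e : ym c ≫ L (A k) (g k) = ym τ ≫ L T t := hYU.hom_ext
        (by rw [Category.assoc, hYU.lift_fst, Category.assoc, hYU.lift_fst, ← Category.assoc, ← ym_comp, hc, w])
        (by rw [Category.assoc, hYU.lift_snd, Category.assoc, hYU.lift_snd, ← ym_comp, ← ym_comp]
            exact congrArg ym (hR₁ _ _))
      rw [← Category.assoc (ym (locHom f T)), ← Category.assoc, w, Category.assoc, hφ, ← hc, ym_comp,
        Category.assoc, hφ₁, ← Category.assoc, e, Category.assoc]
    · obtain ⟨c, hc₁, hc₂⟩ : ∃ c : R' ⊗[R] A k →ₐ[R] B,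
          c.comp (incR R' (A k)) = h ∧ c.comp Algebra.TensorProduct.includeLeft =
            τ.comp Algebra.TensorProduct.includeLeft :=
        ⟨Algebra.TensorProduct.lift (τ.comp Algebra.TensorProduct.includeLeft) h fun _ _ => Commute.all _ _,
          AlgHom.ext fun x => by simp [← Algebra.TensorProduct.one_def],
          AlgHom.ext fun x => by simp⟩
      have e : ym c ≫ L' (A k) (g k) = ym τ ≫ L' T t := hYX.hom_ext
        (by rw [Category.assoc, hYX.lift_fst, Category.assoc, hYX.lift_fst, ← Category.assoc, ← ym_comp, hc₁, w])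
        (by rw [Category.assoc, hYX.lift_snd, Category.assoc, hYX.lift_snd, ← ym_comp, ← ym_comp, hc₂])
      rw [← Category.assoc (ym (incR R' T)), ← Category.assoc, w, Category.assoc, hφ, ← hc₁, ym_comp,
        Category.assoc, hφ₂, ← Category.assoc, e, Category.assoc]
  have hu : uY ≫ φ = a := by
    obtain ⟨M, T, _, _, q, hq, hqs⟩ := exists_alg_charts hYUs
    refine hom_ext_of_charts hYUs (fun n => aff R (T n)) q hq hqs fun n => ?_
    obtain ⟨s, hs⟩ := exists_ym (q n ≫ sY)
    obtain ⟨c, hc⟩ := exists_ext_loc f (AlgHom.id R (T n)) (by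
      rw [← s.commutes]
      exact (IsLocalization.Away.algebraMap_isUnit f).map s)
    have e : ym c ≫ L (T n) (q n ≫ uY) = q n := hYU.hom_ext
      (by rw [Category.assoc, hYU.lift_fst, ← Category.assoc, ← ym_comp, hc, ← Category.assoc]
          congr 1
          rw [ym, show affMap (AlgHom.id R (T n)) = 𝟙 _ from Over.OverMorphism.ext (Spec.map_id _),
            CategoryTheory.Functor.map_id, Category.id_comp])
      (by rw [Category.assoc, hYU.lift_snd, ← hs, ← ym_comp]; exact congrArg ym (hR₁ _ _))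
    have h1 := congrArg (ym c ≫ ·) (hall (T n) (q n ≫ uY)).1
    simp only [← Category.assoc, ← ym_comp, hc] at h1
    rw [e, show ym (AlgHom.id R (T n)) = 𝟙 _ from by
      rw [ym, show affMap (AlgHom.id R (T n)) = 𝟙 _ from Over.OverMorphism.ext (Spec.map_id _),
        CategoryTheory.Functor.map_id], Category.id_comp] at h1
    rw [← Category.assoc]
    exact h1
  have hx : xY ≫ φ = b := by
    obtain ⟨M, T, _, _, q, hq, hqs⟩ := exists_alg_charts hYXs
    refine hom_ext_of_charts hYXs (fun n => aff R (T n)) q hq hqs fun n => ?_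
    obtain ⟨s, hs⟩ := exists_ym (q n ≫ rY)
    let c : R' ⊗[R] T n →ₐ[R] T n := Algebra.TensorProduct.lift s (AlgHom.id R (T n)) fun _ _ => Commute.all _ _
    have hc : c.comp (incR R' (T n)) = AlgHom.id R (T n) := AlgHom.ext fun x => by simp [c]
    have hc₂ : c.comp (Algebra.TensorProduct.includeLeft : R' →ₐ[R] R' ⊗[R] T n) = s :=
      AlgHom.ext fun x => by simp [c]
    have hI : ym (AlgHom.id R (T n)) = 𝟙 _ := by
      rw [ym, show affMap (AlgHom.id R (T n)) = 𝟙 _ from Over.OverMorphism.ext (Spec.map_id _),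
        CategoryTheory.Functor.map_id]
    have e : ym c ≫ L' (T n) (q n ≫ xY) = q n := hYX.hom_ext
      (by rw [Category.assoc, hYX.lift_fst, ← Category.assoc, ← ym_comp, hc, hI, Category.id_comp])
      (by rw [Category.assoc, hYX.lift_snd, ← hs, ← ym_comp, hc₂])
    have h1 := congrArg (ym c ≫ ·) (hall (T n) (q n ≫ xY)).2
    simp only [← Category.assoc, ← ym_comp, hc] at h1
    rw [e, hI, Category.id_comp] at h1
    rw [← Category.assoc]
    exact h1
  exact ⟨φ, ⟨hu, hx⟩, fun ψ hψ => huniq ψ φ (hψ.1.trans hu.symm) (hψ.2.trans hx.symm)⟩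

end Groth.Agent.SpProper61.GlueEq
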