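import Groth.Agent.SpFP87.LocalST
import Groth.Agent.SpPts86.Proper
import Groth.Agent.SpPts86.PieceChart
import Groth.Agent.SpPts86.EtaleMor
import Groth.Agent.SpPts86.Compact
import Groth.Agent.SpPts86.DenseDesc
import Groth.Agent.SpPts86.LqfSep
import Groth.Agent.SpPts86.Quot
import Groth.Agent.SpPts86.QuotSp
import Groth.Agent.SpProper61.ColimScheme

/-!
Colimits among algebraic spaces separated over a base.
-/

set_option autoImplicit false
set_option linter.style.haveILetI false
set_option backward.isDefEq.respectTransparency false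

universe w v u

open CategoryTheory CategoryTheory.Limits AlgebraicGeometry
open AlgSp Groth.Agent.SpFP87

noncomputable section

namespace Groth.Agent.SpProper61

variable {S : Scheme.{u}}

/-- The first of two composable maps with separated composite is separated. -/
theorem isSeparatedMor_of_comp {F G H : Sp S} {a : F ⟶ G} {b : G ⟶ H}
    (h : IsSeparatedMor (a ≫ b)) : IsSeparatedMor a := by
  change RepWith @IsClosedImmersion (pullback.diagonal (a ≫ b)) at h
  rw [SpPts86.diagonal_comp_eq] at h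
  have : Mono (pullback.mapDesc a a b) := ⟨fun x y e => pullback.hom_ext
    (by
      have h1 := congrArg (· ≫ pullback.fst _ _) e
      simp only [pullback.mapDesc, Category.assoc, pullback.lift_fst] at h1
      simpa using h1)
    (by
      have h1 := congrArg (· ≫ pullback.snd _ _) e
      simp only [pullback.mapDesc, Category.assoc, pullback.lift_snd] at h1
      simpa using h1)⟩
  exact SpPts86.repWith_of_comp_mono (pullback.mapDesc a a b) h

/-- A scheme separated over `S` is separated over every space. -/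
theorem isSeparatedMor_from_yon {B : Sp S} {U : Over S} (hU : IsSeparated U.hom)
    (f : (yon S).obj U ⟶ B) : IsSeparatedMor f := by
  let hT : IsTerminal ((yon S).obj (Over.mk (𝟙 S))) := IsTerminal.isTerminalObj (yon S) _ Over.mkIdTerminal
  refine isSeparatedMor_of_comp (b := hT.from B) ?_
  rw [hT.hom_ext (f ≫ hT.from B) ((yon S).map (Over.homMk U.hom : U ⟶ Over.mk (𝟙 S)))]
  exact (isSeparatedMor_yon_map_iff _).2 hU

/-- Surjective etale morphisms of spaces have local lifts. -/
theorem locLift_of_etale_surjective {X Y : Sp S} {f : X ⟶ Y} (hX : IsAlgSpace X) (hY : IsAlgSpace Y)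
    (he : IsEtaleMor f) (hs : IsSurjectiveMor f) : LocLift f := by
  obtain ⟨W, w, hw, hws⟩ := hX.atlas
  have hsur : Function.Surjective (Points.ofPt (w ≫ f)) := fun y => by
    obtain ⟨x, rfl⟩ := hs y
    obtain ⟨t, rfl⟩ := SpPts86.surjective_ofPt hws x
    exact ⟨t, (Points.map_ofPt w f t).symm⟩
  have h := locLift_of_atlas (he w hw)
    (SpPts86.repWith_surjective_of_surjective_ofPt (hY.representable_from_yon _) hsur)
  intro T g
  obtain ⟨V, c, l, hc, hl⟩ := h T g
  exact ⟨V, c, l ≫ w, hc, by rw [Category.assoc, hl]⟩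

variable {B : Space S} {P : ObjectProperty (Over B)}

/-- A morphism in the subcategory from a morphism of sheaves over `B`. -/
def pHom {X Y : P.FullSubcategory} (f : X.obj.left.obj ⟶ Y.obj.left.obj)
    (h : f ≫ Y.obj.hom.hom = X.obj.hom.hom) : X ⟶ Y :=
  ObjectProperty.homMk (Over.homMk (ObjectProperty.homMk f) (ObjectProperty.hom_ext _ h))

theorem pHom_w {X Y : P.FullSubcategory} (f : X ⟶ Y) :
    f.hom.left.hom ≫ Y.obj.hom.hom = X.obj.hom.hom :=
  congrArg (fun g => g.hom) (Over.w f.hom)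

theorem pHom_ext {X Y : P.FullSubcategory} {f g : X ⟶ Y} (h : f.hom.left.hom = g.hom.left.hom) : f = g :=
  ObjectProperty.hom_ext _ (Over.OverMorphism.ext (ObjectProperty.hom_ext _ h))

theorem pHom_comp {X Y Z : P.FullSubcategory} (f : X ⟶ Y) (g : Y ⟶ Z) :
    (f ≫ g).hom.left.hom = f.hom.left.hom ≫ g.hom.left.hom := rfl

variable {I : Type v} [Category.{w} I]

theorem map_comp_left {D : I ⥤ P.FullSubcategory} {i j k : I} (f : i ⟶ j) (g : j ⟶ k) :
    (D.map (f ≫ g)).hom.left.hom = (D.map f).hom.left.hom ≫ (D.map g).hom.left.hom := by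
  rw [D.map_comp]; rfl

theorem map_id_left {D : I ⥤ P.FullSubcategory} (i : I) :
    (D.map (𝟙 i)).hom.left.hom = 𝟙 _ := by
  rw [D.map_id]; rfl

theorem cocone_w {D : I ⥤ P.FullSubcategory} (c : Cocone D) {i j : I} (f : i ⟶ j) :
    (D.map f).hom.left.hom ≫ (c.ι.app j).hom.left.hom = (c.ι.app i).hom.left.hom := by
  rw [← pHom_comp, c.w f]

/-- Maps from a colimit of separated spaces to any space are determined by their restrictions. -/
theorem sep_hom_ext (hP : ∀ T : Over B, P T ↔ IsSeparatedMor T.hom.hom) {D : I ⥤ P.FullSubcategory}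
    {c : Cocone D} (hc : IsColimit c) {Z : Sp S} (hZ : IsAlgSpace Z)
    {m m' : c.pt.obj.left.obj ⟶ Z}
    (e : ∀ i, (c.ι.app i).hom.left.hom ≫ m = (c.ι.app i).hom.left.hom ≫ m') : m = m' := by
  obtain ⟨E, ι, p, sq⟩ : ∃ (E : Sp S) (ι : E ⟶ c.pt.obj.left.obj) (p : E ⟶ Z),
      IsPullback p ι (Limits.diag Z) (prod.lift m m') := ⟨_, _, _, IsPullback.of_hasPullback _ _⟩
  haveI : Mono ι := MorphismProperty.of_isPullback (P := MorphismProperty.monomorphisms _) sq
    (inferInstanceAs (Mono (Limits.diag Z)))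
  have hιr : Representable ι := MorphismProperty.of_isPullback (P := Representable) sq hZ.diag
  have hE : IsAlgSpace E := isAlgSpace_of_representable ι hιr c.pt.obj.left.property
  let EP : P.FullSubcategory :=
    ⟨Over.mk (ObjectProperty.homMk (ι ≫ c.pt.obj.hom.hom) : (⟨E, hE⟩ : Space S) ⟶ B),
      (hP _).2 (SpPts86.isSeparatedMor_comp (SpPts86.isSeparatedMor_of_mono ι) ((hP _).1 c.pt.property))⟩
  have hl : ∀ i, ∃ d : (D.obj i).obj.left.obj ⟶ E, d ≫ ι = (c.ι.app i).hom.left.hom := fun i =>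
    ⟨sq.lift ((c.ι.app i).hom.left.hom ≫ m) (c.ι.app i).hom.left.hom
      (prod.hom_ext (by simp) (by simp [e i])), sq.lift_snd _ _ _⟩
  choose d hd using hl
  let s : Cocone D :=
    { pt := EP
      ι := { app := fun i => pHom (d i) (by
              show d i ≫ ι ≫ _ = _
              rw [reassoc_of% hd i]; exact pHom_w _)
             naturality := fun i j f => pHom_ext (by
              show (D.map f).hom.left.hom ≫ d j = d i ≫ 𝟙 _
              rw [Category.comp_id, ← cancel_mono ι, Category.assoc, hd, hd]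
              exact cocone_w c f) } }
  let π : EP ⟶ c.pt := pHom ι rfl
  have hk : hc.desc s ≫ π = 𝟙 c.pt := hc.hom_ext fun i => by
    rw [hc.fac_assoc, Category.comp_id]
    exact pHom_ext (hd i)
  have hkι : (hc.desc s).hom.left.hom ≫ ι = 𝟙 _ := congrArg (fun g => g.hom.left.hom) hk
  have hw := congrArg ((hc.desc s).hom.left.hom ≫ ·) sq.w
  simp only [reassoc_of% hkι] at hw
  have h1 := congrArg (· ≫ Limits.prod.fst) hw
  have h2 := congrArg (· ≫ Limits.prod.snd) hw
  simp only [Category.assoc, prod.lift_fst, prod.lift_snd, Category.comp_id] at h1 h2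
  exact h1.symm.trans h2

/-- Colimits of spaces separated over `B` with etale descent map to every space over `B`. -/
theorem exists_desc_of_sep_colimit (hP : ∀ T : Over B, P T ↔ IsSeparatedMor T.hom.hom)
    {D : I ⥤ P.FullSubcategory} (c : Cocone D)
    (h₃ : ∀ x : AlgSp.Points c.pt.obj.left.obj, ∃ (i : I) (y : AlgSp.Points (D.obj i).obj.left.obj),
      AlgSp.Points.map (c.ι.app i).hom.left.hom y = x)
    (h₄ : ∀ (D' : I ⥤ P.FullSubcategory) (α : D' ⟶ D) (c' : Cocone D') (a : c'.pt ⟶ c.pt),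
      AlgSp.IsEtaleMor a.hom.left.hom → AlgSp.IsSeparatedMor a.hom.left.hom →
      (∀ i, IsPullback (c'.ι.app i).hom.left.hom (α.app i).hom.left.hom a.hom.left.hom (c.ι.app i).hom.left.hom) →
        Nonempty (IsColimit c'))
    (h₅ : ∀ (D' : I ⥤ P.FullSubcategory) (α : D' ⟶ D),
      (∀ ⦃i j : I⦄ (g : i ⟶ j), IsPullback (D'.map g).hom.left.hom (α.app i).hom.left.hom (α.app j).hom.left.hom
        (D.map g).hom.left.hom) →
      (∀ i, AlgSp.IsEtaleMor (α.app i).hom.left.hom) → (∀ i, AlgSp.IsSeparatedMor (α.app i).hom.left.hom) →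
        ∃ (c' : Cocone D') (a : c'.pt ⟶ c.pt), AlgSp.IsEtaleMor a.hom.left.hom ∧ AlgSp.IsSeparatedMor a.hom.left.hom ∧
          ∀ i, IsPullback (c'.ι.app i).hom.left.hom (α.app i).hom.left.hom a.hom.left.hom (c.ι.app i).hom.left.hom)
    (Z : Over B) (u : ∀ i, (D.obj i).obj.left.obj ⟶ Z.left.obj)
    (hu : ∀ ⦃i j : I⦄ (f : i ⟶ j), (D.map f).hom.left.hom ≫ u j = u i)
    (hub : ∀ i, u i ≫ Z.hom.hom = (D.obj i).obj.hom.hom) :
    ∃ m : c.pt.obj.left.obj ⟶ Z.left.obj, ∀ i, (c.ι.app i).hom.left.hom ≫ m = u i := by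
  have hZ : IsAlgSpace Z.left.obj := Z.left.property
  obtain ⟨U, y, hy, hys, hUsep⟩ := exists_atlas_isSeparated hZ
  have hU : IsAlgSpace ((yon S).obj U) := IsAlgSpace.yon_obj U
  have hye : IsEtaleMor y := SpPts86.isEtaleMor_of_repWith_etale hy
  have hyB : IsSeparatedMor (y ≫ Z.hom.hom) := isSeparatedMor_from_yon hUsep _
  have hysep : IsSeparatedMor y := isSeparatedMor_of_comp hyB
  obtain ⟨E, hEs, p, q, sq⟩ : ∃ (E : I → Sp S) (_ : ∀ i, IsAlgSpace (E i))
      (p : ∀ i, E i ⟶ (D.obj i).obj.left.obj) (q : ∀ i, E i ⟶ (yon S).obj U),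
      ∀ i, IsPullback (p i) (q i) (u i) y :=
    ⟨fun i => pullback (u i) y, fun i => isAlgSpace_pullback _ _ (D.obj i).obj.left.property hU hZ,
      fun i => pullback.fst _ _, fun i => pullback.snd _ _, fun i => IsPullback.of_hasPullback _ _⟩
  have hpe : ∀ i, IsEtaleMor (p i) := fun i =>
    SpPts86.isEtaleMor_baseChange (sq i).flip hU hZ (D.obj i).obj.left.property hye
  have hps : ∀ i, IsSeparatedMor (p i) := fun i => SpPts86.isSeparatedMor_of_isPullback (sq i).flip hysep
  have hpsur : ∀ i, IsSurjectiveMor (p i) := fun i =>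
    isSurjectiveMor_baseChange (sq i).flip (SpPts86.isSurjectiveMor_of_repWith hys)
  have hl : ∀ {i j : I} (f : i ⟶ j), ∃ l : E i ⟶ E j,
      l ≫ p j = p i ≫ (D.map f).hom.left.hom ∧ l ≫ q j = q i := fun {i j} f =>
    ⟨(sq j).lift (p i ≫ (D.map f).hom.left.hom) (q i) (by rw [Category.assoc, hu f]; exact (sq i).w),
      (sq j).lift_fst _ _ _, (sq j).lift_snd _ _ _⟩
  choose l hlp hlq using @hl
  let EP : I → P.FullSubcategory := fun i =>
    ⟨Over.mk (ObjectProperty.homMk (p i ≫ (D.obj i).obj.hom.hom) : (⟨E i, hEs i⟩ : Space S) ⟶ B),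
      (hP _).2 (SpPts86.isSeparatedMor_comp (hps i) ((hP _).1 (D.obj i).property))⟩
  let D' : I ⥤ P.FullSubcategory :=
    { obj := EP
      map := fun {i j} f => pHom (l f) (by
        show l f ≫ p j ≫ _ = p i ≫ _
        rw [reassoc_of% hlp f, pHom_w])
      map_id := fun i => pHom_ext ((sq i).hom_ext
        (by show l (𝟙 i) ≫ p i = 𝟙 (E i) ≫ p i; rw [hlp, map_id_left, Category.comp_id, Category.id_comp])
        (by show l (𝟙 i) ≫ q i = 𝟙 (E i) ≫ q i; rw [hlq, Category.id_comp]))
      map_comp := fun {i j k} f g => pHom_ext ((sq k).hom_ext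
        (by show l (f ≫ g) ≫ p k = (l f ≫ l g) ≫ p k
            rw [hlp, Category.assoc, hlp, reassoc_of% hlp f, map_comp_left])
        (by show l (f ≫ g) ≫ q k = (l f ≫ l g) ≫ q k; rw [hlq, Category.assoc, hlq, hlq])) }
  let α : D' ⟶ D :=
    { app := fun i => pHom (p i) rfl
      naturality := fun i j f => pHom_ext (hlp f) }
  have hcart : ∀ ⦃i j : I⦄ (f : i ⟶ j), IsPullback (l f) (p i) (p j) (D.map f).hom.left.hom := fun i j f => by
    refine IsPullback.of_right (h₁₂ := q j) (h₂₂ := u j) (v₁₃ := y) ?_ (hlp f) (sq j).flip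
    rw [hlq f, hu f]
    exact (sq i).flip
  obtain ⟨c', a, hae, has, hsq⟩ := h₅ D' α hcart hpe hps
  obtain ⟨hc'⟩ := h₄ D' α c' a hae has hsq
  let UP : P.FullSubcategory :=
    ⟨Over.mk (ObjectProperty.homMk (y ≫ Z.hom.hom) : ((ofScheme S).obj U) ⟶ B), (hP _).2 hyB⟩
  let sU : Cocone D' :=
    { pt := UP
      ι := { app := fun i => pHom (q i) (by
              show q i ≫ y ≫ _ = p i ≫ _
              rw [← (sq i).w_assoc, hub i])
             naturality := fun i j f => pHom_ext (by
              show l f ≫ q j = q i ≫ 𝟙 _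
              rw [hlq, Category.comp_id]) } }
  let h : c'.pt.obj.left.obj ⟶ Z.left.obj := (hc'.desc sU).hom.left.hom ≫ y
  have hh : ∀ i, (c'.ι.app i).hom.left.hom ≫ h = p i ≫ u i := fun i => by
    have e : (c'.ι.app i).hom.left.hom ≫ (hc'.desc sU).hom.left.hom = q i :=
      congrArg (fun g => g.hom.left.hom) (hc'.fac sU i)
    show _ ≫ _ ≫ y = _
    rw [reassoc_of% e]
    exact (sq i).w.symm
  obtain ⟨A, hA⟩ : ∃ A, a.hom.left.hom = A := ⟨_, rfl⟩
  rw [hA] at hae has
  simp only [hA] at hsq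
  have hPt : IsAlgSpace c.pt.obj.left.obj := c.pt.obj.left.property
  have hPt' : IsAlgSpace c'.pt.obj.left.obj := c'.pt.obj.left.property
  have hasur : IsSurjectiveMor A := fun x => by
    obtain ⟨i, z, rfl⟩ := h₃ x
    obtain ⟨e, rfl⟩ := hpsur i z
    refine ⟨Points.map (c'.ι.app i).hom.left.hom e, ?_⟩
    rw [← Points.map_comp, ← Points.map_comp]
    exact congrArg (fun g => Points.map g e) (hsq i).w
  have hR : pullback.fst A A ≫ h = pullback.snd A A ≫ h := by
    let R : Space S := ⟨pullback A A, isAlgSpace_pullback _ _ hPt' hPt' hPt⟩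
    let r : pullback A A ⟶ c.pt.obj.left.obj := pullback.fst A A ≫ A
    have hre : IsEtaleMor r := SpPts86.isEtaleMor_comp
      (SpPts86.isEtaleMor_baseChange (IsPullback.of_hasPullback A A).flip hPt' hPt hPt' hae) hae
    have hrs : IsSeparatedMor r := SpPts86.isSeparatedMor_comp
      (SpPts86.isSeparatedMor_of_isPullback (IsPullback.of_hasPullback A A).flip has) has
    let F : I → Sp S := fun i => pullback (c.ι.app i).hom.left.hom r
    let π : ∀ i, F i ⟶ (D.obj i).obj.left.obj := fun i => pullback.fst _ _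
    let FP : I → P.FullSubcategory := fun i =>
      ⟨Over.mk (ObjectProperty.homMk (π i ≫ (D.obj i).obj.hom.hom) :
          (⟨F i, isAlgSpace_pullback _ _ (D.obj i).obj.left.property R.property hPt⟩ : Space S) ⟶ B),
        (hP _).2 (SpPts86.isSeparatedMor_comp
          (SpPts86.isSeparatedMor_of_isPullback (IsPullback.of_hasPullback _ r).flip hrs)
          ((hP _).1 (D.obj i).property))⟩
    have hl₂ : ∀ {i j : I} (f : i ⟶ j), ∃ l₂ : F i ⟶ F j,
        l₂ ≫ π j = π i ≫ (D.map f).hom.left.hom ∧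
          l₂ ≫ pullback.snd (c.ι.app j).hom.left.hom r = pullback.snd (c.ι.app i).hom.left.hom r :=
      fun {i j} f => ⟨pullback.lift (π i ≫ (D.map f).hom.left.hom) (pullback.snd _ _)
        (by rw [Category.assoc, cocone_w c f]; exact pullback.condition),
        pullback.lift_fst _ _ _, pullback.lift_snd _ _ _⟩
    choose l₂ hl₂f hl₂s using @hl₂
    let D₂ : I ⥤ P.FullSubcategory :=
      { obj := FP
        map := fun {i j} f => pHom (l₂ f) (by
          show l₂ f ≫ π j ≫ _ = π i ≫ _
          rw [reassoc_of% hl₂f f, pHom_w])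
        map_id := fun i => pHom_ext (pullback.hom_ext
          (by show l₂ (𝟙 i) ≫ π i = 𝟙 (F i) ≫ π i
              rw [hl₂f, map_id_left, Category.comp_id, Category.id_comp])
          (by show l₂ (𝟙 i) ≫ pullback.snd _ _ = 𝟙 (F i) ≫ pullback.snd _ _
              rw [hl₂s, Category.id_comp]))
        map_comp := fun {i j k} f g => pHom_ext (pullback.hom_ext
          (by show l₂ (f ≫ g) ≫ π k = (l₂ f ≫ l₂ g) ≫ π k
              rw [hl₂f, Category.assoc, hl₂f, reassoc_of% hl₂f f, map_comp_left])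
          (by show l₂ (f ≫ g) ≫ pullback.snd _ _ = (l₂ f ≫ l₂ g) ≫ pullback.snd _ _
              rw [hl₂s, Category.assoc, hl₂s, hl₂s])) }
    let RP : P.FullSubcategory :=
      ⟨Over.mk (ObjectProperty.homMk (r ≫ c.pt.obj.hom.hom) : R ⟶ B),
        (hP _).2 (SpPts86.isSeparatedMor_comp hrs ((hP _).1 c.pt.property))⟩
    let c₂ : Cocone D₂ :=
      { pt := RP
        ι := { app := fun i => pHom (pullback.snd _ _) (by
                show pullback.snd _ r ≫ r ≫ _ = π i ≫ _
                rw [← pullback.condition_assoc]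
                exact congrArg (π i ≫ ·) (pHom_w (c.ι.app i)))
               naturality := fun i j f => pHom_ext (by
                show l₂ f ≫ pullback.snd _ r = pullback.snd _ r ≫ 𝟙 _
                rw [hl₂s, Category.comp_id]) } }
    obtain ⟨hc₂⟩ := h₄ D₂
      { app := fun i => pHom (π i) rfl
        naturality := fun i j f => pHom_ext (hl₂f f) }
      c₂ (pHom r rfl) hre hrs (fun i => (IsPullback.of_hasPullback (c.ι.app i).hom.left.hom r).flip)
    refine sep_hom_ext hP hc₂ hZ fun i => ?_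
    have key : ∀ s : pullback A A ⟶ c'.pt.obj.left.obj, s ≫ A = r →
        pullback.snd (c.ι.app i).hom.left.hom r ≫ s ≫ h = π i ≫ u i := by
      intro s hs
      obtain ⟨k, hk₁, hk₂⟩ : ∃ k, k ≫ (c'.ι.app i).hom.left.hom = pullback.snd (c.ι.app i).hom.left.hom r ≫ s ∧
          k ≫ p i = π i :=
        ⟨(hsq i).lift (pullback.snd (c.ι.app i).hom.left.hom r ≫ s) (π i)
          (by rw [Category.assoc, hs]; exact pullback.condition.symm),
          (hsq i).lift_fst _ _ _, (hsq i).lift_snd _ _ _⟩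
      rw [← reassoc_of% hk₁, hh, reassoc_of% hk₂]
    exact (key _ rfl).trans (key _ pullback.condition.symm).symm
  obtain ⟨W, w, hw, hws⟩ := hPt'.atlas
  have hwl : LocLift w := locLift_of_atlas hw hws
  have hal : LocLift A := locLift_of_etale_surjective hPt' hPt hae hasur
  obtain ⟨m, hm⟩ := SpPts86.exists_desc (SpPts86.locLift_comp hwl hal) (w ≫ h) fun V x x' e => by
    have := congrArg (pullback.lift ((yon S).map x ≫ w) ((yon S).map x' ≫ w)
      (by simpa only [Category.assoc] using e) ≫ ·) hR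
    simpa only [pullback.lift_fst_assoc, pullback.lift_snd_assoc, Category.assoc] using this
  have hm' : A ≫ m = h := SpPts86.hom_ext_of_locLift hwl (by rw [← hm, Category.assoc])
  refine ⟨m, fun i => SpPts86.hom_ext_of_locLift
    (locLift_of_etale_surjective (hEs i) (D.obj i).obj.left.property (hpe i) (hpsur i)) ?_⟩
  have hw' : (c'.ι.app i).hom.left.hom ≫ A = p i ≫ (c.ι.app i).hom.left.hom := (hsq i).w
  rw [← reassoc_of% hw', hm', hh]

/-- Colimits of separated spaces over `B` with etale descent are colimits of spaces over `B`. -/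
theorem isColimit_of_separated (hP : ∀ T : Over B, P T ↔ IsSeparatedMor T.hom.hom)
    {D : I ⥤ P.FullSubcategory} (c : Cocone D) (hc : IsColimit c)
    (hex : ∀ (Z : Over B) (u : ∀ i, (D.obj i).obj.left.obj ⟶ Z.left.obj),
      (∀ ⦃i j : I⦄ (f : i ⟶ j), (D.map f).hom.left.hom ≫ u j = u i) →
      (∀ i, u i ≫ Z.hom.hom = (D.obj i).obj.hom.hom) →
      ∃ m : c.pt.obj.left.obj ⟶ Z.left.obj, ∀ i, (c.ι.app i).hom.left.hom ≫ m = u i) :
    Nonempty (IsColimit (P.ι.mapCocone c)) := by
  have hex' : ∀ s : Cocone (D ⋙ P.ι), ∃ m : c.pt.obj ⟶ s.pt, ∀ i, (c.ι.app i).hom ≫ m = s.ι.app i := by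
    intro s
    obtain ⟨m, hm⟩ := hex s.pt (fun i => (s.ι.app i).left.hom)
      (fun i j f => congrArg (fun g : (D.obj i).obj ⟶ s.pt => g.left.hom) (s.w f))
      (fun i => congrArg (fun g => g.hom) (Over.w (s.ι.app i)))
    refine ⟨Over.homMk (ObjectProperty.homMk m) (ObjectProperty.hom_ext _ ?_), fun i =>
      Over.OverMorphism.ext (ObjectProperty.hom_ext _ (hm i))⟩
    show m ≫ s.pt.hom.hom = c.pt.obj.hom.hom
    refine sep_hom_ext hP hc B.property fun i => ?_
    rw [reassoc_of% hm i]
    exact (congrArg (fun g => g.hom) (Over.w (s.ι.app i))).trans (pHom_w (c.ι.app i)).symm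
  choose m hm using hex'
  exact ⟨{ desc := m
           fac := hm
           uniq := fun s k hk => Over.OverMorphism.ext (ObjectProperty.hom_ext _
            (sep_hom_ext hP hc s.pt.left.property fun i =>
              congrArg (fun g : (D.obj i).obj ⟶ s.pt => g.left.hom) ((hk i).trans (hm s i).symm))) }⟩

end Groth.Agent.SpProper61
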