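import Groth.Agent.SpProper61.EtaleCover
import Groth.Agent.SpPts86.Subspace

/-!
Colimits of spaces over `B` from descent of etale spaces and local maps to affine schemes.
-/

set_option autoImplicit false
set_option linter.style.haveILetI false
set_option backward.isDefEq.respectTransparency false

universe w v u

open CategoryTheory CategoryTheory.Limits AlgebraicGeometry
open AlgSp Groth.Agent.SpFP87

noncomputable section

namespace Groth.Agent.SpProper61.DescColim

variable {S : Scheme.{u}} {B : Space S} {I : Type v} [Category.{w} I] {D : I ⥤ Over B} (c : Cocone D)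

/-- The sheaf under the vertex. -/
abbrev X : Sp S := c.pt.left.obj

/-- The coprojections. -/
abbrev inj (i : I) : (D.obj i).left.obj ⟶ X c := (c.ι.app i).left.hom

/-- The transition maps. -/
abbrev tr {i j : I} (φ : i ⟶ j) : (D.obj i).left.obj ⟶ (D.obj j).left.obj := (D.map φ).left.hom

omit c in
theorem tr_id (i : I) : tr (D := D) (𝟙 i) = 𝟙 _ := by
  show (D.map (𝟙 i)).left.hom = _
  rw [D.map_id]; rfl

omit c in
theorem tr_comp {i j k : I} (φ : i ⟶ j) (ψ : j ⟶ k) : tr (D := D) (φ ≫ ψ) = tr φ ≫ tr ψ := by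
  show (D.map (φ ≫ ψ)).left.hom = _
  rw [D.map_comp]; rfl

theorem tr_inj {i j : I} (φ : i ⟶ j) : tr φ ≫ inj c j = inj c i :=
  congrArg (fun g : D.obj i ⟶ c.pt => g.left.hom) (c.w φ)

theorem inj_hom (i : I) : inj c i ≫ c.pt.hom.hom = (D.obj i).hom.hom :=
  congrArg (fun g => g.hom) (Over.w (c.ι.app i))

omit c in
theorem tr_hom {i j : I} (φ : i ⟶ j) : tr φ ≫ (D.obj j).hom.hom = (D.obj i).hom.hom :=
  congrArg (fun g => g.hom) (Over.w (D.map φ))

/-- The base change of a coprojection along a map to the vertex. -/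
abbrev Fib {U : Sp S} (t : U ⟶ X c) (i : I) : Sp S := pullback (inj c i) t

theorem isAlgSpace_fib {U : Sp S} (t : U ⟶ X c) (hU : IsAlgSpace U) (i : I) : IsAlgSpace (Fib c t i) :=
  isAlgSpace_pullback _ _ (D.obj i).left.property hU c.pt.left.property

/-- The transition maps of the base change. -/
def fibMap {U : Sp S} (t : U ⟶ X c) {i j : I} (φ : i ⟶ j) : Fib c t i ⟶ Fib c t j :=
  pullback.lift (pullback.fst _ _ ≫ tr φ) (pullback.snd _ _)
    (by rw [Category.assoc, tr_inj]; exact pullback.condition)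

@[reassoc (attr := simp)]
theorem fibMap_fst {U : Sp S} (t : U ⟶ X c) {i j : I} (φ : i ⟶ j) :
    fibMap c t φ ≫ pullback.fst _ _ = pullback.fst _ _ ≫ tr φ := pullback.lift_fst _ _ _

@[reassoc (attr := simp)]
theorem fibMap_snd {U : Sp S} (t : U ⟶ X c) {i j : I} (φ : i ⟶ j) :
    fibMap c t φ ≫ pullback.snd _ _ = pullback.snd _ _ := pullback.lift_snd _ _ _

theorem fibMap_id {U : Sp S} (t : U ⟶ X c) (i : I) : fibMap c t (𝟙 i) = 𝟙 _ :=
  pullback.hom_ext (by simp [tr_id]) (by simp)

theorem fibMap_comp {U : Sp S} (t : U ⟶ X c) {i j k : I} (φ : i ⟶ j) (ψ : j ⟶ k) :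
    fibMap c t (φ ≫ ψ) = fibMap c t φ ≫ fibMap c t ψ :=
  pullback.hom_ext (by simp [tr_comp]) (by simp)

/-- A compatible family of maps out of the base change. -/
def Compat {U Z : Sp S} (t : U ⟶ X c) (f : ∀ i, Fib c t i ⟶ Z) : Prop :=
  ∀ ⦃i j : I⦄ (φ : i ⟶ j), fibMap c t φ ≫ f j = f i

/-- A space with a map to `B` as an object over `B`. -/
abbrev ob {U : Sp S} (hU : IsAlgSpace U) (g : U ⟶ B.obj) : Over B :=
  Over.mk (ObjectProperty.homMk g : (⟨U, hU⟩ : Space S) ⟶ B)

/-- A morphism over `B` from a morphism of sheaves. -/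
def oHom {U V : Over B} (f : U.left.obj ⟶ V.left.obj) (h : f ≫ V.hom.hom = U.hom.hom) : U ⟶ V :=
  Over.homMk (ObjectProperty.homMk f) (ObjectProperty.hom_ext _ h)

omit c in
theorem oHom_ext {U V : Over B} {f g : U ⟶ V} (h : f.left.hom = g.left.hom) : f = g :=
  Over.OverMorphism.ext (ObjectProperty.hom_ext _ h)

/-- The base change as a diagram over `B`. -/
def fibFunctor {U : Sp S} (t : U ⟶ X c) (hU : IsAlgSpace U) : I ⥤ Over B where
  obj i := ob (isAlgSpace_fib c t hU i) (pullback.fst _ _ ≫ (D.obj i).hom.hom)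
  map {i j} φ := oHom (fibMap c t φ) (by
    show fibMap c t φ ≫ pullback.fst _ _ ≫ _ = pullback.fst _ _ ≫ _
    rw [fibMap_fst_assoc, tr_hom])
  map_id i := oHom_ext (fibMap_id c t i)
  map_comp φ ψ := oHom_ext (fibMap_comp c t φ ψ)

/-- Descent of maps between etale spaces over the vertex. -/
def HomDescent : Prop :=
  ∀ (U U' : Over B) (u : U ⟶ c.pt) (u' : U' ⟶ c.pt), AlgSp.IsEtaleMor u.left.hom → AlgSp.IsEtaleMor u'.left.hom →
    ∀ (DU DU' : I ⥤ Over B) (αU : DU ⟶ D) (αU' : DU' ⟶ D) (ιU : DU ⟶ (Functor.const I).obj U)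
      (ιU' : DU' ⟶ (Functor.const I).obj U'),
      (∀ i, IsPullback (ιU.app i).left.hom (αU.app i).left.hom u.left.hom (c.ι.app i).left.hom) →
      (∀ i, IsPullback (ιU'.app i).left.hom (αU'.app i).left.hom u'.left.hom (c.ι.app i).left.hom) →
      ∀ (β : DU ⟶ DU'), β ≫ αU' = αU →
        ∃! m : U ⟶ U', m ≫ u' = u ∧ ∀ i, ιU.app i ≫ m = β.app i ≫ ιU'.app i

/-- Local maps to affine schemes. -/
def AffineMaps : Prop :=
  ∀ (B' Zs Us : Over S) (b : (AlgSp.yon S).obj B' ⟶ B.obj) (z : Zs ⟶ B') {XB : AlgSp.Space S}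
    (x₁ : XB ⟶ c.pt.left) (x₂ : XB.obj ⟶ (AlgSp.yon S).obj B') (uu : (AlgSp.yon S).obj Us ⟶ XB.obj)
    (DU : I ⥤ AlgSp.Space S) (αU : DU ⟶ D ⋙ Over.forget B)
    (ιU : DU ⟶ (Functor.const I).obj ((AlgSp.ofScheme S).obj Us))
    (φ : DU ⟶ (Functor.const I).obj ((AlgSp.ofScheme S).obj Zs)),
    IsAffine B'.left → IsAffine Zs.left → IsAffine Us.left → AlgSp.RepWith @Etale b →
    IsPullback x₁.hom x₂ c.pt.hom.hom b → AlgSp.RepWith @Etale uu →
    (∀ i, IsPullback (ιU.app i).hom (αU.app i).hom (uu ≫ x₁.hom) (c.ι.app i).left.hom) →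
    (∀ i, (φ.app i).hom ≫ (AlgSp.yon S).map z = (ιU.app i).hom ≫ uu ≫ x₂) →
      ∃! fz : Us ⟶ Zs, (AlgSp.yon S).map fz ≫ (AlgSp.yon S).map z = uu ≫ x₂ ∧
        ∀ i, (ιU.app i).hom ≫ (AlgSp.yon S).map fz = (φ.app i).hom

variable {c}

/-- Compatible families with values in a space etale over the vertex descend. -/
theorem ext_etale (h₁' : HomDescent c) {U U' : Sp S} {t : U ⟶ X c} (hU : IsAlgSpace U) (ht : IsEtaleMor t)
    {t' : U' ⟶ X c} (hU' : IsAlgSpace U') (ht' : IsEtaleMor t') {f : ∀ i, Fib c t i ⟶ U'} (hf : Compat c t f)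
    (w : ∀ i, f i ≫ t' = pullback.fst _ _ ≫ inj c i) :
    ∃! m : U ⟶ U', m ≫ t' = t ∧ ∀ i, pullback.snd _ _ ≫ m = f i := by
  let Uo : Over B := ob hU (t ≫ c.pt.hom.hom)
  let Uo' : Over B := ob hU' (t' ≫ c.pt.hom.hom)
  let α : fibFunctor c t hU ⟶ D :=
    { app := fun i => oHom (pullback.fst _ _) rfl
      naturality := fun i j φ => oHom_ext (fibMap_fst c t φ) }
  let α' : fibFunctor c t' hU' ⟶ D :=
    { app := fun i => oHom (pullback.fst _ _) rfl
      naturality := fun i j φ => oHom_ext (fibMap_fst c t' φ) }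
  let ι₁ : fibFunctor c t hU ⟶ (Functor.const I).obj Uo :=
    { app := fun i => oHom (pullback.snd _ _) (by
        show pullback.snd _ t ≫ t ≫ _ = pullback.fst _ _ ≫ _
        rw [← pullback.condition_assoc, inj_hom])
      naturality := fun i j φ => oHom_ext (by
        show fibMap c t φ ≫ pullback.snd _ _ = pullback.snd _ _ ≫ 𝟙 _
        rw [fibMap_snd, Category.comp_id]) }
  let ι₂ : fibFunctor c t' hU' ⟶ (Functor.const I).obj Uo' :=
    { app := fun i => oHom (pullback.snd _ _) (by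
        show pullback.snd _ t' ≫ t' ≫ _ = pullback.fst _ _ ≫ _
        rw [← pullback.condition_assoc, inj_hom])
      naturality := fun i j φ => oHom_ext (by
        show fibMap c t' φ ≫ pullback.snd _ _ = pullback.snd _ _ ≫ 𝟙 _
        rw [fibMap_snd, Category.comp_id]) }
  let β : fibFunctor c t hU ⟶ fibFunctor c t' hU' :=
    { app := fun i => oHom (pullback.lift (pullback.fst _ _) (f i) (w i).symm) (pullback.lift_fst_assoc _ _ _ _)
      naturality := fun i j φ => oHom_ext (by
        show fibMap c t φ ≫ pullback.lift _ _ _ = pullback.lift _ _ _ ≫ fibMap c t' φ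
        exact pullback.hom_ext (by simp) (by simp [hf φ])) }
  obtain ⟨m, ⟨hm₁, hm₂⟩, huniq⟩ := h₁' Uo Uo' (oHom t rfl) (oHom t' rfl) ht ht' _ _ α α' ι₁ ι₂
    (fun i => (IsPullback.of_hasPullback (inj c i) t).flip)
    (fun i => (IsPullback.of_hasPullback (inj c i) t').flip) β
    (NatTrans.ext (funext fun i => oHom_ext (pullback.lift_fst _ _ _)))
  refine ⟨m.left.hom, ⟨congrArg (fun g => g.left.hom) hm₁, fun i =>
    (congrArg (fun g => g.left.hom) (hm₂ i)).trans (pullback.lift_snd _ _ _)⟩, ?_⟩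
  rintro k ⟨hk₁, hk₂⟩
  have hk : k ≫ t' ≫ c.pt.hom.hom = t ≫ c.pt.hom.hom := by rw [reassoc_of% hk₁]
  exact congrArg (fun g => g.left.hom) (huniq (oHom k hk) ⟨oHom_ext hk₁, fun i =>
    oHom_ext ((hk₂ i).trans (pullback.lift_snd _ _ _).symm)⟩)

/-- Compatible families with values in a scheme etale over `B` descend. -/
theorem ext_base (h₁' : HomDescent c) {B' : Over S} {b : (yon S).obj B' ⟶ B.obj} (hb : RepWith @Etale b)
    {U : Sp S} {t : U ⟶ X c} (hU : IsAlgSpace U) (ht : IsEtaleMor t)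
    {f : ∀ i, Fib c t i ⟶ (yon S).obj B'} (hf : Compat c t f)
    (w : ∀ i, f i ≫ b = pullback.snd _ _ ≫ t ≫ c.pt.hom.hom) :
    ∃! m : U ⟶ (yon S).obj B', m ≫ b = t ≫ c.pt.hom.hom ∧ ∀ i, pullback.snd _ _ ≫ m = f i := by
  have hB' : IsAlgSpace ((yon S).obj B') := IsAlgSpace.yon_obj B'
  let sq := IsPullback.of_hasPullback c.pt.hom.hom b
  have he : IsEtaleMor (pullback.fst c.pt.hom.hom b) := SpPts86.isEtaleMor_baseChange sq.flip hB' B.property
    c.pt.left.property (SpPts86.isEtaleMor_of_repWith_etale hb)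
  have hw : ∀ i, (pullback.fst _ _ ≫ inj c i) ≫ c.pt.hom.hom = f i ≫ b := fun i => by
    rw [w, ← pullback.condition_assoc, Category.assoc]
  obtain ⟨m, ⟨hm₁, hm₂⟩, huniq⟩ := ext_etale h₁' hU ht
    (isAlgSpace_pullback c.pt.hom.hom b c.pt.left.property hB' B.property) he
    (f := fun i => pullback.lift (pullback.fst _ _ ≫ inj c i) (f i) (hw i))
    (fun i j φ => pullback.hom_ext (by simp [tr_inj]) (by simp [hf φ]))
    (fun i => pullback.lift_fst _ _ _)
  refine ⟨m ≫ pullback.snd _ _, ⟨by rw [Category.assoc, ← pullback.condition, reassoc_of% hm₁],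
    fun i => by rw [reassoc_of% hm₂ i, pullback.lift_snd]⟩, ?_⟩
  rintro k ⟨hk₁, hk₂⟩
  rw [← huniq (pullback.lift t k hk₁.symm) ⟨pullback.lift_fst _ _ _, fun i => pullback.hom_ext
    (by simp [pullback.condition]) (by simp [hk₂ i])⟩]
  exact (pullback.lift_snd _ _ _).symm

/-- The restriction of a base change along a map. -/
def res {U V : Sp S} (t : U ⟶ X c) (k : V ⟶ U) (i : I) : Fib c (k ≫ t) i ⟶ Fib c t i :=
  pullback.lift (pullback.fst _ _) (pullback.snd _ _ ≫ k) (by rw [Category.assoc]; exact pullback.condition)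

@[reassoc (attr := simp)]
theorem res_fst {U V : Sp S} (t : U ⟶ X c) (k : V ⟶ U) (i : I) :
    res t k i ≫ pullback.fst _ _ = pullback.fst _ _ := pullback.lift_fst _ _ _

@[reassoc (attr := simp)]
theorem res_snd {U V : Sp S} (t : U ⟶ X c) (k : V ⟶ U) (i : I) :
    res t k i ≫ pullback.snd _ _ = pullback.snd _ _ ≫ k := pullback.lift_snd _ _ _

theorem compat_res {U V Z : Sp S} {t : U ⟶ X c} {f : ∀ i, Fib c t i ⟶ Z} (hf : Compat c t f) (k : V ⟶ U) :
    Compat c (k ≫ t) fun i => res t k i ≫ f i := fun i j φ => by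
  show fibMap c _ φ ≫ res t k j ≫ f j = res t k i ≫ f i
  rw [← hf φ, ← Category.assoc, ← Category.assoc]
  congr 1
  exact pullback.hom_ext (by simp) (by simp)

/-- Compatible families with values in an affine scheme descend, over an affine etale source. -/
theorem ext_affine_aux (h₁' : HomDescent c) (h₂ : AffineMaps c) {B' Zs Us : Over S}
    {b : (yon S).obj B' ⟶ B.obj} (z : Zs ⟶ B') (hB' : IsAffine B'.left) (hZ : IsAffine Zs.left)
    (hUs : IsAffine Us.left) (hb : RepWith @Etale b) {t : (yon S).obj Us ⟶ X c} (ht : IsEtaleMor t)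
    {f : ∀ i, Fib c t i ⟶ (yon S).obj Zs} (hf : Compat c t f)
    (w : ∀ i, f i ≫ (yon S).map z ≫ b = pullback.snd _ _ ≫ t ≫ c.pt.hom.hom) :
    ∃! m : (yon S).obj Us ⟶ (yon S).obj Zs,
      m ≫ (yon S).map z ≫ b = t ≫ c.pt.hom.hom ∧ ∀ i, pullback.snd _ _ ≫ m = f i := by
  have hU : IsAlgSpace ((yon S).obj Us) := IsAlgSpace.yon_obj Us
  have hB : IsAlgSpace ((yon S).obj B') := IsAlgSpace.yon_obj B'
  obtain ⟨bm, ⟨hb₁, hb₂⟩, hbu⟩ := ext_base h₁' hb hU ht (f := fun i => f i ≫ (yon S).map z)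
    (fun i j φ => by
      show fibMap c t φ ≫ f j ≫ _ = f i ≫ _
      rw [reassoc_of% hf φ]) (fun i => by rw [Category.assoc]; exact w i)
  let XB : Space S := ⟨pullback c.pt.hom.hom b, isAlgSpace_pullback _ _ c.pt.left.property hB B.property⟩
  let x₁ : XB ⟶ c.pt.left := ObjectProperty.homMk (pullback.fst _ _)
  let uu : (yon S).obj Us ⟶ XB.obj := pullback.lift t bm hb₁.symm
  have hx₁ : IsEtaleMor x₁.hom := SpPts86.isEtaleMor_baseChange (IsPullback.of_hasPullback c.pt.hom.hom b).flip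
    hB B.property c.pt.left.property (SpPts86.isEtaleMor_of_repWith_etale hb)
  have huue : IsEtaleMor uu := SpPts86.isEtaleMor_of_comp XB.property hx₁
    (by rw [show uu ≫ x₁.hom = t from pullback.lift_fst _ _ _]; exact ht)
  have huu : RepWith @Etale uu :=
    SpPts86.repWith_etale_of_isEtaleMor XB.property (XB.property.representable_from_yon uu) huue
  have hux : uu ≫ x₁.hom = t := pullback.lift_fst _ _ _
  have hux₂ : uu ≫ pullback.snd _ _ = bm := pullback.lift_snd _ _ _
  let DU : I ⥤ Space S := fibFunctor c t hU ⋙ Over.forget B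
  let αU : DU ⟶ D ⋙ Over.forget B :=
    { app := fun i => ObjectProperty.homMk (pullback.fst _ _)
      naturality := fun i j φ => ObjectProperty.hom_ext _ (fibMap_fst c t φ) }
  let ιU : DU ⟶ (Functor.const I).obj ((ofScheme S).obj Us) :=
    { app := fun i => ObjectProperty.homMk (pullback.snd _ _)
      naturality := fun i j φ => ObjectProperty.hom_ext _ (by
        show fibMap c t φ ≫ pullback.snd _ _ = pullback.snd _ _ ≫ 𝟙 _
        rw [fibMap_snd, Category.comp_id]) }
  let φ' : DU ⟶ (Functor.const I).obj ((ofScheme S).obj Zs) :=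
    { app := fun i => ObjectProperty.homMk (f i)
      naturality := fun i j φ => ObjectProperty.hom_ext _ (by
        show fibMap c t φ ≫ f j = f i ≫ 𝟙 _
        rw [hf φ, Category.comp_id]) }
  obtain ⟨fz, ⟨hz₁, hz₂⟩, hzu⟩ := h₂ B' Zs Us b z x₁ (pullback.snd _ _) uu DU αU ιU φ' hB' hZ hUs hb
    (IsPullback.of_hasPullback _ _) huu (fun i => by
      rw [hux]
      exact (IsPullback.of_hasPullback (inj c i) t).flip)
    (fun i => by rw [hux₂]; exact (hb₂ i).symm)
  rw [hux₂] at hz₁
  refine ⟨(yon S).map fz, ⟨by rw [reassoc_of% hz₁, hb₁], hz₂⟩, ?_⟩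
  rintro k ⟨hk₁, hk₂⟩
  obtain ⟨k, rfl⟩ := (yon S).map_surjective k
  have : (yon S).map k ≫ (yon S).map z = bm := hbu _ ⟨by rw [Category.assoc, hk₁], fun i => by
    rw [reassoc_of% hk₂ i]⟩
  exact congrArg _ (hzu k ⟨by rw [hux₂]; exact this, hk₂⟩)

/-- Maps to an affine scheme are determined by compatible families. -/
theorem eq_affine (h₁' : HomDescent c) (h₂ : AffineMaps c) {B' Zs : Over S}
    {b : (yon S).obj B' ⟶ B.obj} (z : Zs ⟶ B') (hB' : IsAffine B'.left) (hZ : IsAffine Zs.left)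
    (hb : RepWith @Etale b) {U : Sp S} {t : U ⟶ X c} (hU : IsAlgSpace U) (ht : IsEtaleMor t)
    {m m' : U ⟶ (yon S).obj Zs} (hm : m ≫ (yon S).map z ≫ b = t ≫ c.pt.hom.hom)
    (hm' : m' ≫ (yon S).map z ≫ b = t ≫ c.pt.hom.hom)
    (e : ∀ i, pullback.snd (inj c i) t ≫ m = pullback.snd (inj c i) t ≫ m') : m = m' := by
  obtain ⟨K, V, g, hV, hg, hs⟩ := exists_affine_charts hU
  refine hom_ext_of_charts hU V g hg hs fun k => ?_
  have het : IsEtaleMor (g k ≫ t) := SpPts86.isEtaleMor_comp (SpPts86.isEtaleMor_of_repWith_etale (hg k)) ht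
  refine (ext_affine_aux h₁' h₂ z hB' hZ (hV k) hb het
    (f := fun i => pullback.snd (inj c i) (g k ≫ t) ≫ g k ≫ m) (fun i j φ => by simp)
    (fun i => by simp [hm])).unique ⟨by simp [hm], fun i => rfl⟩ ⟨by simp [hm'], fun i => ?_⟩
  have := congrArg (res t (g k) i ≫ ·) (e i)
  simp only [res_snd_assoc] at this
  exact this.symm

/-- Compatible families with values in an affine scheme descend. -/
theorem exists_affine_ext (h₁' : HomDescent c) (h₂ : AffineMaps c) {B' Zs : Over S}
    {b : (yon S).obj B' ⟶ B.obj} (z : Zs ⟶ B') (hB' : IsAffine B'.left) (hZ : IsAffine Zs.left)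
    (hb : RepWith @Etale b) {U : Sp S} {t : U ⟶ X c} (hU : IsAlgSpace U) (ht : IsEtaleMor t)
    {f : ∀ i, Fib c t i ⟶ (yon S).obj Zs} (hf : Compat c t f)
    (w : ∀ i, f i ≫ (yon S).map z ≫ b = pullback.snd _ _ ≫ t ≫ c.pt.hom.hom) :
    ∃ m : U ⟶ (yon S).obj Zs,
      m ≫ (yon S).map z ≫ b = t ≫ c.pt.hom.hom ∧ ∀ i, pullback.snd _ _ ≫ m = f i := by
  obtain ⟨K, V, g, hV, hg, hs⟩ := exists_affine_charts hU
  have hex : ∀ k, ∃ m : (yon S).obj (V k) ⟶ (yon S).obj Zs,
      m ≫ (yon S).map z ≫ b = g k ≫ t ≫ c.pt.hom.hom ∧ ∀ i, pullback.snd _ _ ≫ m = res t (g k) i ≫ f i :=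
    fun k => by
      obtain ⟨m, ⟨h1, h2⟩, -⟩ := ext_affine_aux h₁' h₂ z hB' hZ (hV k) hb
        (t := g k ≫ t) (SpPts86.isEtaleMor_comp (SpPts86.isEtaleMor_of_repWith_etale (hg k)) ht)
        (compat_res hf (g k)) (fun i => by simp [w])
      exact ⟨m, by rw [h1, Category.assoc], h2⟩
  choose mk hmk₁ hmk₂ using hex
  obtain ⟨L, hL, hLe, hLs⟩ := exists_sigma_chart hU V g hg hs
  obtain ⟨M, hM⟩ := SpPts86.sigma_glue V mk
  have hYs : IsAlgSpace ((yon S).obj (SpPts86.sigmaOver V)) := IsAlgSpace.yon_obj _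
  have hLl : LocLift L := locLift_of_atlas hLe hLs
  have hM₁ : M ≫ (yon S).map z ≫ b = L ≫ t ≫ c.pt.hom.hom := by
    refine SpPts86.open_cover_hom_ext V (SpPts86.sigmaIn V) (sigmaIn_openImmersion V) (fun x => ?_) fun k => ?_
    · obtain ⟨k, v, hv⟩ := exists_sigmaIn V x
      exact ⟨k, v, hv⟩
    · rw [reassoc_of% hM k, reassoc_of% hL k, hmk₁]
  have hM₂ : ∀ i, pullback.snd (inj c i) (L ≫ t) ≫ M = res t L i ≫ f i := fun i => by
    let F := Fib c (L ≫ t) i
    have hF : IsAlgSpace F := isAlgSpace_fib c _ hYs i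
    let p : F ⟶ (yon S).obj (SpPts86.sigmaOver V) := pullback.snd _ _
    obtain ⟨W, aW, haW, haWs⟩ := hF.atlas
    refine SpPts86.hom_ext_of_locLift (locLift_of_atlas haW haWs) ?_
    obtain ⟨q, hq⟩ := (yon S).map_surjective (aW ≫ p)
    let O : K → W.left.Opens := fun k =>
      q.left ⁻¹ᵁ (SpPts86.sigmaIn V k).left.opensRange (H := sigmaIn_openImmersion V k)
    refine SpPts86.open_cover_hom_ext (fun k => SpPts86.openOver W (O k)) (fun k => SpPts86.openIncl W (O k))
      (fun k => inferInstanceAs (IsOpenImmersion (O k).ι)) (fun x => ?_) fun k => ?_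
    · obtain ⟨k, v, hv⟩ := exists_sigmaIn V (q.left x)
      exact ⟨k, ⟨x, ⟨v, hv⟩⟩, rfl⟩
    · haveI := sigmaIn_openImmersion V k
      have hr : Set.range ((O k).ι ≫ q.left) ⊆ Set.range (SpPts86.sigmaIn V k).left := by
        rintro _ ⟨s, rfl⟩
        exact s.2
      let l : SpPts86.openOver W (O k) ⟶ V k :=
        Over.homMk (IsOpenImmersion.lift (SpPts86.sigmaIn V k).left ((O k).ι ≫ q.left) hr) (by
          show _ ≫ (V k).hom = (O k).ι ≫ W.hom
          rw [← Over.w (SpPts86.sigmaIn V k), ← Category.assoc, IsOpenImmersion.lift_fac, Category.assoc, Over.w])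
      have hl : l ≫ SpPts86.sigmaIn V k = SpPts86.openIncl W (O k) ≫ q :=
        Over.OverMorphism.ext (IsOpenImmersion.lift_fac _ _ hr)
      let x := (yon S).map (SpPts86.openIncl W (O k)) ≫ aW
      have hx : x ≫ p = (yon S).map l ≫ (yon S).map (SpPts86.sigmaIn V k) := by
        rw [Category.assoc, ← hq, ← Functor.map_comp, ← Functor.map_comp, hl]
      obtain ⟨y, hy₁, hy₂⟩ : ∃ y : (yon S).obj (SpPts86.openOver W (O k)) ⟶ Fib c (g k ≫ t) i,
          y ≫ pullback.fst _ _ = x ≫ pullback.fst _ _ ∧ y ≫ pullback.snd _ _ = (yon S).map l :=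
        ⟨pullback.lift (x ≫ pullback.fst _ _) ((yon S).map l) (by
          have := congrArg (· ≫ L ≫ t) hx
          simp only [Category.assoc, p, reassoc_of% hL k] at this
          rw [Category.assoc, pullback.condition]
          exact this), pullback.lift_fst _ _ _,
          pullback.lift_snd _ _ _⟩
      have hy : y ≫ res t (g k) i = x ≫ res t L i := pullback.hom_ext
        (by simp [hy₁])
        (by rw [Category.assoc, res_snd, reassoc_of% hy₂, Category.assoc, res_snd, reassoc_of% hx, hL])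
      calc (yon S).map (SpPts86.openIncl W (O k)) ≫ aW ≫ p ≫ M = x ≫ p ≫ M := by simp [x]
        _ = y ≫ pullback.snd _ _ ≫ mk k := by rw [reassoc_of% hx, hM, reassoc_of% hy₂]
        _ = x ≫ res t L i ≫ f i := by rw [hmk₂, reassoc_of% hy]
        _ = (yon S).map (SpPts86.openIncl W (O k)) ≫ aW ≫ res t L i ≫ f i := by simp [x]
  have hR : pullback.fst L L ≫ M = pullback.snd L L ≫ M := by
    let r : pullback L L ⟶ X c := pullback.fst L L ≫ L ≫ t
    have hre : IsEtaleMor r := by
      refine SpPts86.isEtaleMor_comp ?_ (SpPts86.isEtaleMor_comp (SpPts86.isEtaleMor_of_repWith_etale hLe) ht)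
      exact SpPts86.isEtaleMor_baseChange (IsPullback.of_hasPullback L L).flip hYs hU hYs
        (SpPts86.isEtaleMor_of_repWith_etale hLe)
    refine eq_affine h₁' h₂ z hB' hZ hb (isAlgSpace_pullback _ _ hYs hYs hU) hre
      (by simp only [Category.assoc, hM₁, r])
      (by simp only [Category.assoc, hM₁, r]; rw [pullback.condition_assoc]) fun i => ?_
    have key : ∀ s : pullback L L ⟶ (yon S).obj (SpPts86.sigmaOver V), s ≫ L = pullback.fst L L ≫ L →
        pullback.snd (inj c i) r ≫ s ≫ M =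
          pullback.lift (pullback.fst _ _) (pullback.snd (inj c i) r ≫ pullback.fst L L ≫ L)
            (by simp only [Category.assoc]; exact pullback.condition) ≫ f i := by
      intro s hs
      obtain ⟨k, hk₁, hk₂⟩ : ∃ k : Fib c r i ⟶ Fib c (L ≫ t) i,
          k ≫ pullback.fst _ _ = pullback.fst _ _ ∧ k ≫ pullback.snd _ _ = pullback.snd _ _ ≫ s :=
        ⟨pullback.lift (pullback.fst _ _) (pullback.snd _ _ ≫ s)
          (by rw [Category.assoc, reassoc_of% hs]; exact pullback.condition), pullback.lift_fst _ _ _,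
          pullback.lift_snd _ _ _⟩
      rw [← reassoc_of% hk₂, hM₂, ← Category.assoc]
      congr 1
      exact pullback.hom_ext (by simp [hk₁]) (by simp [reassoc_of% hk₂, hs])
    rw [key _ rfl, key _ pullback.condition.symm]
  obtain ⟨m, hm⟩ := SpPts86.exists_desc hLl M fun W x x' e => by
    have := congrArg (pullback.lift ((yon S).map x) ((yon S).map x') e ≫ ·) hR
    simpa only [pullback.lift_fst_assoc, pullback.lift_snd_assoc] using this
  refine ⟨m, SpPts86.hom_ext_of_locLift hLl (by rw [reassoc_of% hm, hM₁]), fun i => ?_⟩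
  have hres : LocLift (res t L i) := by
    intro T q
    obtain ⟨W, a, l, ha, hl⟩ := hLl T (q ≫ pullback.snd _ _)
    refine ⟨W, a, pullback.lift ((yon S).map a ≫ q ≫ pullback.fst _ _) l ?_, ha, pullback.hom_ext ?_ ?_⟩
    · rw [reassoc_of% hl, Category.assoc, Category.assoc, pullback.condition]
    · simp
    · simp [hl]
  refine SpPts86.hom_ext_of_locLift hres ?_
  rw [res_snd_assoc, hm, hM₂]

/-- Maps to any space over `B` are determined by compatible families. -/
theorem eq_of_restrict (h₁' : HomDescent c) (h₂ : AffineMaps c) (Z : Over B) {U : Sp S} {t : U ⟶ X c}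
    (hU : IsAlgSpace U) (ht : IsEtaleMor t) {m m' : U ⟶ Z.left.obj}
    (hm : m ≫ Z.hom.hom = t ≫ c.pt.hom.hom) (hm' : m' ≫ Z.hom.hom = t ≫ c.pt.hom.hom)
    (e : ∀ i, pullback.snd (inj c i) t ≫ m = pullback.snd (inj c i) t ≫ m')
    {K : Type u} (B' Zs : K → Over S) (b : ∀ k, (yon S).obj (B' k) ⟶ B.obj) (z : ∀ k, Zs k ⟶ B' k)
    (g : ∀ k, (yon S).obj (Zs k) ⟶ Z.left.obj) (hB' : ∀ k, IsAffine (B' k).left)
    (hZs : ∀ k, IsAffine (Zs k).left) (hb : ∀ k, RepWith @Etale (b k)) (hg : ∀ k, IsEtaleMor (g k))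
    (hgw : ∀ k, g k ≫ Z.hom.hom = (yon S).map (z k) ≫ b k)
    (hgs : ∀ x : Points Z.left.obj, ∃ (k : K) (s : ↥(Zs k).left), Points.ofPt (g k) s = x) : m = m' := by
  have hZ : IsAlgSpace Z.left.obj := Z.left.property
  have hY : ∀ k, IsAlgSpace ((yon S).obj (Zs k)) := fun k => IsAlgSpace.yon_obj _
  have hUk : ∀ k, IsAlgSpace (pullback m (g k)) := fun k => isAlgSpace_pullback _ _ hU (hY k) hZ
  have hUk' : ∀ k, IsAlgSpace (pullback m' (g k)) := fun k => isAlgSpace_pullback _ _ hU (hY k) hZ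
  have hp : ∀ k, IsEtaleMor (pullback.fst m (g k)) := fun k =>
    SpPts86.isEtaleMor_baseChange (IsPullback.of_hasPullback m (g k)).flip (hY k) hZ hU (hg k)
  have hp' : ∀ k, IsEtaleMor (pullback.fst m' (g k)) := fun k =>
    SpPts86.isEtaleMor_baseChange (IsPullback.of_hasPullback m' (g k)).flip (hY k) hZ hU (hg k)
  have key : ∀ k, pullback.fst m (g k) ≫ m = pullback.fst m (g k) ≫ m' := fun k => by
    let p := pullback.fst m (g k)
    have hpe : IsEtaleMor (p ≫ t) := SpPts86.isEtaleMor_comp (hp k) ht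
    have hw : ∀ i, (pullback.snd (inj c i) (p ≫ t) ≫ p) ≫ m' =
        (pullback.snd _ _ ≫ pullback.snd m (g k)) ≫ g k := fun i => by
      have := congrArg (res t p i ≫ ·) (e i)
      simp only [res_snd_assoc] at this
      rw [Category.assoc, ← this, Category.assoc, ← pullback.condition]
    obtain ⟨n, ⟨hn₁, hn₂⟩, -⟩ := ext_etale h₁' (hUk k) hpe (hUk' k)
      (SpPts86.isEtaleMor_comp (hp' k) ht)
      (f := fun i => pullback.lift (pullback.snd _ _ ≫ p) (pullback.snd _ _ ≫ pullback.snd m (g k)) (hw i))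
      (fun i j φ => pullback.hom_ext (by simp) (by simp)) (fun i => by simp [pullback.condition])
    have h1 : n ≫ pullback.fst m' (g k) = p :=
      (ext_etale h₁' (hUk k) hpe hU ht (f := fun i => pullback.snd _ _ ≫ p) (fun i j φ => by simp)
        (fun i => by simp [pullback.condition])).unique
        ⟨by rw [Category.assoc]; exact hn₁, fun i => by rw [reassoc_of% hn₂ i, pullback.lift_fst]⟩
        ⟨rfl, fun i => rfl⟩
    have hs : pullback.snd m (g k) ≫ (yon S).map (z k) ≫ b k = (p ≫ t) ≫ c.pt.hom.hom := by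
      rw [← hgw, ← pullback.condition_assoc, hm, Category.assoc]
    have h2 : n ≫ pullback.snd m' (g k) = pullback.snd m (g k) :=
      eq_affine h₁' h₂ (z k) (hB' k) (hZs k) (hb k) (hUk k) hpe
        (by rw [Category.assoc, ← hgw, ← pullback.condition_assoc, hm', reassoc_of% h1, Category.assoc])
        hs fun i => by rw [reassoc_of% hn₂ i, pullback.lift_snd]
    show p ≫ m = p ≫ m'
    rw [pullback.condition, ← h2, Category.assoc, ← pullback.condition, reassoc_of% h1]
  let J := Σ k, ↥((hUk k).atlas.choose.left.affineOpens)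
  let V : J → Over S := fun j => SpPts86.openOver (hUk j.1).atlas.choose j.2.1
  let gV : ∀ j : J, (yon S).obj (V j) ⟶ U := fun j =>
    (yon S).map (SpPts86.openIncl _ j.2.1) ≫ (hUk j.1).atlas.choose_spec.choose ≫ pullback.fst _ _
  refine hom_ext_of_charts hU V gV (fun j => ?_) (fun x => ?_) fun j => by simp [gV, key j.1]
  · haveI : Etale (SpPts86.openIncl (hUk j.1).atlas.choose j.2.1).left := inferInstanceAs (Etale j.2.1.ι)
    exact SpPts86.repWith_etale_comp _ (hp j.1 _ (hUk j.1).atlas.choose_spec.choose_spec.1)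
  · obtain ⟨k, s, hs⟩ := hgs (Points.map m x)
    obtain ⟨y, hy, -⟩ := SpPts86.exists_of_isPullback (IsPullback.of_hasPullback m (g k)) x
      (Points.ofScheme (Zs k) s) (hs.symm.trans (Points.ofPt_eq_map_ofScheme (g k) s))
    obtain ⟨v, hv⟩ := SpPts86.surjective_ofPt (hUk k).atlas.choose_spec.choose_spec.2 y
    obtain ⟨A, hA, hvA, -⟩ := exists_isAffineOpen_mem_and_subset (x := v) (U := ⊤) trivial
    refine ⟨⟨k, A, hA⟩, ⟨v, hvA⟩, ?_⟩
    show Points.ofPt (_ ≫ _ ≫ _) _ = x
    rw [SpPts86.ofPt_comp, ← Points.map_ofPt]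
    exact (congrArg (Points.map _) hv).trans hy

omit c in
/-- Affine charts of a space over `B` lying over affine charts of `B`. -/
theorem exists_charts_over (Z : Over B) :
    ∃ (K : Type u) (B' Zs : K → Over S) (b : ∀ k, (yon S).obj (B' k) ⟶ B.obj) (z : ∀ k, Zs k ⟶ B' k)
      (g : ∀ k, (yon S).obj (Zs k) ⟶ Z.left.obj),
      (∀ k, IsAffine (B' k).left) ∧ (∀ k, IsAffine (Zs k).left) ∧ (∀ k, RepWith @Etale (b k)) ∧
      (∀ k, RepWith @Etale (g k)) ∧ (∀ k, g k ≫ Z.hom.hom = (yon S).map (z k) ≫ b k) ∧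
      ∀ x : Points Z.left.obj, ∃ (k : K) (s : ↥(Zs k).left), Points.ofPt (g k) s = x := by
  obtain ⟨K₁, V, bV, hV, hbV, hVs⟩ := exists_affine_charts B.property
  have hY : ∀ k, IsAlgSpace (pullback Z.hom.hom (bV k)) := fun k =>
    isAlgSpace_pullback _ _ Z.left.property (IsAlgSpace.yon_obj _) B.property
  choose K₂ W w hW hw hWs using fun k => exists_affine_charts (hY k)
  choose z hz using fun j : (Σ k, K₂ k) => (yon S).map_surjective (w j.1 j.2 ≫ pullback.snd _ _)
  refine ⟨Σ k, K₂ k, fun j => V j.1, fun j => W j.1 j.2, fun j => bV j.1, z,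
    fun j => w j.1 j.2 ≫ pullback.fst _ _, fun j => hV j.1, fun j => hW j.1 j.2, fun j => hbV j.1,
    fun j => ?_, fun j => by rw [hz, Category.assoc, Category.assoc, pullback.condition], fun x => ?_⟩
  · have he : IsEtaleMor (pullback.fst Z.hom.hom (bV j.1)) := SpPts86.isEtaleMor_baseChange
      (IsPullback.of_hasPullback Z.hom.hom (bV j.1)).flip (IsAlgSpace.yon_obj _) B.property Z.left.property
      (SpPts86.isEtaleMor_of_repWith_etale (hbV j.1))
    exact he _ (hw j.1 j.2)
  · obtain ⟨k, s, hs⟩ := hVs (Points.map Z.hom.hom x)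
    obtain ⟨y, hy, -⟩ := SpPts86.exists_of_isPullback (IsPullback.of_hasPullback Z.hom.hom (bV k)) x
      (Points.ofScheme (V k) s) (hs.symm.trans (Points.ofPt_eq_map_ofScheme (bV k) s))
    obtain ⟨k', v, hv⟩ := hWs k y
    exact ⟨⟨k, k'⟩, v, by rw [← Points.map_ofPt, hv, hy]⟩

/-- Colimits of spaces over `B` from descent of etale spaces and local maps to affine schemes. -/
theorem isColimit
    (h₁ : ∀ (D' : I ⥤ Over B) (α : D' ⟶ D),
      (∀ ⦃i j : I⦄ (g : i ⟶ j), IsPullback (D'.map g).left.hom (α.app i).left.hom (α.app j).left.hom (D.map g).left.hom) →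
      (∀ i, AlgSp.IsEtaleMor (α.app i).left.hom) →
        ∃ (c' : Cocone D') (a : c'.pt ⟶ c.pt), AlgSp.IsEtaleMor a.left.hom ∧
          ∀ i, IsPullback (c'.ι.app i).left.hom (α.app i).left.hom a.left.hom (c.ι.app i).left.hom)
    (h₁' : HomDescent c) (h₂ : AffineMaps c) : Nonempty (IsColimit c) := by
  have hX : IsAlgSpace (X c) := c.pt.left.property
  have hid : IsEtaleMor (𝟙 (X c)) := fun V φ hφ => by rwa [Category.comp_id]
  have huniq : ∀ (Z : Over B) (m m' : c.pt ⟶ Z), (∀ i, c.ι.app i ≫ m = c.ι.app i ≫ m') → m = m' := by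
    intro Z m m' e
    obtain ⟨K, B', Zs, b, z, g, hB', hZs, hb, hg, hgw, hgs⟩ := exists_charts_over Z
    refine oHom_ext (eq_of_restrict h₁' h₂ Z (t := 𝟙 (X c)) hX hid ?_ ?_ (fun i => ?_) B' Zs b z g hB' hZs hb
      (fun k => SpPts86.isEtaleMor_of_repWith_etale (hg k)) hgw hgs)
    · rw [Category.id_comp]; exact congrArg (fun g => g.hom) (Over.w m)
    · rw [Category.id_comp]; exact congrArg (fun g => g.hom) (Over.w m')
    · have hs : pullback.snd (inj c i) (𝟙 (X c)) = pullback.fst _ _ ≫ inj c i := by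
        rw [pullback.condition, Category.comp_id]
      rw [hs, Category.assoc, Category.assoc]
      exact congrArg (pullback.fst (inj c i) (𝟙 (X c)) ≫ ·)
        (congrArg (fun g : D.obj i ⟶ Z => g.left.hom) (e i))
  have hex : ∀ s : Cocone D, ∃ m : c.pt ⟶ s.pt, ∀ i, c.ι.app i ≫ m = s.ι.app i := by
    intro s
    let Z := s.pt
    have hZ : IsAlgSpace Z.left.obj := Z.left.property
    let u : ∀ i, (D.obj i).left.obj ⟶ Z.left.obj := fun i => (s.ι.app i).left.hom
    have hu : ∀ ⦃i j : I⦄ (φ : i ⟶ j), tr φ ≫ u j = u i := fun i j φ =>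
      congrArg (fun g : D.obj i ⟶ s.pt => g.left.hom) (s.w φ)
    have hub : ∀ i, u i ≫ Z.hom.hom = (D.obj i).hom.hom := fun i => congrArg (fun g => g.hom) (Over.w (s.ι.app i))
    obtain ⟨K, B', Zs, b, z, g, hB', hZs, hb, hg, hgw, hgs⟩ := exists_charts_over Z
    have hge : ∀ k, IsEtaleMor (g k) := fun k => SpPts86.isEtaleMor_of_repWith_etale (hg k)
    have hE : ∀ k i, IsAlgSpace (pullback (u i) (g k)) := fun k i =>
      isAlgSpace_pullback _ _ (D.obj i).left.property (IsAlgSpace.yon_obj _) hZ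
    have hpe : ∀ k i, IsEtaleMor (pullback.fst (u i) (g k)) := fun k i =>
      SpPts86.isEtaleMor_baseChange (IsPullback.of_hasPullback (u i) (g k)).flip (IsAlgSpace.yon_obj _) hZ
        (D.obj i).left.property (hge k)
    have hloc : ∀ k, ∃ (U : Sp S) (_ : IsAlgSpace U) (a : U ⟶ X c) (f : U ⟶ (yon S).obj (Zs k)),
        IsEtaleMor a ∧ (f ≫ g k ≫ Z.hom.hom = a ≫ c.pt.hom.hom) ∧
        (∀ i, pullback.snd (inj c i) a ≫ f ≫ g k = pullback.fst _ _ ≫ u i) ∧
        ∀ i (y : Points (D.obj i).left.obj), (∃ s, Points.ofPt (g k) s = Points.map (u i) y) →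
          ∃ x, Points.map a x = Points.map (inj c i) y := by
      intro k
      have hl : ∀ {i j : I} (φ : i ⟶ j), ∃ l : pullback (u i) (g k) ⟶ pullback (u j) (g k),
          l ≫ pullback.fst _ _ = pullback.fst _ _ ≫ tr φ ∧ l ≫ pullback.snd _ _ = pullback.snd _ _ :=
        fun {i j} φ => ⟨pullback.lift (pullback.fst _ _ ≫ tr φ) (pullback.snd _ _)
          (by rw [Category.assoc, hu φ]; exact pullback.condition),
          pullback.lift_fst _ _ _, pullback.lift_snd _ _ _⟩
      choose l hlf hls using @hl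
      let D' : I ⥤ Over B :=
        { obj := fun i => ob (hE k i) (pullback.fst _ _ ≫ (D.obj i).hom.hom)
          map := fun {i j} φ => oHom (l φ) (by
            show l φ ≫ pullback.fst _ _ ≫ _ = pullback.fst _ _ ≫ _
            rw [reassoc_of% hlf φ, tr_hom])
          map_id := fun i => oHom_ext (pullback.hom_ext
            (by show l (𝟙 i) ≫ _ = 𝟙 _ ≫ _; rw [hlf, tr_id, Category.comp_id, Category.id_comp])
            (by show l (𝟙 i) ≫ _ = 𝟙 _ ≫ _; rw [hls, Category.id_comp]))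
          map_comp := fun {i j n} φ ψ => oHom_ext (pullback.hom_ext
            (by show l (φ ≫ ψ) ≫ _ = (l φ ≫ l ψ) ≫ _
                rw [hlf, Category.assoc, hlf, reassoc_of% hlf φ, tr_comp])
            (by show l (φ ≫ ψ) ≫ _ = (l φ ≫ l ψ) ≫ _; rw [hls, Category.assoc, hls, hls])) }
      let α : D' ⟶ D :=
        { app := fun i => oHom (pullback.fst _ _) rfl
          naturality := fun i j φ => oHom_ext (hlf φ) }
      have hcart : ∀ ⦃i j : I⦄ (φ : i ⟶ j),
          IsPullback (l φ) (pullback.fst (u i) (g k)) (pullback.fst (u j) (g k)) (tr φ) := fun i j φ => by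
        refine IsPullback.of_right (h₁₂ := pullback.snd (u j) (g k)) (h₂₂ := u j) (v₁₃ := g k) ?_ (hlf φ)
          (IsPullback.of_hasPullback _ _).flip
        rw [hls φ, hu φ]
        exact (IsPullback.of_hasPullback _ _).flip
      obtain ⟨c', a, ha, hsq⟩ := h₁ D' α hcart (hpe k)
      have hU : IsAlgSpace c'.pt.left.obj := c'.pt.left.property
      have hf : ∀ i, ∃ q : Fib c a.left.hom i ⟶ pullback (u i) (g k),
          q ≫ pullback.fst _ _ = pullback.fst _ _ ∧ q ≫ (c'.ι.app i).left.hom = pullback.snd _ _ := fun i =>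
        ⟨(hsq i).lift (pullback.snd _ _) (pullback.fst _ _) pullback.condition.symm,
          (hsq i).lift_snd _ _ _, (hsq i).lift_fst _ _ _⟩
      choose q hq₁ hq₂ using hf
      have hq : ∀ {i j : I} (φ : i ⟶ j), fibMap c a.left.hom φ ≫ q j = q i ≫ l φ := fun {i j} φ =>
        (hsq j).hom_ext
          (by
            have hc : l φ ≫ (c'.ι.app j).left.hom = (c'.ι.app i).left.hom :=
              congrArg (fun h : D'.obj i ⟶ c'.pt => h.left.hom) (c'.w φ)
            rw [Category.assoc, hq₂, fibMap_snd]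
            erw [Category.assoc, hc, hq₂])
          (by
            show (fibMap c _ φ ≫ q j) ≫ pullback.fst _ _ = (q i ≫ l φ) ≫ pullback.fst _ _
            rw [Category.assoc, hq₁, fibMap_fst, Category.assoc, hlf, reassoc_of% hq₁ i])
      obtain ⟨f, hf₁, hf₂⟩ := exists_affine_ext h₁' h₂ (z k) (hB' k) (hZs k) (hb k) hU ha
        (f := fun i => q i ≫ pullback.snd _ _)
        (fun i j φ => by
          show fibMap c _ φ ≫ q j ≫ _ = q i ≫ _
          rw [reassoc_of% hq φ, hls])
        (fun i => by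
          rw [Category.assoc, ← hgw, ← pullback.condition_assoc, hub, reassoc_of% hq₁ i,
            ← pullback.condition_assoc, inj_hom])
      refine ⟨_, hU, a.left.hom, f, ha, by rw [hgw]; exact hf₁, fun i => ?_, fun i y hy => ?_⟩
      · rw [reassoc_of% hf₂ i, ← pullback.condition, reassoc_of% hq₁ i]
      · obtain ⟨s, hs⟩ := hy
        obtain ⟨e, he, -⟩ := SpPts86.exists_of_isPullback (IsPullback.of_hasPullback (u i) (g k)) y
          (Points.ofScheme (Zs k) s) (hs.symm.trans (Points.ofPt_eq_map_ofScheme (g k) s))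
        refine ⟨Points.map (c'.ι.app i).left.hom e, ?_⟩
        rw [← Points.map_comp, (hsq i).w, Points.map_comp]
        exact congrArg (Points.map (inj c i)) he
    choose U hU a f hae hf₁ hf₂ hfsur using hloc
    choose K' V v hV hv hVs using fun k => exists_affine_charts (hU k)
    let J := Σ k, K' k
    let t : ∀ j : J, (yon S).obj (V j.1 j.2) ⟶ X c := fun j => v j.1 j.2 ≫ a j.1
    have ht : ∀ j, RepWith @Etale (t j) := fun j => hae j.1 _ (hv j.1 j.2)
    let O : Set (Points (X c)) := ⋃ j : J, Set.range (Points.ofPt (t j))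
    have hO : IsOpen O := isOpen_iUnion fun j => (SpPts86.isOpenMap_ofPt (ht j)).isOpen_range
    have hDO : ∀ i (y : Points (D.obj i).left.obj), Points.map (inj c i) y ∈ O := fun i y => by
      obtain ⟨k, s, hs⟩ := hgs (Points.map (u i) y)
      obtain ⟨x, hx⟩ := hfsur k i y ⟨s, hs⟩
      obtain ⟨k', r, hr⟩ := hVs k x
      refine Set.mem_iUnion.2 ⟨⟨k, k'⟩, r, ?_⟩
      show Points.ofPt (v k k' ≫ a k) r = _
      rw [← Points.map_ofPt, hr, hx]
    have hj := SpPts86.repWith_restrictι (F := X c) hO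
    haveI : Mono (SpPts86.restrictι (X c) O) := inferInstance
    choose d hd using fun i => SpPts86.exists_factor_of_range_subset hj (inj c i) (by
      rw [SpPts86.range_map_restrictι hO]
      rintro _ ⟨y, rfl⟩
      exact hDO i y)
    obtain ⟨σ, ⟨hσ, -⟩, -⟩ := ext_etale h₁' (t := 𝟙 (X c)) hX hid (SpPts86.isAlgSpace_restrictSheaf hX hO)
      (t' := SpPts86.restrictι (X c) O) (SpPts86.isEtaleMor_of_repWith_etale
        (SpPts86.repWith_mono (fun _ _ g (_ : IsOpenImmersion g) => (inferInstance : Etale g)) hj))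
      (f := fun i => pullback.fst _ _ ≫ d i)
      (fun i j φ => by
        rw [← cancel_mono (SpPts86.restrictι (X c) O)]
        simp [hd, tr_inj])
      (fun i => by rw [Category.assoc, hd])
    have hsur : ∀ x : Points (X c), ∃ (j : J) (r : ↥(V j.1 j.2).left), Points.ofPt (t j) r = x := fun x => by
      have : x ∈ O := by
        have hx : Points.map (SpPts86.restrictι (X c) O) (Points.map σ x) = x := by
          rw [← Points.map_comp, hσ, Points.map_id]
        exact (SpPts86.range_map_restrictι hO).le ⟨_, hx⟩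
      simpa [O] using this
    obtain ⟨L, hL, hLe, hLs⟩ := exists_sigma_chart hX (fun j : J => V j.1 j.2) t ht hsur
    obtain ⟨M, hM⟩ := SpPts86.sigma_glue (fun j : J => V j.1 j.2) fun j => v j.1 j.2 ≫ f j.1 ≫ g j.1
    have hLl : LocLift L := locLift_of_atlas hLe hLs
    have hagree : ∀ (j j' : J),
        pullback.fst (t j) (t j') ≫ v j.1 j.2 ≫ f j.1 ≫ g j.1 =
          pullback.snd (t j) (t j') ≫ v j'.1 j'.2 ≫ f j'.1 ≫ g j'.1 := fun j j' => by
      have hR := isAlgSpace_pullback (t j) (t j') (IsAlgSpace.yon_obj _) (IsAlgSpace.yon_obj _) hX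
      have hre : IsEtaleMor (pullback.fst (t j) (t j') ≫ t j) := SpPts86.isEtaleMor_comp
        (SpPts86.isEtaleMor_baseChange (IsPullback.of_hasPullback (t j) (t j')).flip (IsAlgSpace.yon_obj _) hX
          (IsAlgSpace.yon_obj _) (SpPts86.isEtaleMor_of_repWith_etale (ht j')))
        (SpPts86.isEtaleMor_of_repWith_etale (ht j))
      have hB : ∀ n : J, (v n.1 n.2 ≫ f n.1 ≫ g n.1) ≫ Z.hom.hom = t n ≫ c.pt.hom.hom := fun n => by
        simp only [t, Category.assoc, hf₁]
      refine eq_of_restrict h₁' h₂ Z hR hre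
        ((Category.assoc _ _ _).trans ((congrArg (_ ≫ ·) (hB j)).trans (Category.assoc _ _ _).symm))
        ((Category.assoc _ _ _).trans ((congrArg (_ ≫ ·) (hB j')).trans
          ((pullback.condition_assoc _).symm.trans (Category.assoc _ _ _).symm))) (fun i => ?_)
        B' Zs b z g hB' hZs hb hge hgw hgs
      have key : ∀ (n : J) (s : pullback (t j) (t j') ⟶ (yon S).obj (V n.1 n.2)),
          s ≫ t n = pullback.fst (t j) (t j') ≫ t j →
          pullback.snd (inj c i) (pullback.fst (t j) (t j') ≫ t j) ≫ s ≫ v n.1 n.2 ≫ f n.1 ≫ g n.1 =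
            pullback.fst _ _ ≫ u i := by
        intro n s hs
        obtain ⟨e, he₁, he₂⟩ : ∃ e : Fib c (pullback.fst (t j) (t j') ≫ t j) i ⟶ Fib c (a n.1) i,
            e ≫ pullback.fst _ _ = pullback.fst _ _ ∧
              e ≫ pullback.snd _ _ = pullback.snd _ _ ≫ s ≫ v n.1 n.2 :=
          ⟨pullback.lift (pullback.fst _ _) (pullback.snd _ _ ≫ s ≫ v n.1 n.2) (by
            simp only [Category.assoc]
            rw [show s ≫ v n.1 n.2 ≫ a n.1 = _ from hs]
            exact pullback.condition), pullback.lift_fst _ _ _, pullback.lift_snd _ _ _⟩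
        have h' := congrArg (e ≫ ·) (hf₂ n.1 i)
        simp only [reassoc_of% he₁, reassoc_of% he₂] at h'
        exact h'
      rw [key j _ rfl, key j' _ pullback.condition.symm]
    obtain ⟨m, hm⟩ := SpPts86.exists_desc hLl M fun W x x' e => by
      let O₂ : J × J → W.left.Opens := fun n =>
        x.left ⁻¹ᵁ (SpPts86.sigmaIn _ n.1).left.opensRange (H := sigmaIn_openImmersion (fun j : J => V j.1 j.2) n.1) ⊓
        x'.left ⁻¹ᵁ (SpPts86.sigmaIn _ n.2).left.opensRange (H := sigmaIn_openImmersion (fun j : J => V j.1 j.2) n.2)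
      let X₂ : ULift.{u} (J × J) → Over S := fun n => SpPts86.openOver W (O₂ n.down)
      refine SpPts86.open_cover_hom_ext X₂ (fun n => SpPts86.openIncl W (O₂ n.down))
        (fun n => inferInstanceAs (IsOpenImmersion (O₂ n.down).ι)) (fun w => ?_) fun n => ?_
      · obtain ⟨j, r, hr⟩ := exists_sigmaIn (fun j : J => V j.1 j.2) (x.left w)
        obtain ⟨j', r', hr'⟩ := exists_sigmaIn (fun j : J => V j.1 j.2) (x'.left w)
        exact ⟨⟨(j, j')⟩, ⟨w, ⟨r, hr⟩, ⟨r', hr'⟩⟩, rfl⟩
      · obtain ⟨⟨j, j'⟩⟩ := n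
        have hl : ∀ (y : W ⟶ SpPts86.sigmaOver (fun j : J => V j.1 j.2)) (n : J),
            (∀ s, y.left ((O₂ (j, j')).ι s) ∈ Set.range (SpPts86.sigmaIn (fun j : J => V j.1 j.2) n).left) →
            ∃ l : SpPts86.openOver W (O₂ (j, j')) ⟶ V n.1 n.2,
              l ≫ SpPts86.sigmaIn (fun j : J => V j.1 j.2) n = SpPts86.openIncl W (O₂ (j, j')) ≫ y := by
          intro y n hn
          haveI := sigmaIn_openImmersion (fun j : J => V j.1 j.2) n
          have hr : Set.range ((O₂ (j, j')).ι ≫ y.left) ⊆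
              Set.range (SpPts86.sigmaIn (fun j : J => V j.1 j.2) n).left := by
            rintro _ ⟨s, rfl⟩
            exact hn s
          exact ⟨Over.homMk (IsOpenImmersion.lift _ _ hr) (by
            show _ ≫ (V n.1 n.2).hom = (O₂ (j, j')).ι ≫ W.hom
            rw [← Over.w (SpPts86.sigmaIn (fun j : J => V j.1 j.2) n), ← Category.assoc,
              IsOpenImmersion.lift_fac, Category.assoc, Over.w]),
            Over.OverMorphism.ext (IsOpenImmersion.lift_fac _ _ hr)⟩
        obtain ⟨l, hl₁⟩ := hl x j fun s => s.2.1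
        obtain ⟨l', hl₂⟩ := hl x' j' fun s => s.2.2
        have h1 : (yon S).map l ≫ t j = (yon S).map l' ≫ t j' := by
          rw [← hL j, ← hL j', ← Functor.map_comp_assoc, ← Functor.map_comp_assoc, hl₁, hl₂,
            Functor.map_comp_assoc, Functor.map_comp_assoc, e]
        have h2 := congrArg (pullback.lift _ _ h1 ≫ ·) (hagree j j')
        simp only [pullback.lift_fst_assoc, pullback.lift_snd_assoc] at h2
        show (yon S).map (SpPts86.openIncl W (O₂ (j, j'))) ≫ _ = (yon S).map (SpPts86.openIncl W (O₂ (j, j'))) ≫ _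
        rw [← Functor.map_comp_assoc, ← Functor.map_comp_assoc, ← hl₁, ← hl₂,
          Functor.map_comp_assoc, Functor.map_comp_assoc, hM, hM, h2]
    have hmB : m ≫ Z.hom.hom = c.pt.hom.hom := by
      refine hom_ext_of_charts hX (fun j : J => V j.1 j.2) t ht hsur fun j => ?_
      conv_lhs => rw [← hL j]
      rw [Category.assoc, reassoc_of% hm, reassoc_of% hM j, hf₁]
      simp [t]
    refine ⟨oHom m hmB, fun i => oHom_ext ?_⟩
    show inj c i ≫ m = u i
    choose K₃ Y y hY hy hys using fun j : J =>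
      exists_affine_charts (isAlgSpace_fib c (t j) (IsAlgSpace.yon_obj _) i)
    refine hom_ext_of_charts (D.obj i).left.property (fun n : Σ j, K₃ j => Y n.1 n.2)
      (fun n => y n.1 n.2 ≫ pullback.fst _ _) (fun n => ?_) (fun x => ?_) fun n => ?_
    · have he : IsEtaleMor (pullback.fst (inj c i) (t n.1)) := SpPts86.isEtaleMor_baseChange
        (IsPullback.of_hasPullback (inj c i) (t n.1)).flip (IsAlgSpace.yon_obj _) hX (D.obj i).left.property
        (SpPts86.isEtaleMor_of_repWith_etale (ht n.1))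
      exact he _ (hy n.1 n.2)
    · obtain ⟨j, r, hr⟩ := hsur (Points.map (inj c i) x)
      obtain ⟨p, hp, -⟩ := SpPts86.exists_of_isPullback (IsPullback.of_hasPullback (inj c i) (t j)) x
        (Points.ofScheme (V j.1 j.2) r) (hr.symm.trans (Points.ofPt_eq_map_ofScheme (t j) r))
      obtain ⟨n, s, hs⟩ := hys j p
      exact ⟨⟨j, n⟩, s, by rw [← Points.map_ofPt, hs, hp]⟩
    · have htm : t n.1 ≫ m = v n.1.1 n.1.2 ≫ f n.1.1 ≫ g n.1.1 :=
        (congrArg (· ≫ m) (hL n.1).symm).trans ((Category.assoc _ _ _).trans ((congrArg (_ ≫ ·) hm).trans (hM n.1)))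
      rw [Category.assoc, Category.assoc, pullback.condition_assoc, htm]
      congr 1
      have h' := congrArg ((pullback.lift (pullback.fst (inj c i) (t n.1))
        (pullback.snd _ _ ≫ v n.1.1 n.1.2) (by rw [Category.assoc]; exact pullback.condition) :
          Fib c (t n.1) i ⟶ Fib c (a n.1.1) i) ≫ ·) (hf₂ n.1.1 i)
      simp only [pullback.lift_fst_assoc, pullback.lift_snd_assoc, Category.assoc] at h'
      exact h'
  choose m hm using hex
  exact ⟨{ desc := m
           fac := hm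
           uniq := fun s k hk => huniq s.pt _ _ fun i => (hk i).trans (hm s i).symm }⟩

end Groth.Agent.SpProper61.DescColim
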