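import Groth.Agent.SpProper61.QfFinite
import Groth.Agent.SpPts86.DiscreteFib
import Groth.Agent.SpFP87.QsDecent
import Groth.Agent.SpPts86.DecentFib
import Groth.Agent.SpPts86.Compact

/-!
A proper morphism is finite near a point with finite geometric fibre.
-/

universe u

set_option autoImplicit false
set_option backward.isDefEq.respectTransparency false

open CategoryTheory CategoryTheory.Limits AlgebraicGeometry Topology
open AlgSp Groth.Agent.SpFP87 Groth.Agent.SpPts86

namespace Groth.Agent.SpProper61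

variable {S : Scheme.{u}} {X Y : Space S}

theorem discreteTopology_of_finite {k : Type u} [Field k] {str : Spec (CommRingCat.of k) ⟶ S} {P : Sp S}
    (hP : IsAlgSpace P) (snd : P ⟶ (yon S).obj (Over.mk str)) (hp : IsProperMor snd)
    (hfin : Finite (Points P)) : DiscreteTopology (Points P) := by
  have hqs : IsQuasiSeparatedMor snd :=
    repWith_mono (fun _ _ g (_ : IsClosedImmersion g) => (inferInstance : QuasiCompact g)) hp.1
  have hd : IsDecent P := isDecentMor_of_qs hP (IsAlgSpace.yon_obj _) hqs (𝟙 _) (𝟙 P) snd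
    (IsPullback.of_horiz_isIso ⟨by simp⟩)
  have : CompactSpace ↥(Over.mk str).left := inferInstanceAs (CompactSpace (PrimeSpectrum k))
  have := compactSpace_points_yon (Over.mk str)
  have : CompactSpace (Points P) :=
    compactSpace_of_isQuasiCompactMor hp.2.1.2 (IsAlgSpace.yon_obj (Over.mk str))
      (IsPullback.of_horiz_isIso (fst := 𝟙 P) (snd := snd) (f := snd) (g := 𝟙 _) ⟨by simp⟩)
  obtain ⟨U, a, hU, ha, has⟩ := exists_affine_chart_of_compactSpace hP
  obtain ⟨R, s, t, sq⟩ := exists_isPullback_yon hP.diag a a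
  have hfU : Finite ↥U.left := by
    refine Set.finite_univ_iff.1 (Set.Finite.subset (Set.Finite.biUnion (Set.finite_univ (α := Points P))
      fun x _ => (finFib_of_isDecent hd x U a hU ha R t s sq).1) fun u _ => ?_)
    exact Set.mem_biUnion (Set.mem_univ (Points.ofPt a u)) rfl
  obtain ⟨g, hg⟩ := (yon S).map_surjective (a ≫ snd)
  let g' : U.left ⟶ Spec (CommRingCat.of k) := g.left
  have : LocallyOfFiniteType g' :=
    hp.2.1.1 a (𝟙 _) g ha (repWith_id _ _) (by rw [Category.comp_id]; exact hg.symm)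
  have : JacobsonSpace ↥(Spec (CommRingCat.of k)) := inferInstanceAs (JacobsonSpace (PrimeSpectrum k))
  have : JacobsonSpace ↥U.left := LocallyOfFiniteType.jacobsonSpace g'
  refine discreteTopology_iff_isOpen_singleton.2 fun x => ?_
  obtain ⟨u, rfl⟩ := surjective_ofPt has x
  rw [← Set.image_singleton]
  exact isOpenMap_ofPt ha _ (isOpen_discrete _)

theorem exists_finite_nhd_of_finite_fibre (f : X ⟶ Y) (hf : IsProperMor f.hom) (y : FieldPt Y.obj)
    {Xy : Sp S} {fst : Xy ⟶ X.obj} {snd : Xy ⟶ (yon S).obj y.pt}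
    (sq : IsPullback fst snd f.hom y.toHom) (hfin : Finite (Points Xy)) :
    ∃ (V : Space S) (j : V ⟶ Y), RepWith @IsOpenImmersion j.hom ∧
      Points.mk y ∈ Set.range (Points.map j.hom) ∧
      ∀ (P : Space S) (fst' : P ⟶ X) (snd' : P ⟶ V), IsPullback fst'.hom snd'.hom f.hom j.hom →
        IsFiniteMor snd'.hom := by
  refine exists_finite_nhd f (Points.mk y) hf fun x hx => ?_
  have hXy := isAlgSpace_of_isPullback sq X.property (IsAlgSpace.yon_obj _) Y.property.diag
  have hpy := isProperMor_baseChange X.property Y.property (IsAlgSpace.yon_obj _) hf sq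
  have := discreteTopology_of_finite (str := y.str) hXy snd hpy hfin
  obtain ⟨z, rfl, -⟩ := exists_of_isPullback sq x
    (Points.ofPt (𝟙 _) (IsLocalRing.closedPoint y.K : ↥y.pt.left)) (by
      rw [hx, Points.map_ofPt, Category.id_comp, Points.ofPt_toHom])
  have h0 := fibreDim_zero_of_discrete (str := y.str) hXy snd hpy.2.1.1 z
  have h1 : HasAtMor (fun _ _ h u => FlatMor.fibreDimAt h u ≤ ((0 : ℕ) : WithBot ℕ∞)) snd z := by
    obtain ⟨U, V, a, b, h, u, ha, hb, w, hu, hd⟩ := h0
    exact ⟨U, V, a, b, h, u, ha, hb, w, hu, le_of_eq (hd.trans Nat.cast_zero.symm)⟩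
  obtain ⟨U, V, a, b, h, u, ha, hb, w, hu, hd⟩ := (hasAtMor_fibreDim_baseChange
    (· ≤ ((0 : ℕ) : WithBot ℕ∞)) sq X.property Y.property (IsAlgSpace.yon_obj _) hf.2.1.1 z).1 h1
  have := hf.2.1.1 a b h ha hb w
  exact ⟨U, V, a, b, h, u, ha, hb, w, hu, (nearPt_lqf_iff h.left u).2 hd⟩

end Groth.Agent.SpProper61
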