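import Groth.Agent.SpProper61.EtaleCover
import Groth.Agent.SpPts86.UnramDiag
import Groth.Agent.SpPts86.Subspace
import Groth.Agent.SpPts86.Proper
import Groth.Agent.S10277

/-!
Sections of étale spaces descend along closed surjective families.
-/

set_option autoImplicit false
set_option linter.style.haveILetI false
set_option backward.isDefEq.respectTransparency false

universe u

open CategoryTheory CategoryTheory.Limits AlgebraicGeometry
open AlgSp Groth.Agent.SpFP87

noncomputable section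

namespace Groth.Agent.SpProper61

variable {S : Scheme.{u}} {T W Y : Sp S}

/-- Maps to an étale space agreeing on a family covering the points are equal. -/
theorem eq_of_points_cover (hW : IsAlgSpace W) (hY : IsAlgSpace Y) {w : W ⟶ Y} (hw : IsEtaleMor w)
    {a b : T ⟶ W} (hab : a ≫ w = b ≫ w)
    (hcov : ∀ t : Points T, ∃ (C : Sp S) (c : C ⟶ T) (x : Points C), Points.map c x = t ∧ c ≫ a = c ≫ b) :
    a = b := by
  have hd : RepWith @IsOpenImmersion (pullback.diagonal w) :=
    SpPts86.repWith_openImm_diagonal_of_unramified hW hY (LocP.of_le (P := @Etale) (fun A B g hg => by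
      have : Etale g := hg
      exact ⟨inferInstance, inferInstance⟩) (SpPts86.locP_etale_of_isEtaleMor hw))
  obtain ⟨d, hd'⟩ := SpPts86.exists_factor_of_range_subset hd (pullback.lift a b hab) (by
    rintro _ ⟨t, rfl⟩
    obtain ⟨C, c, x, rfl, hc⟩ := hcov t
    refine ⟨Points.map (c ≫ a) x, ?_⟩
    rw [← Points.map_comp, ← Points.map_comp]
    congr 1
    exact pullback.hom_ext (by simp) (by simp [hc]))
  have h1 := congrArg (· ≫ pullback.fst w w) hd'
  have h2 := congrArg (· ≫ pullback.snd w w) hd'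
  simp only [Category.assoc, pullback.diagonal_fst, pullback.diagonal_snd, Category.comp_id, pullback.lift_fst,
    pullback.lift_snd] at h1 h2
  exact h1.symm.trans h2

/-- Sections of an étale space descend along two jointly surjective universally closed maps. -/
theorem existsUnique_section {G₁ G₂ : Sp S} (hW : IsAlgSpace W) (hY : IsAlgSpace Y) (hG₁ : IsAlgSpace G₁)
    (hG₂ : IsAlgSpace G₂) {w : W ⟶ Y} (hw : IsEtaleMor w) {g₁ : G₁ ⟶ Y} {g₂ : G₂ ⟶ Y}
    (hc₁ : IsUnivClosedMor g₁) (hc₂ : IsUnivClosedMor g₂)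
    (hs : ∀ y : Points Y, y ∈ Set.range (Points.map g₁) ∨ y ∈ Set.range (Points.map g₂))
    {s₁ : G₁ ⟶ W} (h₁ : s₁ ≫ w = g₁) {s₂ : G₂ ⟶ W} (h₂ : s₂ ≫ w = g₂)
    (h₁₁ : ∀ {T : Sp S} (a b : T ⟶ G₁), a ≫ g₁ = b ≫ g₁ → a ≫ s₁ = b ≫ s₁)
    (h₁₂ : ∀ {T : Sp S} (a : T ⟶ G₁) (b : T ⟶ G₂), a ≫ g₁ = b ≫ g₂ → a ≫ s₁ = b ≫ s₂)
    (h₂₂ : ∀ {T : Sp S} (a b : T ⟶ G₂), a ≫ g₂ = b ≫ g₂ → a ≫ s₂ = b ≫ s₂) :
    ∃! σ : Y ⟶ W, σ ≫ w = 𝟙 Y ∧ g₁ ≫ σ = s₁ ∧ g₂ ≫ σ = s₂ := by
  let Γ : Set (Points W) := Set.range (Points.map s₁) ∪ Set.range (Points.map s₂)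
  have hq : ∀ {G : Sp S} (g : G ⟶ Y) (s : G ⟶ W), s ≫ w = g →
      (∀ {T : Sp S} (a : T ⟶ G) (b : T ⟶ G₁), a ≫ g = b ≫ g₁ → a ≫ s = b ≫ s₁) →
      (∀ {T : Sp S} (a : T ⟶ G) (b : T ⟶ G₂), a ≫ g = b ≫ g₂ → a ≫ s = b ≫ s₂) →
      ∀ (q : Points (pullback w g)), Points.map (pullback.fst w g) q ∈ Γ →
        ∃ (C : Sp S) (k : C ⟶ pullback w g) (x : Points C), Points.map k x = q ∧
          k ≫ pullback.fst w g = (k ≫ pullback.snd w g) ≫ s := by
    intro G g s hg ha hb q hqΓ
    obtain ⟨x, hx⟩ | ⟨x, hx⟩ := hqΓ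
    · obtain ⟨p, hp, -⟩ := SpPts86.exists_of_isPullback (IsPullback.of_hasPullback (pullback.fst w g) s₁) q x hx.symm
      refine ⟨_, pullback.fst (pullback.fst w g) s₁, p, hp, ?_⟩
      rw [pullback.condition]
      exact (ha _ _ (by
        rw [Category.assoc, ← pullback.condition (f := w) (g := g), ← Category.assoc, pullback.condition,
          Category.assoc, h₁])).symm
    · obtain ⟨p, hp, -⟩ := SpPts86.exists_of_isPullback (IsPullback.of_hasPullback (pullback.fst w g) s₂) q x hx.symm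
      refine ⟨_, pullback.fst (pullback.fst w g) s₂, p, hp, ?_⟩
      rw [pullback.condition]
      exact (hb _ _ (by
        rw [Category.assoc, ← pullback.condition (f := w) (g := g), ← Category.assoc, pullback.condition,
          Category.assoc, h₂])).symm
  have hq₁ := hq g₁ s₁ h₁ h₁₁ h₁₂
  have hq₂ := hq g₂ s₂ h₂ (fun a b e => (h₁₂ b a e.symm).symm) h₂₂
  have hΓ : IsOpen Γ := by
    have hclosed : ∀ {G : Sp S} (g : G ⟶ Y) (s : G ⟶ W) (hG : IsAlgSpace G) (_ : IsUnivClosedMor g) (hsw : s ≫ w = g),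
        (∀ q : Points (pullback w g), Points.map (pullback.fst w g) q ∈ Γ →
          ∃ (C : Sp S) (k : C ⟶ pullback w g) (x : Points C), Points.map k x = q ∧
            k ≫ pullback.fst w g = (k ≫ pullback.snd w g) ≫ s) →
        Set.range (Points.map s) ⊆ Γ →
        IsClosed (Points.map (pullback.fst w g) '' (Points.map (pullback.fst w g) ⁻¹' Γᶜ)) := by
      intro G g s hG hc hsw hq' hsub
      let σ : G ⟶ pullback w g := pullback.lift s (𝟙 G) (by rw [hsw, Category.id_comp])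
      have he : IsEtaleMor (pullback.snd w g) :=
        SpPts86.isEtaleMor_baseChange (IsPullback.of_hasPullback w g) hW hY hG hw
      have hP : IsAlgSpace (pullback w g) := isAlgSpace_pullback _ _ hW hG hY
      have hσ : IsEtaleMor σ := SpPts86.isEtaleMor_of_comp hP he (by
        rw [pullback.lift_snd]
        exact fun V φ hφ => by rwa [Category.comp_id])
      have hpre : Points.map (pullback.fst w g) ⁻¹' Γ = Set.range (Points.map σ) := by
        ext q
        constructor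
        · intro hqΓ
          obtain ⟨C, k, x, rfl, hk⟩ := hq' q hqΓ
          refine ⟨Points.map (k ≫ pullback.snd w g) x, ?_⟩
          rw [← Points.map_comp]
          congr 1
          exact pullback.hom_ext (by rw [Category.assoc, pullback.lift_fst, hk]) (by simp [σ])
        · rintro ⟨x, rfl⟩
          refine hsub ⟨x, ?_⟩
          rw [← Points.map_comp, pullback.lift_fst]
      have hopen : IsOpen (Set.range (Points.map σ)) := by
        obtain ⟨V, v, hv, hvs⟩ := hG.atlas
        have : Set.range (Points.map σ) = Set.range (Points.ofPt (v ≫ σ)) := by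
          ext q
          constructor
          · rintro ⟨x, rfl⟩
            obtain ⟨t, rfl⟩ := SpPts86.surjective_ofPt hvs x
            exact ⟨t, (Points.map_ofPt v σ t).symm⟩
          · rintro ⟨t, rfl⟩
            exact ⟨_, Points.map_ofPt v σ t⟩
        rw [this]
        exact (SpPts86.isOpenMap_ofPt (hσ v hv)).isOpen_range
      refine hc hW w (pullback.snd w g) (pullback.fst w g) (IsPullback.of_hasPullback w g).flip _ ?_
      rw [Set.preimage_compl, hpre]
      exact hopen.isClosed_compl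
    rw [← isClosed_compl_iff]
    have e : Γᶜ = Points.map (pullback.fst w g₁) '' (Points.map (pullback.fst w g₁) ⁻¹' Γᶜ) ∪
        Points.map (pullback.fst w g₂) '' (Points.map (pullback.fst w g₂) ⁻¹' Γᶜ) := by
      ext x
      constructor
      · intro hx
        obtain ⟨y, hy⟩ | ⟨y, hy⟩ := hs (Points.map w x)
        · obtain ⟨p, hp, -⟩ := SpPts86.exists_of_isPullback (IsPullback.of_hasPullback w g₁) x y hy.symm
          exact Or.inl ⟨p, by show Points.map _ p ∈ Γᶜ; rw [hp]; exact hx, hp⟩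
        · obtain ⟨p, hp, -⟩ := SpPts86.exists_of_isPullback (IsPullback.of_hasPullback w g₂) x y hy.symm
          exact Or.inr ⟨p, by show Points.map _ p ∈ Γᶜ; rw [hp]; exact hx, hp⟩
      · rintro (⟨p, hp, rfl⟩ | ⟨p, hp, rfl⟩) <;> exact hp
    rw [e]
    exact (hclosed g₁ s₁ hG₁ hc₁ h₁ hq₁ Set.subset_union_left).union
      (hclosed g₂ s₂ hG₂ hc₂ h₂ hq₂ Set.subset_union_right)
  let j := SpPts86.restrictι W Γ
  have hj : RepWith @IsOpenImmersion j := SpPts86.repWith_restrictι hΓ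
  have hjr : Set.range (Points.map j) = Γ := SpPts86.range_map_restrictι hΓ
  have hW₀ := SpPts86.isAlgSpace_restrictSheaf hW hΓ
  let h := j ≫ w
  have hhe : IsEtaleMor h := SpPts86.isEtaleMor_comp (SpPts86.isEtaleMor_of_repWith_etale
    (SpPts86.repWith_mono (fun _ _ g (_ : IsOpenImmersion g) => (inferInstance : Etale g)) hj)) hw
  obtain ⟨d₁, hd₁⟩ := SpPts86.exists_factor_of_range_subset hj s₁ (hjr.symm ▸ Set.subset_union_left)
  obtain ⟨d₂, hd₂⟩ := SpPts86.exists_factor_of_range_subset hj s₂ (hjr.symm ▸ Set.subset_union_right)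
  have hsur : IsSurjectiveMor h := fun y => by
    obtain ⟨x, rfl⟩ | ⟨x, rfl⟩ := hs y
    · exact ⟨Points.map d₁ x, by rw [← Points.map_comp, ← Category.assoc, hd₁, h₁]⟩
    · exact ⟨Points.map d₂ x, by rw [← Points.map_comp, ← Category.assoc, hd₂, h₂]⟩
  haveI : Mono h := ⟨fun {T} a b e => by
    haveI : Mono j := SpPts86.mono_of_repWith_le SpPts86.isOpenImmersion_le_monomorphisms hj
    rw [← cancel_mono j]
    have key : ∀ {G : Sp S} (g : G ⟶ Y) (s : G ⟶ W), s ≫ w = g →
        (∀ q : Points (pullback w g), Points.map (pullback.fst w g) q ∈ Γ →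
          ∃ (C : Sp S) (k : C ⟶ pullback w g) (x : Points C), Points.map k x = q ∧
            k ≫ pullback.fst w g = (k ≫ pullback.snd w g) ≫ s) →
        ∀ {C : Sp S} (t : C ⟶ T) (y : C ⟶ G) (m : T ⟶ SpPts86.restrictSheaf W Γ), t ≫ m ≫ h = y ≫ g →
          t ≫ m ≫ j = y ≫ s := by
      intro G g s hsw hq' C t y m w'
      refine eq_of_points_cover hW hY hw (by simp only [Category.assoc, hsw]; exact w') fun x => ?_
      let q : C ⟶ pullback w g := pullback.lift (t ≫ m ≫ j) y (by simpa only [Category.assoc, h] using w')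
      obtain ⟨C', k, x', hx', hk⟩ := hq' (Points.map q x) (by
        rw [← Points.map_comp, pullback.lift_fst, Points.map_comp, Points.map_comp]
        exact hjr.le ⟨_, rfl⟩)
      obtain ⟨p, hp, -⟩ := SpPts86.exists_of_isPullback (IsPullback.of_hasPullback q k) x x' hx'.symm
      refine ⟨_, pullback.fst q k, p, hp, ?_⟩
      have e1 := congrArg (pullback.snd q k ≫ ·) hk
      simp only [← Category.assoc, ← pullback.condition] at e1
      simpa only [Category.assoc, q, pullback.lift_fst, pullback.lift_snd_assoc] using e1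
    refine eq_of_points_cover hW hY hw (by simpa only [Category.assoc, h] using e) fun x => ?_
    obtain ⟨y, hy⟩ | ⟨y, hy⟩ := hs (Points.map (a ≫ h) x)
    · obtain ⟨p, hp, -⟩ := SpPts86.exists_of_isPullback (IsPullback.of_hasPullback (a ≫ h) g₁) x y hy.symm
      refine ⟨_, pullback.fst (a ≫ h) g₁, p, hp, ?_⟩
      rw [key g₁ s₁ h₁ hq₁ _ _ a pullback.condition,
        key g₁ s₁ h₁ hq₁ _ _ b (by rw [← e]; exact pullback.condition)]
    · obtain ⟨p, hp, -⟩ := SpPts86.exists_of_isPullback (IsPullback.of_hasPullback (a ≫ h) g₂) x y hy.symm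
      refine ⟨_, pullback.fst (a ≫ h) g₂, p, hp, ?_⟩
      rw [key g₂ s₂ h₂ hq₂ _ _ a pullback.condition,
        key g₂ s₂ h₂ hq₂ _ _ b (by rw [← e]; exact pullback.condition)]⟩
  haveI : IsIso h := isIso_of_mono_of_locLift h (locLift_of_etale_surjective hW₀ hY hhe hsur)
  have hd : ∀ {G : Sp S} (g : G ⟶ Y) (s : G ⟶ W) (d : G ⟶ SpPts86.restrictSheaf W Γ),
      d ≫ j = s → s ≫ w = g → g ≫ inv h ≫ j = s := fun g s d hds hsw => by
    have : d = g ≫ inv h := by
      rw [IsIso.eq_comp_inv, ← hsw, ← hds, Category.assoc]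
    rw [← Category.assoc, ← this, hds]
  have hσ : (inv h ≫ j) ≫ w = 𝟙 Y := by rw [Category.assoc]; exact IsIso.inv_hom_id h
  refine ⟨inv h ≫ j, ⟨hσ, hd g₁ s₁ d₁ hd₁ h₁, hd g₂ s₂ d₂ hd₂ h₂⟩, ?_⟩
  rintro σ ⟨e₀, e₁, e₂⟩
  refine eq_of_points_cover hW hY hw (e₀.trans hσ.symm) fun y => ?_
  obtain ⟨x, rfl⟩ | ⟨x, rfl⟩ := hs y
  · exact ⟨_, g₁, x, rfl, e₁.trans (hd g₁ s₁ d₁ hd₁ h₁).symm⟩
  · exact ⟨_, g₂, x, rfl, e₂.trans (hd g₂ s₂ d₂ hd₂ h₂).symm⟩

end Groth.Agent.SpProper61
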