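import Groth.Agent.SpPts86.HasAtMorBC
import Groth.Agent.SpPts86.UnramLocusBC
import Groth.Agent.SpProper61.CodimOne
import Groth.Agent.SpFP87.EtLocInst
import Groth.Agent.LimDesc62.QuasiFinite

/-!
Point conditions on group spaces are determined at the unit section.
-/

universe u

set_option autoImplicit false
set_option backward.isDefEq.respectTransparency false

open CategoryTheory CategoryTheory.Limits AlgebraicGeometry MonoidalCategory CartesianMonoidalCategory MonObj
open AlgSp Groth.Agent.SpFP87 Groth.Agent.SpPts86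

namespace Groth.Agent.SpProper61

variable {S : Scheme.{u}}

theorem hasAtMor_of_iso {X X' Y : Sp S} {f : X ⟶ Y} {f' : X' ⟶ Y} (σ : X ⟶ X') [IsIso σ] (hσ : σ ≫ f' = f)
    {Q : ∀ (U V : Scheme.{u}), (U ⟶ V) → ↥U → Prop} {x : Points X} (h : HasAtMor Q f x) :
    HasAtMor Q f' (Points.map σ x) := by
  obtain ⟨U, V, a, b, g, u, ha, hb, w, hu, hq⟩ := h
  exact ⟨U, V, a ≫ σ, b, g, u, (MorphismProperty.cancel_right_of_respectsIso (RepWith @Etale) _ _).2 ha, hb,
    by rw [Category.assoc, hσ, w], by rw [← Points.map_ofPt, hu], hq⟩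

theorem hasAtMor_of_unit (P : MorphismProperty Scheme.{u}) [EtLoc P]
    {Q : ∀ (U V : Scheme.{u}), (U ⟶ V) → ↥U → Prop} (hQ : EtInv Q)
    (hbc : ∀ {A B C D : Scheme.{u}} (p : A ⟶ B) (q : A ⟶ C) (f : B ⟶ D) (g : C ⟶ D),
      IsPullback p q f g → P f → ∀ a : A, Q A C q a ↔ Q B D f (p a))
    {B : Sp S} (hB : IsAlgSpace B) (G : Over B) [GrpObj G] (hG : IsAlgSpace G.left) (hf : LocP P G.hom)
    (x : Points G.left) (h : HasAtMor Q G.hom (Points.map (η[G]).left (Points.map G.hom x))) :
    HasAtMor Q G.hom x := by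
  let σ : G ⊗ G ≅ G ⊗ G :=
    { hom := lift (fst G G) (fst G G * snd G G)
      inv := lift (fst G G) ((fst G G)⁻¹ * snd G G)
      hom_inv_id := by
        apply CartesianMonoidalCategory.hom_ext <;> simp [comp_mul, GrpObj.comp_inv]
      inv_hom_id := by
        apply CartesianMonoidalCategory.hom_ext <;> simp [comp_mul, GrpObj.comp_inv] }
  let δ : G ⟶ G ⊗ G := lift (𝟙 G) 1
  have hδ : δ ≫ σ.hom = lift (𝟙 G) (𝟙 G) := by
    apply CartesianMonoidalCategory.hom_ext <;> simp [δ, σ, comp_mul]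
  have sq : IsPullback (fst G G).left (snd G G).left G.hom G.hom := IsPullback.of_hasPullback G.hom G.hom
  have key := fun z => hasAtMor_baseChange_iff P hQ hbc sq.flip hG hB hG hf z
  have h1 : HasAtMor Q (fst G G).left (Points.map δ.left x) := by
    refine (key _).2 ?_
    rw [← Points.map_comp, ← Over.comp_left, show δ ≫ snd G G = toUnit G ≫ η[G] by simp [δ, Hom.one_def],
      Over.comp_left, Points.map_comp]
    exact h
  have : IsIso σ.hom.left := inferInstanceAs (IsIso ((Over.forget B).mapIso σ).hom)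
  have h2 := hasAtMor_of_iso σ.hom.left (f' := (fst G G).left)
    (by rw [← Over.comp_left]; simp [σ]) h1
  rw [← Points.map_comp, ← Over.comp_left, hδ] at h2
  have h3 := (key _).1 h2
  rwa [← Points.map_comp, ← Over.comp_left, lift_snd, Over.id_left, Points.map_id] at h3

theorem locP_of_forall_nearPt (P : MorphismProperty Scheme.{u}) [EtLoc P] [IsZariskiLocalAtSource P]
    {X Y : Sp S} (hX : IsAlgSpace X) (hY : IsAlgSpace Y) (f : X ⟶ Y)
    (h : ∀ x, HasAtMor (NearPt P) f x) : LocP P f := fun U V a b g ha hb w => by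
  choose W hW hP using fun u => forall_diagram_of_hasAtMor hX hY (etInv_nearPt P) (h (Points.ofPt a u)) ha hb w rfl
  exact (IsZariskiLocalAtSource.iff_of_iSup_eq_top W
    (top_le_iff.1 fun z _ => TopologicalSpace.Opens.mem_iSup.2 ⟨z, hW z⟩)).2 hP

theorem hasAtMor_nearPt_of_locP (P : MorphismProperty Scheme.{u}) [IsZariskiLocalAtSource P]
    {X Y : Sp S} (hX : IsAlgSpace X) (hY : IsAlgSpace Y) (f : X ⟶ Y) (h : LocP P f) (x : Points X) :
    HasAtMor (NearPt P) f x := by
  obtain ⟨U, V, a, b, g, u, ha, hb, w, hu⟩ := exists_diagram_through hX hY f x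
  exact ⟨U, V, a, b, g, u, ha, hb, w, hu, ⊤, trivial, IsZariskiLocalAtSource.comp (h a b g ha hb w) _⟩

theorem nearPt_lqf_baseChange_iff {A B C D : Scheme.{u}} (p : A ⟶ B) (q : A ⟶ C) (f : B ⟶ D) (g : C ⟶ D)
    (sq : IsPullback p q f g) (hf : LocallyOfFiniteType f) (a : A) :
    NearPt (@LocallyQuasiFinite ⊓ @LocallyOfFiniteType) A C q a ↔
      NearPt (@LocallyQuasiFinite ⊓ @LocallyOfFiniteType) B D f (p a) := by
  have := hf
  have : LocallyOfFiniteType q := MorphismProperty.of_isPullback sq hf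
  constructor
  · intro h
    have h' := LimDesc62.quasiFiniteAt_of_isPullback sq ((quasiFiniteAt_iff_nearPt q a).2 h)
    exact (quasiFiniteAt_iff_nearPt f (p a)).1 h'
  · rintro ⟨W, hW, h1, h2⟩
    exact ⟨p ⁻¹ᵁ W, hW,
      MorphismProperty.of_isPullback ((isPullback_morphismRestrict p W).paste_vert sq) h1, inferInstance⟩

theorem grp_unramified_lqf_iff {B : Sp S} (hB : IsAlgSpace B) (G : Over B) [GrpObj G] (hG : IsAlgSpace G.left)
    (hlft : LocP @LocallyOfFiniteType G.hom) :
    (LocP (@LocallyOfFiniteType ⊓ @FormallyUnramified) G.hom ↔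
        ∀ b : Points B, HasAtMor
          (fun U _ h u => ∃ W : U.Opens, u ∈ W ∧ LocallyOfFiniteType (W.ι ≫ h) ∧ FormallyUnramified (W.ι ≫ h))
          G.hom (Points.map (η[G]).left b)) ∧
    (LocP (@LocallyQuasiFinite ⊓ @LocallyOfFiniteType) G.hom ↔
        ∀ b : Points B, HasAtMor
          (fun U _ h u => ∃ W : U.Opens, u ∈ W ∧ LocallyQuasiFinite (W.ι ≫ h) ∧ LocallyOfFiniteType (W.ι ≫ h))
          G.hom (Points.map (η[G]).left b)) := by
  refine ⟨⟨fun h b => hasAtMor_nearPt_of_locP _ hG hB _ h _, fun h => locP_of_forall_nearPt _ hG hB _ ?_⟩,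
    ⟨fun h b => hasAtMor_nearPt_of_locP _ hG hB _ h _, fun h => locP_of_forall_nearPt _ hG hB _ ?_⟩⟩
  · exact fun x => hasAtMor_of_unit (@LocallyOfFiniteType : MorphismProperty Scheme.{u})
      (etInv_nearPt ((@LocallyOfFiniteType : MorphismProperty Scheme.{u}) ⊓ @FormallyUnramified))
      (fun p q f g sq hf a => nearPt_unramified_baseChange_iff p q f g sq hf a) hB G hG hlft x (h _)
  · exact fun x => hasAtMor_of_unit (@LocallyOfFiniteType : MorphismProperty Scheme.{u})
      (etInv_nearPt ((@LocallyQuasiFinite : MorphismProperty Scheme.{u}) ⊓ @LocallyOfFiniteType))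
      (fun p q f g sq hf a => nearPt_lqf_baseChange_iff p q f g sq hf a) hB G hG hlft x (h _)

end Groth.Agent.SpProper61
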