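import Groth.Agent.SpProper61.CodimZeroFinite
import Groth.Agent.SpProper61.IrredDecent
import Groth.Agent.SpProper61.IntegralAffine
import Groth.Agent.SpProper61.MonoLqf
import Groth.Agent.SpFP87.QsSp
import Groth.Agent.SpFP87.Reduced
import Groth.Agent.Desc59.EtaleDim
import Groth.Prelude.Def_W4stk3decentspacesp2Birat

/-!
Birational morphisms of decent spaces: fibres over generic points and reduction to open subschemes.
-/

universe u

set_option autoImplicit false
set_option backward.isDefEq.respectTransparency false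

open CategoryTheory CategoryTheory.Limits AlgebraicGeometry Topology TopologicalSpace
open AlgSp Groth.Agent.SpFP87 Groth.Agent.SpPts86

namespace Groth.Agent.SpProper61

section Scheme

open IsLocalRing in
theorem eq_of_specializes_of_finite_residue {U V : Scheme.{u}} (h : U ⟶ V) {η u : U} (hs : η ⤳ u)
    (he : h η = h u) (hf : (h.residueFieldMap η).hom.Finite) : η = u := by
  let sp := U.presheaf.stalkSpecializes hs
  let φ := sp ≫ U.residue η
  have hsV : IsIso (V.presheaf.stalkSpecializes (hs.map h.continuous)) := by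
    refine ⟨V.presheaf.stalkSpecializes (Inseparable.of_eq he.symm).specializes, ?_, ?_⟩ <;> simp
  have hrange : ∀ c : V.residueField (h η), ∃ r, φ r = h.residueFieldMap η c := by
    intro c
    obtain ⟨c', rfl⟩ := V.residue_surjective _ c
    obtain ⟨d, rfl⟩ := (ConcreteCategory.bijective_of_isIso (V.presheaf.stalkSpecializes (hs.map h.continuous))).2 c'
    refine ⟨h.stalkMap u d, ?_⟩
    show U.residue η (sp (h.stalkMap u d)) = _
    rw [← CommRingCat.comp_apply (V.residue _), Scheme.residue_residueFieldMap, CommRingCat.comp_apply,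
      Scheme.Hom.stalkSpecializes_stalkMap_apply]
  have hloc : IsLocalHom sp.hom := by
    refine ⟨fun r hr => ?_⟩
    by_contra hnu
    have hz : IsUnit (φ r) := hr.map (U.residue η).hom
    let := (h.residueFieldMap η).hom.toAlgebra
    have : Module.Finite (V.residueField (h η)) (U.residueField η) := hf
    have hmem := (Algebra.IsIntegral.isIntegral (R := V.residueField (h η)) (φ r)).inv_mem_adjoin
    have hsub : ∀ z ∈ Algebra.adjoin (V.residueField (h η)) {φ r}, ∃ w, φ w = z := by
      intro z hz'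
      induction hz' using Algebra.adjoin_induction with
      | mem z hz' => exact ⟨r, (Set.mem_singleton_iff.1 hz').symm⟩
      | algebraMap c => exact hrange c
      | add _ _ _ _ h1 h2 => obtain ⟨a, rfl⟩ := h1; obtain ⟨b, rfl⟩ := h2; exact ⟨a + b, map_add φ.hom a b⟩
      | mul _ _ _ _ h1 h2 => obtain ⟨a, rfl⟩ := h1; obtain ⟨b, rfl⟩ := h2; exact ⟨a * b, map_mul φ.hom a b⟩
    obtain ⟨w, hw⟩ := hsub _ hmem
    have h1 : IsUnit (r * w - 1) := by
      by_contra hn
      have h2 : r * w ∈ maximalIdeal (U.presheaf.stalk u : Type u) :=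
        Ideal.mul_mem_right w _ ((mem_maximalIdeal r).2 hnu)
      have h3 := sub_mem h2 ((mem_maximalIdeal (r * w - 1)).2 hn)
      rw [sub_sub_cancel] at h3
      exact (mem_maximalIdeal _).1 h3 isUnit_one
    have h4 := h1.map φ.hom
    rw [map_sub, map_mul, map_one, show φ.hom w = (φ r)⁻¹ from hw, mul_inv_cancel₀ hz.ne_zero, sub_self] at h4
    exact not_isUnit_zero h4
  have e := congr($(Scheme.SpecMap_stalkSpecializes_fromSpecStalk hs) (IsLocalRing.closedPoint _))
  rw [Scheme.Hom.comp_apply, Scheme.fromSpecStalk_closedPoint] at e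
  have hc : (Spec.map sp) (IsLocalRing.closedPoint _) = IsLocalRing.closedPoint _ :=
    IsLocalRing.comap_closedPoint sp.hom
  rw [hc, Scheme.fromSpecStalk_closedPoint] at e
  exact e.symm

theorem finite_residueFieldMap_of_square {R W A B : Scheme.{u}} (r₁ : R ⟶ W) [IsOpenImmersion r₁] (r₂ : R ⟶ A)
    [Etale r₂] (g : A ⟶ B) (q : W ⟶ B) (w : r₁ ≫ q = r₂ ≫ g) (ρ : R) (hg : IsIso (g.stalkMap (r₂ ρ))) :
    (q.residueFieldMap (r₁ ρ)).hom.Finite := by
  have h1 : (g.residueFieldMap (r₂ ρ)).hom.Finite := by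
    refine RingHom.Finite.of_surjective _ fun z => ?_
    obtain ⟨z', rfl⟩ := A.residue_surjective _ z
    obtain ⟨z'', rfl⟩ := (ConcreteCategory.bijective_of_isIso (g.stalkMap (r₂ ρ))).2 z'
    exact ⟨B.residue _ z'', by rw [← CommRingCat.comp_apply, ← CommRingCat.comp_apply, Scheme.residue_residueFieldMap]⟩
  have h2 := (Desc59.EtaleDim.finite_residueFieldMap r₂ ρ).comp h1
  rw [← CommRingCat.hom_comp, ← Scheme.residueFieldMap_comp, Scheme.Hom.residueFieldMap_congr w.symm ρ,
    Scheme.residueFieldMap_comp] at h2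
  have e : q.residueFieldMap (r₁ ρ) = (B.residueFieldCongr (by rw [← Scheme.Hom.comp_apply, w])).hom ≫
      ((B.residueFieldCongr (by rw [← Scheme.Hom.comp_apply, w])).hom ≫
        q.residueFieldMap (r₁ ρ) ≫ r₁.residueFieldMap ρ) ≫ inv (r₁.residueFieldMap ρ) := by
    simp
  rw [e, CommRingCat.hom_comp, CommRingCat.hom_comp]
  refine (RingHom.Finite.comp (RingHom.Finite.of_surjective _ ?_) h2).comp (RingHom.Finite.of_surjective _ ?_)
  · exact (ConcreteCategory.bijective_of_isIso (inv (r₁.residueFieldMap ρ))).2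
  · exact (ConcreteCategory.bijective_of_isIso (B.residueFieldCongr _).hom).2

theorem isIso_stalkMap_comp_iff {A B C : Scheme.{u}} (d : A ⟶ B) (g : B ⟶ C) [IsOpenImmersion d] (w : A) :
    IsIso ((d ≫ g).stalkMap w) ↔ IsIso (g.stalkMap (d w)) := by
  rw [Scheme.Hom.stalkMap_comp]
  exact ⟨fun _ => IsIso.of_isIso_comp_right (g.stalkMap (d w)) (d.stalkMap w), fun _ => inferInstance⟩

theorem isIso_stalkMap_comp_iff' {A B C : Scheme.{u}} (g : A ⟶ B) (e : B ⟶ C) [IsOpenImmersion e] (w : A) :
    IsIso ((g ≫ e).stalkMap w) ↔ IsIso (g.stalkMap w) := by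
  rw [Scheme.Hom.stalkMap_comp]
  exact ⟨fun _ => IsIso.of_isIso_comp_left (e.stalkMap (g w)) (g.stalkMap w), fun _ => inferInstance⟩

end Scheme

variable {S : Scheme.{u}}

theorem mem_genericPoints_iff_codimZero (X : Space S) (hd : IsDecent X.obj) (x : Points X.obj) :
    x ∈ genericPoints (Points X.obj) ↔ HasAt (fun U u => ringKrullDim ↥(U.presheaf.stalk u) = 0) X.obj x := by
  rw [SpFP87.hasAt_dim_zero_iff X.property hd]
  exact ⟨fun h => ⟨_, h, isGenericPoint_closure⟩, fun ⟨T, hT, hg⟩ => by
    show closure ({x} : Set (Points X.obj)) ∈ irreducibleComponents (Points X.obj)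
    rwa [hg.def]⟩

theorem eq_of_specializes_generic {T : Type*} [TopologicalSpace T] [T0Space T] {y y' : T}
    (hy : y ∈ genericPoints T) (h : y' ⤳ y) : y' = y :=
  (h.antisymm (specializes_iff_mem_closure.2
    ((hy : closure {y} ∈ irreducibleComponents T).2 isIrreducible_singleton.closure
      (specializes_iff_closure_subset.1 h) (subset_closure (Set.mem_singleton y'))))).eq

theorem genericPoints_subset_of_dense {T : Type*} [TopologicalSpace T] (hfin : (irreducibleComponents T).Finite)
    {O : Set T} (hO : IsOpen O) (hd : Dense O) : genericPoints T ⊆ O := by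
  intro x hx
  let Z : Set T := closure {x}
  let R : Set T := ⋃ C ∈ irreducibleComponents T \ {Z}, C
  have hR : IsClosed R := (hfin.subset Set.sdiff_subset).isClosed_biUnion
    fun C hC => isClosed_of_mem_irreducibleComponents C hC.1
  have hxR : x ∉ R := by
    intro h
    obtain ⟨C, hC, hxC⟩ := Set.mem_iUnion₂.1 h
    have hle : Z ⊆ C := closure_minimal (Set.singleton_subset_iff.2 hxC) (isClosed_of_mem_irreducibleComponents C hC.1)
    exact hC.2 (le_antisymm (hx.2 hC.1.1 hle) hle)
  obtain ⟨z, hzR, hzO⟩ := hd.inter_open_nonempty Rᶜ hR.isOpen_compl ⟨x, hxR⟩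
  have hzZ : z ∈ Z := by
    by_contra hzZ
    refine hzR ?_
    exact Set.mem_biUnion ⟨irreducibleComponent_mem_irreducibleComponents z,
      fun e => hzZ (e ▸ mem_irreducibleComponent)⟩ mem_irreducibleComponent
  exact (specializes_iff_mem_closure.2 hzZ).mem_open hO hzO

section

variable {X Y : Space S} {f : X ⟶ Y}

/-- The stalk iso condition does not depend on the open subschemes. -/
theorem isIso_stalkMap_change {U V U' V' : Over S} {a : (yon S).obj U ⟶ X.obj} {b : (yon S).obj V ⟶ Y.obj}
    {g : U ⟶ V} {a' : (yon S).obj U' ⟶ X.obj} {b' : (yon S).obj V' ⟶ Y.obj} {g' : U' ⟶ V'}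
    (ha : RepWith @IsOpenImmersion a) (hb : RepWith @IsOpenImmersion b)
    (ha' : RepWith @IsOpenImmersion a') (hb' : RepWith @IsOpenImmersion b')
    (w : a ≫ f.hom = (yon S).map g ≫ b) (w' : a' ≫ f.hom = (yon S).map g' ≫ b')
    {u : ↥U.left} {u' : ↥U'.left} (e : Points.ofPt a u = Points.ofPt a' u')
    (h : IsIso (g.left.stalkMap u)) : IsIso (g'.left.stalkMap u') := by
  obtain ⟨W, d, d', sqW⟩ := exists_isPullback_yon X.property.diag a a'
  obtain ⟨Z, c, c', sqZ⟩ := exists_isPullback_yon Y.property.diag b b'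
  have : IsOpenImmersion d.left := etale_snd_of_isPullback sqW.flip ha'
  have : IsOpenImmersion d'.left := etale_snd_of_isPullback sqW ha
  have : IsOpenImmersion c.left := etale_snd_of_isPullback sqZ.flip hb'
  have : IsOpenImmersion c'.left := etale_snd_of_isPullback sqZ hb
  obtain ⟨g'', hg''⟩ := (yon S).map_surjective (sqZ.lift ((yon S).map (d ≫ g)) ((yon S).map (d' ≫ g'))
    (by rw [Functor.map_comp, Functor.map_comp, Category.assoc, Category.assoc, ← w, ← w',
      ← Category.assoc, sqW.w, Category.assoc]))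
  have h1 : g''.left ≫ c.left = d.left ≫ g.left := congrArg CommaMorphism.left ((yon S).map_injective
    (by rw [Functor.map_comp, hg'', sqZ.lift_fst] : (yon S).map (g'' ≫ c) = (yon S).map (d ≫ g)))
  have h2 : g''.left ≫ c'.left = d'.left ≫ g'.left := congrArg CommaMorphism.left ((yon S).map_injective
    (by rw [Functor.map_comp, hg'', sqZ.lift_snd] : (yon S).map (g'' ≫ c') = (yon S).map (d' ≫ g')))
  obtain ⟨z, hz, hz'⟩ := exists_pt_of_isPullback' sqW u u' e
  subst hz; subst hz'
  have h3 : IsIso ((g''.left ≫ c.left).stalkMap z) := by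
    rw [Scheme.Hom.stalkMap_congr_hom _ _ h1 z]
    have := (isIso_stalkMap_comp_iff d.left g.left z).2 h
    infer_instance
  have h4 : IsIso ((g''.left ≫ c'.left).stalkMap z) :=
    (isIso_stalkMap_comp_iff' g''.left c'.left z).2 ((isIso_stalkMap_comp_iff' g''.left c.left z).1 h3)
  rw [← isIso_stalkMap_comp_iff d'.left g'.left z]
  rw [Scheme.Hom.stalkMap_congr_hom _ _ h2.symm z]
  infer_instance

variable (hX : IsDecent X.obj) (hY : IsDecent Y.obj) (hf : W4stk3decentspacesp2.IsBirational f.hom)
include hX hY hf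

/-- Only generic points lie over generic points. -/
theorem genericPoints_of_map_mem {x : Points X.obj} (hx : Points.map f.hom x ∈ genericPoints (Points Y.obj)) :
    x ∈ genericPoints (Points X.obj) := by
  have := t0Space_points Y.property hY
  obtain ⟨U, V, a, b, h, u, ha, hb, w, hu⟩ := exists_diagram_through X.property Y.property f.hom x
  obtain ⟨η, hηu, hη⟩ := VarGal.exists_maximal_generization_top u
  have hξ : Points.ofPt a η ∈ genericPoints (Points X.obj) :=
    (mem_genericPoints_iff_codimZero X hX _).2 (hasAt_codimZero_ofPt ha hη)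
  have he : Points.map f.hom (Points.ofPt a η) = Points.map f.hom x :=
    eq_of_specializes_generic hx (hu ▸ (hηu.map (Points.continuous_ofPt a)).map (Points.continuous_map f.hom))
  obtain ⟨U₁, V₁, a₁, b₁, g, u₁, ha₁, hb₁, w₁, hu₁, hiso⟩ := hf.stalkIso _ hξ
  obtain ⟨W, p, q, sqW⟩ := exists_isPullback_yon Y.property.diag (a ≫ f.hom) b₁
  have : IsOpenImmersion p.left := etale_snd_of_isPullback sqW.flip hb₁
  have hk : Points.ofPt b₁ (g.left u₁) = Points.map f.hom x := by
    rw [← he, ← hu₁, Points.map_ofPt, w₁, ofPt_comp]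
  obtain ⟨wu, hwu, hqu⟩ := exists_pt_of_isPullback' sqW u (g.left u₁)
    (by rw [← Points.map_ofPt, hu, hk])
  obtain ⟨wη, hwη, hqη⟩ := exists_pt_of_isPullback' sqW η (g.left u₁)
    (by rw [← Points.map_ofPt, he, hk])
  have hws : wη ⤳ wu := p.left.isOpenEmbedding.isInducing.specializes_iff.1 (hwη.symm ▸ hwu.symm ▸ hηu)
  have haW : RepWith @Etale ((yon S).map p ≫ a) := MorphismProperty.comp_mem _ _ _
    ((repWith_yon_map_iff _ _).2 (inferInstance : Etale p.left)) ha
  obtain ⟨R, r₁, r₂, sqR⟩ := exists_isPullback_yon X.property.diag ((yon S).map p ≫ a) a₁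
  have : IsOpenImmersion r₁.left := etale_snd_of_isPullback sqR.flip ha₁
  have : Etale r₂.left := etale_snd_of_isPullback sqR haW
  obtain ⟨ρ, hρ₁, hρ₂⟩ := exists_pt_of_isPullback' sqR wη u₁ (by rw [ofPt_comp, hwη, hu₁])
  have hb₁m : Mono b₁ := mono_of_repWith_le isOpenImmersion_le_monomorphisms hb₁
  have hsq : r₁ ≫ q = r₂ ≫ g := (yon S).map_injective ((cancel_mono b₁).1 (by
    rw [Functor.map_comp, Functor.map_comp, Category.assoc, Category.assoc, ← sqW.w, ← w₁,
      ← Category.assoc, ← Category.assoc, ← Category.assoc, ← sqR.w]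
    simp only [Category.assoc]))
  have hfin := finite_residueFieldMap_of_square r₁.left r₂.left g.left q.left
    (congrArg CommaMorphism.left hsq) ρ (by rw [hρ₂]; exact hiso)
  rw [hρ₁] at hfin
  have := eq_of_specializes_of_finite_residue q.left hws (hqη.trans hqu.symm) hfin
  rw [← hu, ← hwu, ← this, hwη]
  exact hξ

theorem eq_of_map_eq {x ξ : Points X.obj} (hξ : ξ ∈ genericPoints (Points X.obj))
    (e : Points.map f.hom x = Points.map f.hom ξ) : x = ξ :=
  hf.bijOn.injOn (genericPoints_of_map_mem hX hY hf (e ▸ hf.bijOn.mapsTo hξ)) hξ e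

theorem codimZero_iff (x : Points X.obj) :
    HasAt (fun U u => ringKrullDim ↥(U.presheaf.stalk u) = 0) X.obj x ↔
      HasAt (fun U u => ringKrullDim ↥(U.presheaf.stalk u) = 0) Y.obj (Points.map f.hom x) := by
  rw [← mem_genericPoints_iff_codimZero X hX, ← mem_genericPoints_iff_codimZero Y hY]
  exact ⟨fun h => hf.bijOn.mapsTo h, genericPoints_of_map_mem hX hY hf⟩

end

theorem mem_genericPoints_chart_iff (X : Space S) (hX : IsDecent X.obj) {U : Over S} {a : (yon S).obj U ⟶ X.obj}
    (ha : RepWith @Etale a) (u : ↥U.left) :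
    Points.ofPt a u ∈ genericPoints (Points X.obj) ↔ Norm57.IsMax' u :=
  (mem_genericPoints_iff_codimZero X hX _).trans
    ⟨fun h => maximal_of_codimZero ha rfl h, fun h => hasAt_codimZero_ofPt ha h⟩

theorem isMax'_eq_setOf {U : Scheme.{u}} :
    {x : U | Norm57.IsMax' x} = {x : U | closure {x} ∈ irreducibleComponents ↥U} :=
  Set.ext fun _ => Norm57.isMax'_iff

/-- A birational morphism restricted to open subschemes is birational. -/
theorem birational_restrict {X Y : Space S} (f : X ⟶ Y) (hX : IsDecent X.obj) (hY : IsDecent Y.obj)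
    (hXf : (irreducibleComponents (Points X.obj)).Finite) (hYf : (irreducibleComponents (Points Y.obj)).Finite)
    (hf : W4stk3decentspacesp2.IsBirational f.hom) {U V : Over S} {a : (yon S).obj U ⟶ X.obj}
    {b : (yon S).obj V ⟶ Y.obj} {g : U ⟶ V} (ha : RepWith @IsOpenImmersion a) (hb : RepWith @IsOpenImmersion b)
    (w : a ≫ f.hom = (yon S).map g ≫ b)
    (hcov : ∀ x ∈ genericPoints (Points X.obj), Points.map f.hom x ∈ Set.range (Points.ofPt b) →
      x ∈ Set.range (Points.ofPt a)) :
    (irreducibleComponents ↥U.left).Finite ∧ (irreducibleComponents ↥V.left).Finite ∧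
      Set.BijOn (fun x => g.left.base x) {x : ↥U.left | closure {x} ∈ irreducibleComponents ↥U.left}
        {y : ↥V.left | closure {y} ∈ irreducibleComponents ↥V.left} ∧
      ∀ x : ↥U.left, closure {x} ∈ irreducibleComponents ↥U.left → IsIso (g.left.stalkMap x) := by
  have hae := repWith_etale_of_openImmersion ha
  have hbe := repWith_etale_of_openImmersion hb
  have hmap : ∀ x : ↥U.left, Points.map f.hom (Points.ofPt a x) = Points.ofPt b (g.left x) := fun x => by
    rw [Points.map_ofPt, w, ofPt_comp]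
  refine ⟨finite_irreducibleComponents_of_openEmbedding (isOpenEmbedding_ofPt ha) hXf,
    finite_irreducibleComponents_of_openEmbedding (isOpenEmbedding_ofPt hb) hYf, ⟨?_, ?_, ?_⟩, ?_⟩
  · intro x hx
    rw [← isMax'_eq_setOf] at hx ⊢
    refine (mem_genericPoints_chart_iff Y hY hbe _).1 ?_
    rw [← hmap]
    exact hf.bijOn.mapsTo ((mem_genericPoints_chart_iff X hX hae x).2 hx)
  · intro x hx x' hx' e
    rw [← isMax'_eq_setOf] at hx hx'
    refine (isOpenEmbedding_ofPt ha).injective (hf.bijOn.injOn ((mem_genericPoints_chart_iff X hX hae x).2 hx)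
      ((mem_genericPoints_chart_iff X hX hae x').2 hx') ?_)
    rw [hmap, hmap]
    exact congrArg _ e
  · intro y hy
    rw [← isMax'_eq_setOf] at hy
    obtain ⟨ξ, hξ, hξy⟩ := hf.bijOn.surjOn ((mem_genericPoints_chart_iff Y hY hbe y).2 hy)
    obtain ⟨x, rfl⟩ := hcov ξ hξ ⟨y, hξy.symm⟩
    refine ⟨x, ?_, (isOpenEmbedding_ofPt hb).injective ((hmap x).symm.trans hξy)⟩
    rw [← isMax'_eq_setOf]
    exact (mem_genericPoints_chart_iff X hX hae x).1 hξ
  · intro x hx
    obtain ⟨U', V', a', b', g', u', ha', hb', w', hu', hiso⟩ :=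
      hf.stalkIso _ ((mem_genericPoints_chart_iff X hX hae x).2 (Norm57.isMax'_iff.2 hx))
    exact isIso_stalkMap_change ha' hb' ha hb w' w hu' hiso

/-- An open subscheme over a given open subscheme of the target containing the relevant generic points. -/
theorem exists_generic_chart {X Y : Space S} (f : X ⟶ Y) (hX : IsDecent X.obj)
    (hXf : (irreducibleComponents (Points X.obj)).Finite) {V : Over S} {b : (yon S).obj V ⟶ Y.obj}
    (hb : RepWith @IsOpenImmersion b) :
    ∃ (U : Over S) (a : (yon S).obj U ⟶ X.obj) (g : U ⟶ V), RepWith @IsOpenImmersion a ∧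
      a ≫ f.hom = (yon S).map g ≫ b ∧
      ∀ x ∈ genericPoints (Points X.obj), Points.map f.hom x ∈ Set.range (Points.ofPt b) →
        x ∈ Set.range (Points.ofPt a) := by
  obtain ⟨X', j, hj, hrep, hd⟩ := exists_dense_open_subscheme_of_isDecent X hX
  obtain ⟨M, j', hj', hr⟩ := exists_yon_of_representable j hj hrep
  obtain ⟨U, p, q, sq⟩ := exists_isPullback_yon Y.property.diag (j' ≫ f.hom) b
  have : IsOpenImmersion p.left := etale_snd_of_isPullback sq.flip hb
  refine ⟨U, (yon S).map p ≫ j', q,
    MorphismProperty.comp_mem _ _ _ ((repWith_yon_map_iff _ _).2 (inferInstance : IsOpenImmersion p.left)) hj',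
    by rw [Category.assoc, sq.w], fun x hx ⟨v, hv⟩ => ?_⟩
  obtain ⟨m, rfl⟩ : x ∈ Set.range (Points.ofPt j') :=
    genericPoints_subset_of_dense hXf (isOpenEmbedding_ofPt hj').isOpen_range (hr ▸ hd) hx
  obtain ⟨z, hz, -⟩ := exists_pt_of_isPullback' sq m v (by rw [← Points.map_ofPt, hv])
  exact ⟨z, by rw [ofPt_comp, hz]⟩

end Groth.Agent.SpProper61
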