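import Groth.Agent.SpProper61.EtaleCover

/-!
Morphisms out of a space glued from an étale family.
-/

set_option autoImplicit false
set_option linter.style.haveILetI false
set_option backward.isDefEq.respectTransparency false

universe u

open CategoryTheory CategoryTheory.Limits AlgebraicGeometry
open AlgSp Groth.Agent.SpFP87

noncomputable section

namespace Groth.Agent.SpProper61

variable {S : Scheme.{u}}

/-- Morphisms on an étale family agreeing on the overlaps descend. -/
theorem exists_desc_of_charts {U : Sp S} (hU : IsAlgSpace U) {K : Type u} (V : K → Over S)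
    (g : ∀ k, (yon S).obj (V k) ⟶ U) (hg : ∀ k, RepWith @Etale (g k))
    (hs : ∀ x : Points U, ∃ (k : K) (t : ↥(V k).left), Points.ofPt (g k) t = x) {Z : Sp S}
    (m : ∀ k, (yon S).obj (V k) ⟶ Z)
    (h : ∀ k k', pullback.fst (g k) (g k') ≫ m k = pullback.snd (g k) (g k') ≫ m k') :
    ∃ φ : U ⟶ Z, ∀ k, g k ≫ φ = m k := by
  obtain ⟨L, hL, hLe, hLs⟩ := exists_sigma_chart hU V g hg hs
  obtain ⟨M, hM⟩ := SpPts86.sigma_glue V m
  obtain ⟨φ, hφ⟩ := SpPts86.exists_desc (locLift_of_atlas hLe hLs) M fun W x x' e => by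
    let O₂ : K × K → W.left.Opens := fun n =>
      x.left ⁻¹ᵁ (SpPts86.sigmaIn V n.1).left.opensRange (H := sigmaIn_openImmersion V n.1) ⊓
      x'.left ⁻¹ᵁ (SpPts86.sigmaIn V n.2).left.opensRange (H := sigmaIn_openImmersion V n.2)
    refine SpPts86.open_cover_hom_ext (fun n => SpPts86.openOver W (O₂ n))
      (fun n => SpPts86.openIncl W (O₂ n)) (fun n => inferInstanceAs (IsOpenImmersion (O₂ n).ι))
      (fun w => ?_) fun n => ?_
    · obtain ⟨j, r, hr⟩ := exists_sigmaIn V (x.left w)
      obtain ⟨j', r', hr'⟩ := exists_sigmaIn V (x'.left w)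
      exact ⟨(j, j'), ⟨w, ⟨r, hr⟩, ⟨r', hr'⟩⟩, rfl⟩
    · have hl : ∀ (y : W ⟶ SpPts86.sigmaOver V) (k : K),
          (∀ s, y.left ((O₂ n).ι s) ∈ Set.range (SpPts86.sigmaIn V k).left) →
          ∃ l : SpPts86.openOver W (O₂ n) ⟶ V k,
            l ≫ SpPts86.sigmaIn V k = SpPts86.openIncl W (O₂ n) ≫ y := by
        intro y k hk
        haveI := sigmaIn_openImmersion V k
        have hr : Set.range ((O₂ n).ι ≫ y.left) ⊆ Set.range (SpPts86.sigmaIn V k).left := by
          rintro _ ⟨s, rfl⟩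
          exact hk s
        exact ⟨Over.homMk (IsOpenImmersion.lift _ _ hr) (by
          show _ ≫ (V k).hom = (O₂ n).ι ≫ W.hom
          rw [← Over.w (SpPts86.sigmaIn V k), ← Category.assoc, IsOpenImmersion.lift_fac, Category.assoc, Over.w]),
          Over.OverMorphism.ext (IsOpenImmersion.lift_fac _ _ hr)⟩
      obtain ⟨l, hl₁⟩ := hl x n.1 fun s => s.2.1
      obtain ⟨l', hl₂⟩ := hl x' n.2 fun s => s.2.2
      have h1 : (yon S).map l ≫ g n.1 = (yon S).map l' ≫ g n.2 := by
        rw [← hL n.1, ← hL n.2, ← Functor.map_comp_assoc, ← Functor.map_comp_assoc, hl₁, hl₂,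
          Functor.map_comp_assoc, Functor.map_comp_assoc, e]
      have h2 := congrArg (pullback.lift _ _ h1 ≫ ·) (h n.1 n.2)
      simp only [pullback.lift_fst_assoc, pullback.lift_snd_assoc] at h2
      show (yon S).map (SpPts86.openIncl W (O₂ n)) ≫ _ = (yon S).map (SpPts86.openIncl W (O₂ n)) ≫ _
      rw [← Functor.map_comp_assoc, ← Functor.map_comp_assoc, ← hl₁, ← hl₂,
        Functor.map_comp_assoc, Functor.map_comp_assoc, hM, hM, h2]
  exact ⟨φ, fun k => by rw [← hL k, Category.assoc, hφ, hM]⟩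

end Groth.Agent.SpProper61
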