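import Groth.Agent.SpProper61.EtaleCover
import Groth.Agent.SpPts86.Coprod
import Groth.Agent.SpPts86.OpenCoverSp

/-!
Maps out of coproducts of spaces, piece by piece.
-/

set_option autoImplicit false
set_option linter.style.haveILetI false
set_option backward.isDefEq.respectTransparency false

universe u

open CategoryTheory CategoryTheory.Limits AlgebraicGeometry
open AlgSp Groth.Agent.SpFP87

noncomputable section

namespace Groth.Agent.SpProper61

variable {S : Scheme.{u}} {ι : Type u} {F : ι → Sp S} {c : Cofan F}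

/-- Near each point a map to a coproduct lands in one summand. -/
theorem exists_piece_near (hc : IsColimit c) {T : Over S} (g : (yon S).obj T ⟶ c.pt) (t : ↥T.left) :
    ∃ (O : T.left.Opens) (i : ι) (a : (yon S).obj (SpPts86.openOver T O) ⟶ F i),
      t ∈ O ∧ a ≫ c.inj i = (yon S).map (SpPts86.openIncl T O) ≫ g := by
  obtain ⟨O, a, hcov, -, hsq⟩ := SpPts86.exists_decomp hc g
  obtain ⟨i, hi⟩ := hcov t
  exact ⟨O i, i, a i, hi, (hsq i).w⟩

theorem isAlgSpace_cofan (hc : IsColimit c) (hF : ∀ i, IsAlgSpace (F i)) : IsAlgSpace c.pt :=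
  SpPts86.isAlgSpace_of_open_cover F c.inj hF (SpPts86.repWith_openImmersion_cofan_inj hc)
    (SpPts86.exists_mem_range_cofan_inj hc)

/-- Points of different summands are different. -/
theorem map_inj_ne (hc : IsColimit c) {i j : ι} (hij : i ≠ j) (x : Points (F i)) (y : Points (F j)) :
    Points.map (c.inj i) x ≠ Points.map (c.inj j) y := fun e => by
  obtain ⟨p, -, -⟩ := SpPts86.exists_of_isPullback (IsPullback.of_hasPullback (c.inj i) (c.inj j)) x y e
  obtain ⟨Z, g, z, -, -⟩ := SpPts86.exists_ofPt_eq p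
  exact (SpPts86.isEmpty_of_inj_eq hc hij (g ≫ pullback.fst _ _) (g ≫ pullback.snd _ _)
    (by rw [Category.assoc, Category.assoc, pullback.condition])).false z

/-- Being etale is checked on the summands. -/
theorem isEtaleMor_cofan_desc (hc : IsColimit c) (hF : ∀ i, IsAlgSpace (F i)) {Y : Sp S} (hY : IsAlgSpace Y)
    {g : c.pt ⟶ Y} (hg : ∀ i, IsEtaleMor (c.inj i ≫ g)) : IsEtaleMor g := by
  have hP : IsAlgSpace c.pt := isAlgSpace_cofan hc hF
  refine SpPts86.isEtaleMor_of_locP_etale hY fun A A' a b h ha hb w => ?_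
  obtain ⟨O, e, hcov, -, hsq⟩ := SpPts86.exists_decomp hc a
  refine (IsZariskiLocalAtSource.iff_of_iSup_eq_top (P := @Etale) (fun t : ↥A.left => O (hcov t).choose)
    (top_le_iff.1 fun t _ => TopologicalSpace.Opens.mem_iSup.2 ⟨t, (hcov t).choose_spec⟩)).2 fun t => ?_
  let i := (hcov t).choose
  have hinj : IsEtaleMor (c.inj i) := SpPts86.isEtaleMor_of_repWith_etale
    (SpPts86.repWith_mono (fun _ _ g (_ : IsOpenImmersion g) => (inferInstance : Etale g))
      (SpPts86.repWith_openImmersion_cofan_inj hc i))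
  haveI : Etale (SpPts86.openIncl A (O i)).left := inferInstanceAs (Etale (O i).ι)
  have he : RepWith @Etale (e i) := SpPts86.repWith_etale_of_isEtaleMor (hF i)
    ((hF i).representable_from_yon _) (SpPts86.isEtaleMor_of_comp (hF i) hinj (by
      rw [(hsq i).w]
      exact SpPts86.isEtaleMor_of_repWith_etale (SpPts86.repWith_etale_comp _ ha)))
  have := SpPts86.etale_of_comm (a := e i ≫ c.inj i ≫ g) (h := SpPts86.openIncl A (O i) ≫ h)
    (hg i _ he) hb (by rw [← Category.assoc (e i), (hsq i).w, Category.assoc, w, Functor.map_comp, Category.assoc])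
  exact this

/-- Maps to a coproduct-sourced map agree when they agree near each point. -/
theorem hom_ext_of_near {Z : Sp S} {T : Over S} {a b : (yon S).obj T ⟶ Z}
    (h : ∀ t : ↥T.left, ∃ O : T.left.Opens, t ∈ O ∧
      (yon S).map (SpPts86.openIncl T O) ≫ a = (yon S).map (SpPts86.openIncl T O) ≫ b) : a = b := by
  choose O hO he using h
  exact SpPts86.open_cover_hom_ext (fun t => SpPts86.openOver T (O t)) (fun t => SpPts86.openIncl T (O t))
    (fun t => inferInstanceAs (IsOpenImmersion (O t).ι)) (fun t => ⟨t, ⟨t, hO t⟩, rfl⟩) he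

/-- Factorisations through a monomorphism glue. -/
theorem exists_factor_of_near {F G : Sp S} {j : F ⟶ G} [Mono j] {T : Over S} (a : (yon S).obj T ⟶ G)
    (h : ∀ t : ↥T.left, ∃ (O : T.left.Opens) (l : (yon S).obj (SpPts86.openOver T O) ⟶ F), t ∈ O ∧
      l ≫ j = (yon S).map (SpPts86.openIncl T O) ≫ a) : ∃ l : (yon S).obj T ⟶ F, l ≫ j = a := by
  choose O l hO hl using h
  obtain ⟨L, hL⟩ := SpPts86.open_cover_glue (fun t => SpPts86.openOver T (O t)) (fun t => SpPts86.openIncl T (O t))
    (fun t => inferInstanceAs (IsOpenImmersion (O t).ι)) (fun t => ⟨t, ⟨t, hO t⟩, rfl⟩) l fun i k Z p q e => by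
      rw [← cancel_mono j, Category.assoc, Category.assoc, hl, hl, ← Functor.map_comp_assoc, ← Functor.map_comp_assoc, e]
  exact ⟨L, hom_ext_of_near fun t => ⟨O t, hO t, by rw [reassoc_of% hL t, hl]⟩⟩

end Groth.Agent.SpProper61
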