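import Groth.Agent.SpProper61.CofanPieces
import Groth.Agent.SpPts86.QuotSp
import Groth.Agent.SpPts86.UnramDiag
import Groth.Agent.SpPts86.LqfSep

/-!
Quotients by the relation generated by an étale separated map out of an open subspace.
-/

set_option autoImplicit false
set_option linter.style.haveILetI false
set_option backward.isDefEq.respectTransparency false

universe u

open CategoryTheory CategoryTheory.Limits AlgebraicGeometry
open AlgSp Groth.Agent.SpFP87

noncomputable section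

namespace Groth.Agent.SpProper61.ElemQuot

variable {S : Scheme.{u}} {M M' U : Sp S}

/-- Near each point two maps are equal or lift to the open subspace with equal images. -/
def Rl (j : M' ⟶ M) (φ : M' ⟶ U) {T : Over S} (a b : (yon S).obj T ⟶ M) : Prop :=
  ∀ t : ↥T.left, ∃ O : T.left.Opens, t ∈ O ∧
    ((yon S).map (SpPts86.openIncl T O) ≫ a = (yon S).map (SpPts86.openIncl T O) ≫ b ∨
      ∃ a' b' : (yon S).obj (SpPts86.openOver T O) ⟶ M', a' ≫ j = (yon S).map (SpPts86.openIncl T O) ≫ a ∧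
        b' ≫ j = (yon S).map (SpPts86.openIncl T O) ≫ b ∧ a' ≫ φ = b' ≫ φ)

variable {j : M' ⟶ M} {φ : M' ⟶ U}

theorem Rl.refl {T : Over S} (a : (yon S).obj T ⟶ M) : Rl j φ a a :=
  fun _ => ⟨⊤, trivial, Or.inl rfl⟩

theorem Rl.symm {T : Over S} {a b : (yon S).obj T ⟶ M} (h : Rl j φ a b) : Rl j φ b a := fun t => by
  obtain ⟨O, hO, h | ⟨a', b', h1, h2, h3⟩⟩ := h t
  · exact ⟨O, hO, Or.inl h.symm⟩
  · exact ⟨O, hO, Or.inr ⟨b', a', h2, h1, h3.symm⟩⟩

theorem exists_restrict (T : Over S) {O O' : T.left.Opens} (h : O ≤ O') :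
    ∃ r : SpPts86.openOver T O ⟶ SpPts86.openOver T O', r ≫ SpPts86.openIncl T O' = SpPts86.openIncl T O :=
  ⟨Over.homMk (T.left.homOfLE h) (by
    show _ ≫ O'.ι ≫ T.hom = O.ι ≫ T.hom
    rw [← Category.assoc, Scheme.homOfLE_ι]), Over.OverMorphism.ext (Scheme.homOfLE_ι _ h)⟩

theorem Rl.trans [Mono j] {T : Over S} {a b e : (yon S).obj T ⟶ M} (h : Rl j φ a b) (h' : Rl j φ b e) :
    Rl j φ a e := fun t => by
  obtain ⟨O₁, hO₁, h₁⟩ := h t
  obtain ⟨O₂, hO₂, h₂⟩ := h' t
  refine ⟨O₁ ⊓ O₂, ⟨hO₁, hO₂⟩, ?_⟩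
  obtain ⟨r₁, hr₁⟩ := exists_restrict T (inf_le_left : O₁ ⊓ O₂ ≤ O₁)
  obtain ⟨r₂, hr₂⟩ := exists_restrict T (inf_le_right : O₁ ⊓ O₂ ≤ O₂)
  have f₁ : ∀ {Z : Sp S} (x : (yon S).obj T ⟶ Z), (yon S).map r₁ ≫ (yon S).map (SpPts86.openIncl T O₁) ≫ x =
      (yon S).map (SpPts86.openIncl T (O₁ ⊓ O₂)) ≫ x := fun x => by rw [← Functor.map_comp_assoc, hr₁]
  have f₂ : ∀ {Z : Sp S} (x : (yon S).obj T ⟶ Z), (yon S).map r₂ ≫ (yon S).map (SpPts86.openIncl T O₂) ≫ x =
      (yon S).map (SpPts86.openIncl T (O₁ ⊓ O₂)) ≫ x := fun x => by rw [← Functor.map_comp_assoc, hr₂]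
  rcases h₁ with h₁ | ⟨a', b', ha, hb, hab⟩ <;> rcases h₂ with h₂ | ⟨b'', e', hb', he, hbe⟩
  · exact Or.inl (by rw [← f₁ a, h₁, f₁ b, ← f₂ b, h₂, f₂ e])
  · refine Or.inr ⟨(yon S).map r₂ ≫ b'', (yon S).map r₂ ≫ e', ?_, ?_, by simp only [Category.assoc, hbe]⟩
    · rw [Category.assoc, hb', f₂, ← f₁ b, ← h₁, f₁]
    · rw [Category.assoc, he, f₂]
  · refine Or.inr ⟨(yon S).map r₁ ≫ a', (yon S).map r₁ ≫ b', ?_, ?_, by simp only [Category.assoc, hab]⟩
    · rw [Category.assoc, ha, f₁]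
    · rw [Category.assoc, hb, f₁, ← f₂ b, h₂, f₂]
  · refine Or.inr ⟨(yon S).map r₁ ≫ a', (yon S).map r₂ ≫ e', by rw [Category.assoc, ha, f₁],
      by rw [Category.assoc, he, f₂], ?_⟩
    have : (yon S).map r₁ ≫ b' = (yon S).map r₂ ≫ b'' := by
      rw [← cancel_mono j, Category.assoc, Category.assoc, hb, hb', f₁, f₂]
    rw [Category.assoc, hab, ← Category.assoc, this, Category.assoc, hbe, Category.assoc]

/-- The quotient by the generated relation. -/
theorem exists_quot (hM : IsAlgSpace M) (hM' : IsAlgSpace M') (hU : IsAlgSpace U)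
    (hj : RepWith @IsOpenImmersion j) (hφ : IsEtaleMor φ)
    (hcl : IsClosed (Set.range (Points.map (pullback.diagonal φ)))) :
    ∃ (W : Sp S) (π : M ⟶ W), IsAlgSpace W ∧ IsEtaleMor π ∧ IsSurjectiveMor π ∧
      ∀ (T : Over S) (a b : (yon S).obj T ⟶ M), a ≫ π = b ≫ π ↔ Rl j φ a b := by
  haveI : Mono j := SpPts86.mono_of_repWith_le SpPts86.isOpenImmersion_le_monomorphisms hj
  let Q := pullback φ φ
  have hQ : IsAlgSpace Q := isAlgSpace_pullback _ _ hM' hM' hU
  let δ : M' ⟶ Q := pullback.diagonal φ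
  have hδ : RepWith @IsOpenImmersion δ :=
    SpPts86.repWith_openImm_diagonal_of_unramified hM' hU (LocP.of_le (P := @Etale) (fun A B g hg => by
      have : Etale g := hg
      exact ⟨inferInstance, inferInstance⟩) (SpPts86.locP_etale_of_isEtaleMor hφ))
  let Cc : Set (Points Q) := (Set.range (Points.map δ))ᶜ
  have hCo : IsOpen Cc := hcl.isOpen_compl
  let K := SpPts86.restrictSheaf Q Cc
  have hK : IsAlgSpace K := SpPts86.isAlgSpace_restrictSheaf hQ hCo
  let k : K ⟶ Q := SpPts86.restrictι Q Cc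
  have hk : RepWith @IsOpenImmersion k := SpPts86.repWith_restrictι hCo
  haveI : Mono k := SpPts86.mono_of_repWith_le SpPts86.isOpenImmersion_le_monomorphisms hk
  let F : ULift.{u} Bool → Sp S := fun i => cond i.down M K
  have hF : ∀ i, IsAlgSpace (F i) := fun i => by
    obtain ⟨_ | _⟩ := i
    · exact hK
    · exact hM
  obtain ⟨c, hc⟩ : ∃ c : Cofan F, Nonempty (IsColimit c) := ⟨Cofan.mk _ (Sigma.ι F), ⟨coproductIsCoproduct F⟩⟩
  obtain ⟨hc⟩ := hc
  let tf : ∀ i, F i ⟶ M := fun i =>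
    match i with
    | ⟨true⟩ => 𝟙 M
    | ⟨false⟩ => k ≫ pullback.fst φ φ ≫ j
  let sf : ∀ i, F i ⟶ M := fun i =>
    match i with
    | ⟨true⟩ => 𝟙 M
    | ⟨false⟩ => k ≫ pullback.snd φ φ ≫ j
  let t : c.pt ⟶ M := Cofan.IsColimit.desc hc tf
  let s : c.pt ⟶ M := Cofan.IsColimit.desc hc sf
  have ht : ∀ i, c.inj i ≫ t = tf i := Cofan.IsColimit.fac hc tf
  have hs : ∀ i, c.inj i ≫ s = sf i := Cofan.IsColimit.fac hc sf
  have hR : IsAlgSpace c.pt := isAlgSpace_cofan hc hF
  have hje : IsEtaleMor j := SpPts86.isEtaleMor_of_repWith_etale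
    (SpPts86.repWith_mono (fun _ _ g (_ : IsOpenImmersion g) => (inferInstance : Etale g)) hj)
  have hke : IsEtaleMor k := SpPts86.isEtaleMor_of_repWith_etale
    (SpPts86.repWith_mono (fun _ _ g (_ : IsOpenImmersion g) => (inferInstance : Etale g)) hk)
  have hq₁ : IsEtaleMor (pullback.fst φ φ) :=
    SpPts86.isEtaleMor_baseChange (IsPullback.of_hasPullback φ φ).flip hM' hU hM' hφ
  have hq₂ : IsEtaleMor (pullback.snd φ φ) :=
    SpPts86.isEtaleMor_baseChange (IsPullback.of_hasPullback φ φ) hM' hU hM' hφ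
  have hid : IsEtaleMor (𝟙 M) := fun V ψ hψ => by rwa [Category.comp_id]
  have hte : IsEtaleMor t := isEtaleMor_cofan_desc hc hF hM fun i => by
    rw [ht]
    obtain ⟨_ | _⟩ := i
    · exact SpPts86.isEtaleMor_comp hke (SpPts86.isEtaleMor_comp hq₁ hje)
    · exact hid
  have hse : IsEtaleMor s := isEtaleMor_cofan_desc hc hF hM fun i => by
    rw [hs]
    obtain ⟨_ | _⟩ := i
    · exact SpPts86.isEtaleMor_comp hke (SpPts86.isEtaleMor_comp hq₂ hje)
    · exact hid
  have hne : ∀ {Z : Over S} (x : (yon S).obj Z ⟶ M) (κ : (yon S).obj Z ⟶ K),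
      x = κ ≫ k ≫ pullback.fst φ φ ≫ j → x = κ ≫ k ≫ pullback.snd φ φ ≫ j → IsEmpty ↥Z.left := by
    intro Z x κ e₁ e₂
    refine ⟨fun z => ?_⟩
    have e : κ ≫ k ≫ pullback.fst φ φ = κ ≫ k ≫ pullback.snd φ φ := by
      rw [← cancel_mono j]
      simpa only [Category.assoc] using e₁.symm.trans e₂
    have hd : (κ ≫ k ≫ pullback.fst φ φ) ≫ δ = κ ≫ k := pullback.hom_ext (by simp [δ]) (by simp [δ, e])
    have h1 : Points.map k (Points.ofPt κ z) ∈ Cc :=
      (SpPts86.range_map_restrictι hCo).le ⟨_, rfl⟩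
    refine h1 ⟨Points.ofPt (κ ≫ k ≫ pullback.fst φ φ) z, ?_⟩
    rw [Points.map_ofPt, hd, ← Points.map_ofPt]
  have hto : ∀ (T : Over S) (r : (yon S).obj T ⟶ c.pt), Rl j φ (r ≫ t) (r ≫ s) := fun T r x => by
    obtain ⟨O, i, e, hO, he⟩ := exists_piece_near hc r x
    refine ⟨O, hO, ?_⟩
    have et : (yon S).map (SpPts86.openIncl T O) ≫ r ≫ t = e ≫ tf i := by rw [← reassoc_of% he, ht]
    have es : (yon S).map (SpPts86.openIncl T O) ≫ r ≫ s = e ≫ sf i := by rw [← reassoc_of% he, hs]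
    rw [et, es]
    obtain ⟨_ | _⟩ := i
    · exact Or.inr ⟨e ≫ k ≫ pullback.fst φ φ, e ≫ k ≫ pullback.snd φ φ, by simp [tf], by simp [sf],
        by simp [pullback.condition]⟩
    · exact Or.inl rfl
  have hmono : ∀ (T : Over S) (x y : (yon S).obj T ⟶ c.pt), x ≫ t = y ≫ t → x ≫ s = y ≫ s → x = y :=
    fun T x y e₁ e₂ => hom_ext_of_near fun z => by
      obtain ⟨O₁, i₁, a₁, hO₁, ha₁⟩ := exists_piece_near hc x z
      obtain ⟨O₂, i₂, a₂, hO₂, ha₂⟩ := exists_piece_near hc y z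
      obtain ⟨r₁, hr₁⟩ := exists_restrict T (inf_le_left : O₁ ⊓ O₂ ≤ O₁)
      obtain ⟨r₂, hr₂⟩ := exists_restrict T (inf_le_right : O₁ ⊓ O₂ ≤ O₂)
      refine ⟨O₁ ⊓ O₂, ⟨hO₁, hO₂⟩, ?_⟩
      have hx : ((yon S).map r₁ ≫ a₁) ≫ c.inj i₁ = (yon S).map (SpPts86.openIncl T (O₁ ⊓ O₂)) ≫ x := by
        rw [Category.assoc, ha₁, ← Functor.map_comp_assoc, hr₁]
      have hy : ((yon S).map r₂ ≫ a₂) ≫ c.inj i₂ = (yon S).map (SpPts86.openIncl T (O₁ ⊓ O₂)) ≫ y := by
        rw [Category.assoc, ha₂, ← Functor.map_comp_assoc, hr₂]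
      generalize (yon S).map r₁ ≫ a₁ = u₁ at hx
      generalize (yon S).map r₂ ≫ a₂ = u₂ at hy
      have et : u₁ ≫ tf i₁ = u₂ ≫ tf i₂ := by
        rw [← ht, ← ht, ← Category.assoc, hx, ← Category.assoc, hy, Category.assoc, e₁, Category.assoc]
      have es : u₁ ≫ sf i₁ = u₂ ≫ sf i₂ := by
        rw [← hs, ← hs, ← Category.assoc, hx, ← Category.assoc, hy, Category.assoc, e₂, Category.assoc]
      rw [← hx, ← hy]
      obtain ⟨_ | _⟩ := i₁ <;> obtain ⟨_ | _⟩ := i₂
      · have : u₁ = u₂ := by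
          rw [← cancel_mono k]
          refine pullback.hom_ext ?_ ?_ <;> rw [← cancel_mono j]
          · simpa [tf] using et
          · simpa [sf] using es
        rw [this]
      · haveI := hne u₂ u₁ ((Category.comp_id u₂).symm.trans et.symm) ((Category.comp_id u₂).symm.trans es.symm)
        exact SpPts86.hom_ext_of_isEmpty
      · haveI := hne u₁ u₂ ((Category.comp_id u₁).symm.trans et) ((Category.comp_id u₁).symm.trans es)
        exact SpPts86.hom_ext_of_isEmpty
      · have : u₁ = u₂ := (Category.comp_id u₁).symm.trans (et.trans (Category.comp_id u₂))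
        rw [this]
  haveI hml : Mono (prod.lift t s) := SpPts86.mono_of_forall_yon fun T x y e => hmono T x y
    (by simpa only [Category.assoc, prod.lift_fst] using congrArg (· ≫ prod.fst) e)
    (by simpa only [Category.assoc, prod.lift_snd] using congrArg (· ≫ prod.snd) e)
  have hfrom : ∀ (T : Over S) (a b : (yon S).obj T ⟶ M), Rl j φ a b →
      ∃ r : (yon S).obj T ⟶ c.pt, r ≫ t = a ∧ r ≫ s = b := by
    intro T a b hab
    obtain ⟨r, hr⟩ := exists_factor_of_near (j := prod.lift t s) (prod.lift a b) fun x => by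
      obtain ⟨O, hO, h⟩ := hab x
      rcases h with h | ⟨a', b', ha, hb, he⟩
      · refine ⟨O, ((yon S).map (SpPts86.openIncl T O) ≫ a) ≫ c.inj ⟨true⟩, hO, Limits.prod.hom_ext ?_ ?_⟩
        · simp [ht, tf]
        · simp [hs, sf, h]
      · let w : T.left.Opens := O
        let q : (yon S).obj (SpPts86.openOver T O) ⟶ Q := pullback.lift a' b' he
        let x₀ : ↥(SpPts86.openOver T O).left := ⟨x, hO⟩
        by_cases hx : Points.ofPt q x₀ ∈ Set.range (Points.map δ)
        · obtain ⟨E, e, g, sq⟩ : ∃ (E : Over S) (e : E ⟶ SpPts86.openOver T O) (g : (yon S).obj E ⟶ M'),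
              IsPullback g ((yon S).map e) δ q := ⟨_, hδ.rep.snd q, hδ.rep.fst q, hδ.rep.isPullback q⟩
          haveI : IsOpenImmersion e.left := hδ.property q _ _ sq
          let O' : T.left.Opens := (e.left ≫ O.ι).opensRange
          have hO' : x ∈ O' := by
            have hp : x₀ ∈ Points.ofPt q ⁻¹' Set.range (Points.map δ) := hx
            rw [SpPts86.preimage_ofPt_range_map sq] at hp
            obtain ⟨v, hv⟩ := hp
            exact ⟨v, (Scheme.Hom.comp_apply _ _ _).trans (congrArg O.ι hv)⟩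
          have hr : Set.range O'.ι ⊆ Set.range (e.left ≫ O.ι) := by
            rintro _ ⟨y, rfl⟩
            exact y.2
          let l : SpPts86.openOver T O' ⟶ E := Over.homMk (IsOpenImmersion.lift (e.left ≫ O.ι) O'.ι hr) (by
            show _ ≫ E.hom = O'.ι ≫ T.hom
            rw [← Over.w e]
            show _ ≫ e.left ≫ O.ι ≫ T.hom = _
            rw [← Category.assoc e.left, ← Category.assoc, IsOpenImmersion.lift_fac])
          have hl : l ≫ e ≫ SpPts86.openIncl T O = SpPts86.openIncl T O' :=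
            Over.OverMorphism.ext (IsOpenImmersion.lift_fac _ _ hr)
          refine ⟨O', ((yon S).map (SpPts86.openIncl T O') ≫ a) ≫ c.inj ⟨true⟩, hO', Limits.prod.hom_ext ?_ ?_⟩
          · simp [ht, tf]
          · simp only [Category.assoc, prod.lift_snd, hs]
            show _ ≫ a ≫ 𝟙 M = _
            rw [Category.comp_id, ← hl, Functor.map_comp, Functor.map_comp, Category.assoc, Category.assoc,
              Category.assoc, Category.assoc, ← ha, ← hb]
            have := sq.w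
            have e1 : g = (yon S).map e ≫ a' := by simpa [q, δ] using congrArg (· ≫ pullback.fst φ φ) this
            have e2 : g = (yon S).map e ≫ b' := by simpa [q, δ] using congrArg (· ≫ pullback.snd φ φ) this
            rw [← reassoc_of% e1, ← reassoc_of% e2]
        · have hopen : IsOpen (Points.ofPt q ⁻¹' Cc) := hCo.preimage (Points.continuous_ofPt q)
          let O'' : (SpPts86.openOver T O).left.Opens := ⟨_, hopen⟩
          let O' : T.left.Opens := O.ι ''ᵁ O''
          have hO' : x ∈ O' := ⟨x₀, hx, rfl⟩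
          obtain ⟨r₁, hr₁⟩ := exists_restrict T (show O' ≤ O from O.ι_image_le O'')
          obtain ⟨κ, hκ⟩ := SpPts86.exists_factor_of_range_subset hk ((yon S).map r₁ ≫ q) (by
            rw [SpPts86.range_map_restrictι hCo, SpPts86.range_map_yon]
            rintro _ ⟨y, rfl⟩
            rw [SpPts86.ofPt_comp]
            have h1 : O.ι (r₁.left y) = O'.ι y := by
              exact (Scheme.Hom.comp_apply r₁.left O.ι y).symm.trans
                (congrArg (fun g : SpPts86.openOver T O' ⟶ T => g.left y) hr₁)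
            obtain ⟨z, hz, hzy⟩ : (O'.ι y : ↥T.left) ∈ O.ι ''ᵁ O'' := y.2
            have : r₁.left y = z := O.ι.isOpenEmbedding.injective (h1.trans hzy.symm)
            exact this ▸ hz)
          refine ⟨O', κ ≫ c.inj ⟨false⟩, hO', Limits.prod.hom_ext ?_ ?_⟩
          · simp only [Category.assoc, prod.lift_fst, ht]
            show κ ≫ k ≫ pullback.fst φ φ ≫ j = _
            rw [reassoc_of% hκ, pullback.lift_fst_assoc, ha, ← Functor.map_comp_assoc, hr₁]
          · simp only [Category.assoc, prod.lift_snd, hs]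
            show κ ≫ k ≫ pullback.snd φ φ ≫ j = _
            rw [reassoc_of% hκ, pullback.lift_snd_assoc, hb, ← Functor.map_comp_assoc, hr₁]
    exact ⟨r, by simpa only [Category.assoc, prod.lift_fst] using congrArg (· ≫ prod.fst) hr,
      by simpa only [Category.assoc, prod.lift_snd] using congrArg (· ≫ prod.snd) hr⟩
  have hrel : ∀ (T : Over S) (a b : (yon S).obj T ⟶ M),
      (∃ r : (yon S).obj T ⟶ c.pt, r ≫ t = a ∧ r ≫ s = b) ↔ Rl j φ a b := fun T a b =>
    ⟨by rintro ⟨r, rfl, rfl⟩; exact hto T r, hfrom T a b⟩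
  have hpre : IsPreEqvRelSp s t := fun T =>
    { refl := fun a => (hrel T a a).2 (Rl.refl a)
      symm := fun {a b} h => (hrel T b a).2 ((hrel T a b).1 h).symm
      trans := fun {a b e} h h' => (hrel T a e).2 (((hrel T a b).1 h).trans ((hrel T b e).1 h')) }
  have heqv : IsEqvRelSp s t := (isEqvRelSp_iff (s := s) (t := t)).2
    ⟨fun T x y e₁ e₂ => hmono T x y e₁ e₂, hpre⟩
  let π := quotSpπ s t
  have hsq : IsPullback t s π π := SpPts86.quotSp_kernelPair heqv
  have hkp : ∀ (T : Over S) (a b : (yon S).obj T ⟶ M), a ≫ π = b ≫ π ↔ Rl j φ a b := fun T a b =>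
    ⟨fun e => (hrel T a b).1 ⟨hsq.lift a b e, hsq.lift_fst _ _ _, hsq.lift_snd _ _ _⟩, fun h => by
      obtain ⟨r, rfl, rfl⟩ := (hrel T a b).2 h
      rw [Category.assoc, hsq.w, Category.assoc]⟩
  obtain ⟨A, w, hw, hws⟩ := hM.atlas
  have hA : IsAlgSpace ((yon S).obj A) := IsAlgSpace.yon_obj A
  have hwe := SpPts86.isEtaleMor_of_repWith_etale hw
  let E₁ := pullback t w
  have hE₁ : IsAlgSpace E₁ := isAlgSpace_pullback _ _ hR hA hM
  have hE₁e : IsEtaleMor (pullback.snd t w) :=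
    SpPts86.isEtaleMor_baseChange (IsPullback.of_hasPullback t w) hR hM hA hte
  have hE₁s : IsEtaleMor (pullback.fst t w ≫ s) := SpPts86.isEtaleMor_comp
    (SpPts86.isEtaleMor_baseChange (IsPullback.of_hasPullback t w).flip hA hM hR hwe) hse
  let E₂ := pullback (pullback.fst t w ≫ s) w
  have hE₂ : IsAlgSpace E₂ := isAlgSpace_pullback _ _ hE₁ hA hM
  let f₁ : E₂ ⟶ (yon S).obj A := pullback.fst _ _ ≫ pullback.snd t w
  let f₂ : E₂ ⟶ (yon S).obj A := pullback.snd _ _
  have hf₁e : IsEtaleMor f₁ := SpPts86.isEtaleMor_comp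
    (SpPts86.isEtaleMor_baseChange (IsPullback.of_hasPullback (pullback.fst t w ≫ s) w).flip hA hM hE₁ hwe) hE₁e
  have hf₂e : IsEtaleMor f₂ :=
    SpPts86.isEtaleMor_baseChange (IsPullback.of_hasPullback (pullback.fst t w ≫ s) w) hE₁ hM hA hE₁s
  let p := w ≫ π
  have hpl : LocLift p := SpPts86.locLift_comp (locLift_of_atlas hw hws) (SpPts86.locLift_quotSpπ s t)
  have sqE : IsPullback f₁ f₂ p p := by
    refine IsPullback.mk' ?_ (fun Z x y e₁ e₂ => ?_) fun Z a b e => ?_
    · show (pullback.fst _ _ ≫ pullback.snd t w) ≫ w ≫ π = pullback.snd _ _ ≫ w ≫ π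
      rw [Category.assoc, ← pullback.condition_assoc, hsq.w, ← pullback.condition_assoc]
      simp only [Category.assoc]
    · refine pullback.hom_ext (pullback.hom_ext ?_ (by simpa only [f₁, Category.assoc] using e₁)) e₂
      refine hsq.hom_ext ?_ ?_
      · have := congrArg (· ≫ w) e₁
        simpa only [f₁, Category.assoc, ← pullback.condition] using this
      · have := congrArg (· ≫ w) e₂
        simpa only [f₂, Category.assoc, ← pullback.condition] using this
    · obtain ⟨r, hr₁, hr₂⟩ : ∃ r, r ≫ t = a ≫ w ∧ r ≫ s = b ≫ w :=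
        ⟨hsq.lift (a ≫ w) (b ≫ w) (by simpa only [p, Category.assoc] using e), hsq.lift_fst _ _ _,
          hsq.lift_snd _ _ _⟩
      exact ⟨pullback.lift (pullback.lift r a hr₁) b (by rw [pullback.lift_fst_assoc, hr₂]),
        by simp [f₁], by simp [f₂]⟩
  let AA := A ⨯ A
  let m : E₂ ⟶ (yon S).obj AA := prod.lift f₁ f₂ ≫ (PreservesLimitPair.iso (yon S) A A).inv
  have hm₁ : m ≫ (yon S).map Limits.prod.fst = f₁ := by simp [m, AA]
  have hm₂ : m ≫ (yon S).map Limits.prod.snd = f₂ := by simp [m, AA]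
  haveI : Mono m := ⟨fun x y e => sqE.hom_ext
    (by rw [← hm₁, ← Category.assoc, e, Category.assoc]) (by rw [← hm₂, ← Category.assoc, e, Category.assoc])⟩
  have hmlft : LocP @LocallyOfFiniteType m := by
    intro V V' a b h ha hb e
    obtain ⟨b, rfl⟩ := (yon S).map_surjective b
    have he : Etale (h ≫ b ≫ (Limits.prod.fst : AA ⟶ A)).left := by
      refine SpPts86.etale_of_comm (a := a ≫ f₁) (b := 𝟙 ((yon S).obj A)) (hf₁e a ha) (repWith_id _ A) ?_
      rw [Category.comp_id, ← hm₁]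
      simp only [Category.assoc, Functor.map_comp, reassoc_of% e]
    haveI : LocallyOfFiniteType (h.left ≫ (b ≫ (Limits.prod.fst : AA ⟶ A)).left) :=
      (inferInstance : LocallyOfFiniteType (h ≫ b ≫ (Limits.prod.fst : AA ⟶ A)).left)
    exact locallyOfFiniteType_of_comp h.left (b ≫ (Limits.prod.fst : AA ⟶ A)).left
  obtain ⟨R₀, ⟨θ⟩⟩ := SpPts86.exists_iso_of_mono hE₂ m hmlft
  obtain ⟨t₀, ht₀⟩ := (yon S).map_surjective (θ.hom ≫ f₁)
  obtain ⟨s₀, hs₀⟩ := (yon S).map_surjective (θ.hom ≫ f₂)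
  have sq₀ : IsPullback ((yon S).map t₀) ((yon S).map s₀) p p :=
    sqE.of_iso θ.symm (Iso.refl _) (Iso.refl _) (Iso.refl _) (by simp [ht₀]) (by simp [hs₀]) (by simp) (by simp)
  have hθ : IsEtaleMor θ.hom := fun V ψ hψ => MorphismProperty.RespectsIso.postcomp _ θ.hom ψ hψ
  haveI : Etale t₀.left := (isEtaleMor_yon_map_iff t₀).1 (by rw [ht₀]; exact SpPts86.isEtaleMor_comp hθ hf₁e)
  haveI : Etale s₀.left := (isEtaleMor_yon_map_iff s₀).1 (by rw [hs₀]; exact SpPts86.isEtaleMor_comp hθ hf₂e)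
  obtain ⟨hW, hpe, hps⟩ := SpPts86.isAlgSpace_of_kernelPair hpl sq₀
  refine ⟨quotSp s t, π, hW, ?_, fun y => ?_, hkp⟩
  · exact SpPts86.isEtaleMor_of_chart (h := 𝟙 A) hM hW hw hws hpe
      (by rw [CategoryTheory.Functor.map_id, Category.id_comp]) (by rw [Over.id_left]; infer_instance)
  · obtain ⟨z, hz⟩ := SpPts86.isSurjectiveMor_of_repWith hps y
    exact ⟨Points.map w z, by rw [← Points.map_comp]; exact hz⟩

end Groth.Agent.SpProper61.ElemQuot
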