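import Groth.Agent.SpProper61.GrpUnit
import Groth.Agent.SpFP87.OverField
import Groth.Agent.SpFP87.DecentDesc
import Groth.Agent.SpPts86.DiscreteFib
import Groth.Agent.SpPts86.DecentPts
import Groth.Agent.SpPts86.MonoField

/-!
The fibre of a morphism over a point of a decent space.
-/

universe u

set_option autoImplicit false
set_option backward.isDefEq.respectTransparency false

open CategoryTheory CategoryTheory.Limits AlgebraicGeometry Topology
open AlgSp Groth.Agent.SpFP87 Groth.Agent.SpPts86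

namespace Groth.Agent.SpProper61

variable {S : Scheme.{u}}

theorem isField_stalk_of_etale_field {Q : Scheme.{u}} {K : Type u} [Field K] (c : Q ⟶ Spec (CommRingCat.of K))
    [Etale c] [DiscreteTopology ↥Q] (q : Q) : IsField (Q.presheaf.stalk q) := by
  have : IsReduced Q := isReduced_of_smooth c
  have : IsLocallyNoetherian Q := LocallyOfFiniteType.isLocallyNoetherian c
  have h0 : ringKrullDim (Q.presheaf.stalk q) = 0 :=
    (dim_stalk_eq_zero_iff q).2 fun a ha => ha.mem_open (isOpen_discrete {q}) rfl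
  have : Ring.KrullDimLE 0 (Q.presheaf.stalk q) := Ring.krullDimLE_iff.2 h0.le
  have : IsArtinianRing (Q.presheaf.stalk q) := isArtinianRing_iff_isNoetherianRing_krullDimLE_zero.2 ⟨inferInstance, this⟩
  exact IsArtinianRing.isField_of_isReduced_of_isLocalRing _

theorem isPreimmersion_of_mono_of_discrete {Q V : Scheme.{u}} (s : Q ⟶ V) [Mono s] [DiscreteTopology ↥Q]
    (hF : ∀ q, IsField (Q.presheaf.stalk q))
    (hE : ∀ q, ∃ D : Set ↥V, IsOpen D ∧ D ∩ Set.range s = {s q}) : IsPreimmersion s := by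
  have hstalk : SurjectiveOnStalks s := ⟨fun q => by
    have : Mono (Spec.map (s.residueFieldMap q) ≫ V.fromSpecResidueField (s q)) := by
      rw [Scheme.Hom.SpecMap_residueFieldMap_fromSpecResidueField]; exact mono_comp _ _
    have : Mono (Spec.map (s.residueFieldMap q)) := mono_of_mono _ (V.fromSpecResidueField (s q))
    have : IsIso (Spec.map (s.residueFieldMap q)) :=
      isIso_of_mono_spec_field (L := ↥(V.residueField (s q))) _
    have : IsIso (s.residueFieldMap q) :=
      ⟨Spec.preimage (inv (Spec.map (s.residueFieldMap q))),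
        Spec.map_injective (by rw [Spec.map_comp, Spec.map_preimage, IsIso.inv_hom_id, Spec.map_id]),
        Spec.map_injective (by rw [Spec.map_comp, Spec.map_preimage, IsIso.hom_inv_id, Spec.map_id])⟩
    intro x
    obtain ⟨y, hy⟩ := (ConcreteCategory.bijective_of_isIso (s.residueFieldMap q)).2 (Q.residue q x)
    obtain ⟨z, hz⟩ := V.residue_surjective (s q) y
    refine ⟨z, ?_⟩
    have hinj : Function.Injective (Q.residue q).hom := by
      let _ := (hF q).toField
      exact (Q.residue q).hom.injective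
    apply hinj
    rw [← hy, ← hz]
    exact (congrArg (fun g => g.hom z) (Scheme.residue_residueFieldMap s q)).symm⟩
  have : DiscreteTopology ↥(Set.range s) := discreteTopology_iff_isOpen_singleton.2 fun ⟨_, q, rfl⟩ => by
    obtain ⟨D, hD, e⟩ := hE q
    refine ⟨D, hD, Set.ext fun x => ⟨fun hx => Subtype.ext ?_, ?_⟩⟩
    · exact e.le ⟨hx, x.2⟩
    · rintro rfl
      exact (e.ge rfl).1
  let e : ↥Q ≃ₜ ↥(Set.range s) :=
    { toEquiv := Equiv.ofInjective s (injective_of_mono s)
      continuous_toFun := continuous_of_discreteTopology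
      continuous_invFun := continuous_of_discreteTopology }
  exact { toSurjectiveOnStalks := hstalk, isEmbedding := IsEmbedding.subtypeVal.comp e.isEmbedding }

theorem exists_open_isolating {V : Type*} [TopologicalSpace V] {E : Set V} (hE : E.Finite)
    (hsp : ∀ a ∈ E, ∀ b ∈ E, a ⤳ b → a = b) {v : V} (hv : v ∈ E) : ∃ D : Set V, IsOpen D ∧ D ∩ E = {v} := by
  refine ⟨(⋃ w ∈ E \ {v}, closure {w})ᶜ,
    ((hE.subset Set.diff_subset).isClosed_biUnion fun _ _ => isClosed_closure).isOpen_compl, ?_⟩
  ext x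
  simp only [Set.mem_inter_iff, Set.mem_compl_iff, Set.mem_iUnion, Set.mem_singleton_iff, not_exists]
  constructor
  · rintro ⟨h, hx⟩
    by_contra hxv
    exact h x ⟨hx, hxv⟩ (subset_closure rfl)
  · rintro rfl
    exact ⟨fun w hw h => hw.2 (hsp w hw.1 x hv (specializes_iff_mem_closure.2 h)), hv⟩

theorem fibre_isEmbedding {X Y : Space S} (f : X ⟶ Y) (hdY : IsDecent Y.obj) (p : FieldPt Y.obj) [Mono p.toHom]
    (Xp : Space S) (fst : Xp ⟶ X) (snd : Xp.obj ⟶ (yon S).obj p.pt)
    (sq : IsPullback fst.hom snd f.hom p.toHom) :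
    IsEmbedding (Points.map fst.hom) ∧
      Set.range (Points.map fst.hom) = Points.map f.hom ⁻¹' {Points.mk p} := by
  have hfm : Mono fst.hom :=
    MorphismProperty.of_isPullback (P := MorphismProperty.monomorphisms (Sp S)) sq.flip ‹Mono p.toHom›
  have hinj := injective_map_of_mono fst.hom
  have hpt : ∀ z : Points ((yon S).obj p.pt), Points.map p.toHom z = Points.mk p := fun z => by
    obtain ⟨t, rfl⟩ := (Points.schemeHomeo p.pt).surjective z
    exact (Points.ofPt_eq_map_ofScheme _ _).symm.trans (Points.ofPt_toHom p _)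
  have hr : Set.range (Points.map fst.hom) = Points.map f.hom ⁻¹' {Points.mk p} := by
    ext x
    constructor
    · rintro ⟨o, rfl⟩
      show Points.map f.hom (Points.map fst.hom o) = _
      rw [← Points.map_comp, sq.w, Points.map_comp, hpt]
    · intro hx
      obtain ⟨o, ho, -⟩ := exists_of_isPullback sq x (Points.ofScheme p.pt (IsLocalRing.closedPoint p.K : PrimeSpectrum p.K))
        (by rw [← Points.ofPt_eq_map_ofScheme]; exact hx.trans (Points.ofPt_toHom p _).symm)
      exact ⟨o, ho⟩
  refine ⟨⟨⟨le_antisymm (continuous_iff_le_induced.1 (Points.continuous_map _)) fun O hO => ?_⟩, hinj⟩, hr⟩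
  rw [isOpen_induced_iff]
  suffices ∀ o ∈ O, ∃ O' : Set (Points X.obj), IsOpen O' ∧ o ∈ Points.map fst.hom ⁻¹' O' ∧
      Points.map fst.hom ⁻¹' O' ⊆ O by
    choose! O' h1 h2 h3 using this
    refine ⟨⋃ o ∈ O, O' o, isOpen_biUnion h1, ?_⟩
    ext z
    simp only [Set.preimage_iUnion, Set.mem_iUnion]
    exact ⟨fun ⟨o, ho, h⟩ => h3 o ho h, fun hz => ⟨z, hz, h2 z hz⟩⟩
  intro o ho
  obtain ⟨U, V, a, b, h, u, ha, hb, w, hu⟩ := exists_diagram_through X.property Y.property f.hom (Points.map fst.hom o)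
  obtain ⟨V₁, hV₁, huV, hb₁⟩ := exists_affine_subchart hb (h.left u)
  let V' : Over S := Over.mk (V₁.ι ≫ V.hom)
  let U₁ : U.left.Opens := h.left ⁻¹ᵁ V₁
  let U' : Over S := Over.mk (U₁.ι ≫ U.hom)
  let iU : U' ⟶ U := Over.homMk U₁.ι rfl
  let iV : V' ⟶ V := Over.homMk V₁.ι rfl
  have : Etale iU.left := inferInstanceAs (Etale U₁.ι)
  let h' : U' ⟶ V' := Over.homMk (h.left ∣_ V₁) (by
    show (h.left ∣_ V₁) ≫ V₁.ι ≫ V.hom = U₁.ι ≫ U.hom
    rw [← Category.assoc, morphismRestrict_ι, Category.assoc, Over.w h])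
  have hh : h' ≫ iV = iU ≫ h := Over.OverMorphism.ext (morphismRestrict_ι _ _)
  let b' : (yon S).obj V' ⟶ Y.obj := (yon S).map iV ≫ b
  let a' : (yon S).obj U' ⟶ X.obj := (yon S).map iU ≫ a
  have ha' : RepWith @Etale a' := repWith_etale_comp iU ha
  have w' : a' ≫ f.hom = (yon S).map h' ≫ b' := by
    simp only [a', b', ← Category.assoc, ← Functor.map_comp, hh]
    rw [Functor.map_comp, Category.assoc, Category.assoc, w]
  obtain ⟨Q, c, s, sqQ⟩ := exists_isPullback_yon Y.property.diag p.toHom b'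
  have hc : Etale c.left := etale_snd_of_isPullback sqQ.flip hb₁
  let c' : Q.left ⟶ Spec (CommRingCat.of p.K) := c.left
  have : Etale c' := hc
  have : DiscreteTopology ↥Q.left := by
    have : LocallyQuasiFinite c' := Groth.Agent.Unr55.locallyQuasiFinite_of_formallyUnramified _
    have : IsLocallyArtinian Q.left := .of_locallyQuasiFinite c'
    infer_instance
  have : Mono ((yon S).map s) :=
    MorphismProperty.of_isPullback (P := MorphismProperty.monomorphisms (Sp S)) sqQ ‹Mono p.toHom›
  have : Mono s := (yon S).mono_of_mono_map (f := s) ‹_›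
  have : Mono s.left := inferInstanceAs (Mono ((Over.forget S).map s))
  let E : Set ↥V'.left := Points.ofPt b' ⁻¹' {Points.mk p}
  have hsE : Set.range s.left = E := by
    ext v
    constructor
    · rintro ⟨q, rfl⟩
      show Points.ofPt b' (s.left q) = _
      rw [← ofPt_eq_of_isPullback sqQ q]
      exact Points.ofPt_toHom p _
    · intro hv
      obtain ⟨q, -, hq⟩ := exists_pt_of_isPullback' sqQ (IsLocalRing.closedPoint p.K) v
        ((Points.ofPt_toHom p _).trans hv.symm)
      exact ⟨q, hq⟩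
  have hEf : E.Finite := (finite_fibres_of_isDecent Y.property hdY hb₁ (Points.mk p)).1
  have hEsp : ∀ v₁ ∈ E, ∀ v₂ ∈ E, v₁ ⤳ v₂ → v₁ = v₂ := fun v₁ h1 v₂ h2 hs =>
    (no_specialization_in_fibre Y.property.diag hdY hb₁ (h2.trans h1.symm) hs).symm
  have : IsPreimmersion s.left := isPreimmersion_of_mono_of_discrete s.left
    (isField_stalk_of_etale_field c')
    fun q => hsE.symm ▸ exists_open_isolating hEf hEsp (hsE.le ⟨q, rfl⟩)
  obtain ⟨C, r, e, sqC⟩ := exists_isPullback_yon (IsAlgSpace.yon_obj V').diag ((yon S).map h') ((yon S).map s)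
  have : IsPreimmersion r.left := MorphismProperty.of_isPullback (P := @IsPreimmersion)
    (SpPts86.isPullback_left_of_yon sqC).flip ‹IsPreimmersion s.left›
  let φ : (yon S).obj C ⟶ Xp.obj := sq.lift ((yon S).map r ≫ a') ((yon S).map (e ≫ c))
    (by rw [Category.assoc, w', ← Category.assoc, sqC.w, Category.assoc, Functor.map_comp, Category.assoc, sqQ.w])
  have hφ : ∀ z, Points.map fst.hom (Points.ofPt φ z) = Points.ofPt a' (r.left z) := fun z => by
    rw [Points.map_ofPt, sq.lift_fst, ofPt_comp]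
  obtain ⟨G, hG, hGe⟩ := r.left.isEmbedding.isInducing.isOpen_iff.1 (hO.preimage (Points.continuous_ofPt φ))
  refine ⟨Points.ofPt a' '' G, isOpenMap_ofPt ha' _ hG, ?_, ?_⟩
  · let u' : ↥U'.left := (⟨u, huV⟩ : U₁.toScheme)
    have hu' : Points.ofPt a' u' = Points.map fst.hom o := by rw [ofPt_comp]; exact hu
    have hvE : h'.left u' ∈ E := by
      show Points.ofPt b' (h'.left u') = _
      rw [← ofPt_comp h' b', ← w', ← Points.map_ofPt, hu']
      exact hr.le ⟨o, rfl⟩
    obtain ⟨q, hq⟩ := hsE.ge hvE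
    obtain ⟨z, hz, -⟩ := exists_pt_of_isPullback' sqC u' q (by
      rw [← Category.comp_id ((yon S).map h'), ← Category.comp_id ((yon S).map s), ofPt_comp, ofPt_comp, hq])
    refine ⟨u', ?_, hu'⟩
    rw [← hz]
    show z ∈ r.left ⁻¹' G
    rw [hGe]
    show Points.ofPt φ z ∈ O
    rwa [show Points.ofPt φ z = o from hinj (by rw [hφ, hz, hu'])]
  · rintro o₂ ⟨g, hg, hgo⟩
    have hvE : h'.left g ∈ E := by
      show Points.ofPt b' (h'.left g) = _
      rw [← ofPt_comp h' b', ← w', ← Points.map_ofPt, hgo]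
      exact hr.le ⟨o₂, rfl⟩
    obtain ⟨q, hq⟩ := hsE.ge hvE
    obtain ⟨z, hz, -⟩ := exists_pt_of_isPullback' sqC g q (by
      rw [← Category.comp_id ((yon S).map h'), ← Category.comp_id ((yon S).map s), ofPt_comp, ofPt_comp, hq])
    have : z ∈ r.left ⁻¹' G := by
      show r.left z ∈ G
      rw [hz]; exact hg
    rw [hGe] at this
    rwa [← show Points.ofPt φ z = o₂ from hinj (by rw [hφ, hz, hgo])]

end Groth.Agent.SpProper61
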