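import Groth.Agent.SpProper61.GlueHomBase
import Groth.Agent.SpProper61.ChartDesc

/-!
Glueing morphisms out of an affine scheme.
-/

set_option autoImplicit false
set_option linter.style.haveILetI false
set_option backward.isDefEq.respectTransparency false

universe u

open TensorProduct CategoryTheory CategoryTheory.Limits AlgebraicGeometry
open AlgSp Groth.Agent.SpFP87

noncomputable section

namespace Groth.Agent.SpProper61.GlueEq

variable {R R' : Type u} [CommRing R] [CommRing R'] [Algebra R R'] {f : R}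

theorem ten_ext {A B : Type u} [CommRing A] [Algebra R A] [CommRing B] [Algebra R B] {k k' : R' ⊗[R] A →ₐ[R] B}
    (h₁ : ∀ r, k (r ⊗ₜ[R] (1 : A)) = k' (r ⊗ₜ[R] (1 : A)))
    (h₂ : k.comp (incR R' A) = k'.comp (incR R' A)) : k = k' :=
  Algebra.TensorProduct.ext (AlgHom.ext h₁) h₂

/-- Algebras with charts of a space. -/
theorem exists_alg_charts {Y : Sp (Spec (CommRingCat.of R))} (hY : IsAlgSpace Y) :
    ∃ (K : Type u) (A : K → Type u) (_ : ∀ k, CommRing (A k)) (_ : ∀ k, Algebra R (A k))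
      (g : ∀ k, (yon _).obj (aff R (A k)) ⟶ Y), (∀ k, RepWith @Etale (g k)) ∧
      ∀ x : Points Y, ∃ (k : K) (t : ↥(aff R (A k)).left), Points.ofPt (g k) t = x := by
  obtain ⟨K, V, p, hV, hp, hps⟩ := exists_affine_charts hY
  have h : ∀ k, ∃ (A : Type u) (_ : CommRing A) (_ : Algebra R A), Nonempty (aff R A ≅ V k) := fun k => by
    haveI := hV k
    exact exists_algebra_iso (V k)
  choose A iA iA' hθ using h
  let θ := fun k => (hθ k).some
  refine ⟨K, A, iA, iA', fun k => (yon _).map (θ k).hom ≫ p k, fun k => ?_, fun x => ?_⟩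
  · haveI : IsIso (θ k).hom.left := inferInstanceAs (IsIso ((Over.forget _).map (θ k).hom))
    exact SpPts86.repWith_etale_comp _ (hp k)
  · obtain ⟨k, t, rfl⟩ := hps x
    refine ⟨k, (θ k).inv.left t, ?_⟩
    rw [SpPts86.ofPt_comp, ← Scheme.Hom.comp_apply, ← Over.comp_left, Iso.inv_hom_id]
    rfl

/-- The glued fibre product with an affine chart of the target. -/
theorem exists_glued_chart (hg : EtGlue.IsGlueingPair R R' f) {Z : Sp (Spec (CommRingCat.of R))}
    (hZ : IsAlgSpace Z) (hd : IsAffineMor (Limits.diag Z)) {A : Type u} [CommRing A] [Algebra R A]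
    (hA : EtGlue.IsGlueable R R' f A) (α : (yon _).obj (aff R (AwF f A)) ⟶ Z)
    (β : (yon _).obj (aff R (R' ⊗[R] A)) ⟶ Z)
    (hαβ : ∀ (B : Type u) [CommRing B] [Algebra R B] (k : AwF f A →ₐ[R] B) (k' : R' ⊗[R] A →ₐ[R] B),
      k.comp (locHom f A) = k'.comp (incR R' A) → ym k ≫ α = ym k' ≫ β)
    {C : Type u} [CommRing C] [Algebra R C] (p : (yon _).obj (aff R C) ⟶ Z) (hp : RepWith @Etale p) :
    ∃ (A₃ : Type u) (_ : CommRing A₃) (_ : Algebra R A₃) (u : A →ₐ[R] A₃) (v : C →ₐ[R] A₃),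
      Etale (affMap u).left ∧
      (∀ (B : Type u) [CommRing B] [Algebra R B] (h : A₃ →ₐ[R] B) (k : AwF f A →ₐ[R] B),
        k.comp (locHom f A) = h.comp u → ym h ≫ ym v ≫ p = ym k ≫ α) ∧
      (∀ (B : Type u) [CommRing B] [Algebra R B] (h : A₃ →ₐ[R] B) (k : R' ⊗[R] A →ₐ[R] B),
        k.comp (incR R' A) = h.comp u → ym h ≫ ym v ≫ p = ym k ≫ β) ∧
      (∀ y : Points ((yon _).obj (aff R (AwF f A))), Points.map α y ∈ Set.range (Points.map p) →
        Points.map (ym (locHom f A)) y ∈ Set.range (Points.map (ym u))) ∧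
      (∀ y : Points ((yon _).obj (aff R (R' ⊗[R] A))), Points.map β y ∈ Set.range (Points.map p) →
        Points.map (ym (incR R' A)) y ∈ Set.range (Points.map (ym u))) := by
  obtain ⟨A₁, _, _, u₁, v₁, sq₁⟩ := exists_algPullback hZ hd α p
  obtain ⟨A', _, _, u', v', sq'⟩ := exists_algPullback hZ hd β p
  letI : Algebra R' A' := (u'.comp Algebra.TensorProduct.includeLeft).toRingHom.toAlgebra
  haveI : IsScalarTower R R' A' := IsScalarTower.of_algebraMap_eq fun r =>
    ((u'.comp (Algebra.TensorProduct.includeLeft : R' →ₐ[R] R' ⊗[R] A)).commutes r).symm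
  have hu'R : ∀ r : R', u' (r ⊗ₜ[R] (1 : A)) = algebraMap R' A' r := fun r => rfl
  have h₁ : IsUnit (algebraMap R A₁ f) := isUnit_of_loc u₁
  obtain ⟨kA, hkA⟩ : ∃ k : R' ⊗[R] A →ₐ[R] R' ⊗[R] A₁,
      k = Algebra.TensorProduct.map (AlgHom.id R R') (u₁.comp (locHom f A)) := ⟨_, rfl⟩
  have hk : ((incR R' A₁).comp u₁).comp (locHom f A) = kA.comp (incR R' A) :=
    AlgHom.ext fun a => by simp [hkA]
  obtain ⟨to₁, hto₁v, hto₁u⟩ : ∃ l : A' →ₐ[R] R' ⊗[R] A₁, l.comp v' = (incR R' A₁).comp v₁ ∧ l.comp u' = kA := by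
    have w : ym ((incR R' A₁).comp v₁) ≫ p = ym kA ≫ β := by
      rw [ym_comp, Category.assoc, sq₁.w, ← Category.assoc, ← ym_comp]
      exact hαβ _ _ _ hk
    obtain ⟨l, hl⟩ := exists_ym (sq'.lift _ _ w)
    exact ⟨l, ym_injective (by rw [ym_comp, hl, sq'.lift_fst]), ym_injective (by rw [ym_comp, hl, sq'.lift_snd])⟩
  obtain ⟨K, hK⟩ : ∃ K : AwF f A' →ₐ[R] R' ⊗[R] A₁, K.comp (locHom f A') = to₁ :=
    exists_ext_loc f to₁ (by
      rw [← (incR R' A₁).commutes]
      exact h₁.map (incR R' A₁))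
  obtain ⟨kF, hkF⟩ := exists_ext_loc f (((locHom f A').comp u').comp (incR R' A))
    (isUnit_of_loc (AlgHom.id R (AwF f A')))
  obtain ⟨back, hbv, hbu⟩ : ∃ l : A₁ →ₐ[R] AwF f A', l.comp v₁ = (locHom f A').comp v' ∧ l.comp u₁ = kF := by
    have w : ym ((locHom f A').comp v') ≫ p = ym kF ≫ α := by
      rw [hαβ _ _ ((locHom f A').comp u') hkF, ym_comp, Category.assoc, sq'.w, ← Category.assoc, ← ym_comp]
    obtain ⟨l, hl⟩ := exists_ym (sq₁.lift _ _ w)
    exact ⟨l, ym_injective (by rw [ym_comp, hl, sq₁.lift_fst]), ym_injective (by rw [ym_comp, hl, sq₁.lift_snd])⟩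
  let jR : R' →ₐ[R] AwF f A' := (locHom f A').comp (IsScalarTower.toAlgHom R R' A')
  let inv : R' ⊗[R] A₁ →ₐ[R] AwF f A' := Algebra.TensorProduct.lift jR back fun _ _ => Commute.all _ _
  have hinv : inv.comp (incR R' A₁) = back := AlgHom.ext fun a => by simp [inv]
  have hjR : ∀ r : R', inv (r ⊗ₜ[R] (1 : A₁)) = locHom f A' (algebraMap R' A' r) := fun r => by simp [inv, jR]
  have hext' : ∀ {T : Type u} [CommRing T] [Algebra R T] {m m' : A' →ₐ[R] T},
      m.comp u' = m'.comp u' → m.comp v' = m'.comp v' → m = m' := fun hu hv =>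
    ym_injective (sq'.hom_ext (by rw [← ym_comp, ← ym_comp, hv]) (by rw [← ym_comp, ← ym_comp, hu]))
  have hext₁ : ∀ {T : Type u} [CommRing T] [Algebra R T] {m m' : A₁ →ₐ[R] T},
      m.comp u₁ = m'.comp u₁ → m.comp v₁ = m'.comp v₁ → m = m' := fun hu hv =>
    ym_injective (sq₁.hom_ext (by rw [← ym_comp, ← ym_comp, hv]) (by rw [← ym_comp, ← ym_comp, hu]))
  have hKR : ∀ r : R', K (algebraMap R' (AwF f A') r) = r ⊗ₜ[R] (1 : A₁) := fun r => by
    rw [IsScalarTower.algebraMap_apply R' A' (AwF f A')]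
    refine (AlgHom.congr_fun hK (algebraMap R' A' r)).trans ?_
    rw [← hu'R]
    exact (AlgHom.congr_fun hto₁u (r ⊗ₜ[R] (1 : A))).trans (by simp [hkA])
  have hKb : K.comp back = incR R' A₁ := by
    refine hext₁ (loc_ext ?_) ?_
    · rw [AlgHom.comp_assoc K back u₁, hbu, AlgHom.comp_assoc, hkF, ← AlgHom.comp_assoc, ← AlgHom.comp_assoc,
        hK, hto₁u, hk]
    · rw [AlgHom.comp_assoc, hbv, ← AlgHom.comp_assoc, hK, hto₁v]
  have hKi : K.comp inv = AlgHom.id R _ := ten_ext (fun r => by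
      show K (inv (r ⊗ₜ[R] (1 : A₁))) = r ⊗ₜ[R] (1 : A₁)
      rw [hjR]
      exact hKR r)
    (by rw [AlgHom.comp_assoc, hinv, hKb, AlgHom.id_comp])
  have hiK : inv.comp K = AlgHom.id R _ := loc_ext (by
    rw [AlgHom.comp_assoc, hK, AlgHom.id_comp]
    refine hext' (ten_ext (fun r => ?_) ?_) ?_
    · show inv (to₁ (u' (r ⊗ₜ[R] (1 : A)))) = locHom f A' (u' (r ⊗ₜ[R] (1 : A)))
      rw [show to₁ (u' (r ⊗ₜ[R] (1 : A))) = r ⊗ₜ[R] (1 : A₁) from
        (AlgHom.congr_fun hto₁u _).trans (by simp [hkA]), hjR, hu'R]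
    · rw [AlgHom.comp_assoc inv to₁ u', hto₁u, AlgHom.comp_assoc, ← hk, ← AlgHom.comp_assoc,
        ← AlgHom.comp_assoc, hinv, hbu, hkF]
    · rw [AlgHom.comp_assoc, hto₁v, ← AlgHom.comp_assoc, hinv, hbv])
  let Φ : AwF f A' ≃ₐ[R'] R' ⊗[R] A₁ :=
    { AlgEquiv.ofAlgHom K inv hKi hiK with commutes' := hKR }
  have hΦ : ∀ x, Φ x = K x := fun x => rfl
  obtain ⟨A₃, _, _, hA₃, e₁, e', he⟩ := Glue24.exists_glued_algebra hg A₁ h₁ A' Φ
  let e₁' : A₁ →ₐ[R] AwF f A₃ := e₁.symm.toAlgHom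
  let e'' : A' →ₐ[R] R' ⊗[R] A₃ := e'.symm.toAlgHom.restrictScalars R
  have hglue : ∀ {T : Type u} [CommRing T] [Algebra R T] (t₁ : T →ₐ[R] A₁) (t' : T →ₐ[R] A'),
      (∀ a, K (locHom f A' (t' a)) = (1 : R') ⊗ₜ[R] t₁ a) →
      ∃ u : T →ₐ[R] A₃, (incR R' A₃).comp u = e''.comp t' ∧ (locHom f A₃).comp u = e₁'.comp t₁ := by
    intro T _ _ t₁ t' ht
    refine exists_glue_algHom hg hA₃ _ _ fun B _ _ k k' hkk => AlgHom.ext fun a => ?_
    obtain ⟨M, hM⟩ := exists_ext_loc f (k'.comp e'') (isUnit_of_loc k)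
    have h1 : (M.comp inv).comp (incR R' A₁) = k.comp e₁' := by
      have : ((M.comp inv).comp (incR R' A₁)).comp e₁.toAlgHom = k := loc_ext (AlgHom.ext fun x => by
        have e2 := he x
        rw [hΦ] at e2
        show M (inv ((1 : R') ⊗ₜ[R] e₁ (locHom f A₃ x))) = k (locHom f A₃ x)
        rw [show (1 : R') ⊗ₜ[R] e₁ (locHom f A₃ x) = K (locHom f A' (e' ((1 : R') ⊗ₜ[R] x))) from e2.symm,
          show inv (K _) = _ from AlgHom.congr_fun hiK _, AlgHom.id_apply,
          show M (locHom f A' _) = _ from AlgHom.congr_fun hM _]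
        refine Eq.trans ?_ (AlgHom.congr_fun hkk x).symm
        exact congrArg k' (e'.symm_apply_apply _))
      refine AlgHom.ext fun x => ?_
      have := AlgHom.congr_fun this (e₁.symm x)
      simpa [e₁'] using this
    show k (e₁' (t₁ a)) = k' (e'' (t' a))
    rw [show k (e₁' (t₁ a)) = M (inv ((1 : R') ⊗ₜ[R] t₁ a)) from (AlgHom.congr_fun h1 (t₁ a)).symm,
      ← ht, show inv (K _) = _ from AlgHom.congr_fun hiK _]
    exact AlgHom.congr_fun hM (t' a)
  obtain ⟨u, huT, huF⟩ := hglue (u₁.comp (locHom f A)) (u'.comp (incR R' A)) fun a =>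
    (AlgHom.congr_fun hK _).trans ((AlgHom.congr_fun hto₁u _).trans (AlgHom.congr_fun hk a).symm)
  obtain ⟨v, hvT, hvF⟩ := hglue v₁ v' fun a => (AlgHom.congr_fun hK _).trans (AlgHom.congr_fun hto₁v a)
  have hu₁e : Etale (affMap u₁).left := hp.property α _ _ sq₁
  have hu'e : Etale (affMap u').left := hp.property β _ _ sq'
  have hmap : (Algebra.TensorProduct.map (AlgHom.id R R') u : R' ⊗[R] A →ₐ[R] R' ⊗[R] A₃) = e''.comp u' :=
    ten_ext (fun r => by
      show Algebra.TensorProduct.map (AlgHom.id R R') u (r ⊗ₜ[R] (1 : A)) = e'.symm (u' (r ⊗ₜ[R] (1 : A)))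
      rw [hu'R, AlgEquiv.commutes]
      simp [Algebra.TensorProduct.algebraMap_apply])
      (by
        rw [AlgHom.comp_assoc e'' u', ← huT]
        exact AlgHom.ext fun a => by simp)
  have hue : Etale (affMap u).left := by
    refine affMap_etale ((Glue24.Pair.etale_iff hg hA hA₃ u).2 ⟨?_, ?_⟩)
    · refine etale_awayMap (u.commutes f) (e₁'.comp u₁).toRingHom ?_ ?_
      · exact RingHom.ext fun a => (AlgHom.congr_fun huF a).symm
      · exact RingHom.Etale.respectsIso.left _ e₁.symm.toRingEquiv (etale_of_affMap hu₁e)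
    · rw [hmap]
      exact RingHom.Etale.respectsIso.left _ e'.symm.toRingEquiv (etale_of_affMap hu'e)
  refine ⟨A₃, inferInstance, inferInstance, u, v, hue, fun B _ _ h k hkh => ?_, fun B _ _ h k hkh => ?_,
    fun y hy => ?_, fun y hy => ?_⟩
  · obtain ⟨hF, hhF⟩ := exists_ext_loc f h (isUnit_of_loc k)
    have hk' : k = hF.comp (e₁'.comp u₁) := loc_ext (by
      rw [hkh, ← hhF, AlgHom.comp_assoc, huF]; rfl)
    rw [← Category.assoc, ← ym_comp, hk', ← hhF, AlgHom.comp_assoc, hvF, ← AlgHom.comp_assoc hF e₁' v₁,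
      ← AlgHom.comp_assoc hF e₁' u₁, ym_comp v₁, ym_comp u₁, Category.assoc, Category.assoc, sq₁.w]
  · let hT : R' ⊗[R] A₃ →ₐ[R] B :=
      Algebra.TensorProduct.lift (k.comp Algebra.TensorProduct.includeLeft) h fun _ _ => Commute.all _ _
    have hhT : hT.comp (incR R' A₃) = h := AlgHom.ext fun a => by simp [hT]
    have hk' : k = hT.comp (e''.comp u') := by
      rw [← hmap]
      refine ten_ext (fun r => ?_) ?_
      · simp [hT]
      · rw [hkh]
        exact AlgHom.ext fun a => by simp [hT, ← Algebra.TensorProduct.one_def]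
    rw [← Category.assoc, ← ym_comp, hk', ← hhT, AlgHom.comp_assoc, hvT, ← AlgHom.comp_assoc hT e'' v',
      ← AlgHom.comp_assoc hT e'' u', ym_comp v', ym_comp u', Category.assoc, Category.assoc, sq'.w]
  · obtain ⟨z, hz⟩ := hy
    obtain ⟨w, -, hw⟩ := SpPts86.exists_of_isPullback sq₁ z y hz
    refine ⟨Points.map (ym (locHom f A₃)) (Points.map (ym e₁.toAlgHom) w), ?_⟩
    have e2 : ((e₁.toAlgHom).comp (locHom f A₃)).comp u = u₁.comp (locHom f A) := by
      rw [AlgHom.comp_assoc, huF]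
      exact AlgHom.ext fun a => e₁.apply_symm_apply _
    rw [← hw, ← Points.map_comp, ← Points.map_comp, ← Points.map_comp, ← ym_comp, ← ym_comp, ← ym_comp, ← e2]
    simp only [AlgHom.comp_assoc]
  · obtain ⟨z, hz⟩ := hy
    obtain ⟨w, -, hw⟩ := SpPts86.exists_of_isPullback sq' z y hz
    refine ⟨Points.map (ym (incR R' A₃)) (Points.map (ym (e'.toAlgHom.restrictScalars R)) w), ?_⟩
    have e2 : ((e'.toAlgHom.restrictScalars R).comp (incR R' A₃)).comp u = u'.comp (incR R' A) := by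
      rw [AlgHom.comp_assoc, huT]
      exact AlgHom.ext fun a => e'.apply_symm_apply _
    rw [← hw, ← Points.map_comp, ← Points.map_comp, ← Points.map_comp, ← ym_comp, ← ym_comp, ← ym_comp, ← e2]
    simp only [AlgHom.comp_assoc]

end Groth.Agent.SpProper61.GlueEq
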