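import Groth.Agent.SpProper61.GlueEq
import Groth.Agent.Glue24.Pair
import Groth.Agent.Glue24.GlueAlgebra

/-!
Algebra behind glueing morphisms along a glueing pair.
-/

set_option autoImplicit false
set_option linter.style.haveILetI false
set_option backward.isDefEq.respectTransparency false

universe u

open TensorProduct CategoryTheory CategoryTheory.Limits AlgebraicGeometry
open AlgSp Groth.Agent.SpFP87

noncomputable section

namespace Groth.Agent.SpProper61.GlueEq

variable {R R' : Type u} [CommRing R] [CommRing R'] [Algebra R R'] {f : R}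

/-- The localization at `f`. -/
abbrev AwF (f : R) (A : Type u) [CommRing A] [Algebra R A] : Type u := Localization.Away (algebraMap R A f)

/-- The localization map. -/
abbrev locHom (f : R) (A : Type u) [CommRing A] [Algebra R A] : A →ₐ[R] AwF f A :=
  IsScalarTower.toAlgHom R A (AwF f A)

/-- The map to the base change. -/
abbrev incR (R' : Type u) [CommRing R'] [Algebra R R'] (A : Type u) [CommRing A] [Algebra R A] :
    A →ₐ[R] R' ⊗[R] A :=
  Algebra.TensorProduct.includeRight

/-- The morphism of sheaves of an algebra map. -/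
abbrev ym {A B : Type u} [CommRing A] [Algebra R A] [CommRing B] [Algebra R B] (φ : A →ₐ[R] B) :
    (yon (Spec (CommRingCat.of R))).obj (aff R B) ⟶ (yon (Spec (CommRingCat.of R))).obj (aff R A) :=
  (yon (Spec (CommRingCat.of R))).map (affMap φ)

variable {A B C : Type u} [CommRing A] [Algebra R A] [CommRing B] [Algebra R B] [CommRing C] [Algebra R C]

theorem affMap_comp (φ : A →ₐ[R] B) (ψ : B →ₐ[R] C) : affMap (ψ.comp φ) = affMap ψ ≫ affMap φ := by
  refine Over.OverMorphism.ext ?_
  show Spec.map _ = Spec.map _ ≫ Spec.map _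
  rw [← Spec.map_comp]
  rfl

theorem ym_comp (φ : A →ₐ[R] B) (ψ : B →ₐ[R] C) : ym (ψ.comp φ) = ym ψ ≫ ym φ := by
  rw [ym, affMap_comp, Functor.map_comp]

theorem exists_affMap (t : aff R B ⟶ aff R A) : ∃ h : A →ₐ[R] B, affMap h = t := by
  obtain ⟨g, hg⟩ := Spec.map_surjective t.left
  refine ⟨{ g.hom with commutes' := fun r => ?_ }, Over.OverMorphism.ext hg⟩
  have := Over.w t
  rw [← hg] at this
  change Spec.map g ≫ Spec.map (CommRingCat.ofHom (algebraMap R A)) = Spec.map (CommRingCat.ofHom (algebraMap R B)) at this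
  rw [← Spec.map_comp] at this
  exact congrArg (fun ψ => ψ.hom r) (Spec.map_injective this)

theorem exists_ym (t : (yon (Spec (CommRingCat.of R))).obj (aff R B) ⟶ (yon _).obj (aff R A)) :
    ∃ h : A →ₐ[R] B, ym h = t := by
  obtain ⟨t, rfl⟩ := (yon _).map_surjective t
  obtain ⟨h, rfl⟩ := exists_affMap t
  exact ⟨h, rfl⟩

theorem ym_injective {φ ψ : A →ₐ[R] B} (h : ym φ = ym ψ) : φ = ψ := by
  have h1 := congrArg CommaMorphism.left ((yon (Spec (CommRingCat.of R))).map_injective h)
  have h2 : CommRingCat.ofHom φ.toRingHom = CommRingCat.ofHom ψ.toRingHom := Spec.map_injective h1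
  exact AlgHom.ext fun a => congrArg (fun g => g.hom a) h2

theorem etale_of_affMap {φ : A →ₐ[R] B} (h : Etale (affMap φ).left) : φ.toRingHom.Etale :=
  (HasRingHomProperty.Spec_iff (P := @Etale) (φ := CommRingCat.ofHom φ.toRingHom)).1 h

theorem affMap_etale {φ : A →ₐ[R] B} (h : φ.toRingHom.Etale) : Etale (affMap φ).left :=
  (HasRingHomProperty.Spec_iff (P := @Etale) (φ := CommRingCat.ofHom φ.toRingHom)).2 h

/-- Extending maps to the localization. -/
theorem exists_ext_loc (f : R) (h : A →ₐ[R] B) (hu : IsUnit (algebraMap R B f)) :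
    ∃ k : AwF f A →ₐ[R] B, k.comp (locHom f A) = h := by
  have hu' : ∀ y : Submonoid.powers (algebraMap R A f), IsUnit (h y) := by
    rintro ⟨_, n, rfl⟩
    show IsUnit (h (algebraMap R A f ^ n))
    rw [map_pow, h.commutes]
    exact hu.pow n
  exact ⟨IsLocalization.liftAlgHom (M := Submonoid.powers (algebraMap R A f)) hu',
    AlgHom.ext fun a => IsLocalization.lift_eq hu' a⟩

theorem loc_ext {k k' : AwF f A →ₐ[R] B} (h : k.comp (locHom f A) = k'.comp (locHom f A)) : k = k' :=
  IsLocalization.algHom_ext (Submonoid.powers (algebraMap R A f)) (AlgHom.ext fun a => AlgHom.congr_fun h a)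

theorem isUnit_of_loc (k : AwF f A →ₐ[R] B) : IsUnit (algebraMap R B f) := by
  rw [← k.commutes, IsScalarTower.algebraMap_apply R A (AwF f A)]
  exact (IsLocalization.Away.algebraMap_isUnit (algebraMap R A f)).map k

theorem etale_awayMap {g : A →+* B} {x : A} {y : B} (h : g x = y)
    (k : Localization.Away x →+* Localization.Away y)
    (hk : k.comp (algebraMap A _) = (algebraMap B _).comp g) (he : k.Etale) :
    (Localization.awayMap g x).Etale := by
  subst h
  have : k = Localization.awayMap g x :=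
    IsLocalization.ringHom_ext (Submonoid.powers x) (hk.trans (IsLocalization.map_comp _).symm)
  exact this ▸ he

/-- Compatible pairs of maps to the pieces of a glueable algebra glue. -/
theorem exists_glue_algHom (hg : EtGlue.IsGlueingPair R R' f) (hC : EtGlue.IsGlueable R R' f C)
    (x : A →ₐ[R] R' ⊗[R] C) (y : A →ₐ[R] AwF f C)
    (hxy : ∀ (B : Type u) [CommRing B] [Algebra R B] (k : AwF f C →ₐ[R] B) (k' : R' ⊗[R] C →ₐ[R] B),
      k.comp (locHom f C) = k'.comp (incR R' C) → k.comp y = k'.comp x) :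
    ∃ u : A →ₐ[R] C, (incR R' C).comp u = x ∧ (locHom f C).comp u = y := by
  obtain ⟨hinj, hmid⟩ := glueable_ring hg hC
  let L' := Localization.Away ((1 : R') ⊗ₜ[R] algebraMap R C f)
  let k' : R' ⊗[R] C →ₐ[R] L' := IsScalarTower.toAlgHom R (R' ⊗[R] C) L'
  obtain ⟨k, hk⟩ := exists_ext_loc f (k'.comp (incR R' C)) (by
    have e : algebraMap R L' f = algebraMap (R' ⊗[R] C) L' ((1 : R') ⊗ₜ[R] algebraMap R C f) := by
      rw [IsScalarTower.algebraMap_apply R (R' ⊗[R] C) L']
      exact congrArg _ ((incR R' C).commutes f).symm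
    rw [e]
    exact IsLocalization.Away.algebraMap_isUnit _)
  have hk' : k.toRingHom = Localization.awayMap (incR R' C).toRingHom (algebraMap R C f) := by
    refine IsLocalization.ringHom_ext (Submonoid.powers (algebraMap R C f)) ?_
    refine RingHom.ext fun c => (AlgHom.congr_fun hk c).trans ?_
    haveI : IsLocalization.Away ((incR R' C).toRingHom (algebraMap R C f)) L' :=
      (inferInstance : IsLocalization.Away ((1 : R') ⊗ₜ[R] algebraMap R C f) L')
    exact (RingHom.congr_fun (IsLocalization.map_comp (S := AwF f C) (Q := L') _) c).symm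
  have hex : ∀ a, ∃ c, incR R' C c = x a ∧ locHom f C c = y a := fun a =>
    hmid (x a) (y a) ((AlgHom.congr_fun (hxy _ k k' hk) a).symm.trans (RingHom.congr_fun hk' (y a)))
  choose u hu₁ hu₂ using hex
  have heq : ∀ c c', incR R' C c = incR R' C c' → locHom f C c = locHom f C c' → c = c' :=
    fun c c' h1 h2 => hinj (Prod.ext h1 h2)
  refine ⟨{ toFun := u
            map_one' := heq _ _ (by rw [hu₁, map_one, map_one]) (by rw [hu₂, map_one, map_one])
            map_mul' := fun a b => heq _ _ (by simp only [hu₁, map_mul]) (by simp only [hu₂, map_mul])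
            map_zero' := heq _ _ (by rw [hu₁, map_zero, map_zero]) (by rw [hu₂, map_zero, map_zero])
            map_add' := fun a b => heq _ _ (by simp only [hu₁, map_add]) (by simp only [hu₂, map_add])
            commutes' := fun r => heq _ _ (by rw [hu₁, x.commutes, (incR R' C).commutes])
              (by rw [hu₂, y.commutes, (locHom f C).commutes]) },
    AlgHom.ext hu₁, AlgHom.ext hu₂⟩

/-- Fibre products of affine schemes over a space with affine diagonal are affine. -/
theorem exists_algPullback {Z : Sp (Spec (CommRingCat.of R))} (hZ : IsAlgSpace Z)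
    (hd : IsAffineMor (Limits.diag Z)) (α : (yon _).obj (aff R A) ⟶ Z) (p : (yon _).obj (aff R C) ⟶ Z) :
    ∃ (P : Type u) (_ : CommRing P) (_ : Algebra R P) (u : A →ₐ[R] P) (v : C →ₐ[R] P),
      IsPullback (ym v) (ym u) p α := by
  obtain ⟨W, q, r, sq⟩ : ∃ (W : Over (Spec (CommRingCat.of R))) (q : W ⟶ aff R C) (r : W ⟶ aff R A),
      IsPullback ((yon _).map q) ((yon _).map r) p α := by
    have hp := hZ.representable_from_yon p
    obtain ⟨q, hq⟩ := (yon _).map_surjective (hp.fst α)
    exact ⟨_, q, hp.snd α, hq ▸ hp.isPullback α⟩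
  let iA : A →ₐ[R] A ⊗[R] C := Algebra.TensorProduct.includeLeft
  let iC : C →ₐ[R] A ⊗[R] C := Algebra.TensorProduct.includeRight
  haveI : IsAffine (aff R (A ⊗[R] C)).left := inferInstanceAs (IsAffine (Spec (CommRingCat.of (A ⊗[R] C))))
  obtain ⟨W', i, l, sq', hW'⟩ := hd (Z := aff R (A ⊗[R] C)) inferInstance (prod.lift (ym iA ≫ α) (ym iC ≫ p))
  have hl : l = (yon _).map i ≫ ym iA ≫ α ∧ l = (yon _).map i ≫ ym iC ≫ p := by
    have h1 := congrArg (· ≫ Limits.prod.fst) sq'.w
    have h2 := congrArg (· ≫ Limits.prod.snd) sq'.w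
    simp only [Category.assoc, prod.lift_fst, prod.lift_snd, Category.comp_id] at h1 h2
    exact ⟨h1, h2⟩
  obtain ⟨m, hm₁, hm₂⟩ : ∃ m : (yon _).obj W' ⟶ (yon _).obj W,
      m ≫ (yon _).map q = (yon _).map i ≫ ym iC ∧ m ≫ (yon _).map r = (yon _).map i ≫ ym iA :=
    ⟨sq.lift ((yon _).map i ≫ ym iC) ((yon _).map i ≫ ym iA)
      (by rw [Category.assoc, Category.assoc, ← hl.1, ← hl.2]), sq.lift_fst _ _ _, sq.lift_snd _ _ _⟩
  have hiso : ∃ n : W ⟶ aff R (A ⊗[R] C), n ≫ affMap iA = r ∧ n ≫ affMap iC = q := by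
    have key : Spec.map (CommRingCat.ofHom (algebraMap R A)) = (aff R A).hom := rfl
    refine ⟨Over.homMk (pullback.lift r.left q.left ((Over.w r).trans (Over.w q).symm) ≫
      (pullbackSpecIso R A C).hom) ?_, ?_, ?_⟩
    · show (_ ≫ _) ≫ Spec.map (CommRingCat.ofHom (algebraMap R (A ⊗[R] C))) = W.hom
      have e : (pullbackSpecIso R A C).hom ≫ Spec.map (CommRingCat.ofHom (algebraMap R (A ⊗[R] C))) =
          pullback.fst _ _ ≫ (aff R A).hom := by
        rw [← iA.comp_algebraMap, CommRingCat.ofHom_comp, Spec.map_comp]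
        exact (Category.assoc _ _ _).symm.trans (congrArg (· ≫ _) (pullbackSpecIso_hom_fst R A C))
      exact (Category.assoc _ _ _).trans ((congrArg (_ ≫ ·) e).trans ((pullback.lift_fst_assoc _ _ _ _).trans (Over.w r)))
    · refine Over.OverMorphism.ext ?_
      show (pullback.lift r.left q.left _ ≫ (pullbackSpecIso R A C).hom) ≫ Spec.map (CommRingCat.ofHom iA.toRingHom) = r.left
      rw [Category.assoc]
      erw [pullbackSpecIso_hom_fst, pullback.lift_fst]
    · refine Over.OverMorphism.ext ?_
      show (pullback.lift r.left q.left _ ≫ (pullbackSpecIso R A C).hom) ≫ Spec.map (CommRingCat.ofHom iC.toRingHom) = q.left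
      rw [Category.assoc]
      erw [pullbackSpecIso_hom_snd, pullback.lift_snd]
  obtain ⟨n, hn₁, hn₂⟩ := hiso
  obtain ⟨m', hm₁', hm₂'⟩ : ∃ m' : (yon _).obj W ⟶ (yon _).obj W',
      m' ≫ l = (yon _).map r ≫ α ∧ m' ≫ (yon _).map i = (yon _).map n :=
    ⟨sq'.lift ((yon _).map r ≫ α) ((yon _).map n) (prod.hom_ext
      (by
        simp only [Category.assoc, prod.lift_fst, Category.comp_id]
        rw [← Category.assoc ((yon _).map n), ← Functor.map_comp, hn₁])
      (by
        simp only [Category.assoc, prod.lift_snd, Category.comp_id]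
        rw [← Category.assoc ((yon _).map n), ← Functor.map_comp, hn₂, sq.w])), sq'.lift_fst _ _ _, sq'.lift_snd _ _ _⟩
  have h1 : m' ≫ m = 𝟙 _ := sq.hom_ext
    (by rw [Category.assoc, hm₁, reassoc_of% hm₂', ← Functor.map_comp, hn₂, Category.id_comp])
    (by rw [Category.assoc, hm₂, reassoc_of% hm₂', ← Functor.map_comp, hn₁, Category.id_comp])
  obtain ⟨m₀, rfl⟩ := (yon _).map_surjective m
  obtain ⟨m₀', rfl⟩ := (yon _).map_surjective m'
  haveI := hW'
  have : IsAffine W.left := by
    have h1' : m₀' ≫ m₀ = 𝟙 W := (yon _).map_injective (by rw [Functor.map_comp, h1, CategoryTheory.Functor.map_id])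
    have hmono : Mono i.left := (SpPts86.repWith_mono_diag hZ).property _ _ _ sq'
    have h2' : m₀ ≫ m₀' = 𝟙 W' := by
      haveI : Mono i := (Over.forget _).mono_of_mono_map hmono
      rw [← cancel_mono i, Category.assoc, Category.id_comp]
      have hni : m₀' ≫ i = n := (yon _).map_injective (by rw [Functor.map_comp, hm₂'])
      rw [hni]
      refine Over.OverMorphism.ext ((cancel_mono (pullbackSpecIso R A C).inv).1 (pullback.hom_ext ?_ ?_))
      · have e := congrArg CommaMorphism.left ((yon _).map_injective ((Functor.map_comp _ _ _).trans (hm₂.trans (Functor.map_comp _ _ _).symm)))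
        have e' := congrArg CommaMorphism.left hn₁
        simp only [Over.comp_left, Category.assoc] at e e' ⊢
        rw [pullbackSpecIso_inv_fst]
        change m₀.left ≫ n.left ≫ (affMap iA).left = i.left ≫ (affMap iA).left
        rw [e', e]
      · have e := congrArg CommaMorphism.left ((yon _).map_injective ((Functor.map_comp _ _ _).trans (hm₁.trans (Functor.map_comp _ _ _).symm)))
        have e' := congrArg CommaMorphism.left hn₂
        simp only [Over.comp_left, Category.assoc] at e e' ⊢
        rw [pullbackSpecIso_inv_snd]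
        change m₀.left ≫ n.left ≫ (affMap iC).left = i.left ≫ (affMap iC).left
        rw [e', e]
    have : IsIso m₀'.left := ⟨m₀.left, by rw [← Over.comp_left, h1']; rfl, by rw [← Over.comp_left, h2']; rfl⟩
    exact IsAffine.of_isIso m₀'.left
  obtain ⟨P, _, _, ⟨θ⟩⟩ := exists_algebra_iso W
  obtain ⟨u, hu⟩ := exists_affMap (θ.hom ≫ r)
  obtain ⟨v, hv⟩ := exists_affMap (θ.hom ≫ q)
  refine ⟨P, inferInstance, inferInstance, u, v, sq.of_iso ((yon _).mapIso θ.symm) (Iso.refl _) (Iso.refl _) (Iso.refl _) ?_ ?_ (by simp) (by simp)⟩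
  · simp only [Iso.refl_hom, Category.comp_id, Functor.mapIso_hom, Iso.symm_hom, ym, ← Functor.map_comp]
    rw [hv, Iso.inv_hom_id_assoc]
  · simp only [Iso.refl_hom, Category.comp_id, Functor.mapIso_hom, Iso.symm_hom, ym, ← Functor.map_comp]
    rw [hu, Iso.inv_hom_id_assoc]

end Groth.Agent.SpProper61.GlueEq
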