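import Groth.Agent.EtAlg23.GlueBasic
import Mathlib.RingTheory.Etale.Basic
import Mathlib.RingTheory.Ideal.IdempotentFG
import Mathlib.RingTheory.TensorProduct.Quotient
import Mathlib.AlgebraicGeometry.Morphisms.ClosedImmersion
import Mathlib.AlgebraicGeometry.Morphisms.Etale

/-!
Glueable algebras glue idempotents.
-/

set_option autoImplicit false
set_option linter.style.haveILetI false
set_option backward.isDefEq.respectTransparency false

universe u

open TensorProduct CategoryTheory CategoryTheory.Limits AlgebraicGeometry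

noncomputable section

namespace Groth.Agent.SpProper61.GlueEq

variable {R R' : Type u} [CommRing R] [CommRing R'] [Algebra R R'] {f : R}

/-- Two idempotents generating the same ideal are equal. -/
theorem idem_eq_of_span {A : Type u} [CommRing A] {a b : A} (ha : IsIdempotentElem a) (hb : IsIdempotentElem b)
    (h : Ideal.span {a} = Ideal.span {b}) : a = b := by
  obtain ⟨x, rfl⟩ := Ideal.mem_span_singleton'.1 (h ▸ Ideal.mem_span_singleton_self a)
  obtain ⟨y, hy⟩ := Ideal.mem_span_singleton'.1 (h.symm ▸ Ideal.mem_span_singleton_self b)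
  have h1 : x * b * b = x * b := by rw [mul_assoc, hb.eq]
  have h2 : y * (x * b) * (x * b) = y * (x * b) := by rw [mul_assoc, ha.eq]
  calc x * b = x * b * b := h1.symm
    _ = b := by rw [hy] at h2; linear_combination h2

theorem mul_eq_self_of_mem {A : Type u} [CommRing A] {a b : A} (ha : IsIdempotentElem a)
    (h : b ∈ Ideal.span {a}) : b * a = b := by
  obtain ⟨x, rfl⟩ := Ideal.mem_span_singleton'.1 h
  rw [mul_assoc, ha.eq]

/-- The exactness property of a glueable algebra, in ring language. -/
theorem glueable_ring (hg : EtGlue.IsGlueingPair R R' f) {C : Type u} [CommRing C] [Algebra R C]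
    (hC : EtGlue.IsGlueable R R' f C) :
    Function.Injective (fun c : C => ((1 : R') ⊗ₜ[R] c, algebraMap C (Localization.Away (algebraMap R C f)) c)) ∧
    ∀ (x : R' ⊗[R] C) (y : Localization.Away (algebraMap R C f)),
      algebraMap (R' ⊗[R] C) (Localization.Away ((1 : R') ⊗ₜ[R] algebraMap R C f)) x =
        Localization.awayMap (Algebra.TensorProduct.includeRight : C →ₐ[R] R' ⊗[R] C).toRingHom
          (algebraMap R C f) y →
      ∃ c : C, (1 : R') ⊗ₜ[R] c = x ∧ algebraMap C (Localization.Away (algebraMap R C f)) c = y := by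
  obtain ⟨hq, -⟩ := hg
  have hf : (1 : R') ⊗ₜ[R] algebraMap R C f = algebraMap R (R' ⊗[R] C) f :=
    (Algebra.TensorProduct.includeRight : C →ₐ[R] R' ⊗[R] C).commutes f
  let L' := Localization.Away ((1 : R') ⊗ₜ[R] algebraMap R C f)
  haveI : IsLocalization.Away (algebraMap R (R' ⊗[R] C) f) L' := hf ▸ Localization.isLocalization
  haveI h₁ : IsLocalizedModule (Submonoid.powers f)
      ((IsScalarTower.toAlgHom R C (Localization.Away (algebraMap R C f))).toLinearMap) :=
    EtAlg23.isLocalizedModule_away_algebraMap f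
  haveI h₂ : IsLocalizedModule (Submonoid.powers f)
      ((IsScalarTower.toAlgHom R (R' ⊗[R] C) L').toLinearMap) := by
    haveI : IsLocalization (Algebra.algebraMapSubmonoid (R' ⊗[R] C) (Submonoid.powers f)) L' := by
      rw [Algebra.algebraMapSubmonoid_powers]; infer_instance
    infer_instance
  let inc := (Algebra.TensorProduct.includeRight : C →ₐ[R] R' ⊗[R] C)
  have hv0 : ∀ c, Localization.awayMap inc.toRingHom (algebraMap R C f) (algebraMap C _ c) =
      algebraMap (R' ⊗[R] C) L' (inc c) := fun c => IsLocalization.map_eq _ c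
  let v : Localization.Away (algebraMap R C f) →ₗ[R] L' :=
    { Localization.awayMap inc.toRingHom (algebraMap R C f) with
      map_smul' := fun r y => by
        show Localization.awayMap inc.toRingHom (algebraMap R C f) (r • y) =
          r • Localization.awayMap inc.toRingHom (algebraMap R C f) y
        rw [Algebra.smul_def, Algebra.smul_def, map_mul,
          IsScalarTower.algebraMap_apply R C (Localization.Away (algebraMap R C f)), hv0, inc.commutes,
          ← IsScalarTower.algebraMap_apply R (R' ⊗[R] C) L']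
        rfl }
  exact (EtAlg23.square_iff (f := f) (TensorProduct.mk R R' C 1) v
    (IsScalarTower.toAlgHom R C (Localization.Away (algebraMap R C f))).toLinearMap
    (IsScalarTower.toAlgHom R (R' ⊗[R] C) L').toLinearMap
    (fun c => hv0 c)
    (fun n _ _ h => EtAlg23.tensor_quot_inj hq n h)).2 ((EtAlg23.isGlueable_iff hq C).1 hC)

/-- An ideal which becomes generated by an idempotent after both base changes is fixed by a global idempotent
lying in all primes containing it. -/
theorem exists_idem (hg : EtGlue.IsGlueingPair R R' f) {C : Type u} [CommRing C] [Algebra R C]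
    (hC : EtGlue.IsGlueable R R' f C) (J : Ideal C)
    (h₁ : ∃ e, IsIdempotentElem e ∧
      J.map (algebraMap C (Localization.Away (algebraMap R C f))) = Ideal.span {e})
    (h₂ : ∃ e, IsIdempotentElem e ∧
      J.map (Algebra.TensorProduct.includeRight : C →ₐ[R] R' ⊗[R] C).toRingHom = Ideal.span {e}) :
    ∃ e : C, (∀ j ∈ J, j * e = j) ∧ ∀ p : Ideal C, p.IsPrime → J ≤ p → e ∈ p := by
  obtain ⟨hinj, hmid⟩ := glueable_ring hg hC
  obtain ⟨e₁, he₁, hJ₁⟩ := h₁
  obtain ⟨e₂, he₂, hJ₂⟩ := h₂
  let inc := (Algebra.TensorProduct.includeRight : C →ₐ[R] R' ⊗[R] C).toRingHom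
  let L := Localization.Away (algebraMap R C f)
  let L' := Localization.Away ((1 : R') ⊗ₜ[R] algebraMap R C f)
  haveI : IsLocalization.Away (inc (algebraMap R C f)) L' :=
    inferInstanceAs (IsLocalization.Away ((1 : R') ⊗ₜ[R] algebraMap R C f) L')
  let v : L →+* L' := Localization.awayMap inc (algebraMap R C f)
  have hv : v.comp (algebraMap C L) = (algebraMap (R' ⊗[R] C) L').comp inc :=
    IsLocalization.map_comp (S := L) (Q := L') _
  have heq : algebraMap (R' ⊗[R] C) L' e₂ = v e₁ := by
    refine idem_eq_of_span (he₂.map _) (he₁.map v) ?_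
    rw [← Set.image_singleton, ← Set.image_singleton, ← Ideal.map_span, ← Ideal.map_span, ← hJ₁, ← hJ₂,
      Ideal.map_map, Ideal.map_map, hv]
  obtain ⟨e, hx, hy⟩ := hmid e₂ e₁ heq
  refine ⟨e, fun j hj => hinj (Prod.ext ?_ ?_), fun p hp hJp => ?_⟩
  · show inc (j * e) = inc j
    rw [map_mul, show inc e = e₂ from hx]
    exact mul_eq_self_of_mem he₂ (hJ₂ ▸ Ideal.mem_map_of_mem _ hj)
  · show algebraMap C L (j * e) = algebraMap C L j
    rw [map_mul, hy]
    exact mul_eq_self_of_mem he₁ (hJ₁ ▸ Ideal.mem_map_of_mem _ hj)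
  · by_cases hf : algebraMap R C f ∈ p
    · obtain ⟨hq, -⟩ := hg
      let q := Ideal.span {f ^ 1}
      let ψ₀ : R ⧸ q →ₐ[R] C ⧸ p := Ideal.Quotient.liftₐ q (Algebra.ofId R (C ⧸ p)) fun a ha => by
        obtain ⟨c, rfl⟩ := Ideal.mem_span_singleton'.1 ha
        rw [Algebra.ofId_apply, IsScalarTower.algebraMap_apply R C (C ⧸ p), Ideal.Quotient.algebraMap_eq,
          Ideal.Quotient.eq_zero_iff_mem, pow_one, map_mul]
        exact Ideal.mul_mem_left _ _ hf
      let Q : R ⧸ q →ₐ[R] R' ⧸ q.map (algebraMap R R') :=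
        Ideal.quotientMapₐ _ (Algebra.ofId R R') Ideal.le_comap_map
      have hQ : Function.Bijective Q := hq 1 one_pos
      let φ : R' →ₐ[R] C ⧸ p :=
        ψ₀.comp ((AlgEquiv.ofBijective Q hQ).symm.toAlgHom.comp (Ideal.Quotient.mkₐ R _))
      let Φ : R' ⊗[R] C →ₐ[R] C ⧸ p :=
        Algebra.TensorProduct.lift φ (Ideal.Quotient.mkₐ R p) fun _ _ => Commute.all _ _
      have hΦ : ∀ c, Φ (inc c) = Ideal.Quotient.mk p c := fun c => by simp [Φ, inc]
      have hz : J.map inc ≤ RingHom.ker Φ.toRingHom := Ideal.map_le_iff_le_comap.2 fun c hc => by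
        show Φ (inc c) = 0
        rw [hΦ, Ideal.Quotient.eq_zero_iff_mem]
        exact hJp hc
      have : Φ (inc e) = 0 := hz (by
        show inc e ∈ J.map inc
        rw [show inc e = e₂ from hx, hJ₂]
        exact Ideal.mem_span_singleton_self _)
      rwa [hΦ, Ideal.Quotient.eq_zero_iff_mem] at this
    · have hd : Disjoint (Submonoid.powers (algebraMap R C f) : Set C) (p : Set C) := by
        rw [Set.disjoint_left]
        rintro _ ⟨n, rfl⟩ hn
        exact hf (hp.mem_of_pow_mem n hn)
      have h1 : algebraMap C L e ∈ p.map (algebraMap C L) := by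
        rw [hy]
        exact Ideal.map_mono hJp (hJ₁ ▸ Ideal.mem_span_singleton_self _)
      exact (IsLocalization.under_map_of_isPrime_disjoint _ _ hp hd).le h1

/-- A closed subscheme of an affine scheme that becomes open is cut out by an idempotent. -/
theorem exists_idem_of_openImmersion {C L : Type u} [CommRing C] [CommRing L] [Algebra C L] (J : Ideal C)
    (h : IsOpenImmersion (pullback.fst (Spec.map (CommRingCat.ofHom (algebraMap C L)))
      (Spec.map (CommRingCat.ofHom (Ideal.Quotient.mk J))))) :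
    ∃ e : L, IsIdempotentElem e ∧ J.map (algebraMap C L) = Ideal.span {e} := by
  have h1 : Etale (Spec.map (CommRingCat.ofHom
      (Algebra.TensorProduct.includeLeftRingHom : L →+* L ⊗[C] (C ⧸ J)))) := by
    have : IsOpenImmersion (Spec.map (CommRingCat.ofHom
        (Algebra.TensorProduct.includeLeftRingHom : L →+* L ⊗[C] (C ⧸ J)))) := by
      rw [← pullbackSpecIso_inv_fst]
      exact MorphismProperty.RespectsIso.precomp @IsOpenImmersion _ _ h
    infer_instance
  have h2 : (algebraMap L (L ⊗[C] (C ⧸ J))).Etale := HasRingHomProperty.Spec_iff.1 h1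
  haveI : Algebra.Etale L (L ⊗[C] (C ⧸ J)) := RingHom.etale_algebraMap.1 h2
  let q := Algebra.TensorProduct.quotIdealMapEquivTensorQuot L J
  haveI : Algebra.Etale L (L ⧸ J.map (algebraMap C L)) := Algebra.Etale.of_equiv q.symm
  have hs : Function.Surjective (algebraMap L (L ⧸ J.map (algebraMap C L))) := Ideal.Quotient.mk_surjective
  have hfg := Algebra.FinitePresentation.ker_fG_of_surjective (Algebra.ofId L (L ⧸ J.map (algebraMap C L))) hs
  have hid := (Algebra.FormallyEtale.iff_of_surjective hs).1 inferInstance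
  rw [show RingHom.ker (Algebra.ofId L (L ⧸ J.map (algebraMap C L))).toRingHom = J.map (algebraMap C L) from
    Ideal.mk_ker] at hfg
  rw [show RingHom.ker (algebraMap L (L ⧸ J.map (algebraMap C L))) = J.map (algebraMap C L) from
    Ideal.mk_ker] at hid
  exact (Ideal.isIdempotentElem_iff_of_fg _ hfg).1 hid

/-- Primes containing `f` lift to the completed algebra. -/
theorem exists_prime_over (hg : EtGlue.IsGlueingPair R R' f) {C : Type u} [CommRing C] [Algebra R C]
    (p : Ideal C) [hp : p.IsPrime] (hf : algebraMap R C f ∈ p) :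
    ∃ P : Ideal (R' ⊗[R] C), P.IsPrime ∧
      P.comap (Algebra.TensorProduct.includeRight : C →ₐ[R] R' ⊗[R] C).toRingHom = p := by
  obtain ⟨hq, -⟩ := hg
  let q := Ideal.span {f ^ 1}
  let ψ₀ : R ⧸ q →ₐ[R] C ⧸ p := Ideal.Quotient.liftₐ q (Algebra.ofId R (C ⧸ p)) fun a ha => by
    obtain ⟨c, rfl⟩ := Ideal.mem_span_singleton'.1 ha
    rw [Algebra.ofId_apply, IsScalarTower.algebraMap_apply R C (C ⧸ p), Ideal.Quotient.algebraMap_eq,
      Ideal.Quotient.eq_zero_iff_mem, pow_one, map_mul]
    exact Ideal.mul_mem_left _ _ hf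
  let Q : R ⧸ q →ₐ[R] R' ⧸ q.map (algebraMap R R') :=
    Ideal.quotientMapₐ _ (Algebra.ofId R R') Ideal.le_comap_map
  have hQ : Function.Bijective Q := hq 1 one_pos
  let φ : R' →ₐ[R] C ⧸ p :=
    ψ₀.comp ((AlgEquiv.ofBijective Q hQ).symm.toAlgHom.comp (Ideal.Quotient.mkₐ R _))
  let Φ : R' ⊗[R] C →ₐ[R] C ⧸ p :=
    Algebra.TensorProduct.lift φ (Ideal.Quotient.mkₐ R p) fun _ _ => Commute.all _ _
  refine ⟨RingHom.ker Φ.toRingHom, RingHom.ker_isPrime _, ?_⟩
  ext c
  show Φ ((1 : R') ⊗ₜ[R] c) = 0 ↔ c ∈ p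
  simp [Φ, Ideal.Quotient.eq_zero_iff_mem]

end Groth.Agent.SpProper61.GlueEq
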