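import Groth.Agent.SpProper61.PushRing
import Groth.Agent.Pinch2.Maps
import Groth.Agent.Pinch2.Pairs

/-!
Maps of pushouts of schemes along thickenings and affine morphisms.
-/

set_option autoImplicit false
set_option linter.style.haveILetI false
set_option backward.isDefEq.respectTransparency.types false

universe u

open CategoryTheory CategoryTheory.Limits AlgebraicGeometry TopologicalSpace

noncomputable section

namespace Groth.Agent.SpProper61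

/-- A square with two affine sides is cartesian if it is cocartesian on sections. -/
theorem isPullback_of_isPushout_app {W' V' X' Y' : Scheme.{u}} {p : W' ⟶ V'} {w' : W' ⟶ X'} {h : V' ⟶ Y'}
    {a' : X' ⟶ Y'} [IsAffineHom p] [IsAffineHom a'] (hw : p ≫ h = w' ≫ a')
    (hc : ∀ x : V', ∃ (O : Y'.Opens) (O' : V'.Opens) (_ : IsAffineOpen O) (_ : IsAffineOpen O')
      (e : O' ≤ h ⁻¹ᵁ O) (eW : p ⁻¹ᵁ O' ≤ w' ⁻¹ᵁ (a' ⁻¹ᵁ O)), x ∈ O' ∧
        IsPushout (a'.app O) (h.appLE O O' e) (w'.appLE (a' ⁻¹ᵁ O) (p ⁻¹ᵁ O') eW) (p.app O')) :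
    IsPullback p w' h a' := by
  let m : W' ⟶ pullback h a' := pullback.lift p w' hw
  have hm₁ : m ≫ pullback.fst h a' = p := pullback.lift_fst _ _ _
  have hm₂ : m ≫ pullback.snd h a' = w' := pullback.lift_snd _ _ _
  haveI : IsAffineHom (pullback.fst h a') := MorphismProperty.pullback_fst h a' ‹_›
  haveI : IsAffineHom (m ≫ pullback.fst h a') := by rw [hm₁]; infer_instance
  haveI : IsAffineHom m := MorphismProperty.of_postcomp (W := @IsAffineHom) (W' := @IsSeparated) m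
    (pullback.fst h a') inferInstance inferInstance
  suffices IsIso m from IsPullback.of_iso_pullback ⟨hw⟩ (asIso m) hm₁ hm₂
  choose O O' hO hO' e eW hx hpo using hc
  refine IsZariskiLocalAtTarget.of_iSup_eq_top (P := MorphismProperty.isomorphisms Scheme.{u})
    (fun x => pullback.fst h a' ⁻¹ᵁ O' x)
    (eq_top_iff.2 fun z _ => Opens.mem_iSup.2 ⟨pullback.fst h a' z, hx _⟩) fun x => ?_
  have H : IsPullback (pullback.snd h a') (pullback.fst h a') a' h := (IsPullback.of_hasPullback h a').flip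
  set UY := pullback.fst h a' ⁻¹ᵁ O' x with hUY₀
  have hUY : UY = pullback.snd h a' ⁻¹ᵁ (a' ⁻¹ᵁ O x) ⊓ pullback.fst h a' ⁻¹ᵁ O' x := by
    refine (inf_eq_right.2 ?_).symm
    rw [← Scheme.Hom.comp_preimage, ← pullback.condition, Scheme.Hom.comp_preimage]
    exact (pullback.fst h a').preimage_mono (e x)
  have hP := (isIso_pushoutSection_iff H (e x) le_rfl hUY).1
    (isIso_pushoutSection_of_isAffineOpen H (e x) le_rfl hUY (hO x) (hO' x) ((hO x).preimage a'))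
  have hUYa : IsAffineOpen UY := (hO' x).preimage _
  show IsIso (m ∣_ UY)
  rw [isIso_morphismRestrict_iff_isIso_app m hUYa]
  have hpre : m ⁻¹ᵁ UY = p ⁻¹ᵁ O' x := by
    rw [hUY₀, ← Scheme.Hom.comp_preimage, hm₁]
  have hQ : IsPushout (a'.appLE (O x) (a' ⁻¹ᵁ O x) le_rfl) (h.appLE (O x) (O' x) (e x))
      (w'.appLE (a' ⁻¹ᵁ O x) (m ⁻¹ᵁ UY) (hpre.le.trans (eW x))) (p.appLE (O' x) (m ⁻¹ᵁ UY) hpre.le) := by
    have : ∀ (U : W'.Opens) (hU : U = p ⁻¹ᵁ O' x), IsPushout (a'.appLE (O x) (a' ⁻¹ᵁ O x) le_rfl)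
        (h.appLE (O x) (O' x) (e x))
        (w'.appLE (a' ⁻¹ᵁ O x) U (hU.le.trans (eW x))) (p.appLE (O' x) U hU.le) := by
      rintro U rfl
      simpa only [Scheme.Hom.app_eq_appLE] using hpo x
    exact this _ hpre
  have key : m.app UY = (hP.isoIsPushout _ _ hQ).hom := by
    refine hP.hom_ext ?_ ?_
    · rw [IsPushout.inl_isoIsPushout_hom, Scheme.Hom.app_eq_appLE, Scheme.Hom.appLE_comp_appLE]
      simp only [hm₂]
    · rw [IsPushout.inr_isoIsPushout_hom, Scheme.Hom.app_eq_appLE, Scheme.Hom.appLE_comp_appLE]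
      simp only [hm₁]
  rw [key]
  infer_instance

variable {X X' Y Y' W W' V V' : Scheme.{u}} {t : X ⟶ X'} {a : X ⟶ Y} {a' : X' ⟶ Y'} {b : Y ⟶ Y'}
  [IsClosedImmersion t] [Surjective t] [IsAffineHom a] (hP : IsPushout t a a' b)
  {i : W ⟶ W'} {j : W ⟶ V} {p : W' ⟶ V'} {q : V ⟶ V'} {w : W ⟶ X} {w' : W' ⟶ X'} {v : V ⟶ Y} {h : V' ⟶ Y'}
  (hi : IsPullback i w w' t) (hj : IsPullback j w v a) (hT : IsPushout i j p q)
  (hp : p ≫ h = w' ≫ a') (hq : q ≫ h = v ≫ b)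

include hP hi hj hT hp hq

lemma chart_data_thick {O : Y'.Opens} {O' : V'.Opens} (hO : IsAffineOpen O) (hO' : IsAffineOpen O')
    (e : O' ≤ h ⁻¹ᵁ O) :
    IsAffineOpen (p ⁻¹ᵁ O') ∧ IsAffineOpen (q ⁻¹ᵁ O') ∧
    ∃ (eX : p ⁻¹ᵁ O' ≤ w' ⁻¹ᵁ (a' ⁻¹ᵁ O)) (eY : q ⁻¹ᵁ O' ≤ v ⁻¹ᵁ (b ⁻¹ᵁ O)),
      IsPushout (a'.app O) (h.appLE O O' e) (w'.appLE (a' ⁻¹ᵁ O) (p ⁻¹ᵁ O') eX) (p.app O') ∧
      IsPushout (b.app O) (h.appLE O O' e) (v.appLE (b ⁻¹ᵁ O) (q ⁻¹ᵁ O') eY) (q.app O') ∧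
      Pinch2.FibAt t a a' b hP.w O := by
  haveI : IsClosedImmersion i := MorphismProperty.of_isPullback hi.flip ‹_›
  haveI : Surjective i := MorphismProperty.of_isPullback hi.flip ‹_›
  haveI : IsAffineHom j := MorphismProperty.of_isPullback hj.flip ‹_›
  have H : Pinch2.HasPairs t a := Pinch2.hasPairs_thickening
  have H' : Pinch2.HasPairs i j := Pinch2.hasPairs_thickening
  haveI := Pinch2.isAffineHom_inl H hP
  haveI := Pinch2.isClosedImmersion_inr H hP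
  haveI := Pinch2.isAffineHom_inl H' hT
  haveI := Pinch2.isClosedImmersion_inr H' hT
  have eX : p ⁻¹ᵁ O' ≤ w' ⁻¹ᵁ (a' ⁻¹ᵁ O) := by
    rw [← Scheme.Hom.comp_preimage, ← hp, Scheme.Hom.comp_preimage]
    exact p.preimage_mono e
  have eY : q ⁻¹ᵁ O' ≤ v ⁻¹ᵁ (b ⁻¹ᵁ O) := by
    rw [← Scheme.Hom.comp_preimage, ← hq, Scheme.Hom.comp_preimage]
    exact q.preimage_mono e
  refine ⟨hO'.preimage p, hO'.preimage q, eX, eY, ?_⟩
  have hfib := Pinch2.fibAt_of_isPushout H hP hO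
  have hfib' := Pinch2.fibAt_of_isPushout H' hT hO'
  have hjZ := Pinch2.preimage_le hP.w O
  have hjZ' := Pinch2.preimage_le hT.w O'
  have eC : i ⁻¹ᵁ (p ⁻¹ᵁ O') ≤ w ⁻¹ᵁ (t ⁻¹ᵁ (a' ⁻¹ᵁ O)) := by
    rw [← Scheme.Hom.comp_preimage w t, ← hi.w, Scheme.Hom.comp_preimage]
    exact i.preimage_mono eX
  have pX := (isIso_pushoutSection_iff hi le_rfl eX (inf_eq_left.2 eC).symm).1
    (isIso_pushoutSection_of_isAffineOpen hi le_rfl eX (inf_eq_left.2 eC).symm (hO.preimage a')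
      ((hO.preimage a').preimage t) (hO'.preimage p))
  have hUY : i ⁻¹ᵁ (p ⁻¹ᵁ O') = j ⁻¹ᵁ (q ⁻¹ᵁ O') ⊓ w ⁻¹ᵁ (t ⁻¹ᵁ (a' ⁻¹ᵁ O)) := by
    rw [← hjZ']; exact (inf_eq_left.2 eC).symm
  have pY := (isIso_pushoutSection_iff hj hjZ.le eY hUY).1
    (isIso_pushoutSection_of_isAffineOpen hj hjZ.le eY hUY (hO.preimage b)
      ((hO.preimage a').preimage t) (hO'.preimage q))
  have wO : a'.app O ≫ t.appLE (a' ⁻¹ᵁ O) (t ⁻¹ᵁ (a' ⁻¹ᵁ O)) le_rfl =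
      b.app O ≫ a.appLE (b ⁻¹ᵁ O) (t ⁻¹ᵁ (a' ⁻¹ᵁ O)) hjZ.le := by
    simp only [Scheme.Hom.app_eq_appLE, Scheme.Hom.appLE_comp_appLE, hP.w]
  have wO' : p.app O' ≫ i.appLE (p ⁻¹ᵁ O') (i ⁻¹ᵁ (p ⁻¹ᵁ O')) le_rfl =
      q.app O' ≫ j.appLE (q ⁻¹ᵁ O') (i ⁻¹ᵁ (p ⁻¹ᵁ O')) hjZ'.le := by
    simp only [Scheme.Hom.app_eq_appLE, Scheme.Hom.appLE_comp_appLE, hT.w]
  have hA : a'.app O ≫ w'.appLE (a' ⁻¹ᵁ O) (p ⁻¹ᵁ O') eX = h.appLE O O' e ≫ p.app O' := by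
    simp only [Scheme.Hom.app_eq_appLE, Scheme.Hom.appLE_comp_appLE, hp]
  have hB : b.app O ≫ v.appLE (b ⁻¹ᵁ O) (q ⁻¹ᵁ O') eY = h.appLE O O' e ≫ q.app O' := by
    simp only [Scheme.Hom.app_eq_appLE, Scheme.Hom.appLE_comp_appLE, hq]
  have ht : Function.Surjective (t.appLE (a' ⁻¹ᵁ O) (t ⁻¹ᵁ (a' ⁻¹ᵁ O)) le_rfl) := by
    rw [← Scheme.Hom.app_eq_appLE]
    exact t.app_surjective _ (hO.preimage a')
  obtain ⟨h₁, h₂⟩ := isPushout_legs_of_fibProp hfib hfib' wO wO' hA hB pX.flip pY.flip ht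
    (b.app_surjective O hO) (q.app_surjective O' hO')
  exact ⟨h₁, h₂, hfib⟩

/-- The front and back faces of a map of such pushouts are cartesian. -/
theorem isPullback_faces : IsPullback p w' h a' ∧ IsPullback q v h b := by
  haveI : IsClosedImmersion i := MorphismProperty.of_isPullback hi.flip ‹_›
  haveI : Surjective i := MorphismProperty.of_isPullback hi.flip ‹_›
  haveI : IsAffineHom j := MorphismProperty.of_isPullback hj.flip ‹_›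
  haveI := Pinch2.isAffineHom_inl (Pinch2.hasPairs_thickening (i := t) (j := a)) hP
  haveI := Pinch2.isClosedImmersion_inr (Pinch2.hasPairs_thickening (i := t) (j := a)) hP
  haveI := Pinch2.isAffineHom_inl (Pinch2.hasPairs_thickening (i := i) (j := j)) hT
  haveI := Pinch2.isClosedImmersion_inr (Pinch2.hasPairs_thickening (i := i) (j := j)) hT
  constructor
  all_goals
    refine isPullback_of_isPushout_app (by assumption) fun x => ?_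
    obtain ⟨O, hO, hxO, -⟩ := exists_isAffineOpen_mem_and_subset (x := h x) (U := (⊤ : Y'.Opens)) trivial
    obtain ⟨O', hO', hxO', e⟩ := exists_isAffineOpen_mem_and_subset (x := x) (U := h ⁻¹ᵁ O) hxO
    obtain ⟨-, -, eX, eY, pA, pB, -⟩ := chart_data_thick hP hi hj hT hp hq hO hO' e
  · exact ⟨O, O', hO, hO', e, eX, hxO', pA⟩
  · exact ⟨O, O', hO, hO', e, eY, hxO', pB⟩

/-- Flatness, finite type, flatness with finite presentation, smoothness and étaleness descend to the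
map of pushouts. -/
theorem descend_thick :
    (LocallyOfFiniteType w' → LocallyOfFiniteType v → LocallyOfFiniteType h) ∧
    (Flat w' → Flat v → Flat h) ∧
    (Flat w' → Flat v → LocallyOfFinitePresentation w' → LocallyOfFinitePresentation v →
      LocallyOfFinitePresentation h) ∧
    (Smooth w' → Smooth v → Smooth h) ∧
    (Etale w' → Etale v → Etale h) := by
  have key : ∀ (O : Y'.affineOpens) (O' : V'.affineOpens) (e : O'.1 ≤ h ⁻¹ᵁ O.1),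
      ∃ (eX : p ⁻¹ᵁ O'.1 ≤ w' ⁻¹ᵁ (a' ⁻¹ᵁ O.1)) (eY : q ⁻¹ᵁ O'.1 ≤ v ⁻¹ᵁ (b ⁻¹ᵁ O.1)),
        IsAffineOpen (a' ⁻¹ᵁ O.1) ∧ IsAffineOpen (b ⁻¹ᵁ O.1) ∧
        IsAffineOpen (p ⁻¹ᵁ O'.1) ∧ IsAffineOpen (q ⁻¹ᵁ O'.1) ∧
        (let α := w'.appLE (a' ⁻¹ᵁ O.1) (p ⁻¹ᵁ O'.1) eX; let β := v.appLE (b ⁻¹ᵁ O.1) (q ⁻¹ᵁ O'.1) eY
        let ρ := h.appLE O.1 O'.1 e
        (α.hom.FiniteType → β.hom.FiniteType → ρ.hom.FiniteType) ∧
        (α.hom.Flat → β.hom.Flat → ρ.hom.Flat) ∧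
        (α.hom.Flat → β.hom.Flat → α.hom.FinitePresentation → β.hom.FinitePresentation → ρ.hom.FinitePresentation) ∧
        (α.hom.Smooth → β.hom.Smooth → ρ.hom.Smooth) ∧
        (α.hom.Etale → β.hom.Etale → ρ.hom.Etale)) := by
    intro O O' e
    haveI := Pinch2.isAffineHom_inl (Pinch2.hasPairs_thickening (i := t) (j := a)) hP
    haveI := Pinch2.isClosedImmersion_inr (Pinch2.hasPairs_thickening (i := t) (j := a)) hP
    obtain ⟨hA, hB, eX, eY, pA, pB, hfib⟩ := chart_data_thick hP hi hj hT hp hq O.2 O'.2 e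
    refine ⟨eX, eY, O.2.preimage a', O.2.preimage b, hA, hB, ?_⟩
    refine hfib.descend ?_ ?_ pA pB
    · simp only [Scheme.Hom.app_eq_appLE, Scheme.Hom.appLE_comp_appLE, hP.w]
    · rw [← Scheme.Hom.app_eq_appLE]
      exact t.app_surjective _ (O.2.preimage a')
  refine ⟨fun h₁ h₂ => ?_, fun h₁ h₂ => ?_, fun h₁ h₂ h₃ h₄ => ?_, fun h₁ h₂ => ?_, fun h₁ h₂ => ?_⟩
  · rw [HasRingHomProperty.iff_appLE (P := @LocallyOfFiniteType)]
    intro O O' e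
    obtain ⟨eX, eY, a₁, a₂, a₃, a₄, k, -⟩ := key O O' e
    exact k (HasRingHomProperty.appLE _ _ h₁ ⟨_, a₁⟩ ⟨_, a₃⟩ eX) (HasRingHomProperty.appLE _ _ h₂ ⟨_, a₂⟩ ⟨_, a₄⟩ eY)
  · rw [HasRingHomProperty.iff_appLE (P := @Flat)]
    intro O O' e
    obtain ⟨eX, eY, a₁, a₂, a₃, a₄, -, k, -⟩ := key O O' e
    exact k (HasRingHomProperty.appLE _ _ h₁ ⟨_, a₁⟩ ⟨_, a₃⟩ eX) (HasRingHomProperty.appLE _ _ h₂ ⟨_, a₂⟩ ⟨_, a₄⟩ eY)
  · rw [HasRingHomProperty.iff_appLE (P := @LocallyOfFinitePresentation)]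
    intro O O' e
    obtain ⟨eX, eY, a₁, a₂, a₃, a₄, -, -, k, -⟩ := key O O' e
    exact k (HasRingHomProperty.appLE _ _ h₁ ⟨_, a₁⟩ ⟨_, a₃⟩ eX) (HasRingHomProperty.appLE _ _ h₂ ⟨_, a₂⟩ ⟨_, a₄⟩ eY)
      (HasRingHomProperty.appLE _ _ h₃ ⟨_, a₁⟩ ⟨_, a₃⟩ eX) (HasRingHomProperty.appLE _ _ h₄ ⟨_, a₂⟩ ⟨_, a₄⟩ eY)
  · rw [HasRingHomProperty.iff_appLE (P := @Smooth)]
    intro O O' e
    obtain ⟨eX, eY, a₁, a₂, a₃, a₄, -, -, -, k, -⟩ := key O O' e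
    exact k (HasRingHomProperty.appLE _ _ h₁ ⟨_, a₁⟩ ⟨_, a₃⟩ eX) (HasRingHomProperty.appLE _ _ h₂ ⟨_, a₂⟩ ⟨_, a₄⟩ eY)
  · rw [HasRingHomProperty.iff_appLE (P := @Etale)]
    intro O O' e
    obtain ⟨eX, eY, a₁, a₂, a₃, a₄, -, -, -, -, k⟩ := key O O' e
    exact k (HasRingHomProperty.appLE _ _ h₁ ⟨_, a₁⟩ ⟨_, a₃⟩ eX) (HasRingHomProperty.appLE _ _ h₂ ⟨_, a₂⟩ ⟨_, a₄⟩ eY)

end Groth.Agent.SpProper61
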