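import Groth.Agent.SpProper61.PushCover
import Groth.Agent.SpProper61.PushLocal
import Groth.Agent.SpFP87.EtTop
import Groth.Agent.SpFP87.ThickScheme
import Groth.Agent.SpFP87.RepDescProps

/-!
Charts of pushouts of algebraic spaces along thickenings and affine morphisms.
-/

set_option autoImplicit false
set_option linter.style.haveILetI false
set_option backward.isDefEq.respectTransparency false

universe u

open CategoryTheory CategoryTheory.Limits AlgebraicGeometry
open AlgSp Groth.Agent.SpFP87 Groth.Agent.SpPts86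

namespace Groth.Agent.SpProper61

variable {S : Scheme.{u}}

/-- A pushout in `Over S` along a thickening and an affine morphism. -/
theorem exists_isPushout_over {X X' Y : Over S} (t : X ⟶ X') (a : X ⟶ Y) [IsClosedImmersion t.left]
    [Surjective t.left] [IsAffineHom a.left] :
    ∃ (Y' : Over S) (a' : X' ⟶ Y') (b : Y ⟶ Y'), IsPushout t a a' b := by
  have H : Pinch2.HasPairs t.left a.left := Pinch2.hasPairs_thickening
  have h := Pinch2.isPushout H
  let s := h.desc X'.hom Y.hom ((Over.w t).trans (Over.w a).symm)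
  let a' : X' ⟶ Over.mk s := Over.homMk (Pinch2.aMap H) (h.inl_desc _ _ _)
  let b : Y ⟶ Over.mk s := Over.homMk (Pinch2.bMap H) (h.inr_desc _ _ _)
  exact ⟨Over.mk s, a', b, IsPushout.of_map (Over.forget S) (Over.OverMorphism.ext h.w) h⟩

/-- The chart of the source of a thickening extends to one of its target. -/
theorem exists_chart_lift_thick {X X' : Sp S} {t : X ⟶ X'} (ht : IsThickMor t) (hX : IsAlgSpace X)
    (hX' : IsAlgSpace X') {U : Over S} {uX : (yon S).obj U ⟶ X} (hu : RepWith @Etale uX)
    (hus : RepWith @Surjective uX) :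
    ∃ (U' : Over S) (pU : (yon S).obj U' ⟶ X') (tU : U ⟶ U'), RepWith @Etale pU ∧ RepWith @Surjective pU ∧
      IsClosedImmersion tU.left ∧ Surjective tU.left ∧ IsPullback uX ((yon S).map tU) t pU := by
  have huh : RepWith uhHom t := by
    refine Groth.Agent.SpPts86.repWith_mono (fun A B g hg => ?_) ht
    haveI : IsClosedImmersion g := hg.1
    exact ⟨⟨(inferInstance : IsIntegralHom g), (inferInstance : UniversallyInjective g)⟩, hg.2⟩
  obtain ⟨V', a, c, hV', ha, sq⟩ := exists_descent_of_etale huh hX' hX (IsAlgSpace.yon_obj U)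
    (Groth.Agent.SpPts86.isEtaleMor_of_repWith_etale hu)
  obtain ⟨T', ⟨e⟩⟩ := exists_scheme_of_thick (thick_baseChange ht sq) hV' (Iso.refl _)
  obtain ⟨tU, htU⟩ := (yon S).map_surjective (c ≫ e.inv)
  have sq' : IsPullback uX ((yon S).map tU) t (e.hom ≫ a) := by
    rw [htU]
    exact sq.of_iso (Iso.refl _) (Iso.refl _) e.symm (Iso.refl _) (by simp) (by simp) (by simp) (by simp)
  have ha' : RepWith @Etale (e.hom ≫ a) := by
    refine Groth.Agent.SpPts86.repWith_etale_of_isEtaleMor hX' (hX'.representable_from_yon _) ?_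
    exact Groth.Agent.SpPts86.isEtaleMor_comp
      (Groth.Agent.SpPts86.isEtaleMor_of_repWith_etale (repWith_etale_of_isIso e.hom)) ha
  have htl : thick tU.left := (repWith_yon_map_iff thick tU).1 ((repWith_isStableUnderBaseChange _).of_isPullback sq' ht)
  refine ⟨T', _, tU, ha', (repWith_surjective_iff ha'.rep).2 fun x => ?_, htl.1, htl.2, sq'⟩
  obtain ⟨y, rfl⟩ := surjective_map_of_thick ht x
  obtain ⟨z, rfl⟩ := (repWith_surjective_iff hu.rep).1 hus y
  exact ⟨Points.map ((yon S).map tU) z, by rw [← Points.map_comp, ← Points.map_comp, sq'.w]⟩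

/-- A surjective closed immersion lifts reduced points. -/
theorem exists_lift_of_reduced {R R' T : Scheme.{u}} (q : R ⟶ R') [IsClosedImmersion q] [Surjective q]
    [IsReduced T] (x : T ⟶ R') : ∃ y : T ⟶ R, y ≫ q = x := by
  haveI : IsClosedImmersion (pullback.snd q x) := MorphismProperty.pullback_snd q x ‹_›
  haveI : Surjective (pullback.snd q x) := MorphismProperty.pullback_snd q x ‹_›
  haveI := isIso_of_isClosedImmersion_of_surjective (pullback.snd q x)
  exact ⟨inv (pullback.snd q x) ≫ pullback.fst q x, by rw [Category.assoc, pullback.condition, IsIso.inv_hom_id_assoc]⟩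

/-- A pair of maps, one étale, is jointly monic if it is so after a surjective closed immersion and a
monomorphism of the targets. -/
theorem hom_ext_of_thick_cover {R R' V V' : Over S} {qR : R ⟶ R'} [IsClosedImmersion qR.left]
    [Surjective qR.left] {q : V ⟶ V'} [IsClosedImmersion q.left] {r₁ r₂ : R ⟶ V} {s₁ s₂ : R' ⟶ V'}
    [Etale s₁.left] (h₁ : qR ≫ s₁ = r₁ ≫ q) (h₂ : qR ≫ s₂ = r₂ ≫ q)
    (hr : ∀ (T : Over S) (x y : T ⟶ R), x ≫ r₁ = y ≫ r₁ → x ≫ r₂ = y ≫ r₂ → x = y)
    {T : Over S} {x y : T ⟶ R'} (e₁ : x ≫ s₁ = y ≫ s₁) (e₂ : x ≫ s₂ = y ≫ s₂) : x = y := by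
  let g : R'.left ⟶ pullback V'.hom V'.hom := pullback.lift s₁.left s₂.left ((Over.w s₁).trans (Over.w s₂).symm)
  have hg₁ : g ≫ pullback.fst _ _ = s₁.left := pullback.lift_fst _ _ _
  have hg₂ : g ≫ pullback.snd _ _ = s₂.left := pullback.lift_snd _ _ _
  haveI : Etale (g ≫ pullback.fst V'.hom V'.hom) := by rw [hg₁]; infer_instance
  haveI : FormallyUnramified g := FormallyUnramified.of_comp g (pullback.fst V'.hom V'.hom)
  haveI : LocallyOfFiniteType g := locallyOfFiniteType_of_comp g (pullback.fst V'.hom V'.hom)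
  haveI : Mono q.left := inferInstance
  haveI : Surjective (pullback.diagonal g) := by
    refine ⟨fun z => ?_⟩
    let κ := (pullback g g).fromSpecResidueField z
    obtain ⟨a, ha⟩ := exists_lift_of_reduced qR.left (κ ≫ pullback.fst g g)
    obtain ⟨c, hc⟩ := exists_lift_of_reduced qR.left (κ ≫ pullback.snd g g)
    let K : Over S := Over.mk (a ≫ R.hom)
    have hgg : κ ≫ pullback.fst g g ≫ g = κ ≫ pullback.snd g g ≫ g := by rw [pullback.condition]
    have hac : a ≫ qR.left ≫ g = c ≫ qR.left ≫ g := by rw [reassoc_of% ha, reassoc_of% hc, hgg]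
    have e1 : (a ≫ r₁.left) ≫ q.left = (c ≫ r₁.left) ≫ q.left := by
      have := congrArg (· ≫ pullback.fst V'.hom V'.hom) hac
      simp only [Category.assoc, hg₁] at this
      simpa only [Category.assoc, ← Over.comp_left, h₁] using this
    have e2 : (a ≫ r₂.left) ≫ q.left = (c ≫ r₂.left) ≫ q.left := by
      have := congrArg (· ≫ pullback.snd V'.hom V'.hom) hac
      simp only [Category.assoc, hg₂] at this
      simpa only [Category.assoc, ← Over.comp_left, h₂] using this
    rw [cancel_mono] at e1 e2
    let aO : K ⟶ R := Over.homMk a rfl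
    let cO : K ⟶ R := Over.homMk c (by
      show c ≫ R.hom = a ≫ R.hom
      rw [← Over.w r₁, ← Category.assoc, ← e1, Category.assoc])
    have hac' : a = c := congrArg CommaMorphism.left
      (hr K aO cO (Over.OverMorphism.ext e1) (Over.OverMorphism.ext e2))
    have hz : κ = (a ≫ qR.left) ≫ pullback.diagonal g := by
      refine pullback.hom_ext ?_ ?_
      · rw [Category.assoc, pullback.diagonal_fst, Category.comp_id, ha]
      · rw [Category.assoc, pullback.diagonal_snd, Category.comp_id, hac', hc]
    obtain ⟨pt⟩ : Nonempty ↥(Spec ((pullback g g).residueField z)) := inferInstance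
    refine ⟨(a ≫ qR.left) pt, ?_⟩
    rw [← Scheme.Hom.comp_apply, ← hz]
    exact Scheme.fromSpecResidueField_apply z pt
  haveI : Epi (pullback.diagonal g).base := (TopCat.epi_iff_surjective _).2 (pullback.diagonal g).surjective
  haveI : IsIso (pullback.diagonal g) := IsOpenImmersion.isIso (pullback.diagonal g)
  haveI : Mono g := pullback.isIso_diagonal_iff g |>.1 inferInstance
  refine Over.OverMorphism.ext ((cancel_mono g).1 (pullback.hom_ext ?_ ?_))
  · simpa only [Category.assoc, hg₁, Over.comp_left] using congrArg CommaMorphism.left e₁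
  · simpa only [Category.assoc, hg₂, Over.comp_left] using congrArg CommaMorphism.left e₂

end Groth.Agent.SpProper61
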