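import Groth.Agent.SpProper61.PushAtlas
import Groth.Agent.SpPts86.QuotSpace

/-!
The etale equivalence relation presenting a pushout along a thickening.
-/

set_option autoImplicit false
set_option linter.style.haveILetI false
set_option backward.isDefEq.respectTransparency false

universe u

open CategoryTheory CategoryTheory.Limits AlgebraicGeometry
open AlgSp Groth.Agent.SpFP87 Groth.Agent.SpPts86

namespace Groth.Agent.SpProper61

variable {S : Scheme.{u}}

/-- Schemes presenting a square of spaces as a pushout along a thickening and an affine morphism. -/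
structure PushChart {X X' Y Y' : Sp S} (t : X ⟶ X') (f : X ⟶ Y) (f' : X' ⟶ Y') (t' : Y ⟶ Y') where
  U : Over S
  U' : Over S
  V : Over S
  V' : Over S
  tU : U ⟶ U'
  fU : U ⟶ V
  a : U' ⟶ V'
  b : V ⟶ V'
  closed : IsClosedImmersion tU.left
  surj : Surjective tU.left
  affine : IsAffineHom fU.left
  po : IsPushout tU fU a b
  pX : (yon S).obj U ⟶ X
  pX' : (yon S).obj U' ⟶ X'
  pY : (yon S).obj V ⟶ Y
  q : (yon S).obj V' ⟶ Y'
  etX : RepWith @Etale pX
  surjX : RepWith @Surjective pX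
  etX' : RepWith @Etale pX'
  surjX' : RepWith @Surjective pX'
  etY : RepWith @Etale pY
  surjY : RepWith @Surjective pY
  etQ : RepWith @Etale q
  surjQ : RepWith @Surjective q
  sqt : IsPullback pX ((yon S).map tU) t pX'
  sqf : IsPullback pX ((yon S).map fU) f pY
  sqt' : IsPullback pY ((yon S).map b) t' q
  sqf' : IsPullback pX' ((yon S).map a) f' q

/-- A square over a quotient is cartesian when it is so on the relations. -/
theorem isPullback_of_relations {F G : Sp S} {V V' R R' : Over S} {p : (yon S).obj V ⟶ F} {q : (yon S).obj V' ⟶ G}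
    (hp : LocLift p) {d : F ⟶ G} {b : V ⟶ V'} {qR : R ⟶ R'} {r₁ r₂ : R ⟶ V} {s₁ s₂ : R' ⟶ V'}
    (w : p ≫ d = (yon S).map b ≫ q) (hR : IsPullback ((yon S).map r₁) ((yon S).map r₂) p p)
    (hR' : IsPullback ((yon S).map s₁) ((yon S).map s₂) q q) (face : IsPullback qR r₁ s₁ b)
    (h₂ : qR ≫ s₂ = r₂ ≫ b) : IsPullback p ((yon S).map b) d q := by
  let l : (yon S).obj V ⟶ pullback d q := pullback.lift p ((yon S).map b) w
  have hl₁ : l ≫ pullback.fst d q = p := pullback.lift_fst _ _ _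
  have hl₂ : l ≫ pullback.snd d q = (yon S).map b := pullback.lift_snd _ _ _
  have face' := face.map (yon S)
  haveI : Mono l := ⟨fun {G₀} x x' h => by
    refine sp_hom_ext fun T g => ?_
    obtain ⟨x₁, hx₁⟩ := (yon S).map_surjective (g ≫ x)
    obtain ⟨x₂, hx₂⟩ := (yon S).map_surjective (g ≫ x')
    rw [← hx₁, ← hx₂]
    have e₁ : (yon S).map x₁ ≫ p = (yon S).map x₂ ≫ p := by
      rw [← hl₁, hx₁, hx₂, Category.assoc, Category.assoc, reassoc_of% h]
    have e₂ : x₁ ≫ b = x₂ ≫ b := (yon S).map_injective (by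
      rw [Functor.map_comp, Functor.map_comp, ← hl₂, hx₁, hx₂, Category.assoc, Category.assoc, reassoc_of% h])
    obtain ⟨α, hα⟩ := (yon S).map_surjective (hR.lift _ _ e₁)
    obtain ⟨β, hβ⟩ := (yon S).map_surjective (hR.lift ((yon S).map x₁) ((yon S).map x₁) rfl)
    have hα₁ : α ≫ r₁ = x₁ := (yon S).map_injective (by rw [Functor.map_comp, hα, hR.lift_fst])
    have hα₂ : α ≫ r₂ = x₂ := (yon S).map_injective (by rw [Functor.map_comp, hα, hR.lift_snd])
    have hβ₁ : β ≫ r₁ = x₁ := (yon S).map_injective (by rw [Functor.map_comp, hβ, hR.lift_fst])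
    have hβ₂ : β ≫ r₂ = x₁ := (yon S).map_injective (by rw [Functor.map_comp, hβ, hR.lift_snd])
    have : α = β := face.hom_ext ((yon S).map_injective (hR'.hom_ext
      (by simp only [← Functor.map_comp, Category.assoc, face.w, reassoc_of% hα₁, reassoc_of% hβ₁])
      (by simp only [← Functor.map_comp, Category.assoc, h₂, reassoc_of% hα₂, reassoc_of% hβ₂, e₂])))
      (hα₁.trans hβ₁.symm)
    rw [show x₁ = x₂ by rw [← hα₂, this, hβ₂]]⟩
  haveI : IsIso l := isIso_of_mono_of_locLift l fun T g => by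
    obtain ⟨W, c, v, hc, hv⟩ := hp T (g ≫ pullback.fst d q)
    obtain ⟨v, rfl⟩ := (yon S).map_surjective v
    obtain ⟨z, hz⟩ := (yon S).map_surjective ((yon S).map c ≫ g ≫ pullback.snd d q)
    have e : (yon S).map (v ≫ b) ≫ q = (yon S).map z ≫ q := by
      rw [Functor.map_comp_assoc, ← w, ← Category.assoc, hv, hz]
      simp only [Category.assoc, pullback.condition]
    obtain ⟨ρ, hρ⟩ := (yon S).map_surjective (hR'.lift _ _ e)
    have hρ₁ : ρ ≫ s₁ = v ≫ b := (yon S).map_injective (by rw [Functor.map_comp, hρ, hR'.lift_fst])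
    have hρ₂ : ρ ≫ s₂ = z := (yon S).map_injective (by rw [Functor.map_comp, hρ, hR'.lift_snd])
    let α := face.lift ρ v hρ₁
    refine ⟨W, c, (yon S).map (α ≫ r₂), hc, pullback.hom_ext ?_ ?_⟩
    · rw [Category.assoc, hl₁, Functor.map_comp_assoc, ← hR.w, ← Functor.map_comp_assoc, face.lift_snd, hv,
        Category.assoc]
    · rw [Category.assoc, hl₂, ← Functor.map_comp, Category.assoc, ← h₂, ← Category.assoc, face.lift_fst, hρ₂, hz,
        Category.assoc]
  exact IsPullback.of_iso_pullback ⟨w⟩ (asIso l) hl₁ hl₂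

/-- The pushout of spaces along a thickening and an affine morphism, with a chart. -/
theorem exists_pushout_chart {X X' Y : Sp S} (hX : IsAlgSpace X) (hX' : IsAlgSpace X') (hY : IsAlgSpace Y)
    {t : X ⟶ X'} (ht : IsThickMor t) {f : X ⟶ Y} (hf : RepWith @IsAffineHom f) :
    ∃ (Y' : Sp S) (f' : X' ⟶ Y') (t' : Y ⟶ Y'), IsAlgSpace Y' ∧ t ≫ f' = f ≫ t' ∧ IsThickMor t' ∧
      Nonempty (PushChart t f f' t') ∧
      ∀ (Z : Sp S), IsAlgSpace Z → ∀ (u : X' ⟶ Z) (v : Y ⟶ Z), t ≫ u = f ≫ v →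
        ∃! m : Y' ⟶ Z, f' ≫ m = u ∧ t' ≫ m = v := by
  obtain ⟨V, pY, hpY, hpYs⟩ := hY.atlas
  obtain ⟨U, fU, pX, sqf⟩ : ∃ (U : Over S) (fU : U ⟶ V) (pX : (yon S).obj U ⟶ X),
      IsPullback pX ((yon S).map fU) f pY := ⟨_, hf.rep.snd pY, hf.rep.fst pY, hf.rep.isPullback pY⟩
  have hpX : RepWith @Etale pX := (repWith_isStableUnderBaseChange _).of_isPullback sqf.flip hpY
  have hpXs : RepWith @Surjective pX := (repWith_isStableUnderBaseChange _).of_isPullback sqf.flip hpYs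
  obtain ⟨U', pX', tU, hpX', hpX's, hc, hs, sqt⟩ := exists_chart_lift_thick ht hX hX' hpX hpXs
  haveI := hc; haveI := hs
  haveI : IsAffineHom fU.left := hf.property pY pX fU sqf
  haveI : IsAffineHom fU.left := ‹_›
  obtain ⟨V', a, b, hpo⟩ := exists_isPushout_over tU fU
  have hpo' : IsPushout tU.left fU.left a.left b.left := hpo.map (Over.forget S)
  have H : Pinch2.HasPairs tU.left fU.left := Pinch2.hasPairs_thickening
  haveI : IsClosedImmersion b.left := Pinch2.isClosedImmersion_inr H hpo'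
  haveI : IsAffineHom a.left := Pinch2.isAffineHom_inl H hpo'
  haveI : Surjective b.left := ⟨fun p => by
    rcases Pinch2.jointly_surjective' H hpo' p with ⟨x, rfl⟩ | hy
    · obtain ⟨z, rfl⟩ := tU.left.surjective x
      exact ⟨fU.left z, (congrArg (fun f : U.left ⟶ V'.left => f z) hpo'.w).symm⟩
    · exact hy⟩
  -- the relations
  obtain ⟨R, r₁, r₂, hR⟩ := exists_isPullback_yon hY.diag pY pY
  obtain ⟨RU', u₁, u₂, hRU'⟩ := exists_isPullback_yon hX'.diag pX' pX'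
  haveI : Etale r₂.left := hpY.property pY _ r₂ hR
  haveI : Etale r₁.left := hpY.property pY _ r₁ hR.flip
  haveI : Etale u₂.left := hpX'.property pX' _ u₂ hRU'
  haveI : Etale u₁.left := hpX'.property pX' _ u₁ hRU'.flip
  let σ₁ : pullback fU r₁ ⟶ U := pullback.fst fU r₁
  let qRf : pullback fU r₁ ⟶ R := pullback.snd fU r₁
  have sqσ₁ : IsPullback σ₁ qRf fU r₁ := IsPullback.of_hasPullback fU r₁
  have hout : IsPullback ((yon S).map σ₁ ≫ pX) ((yon S).map qRf) f ((yon S).map r₂ ≫ pY) := by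
    rw [← hR.w]; exact (sqσ₁.map (yon S)).paste_horiz sqf
  obtain ⟨σ₂, hσ₂⟩ := (yon S).map_surjective (sqf.lift ((yon S).map σ₁ ≫ pX) ((yon S).map (qRf ≫ r₂))
    (by rw [hout.w, Functor.map_comp, Category.assoc]))
  have hσX : (yon S).map σ₂ ≫ pX = (yon S).map σ₁ ≫ pX := by rw [hσ₂, sqf.lift_fst]
  have hσf : σ₂ ≫ fU = qRf ≫ r₂ := (yon S).map_injective (by rw [Functor.map_comp, hσ₂, sqf.lift_snd])
  have sqσ₂ : IsPullback σ₂ qRf fU r₂ := IsPullback.of_map (yon S) hσf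
    (IsPullback.of_right (by rw [hσX]; exact hout) (by rw [← Functor.map_comp, ← Functor.map_comp, hσf]) sqf)
  have hRU : IsPullback ((yon S).map σ₁) ((yon S).map σ₂) pX pX := by
    refine IsPullback.of_right (h₁₂ := (yon S).map fU) (h₂₂ := f) (v₁₃ := pY) ?_ hσX.symm sqf.flip
    have := (sqσ₂.map (yon S)).flip.paste_horiz hR
    rwa [← Functor.map_comp, ← sqσ₁.w, Functor.map_comp, ← sqf.w] at this
  obtain ⟨mU, hmU⟩ := (yon S).map_surjective (hRU'.lift ((yon S).map (σ₁ ≫ tU)) ((yon S).map (σ₂ ≫ tU))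
    (by rw [Functor.map_comp_assoc, Functor.map_comp_assoc, ← sqt.w, reassoc_of% hσX]))
  have hm₁ : mU ≫ u₁ = σ₁ ≫ tU := (yon S).map_injective (by rw [Functor.map_comp, hmU, hRU'.lift_fst])
  have hm₂ : mU ≫ u₂ = σ₂ ≫ tU := (yon S).map_injective (by rw [Functor.map_comp, hmU, hRU'.lift_snd])
  have sqm₁ : IsPullback mU σ₁ u₁ tU := IsPullback.of_map (yon S) hm₁ (by
    refine IsPullback.of_right (h₁₂ := (yon S).map u₂) (h₂₂ := pX') (v₁₃ := pX') ?_
      (by rw [← Functor.map_comp, ← Functor.map_comp, hm₁]) hRU'.flip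
    have := hRU.flip.paste_horiz sqt.flip
    rwa [← Functor.map_comp, ← hm₂, Functor.map_comp, sqt.w] at this)
  have sqm₂ : IsPullback mU σ₂ u₂ tU := IsPullback.of_map (yon S) hm₂ (by
    refine IsPullback.of_right (h₁₂ := (yon S).map u₁) (h₂₂ := pX') (v₁₃ := pX') ?_
      (by rw [← Functor.map_comp, ← Functor.map_comp, hm₂]) hRU'
    have := hRU.paste_horiz sqt.flip
    rwa [← Functor.map_comp, ← hm₁, Functor.map_comp, sqt.w] at this)
  have sqm₁' : IsPullback mU.left σ₁.left u₁.left tU.left := sqm₁.map (Over.forget S)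
  have sqm₂' : IsPullback mU.left σ₂.left u₂.left tU.left := sqm₂.map (Over.forget S)
  have sqσ₁' : IsPullback qRf.left σ₁.left r₁.left fU.left := sqσ₁.flip.map (Over.forget S)
  have sqσ₂' : IsPullback qRf.left σ₂.left r₂.left fU.left := sqσ₂.flip.map (Over.forget S)
  haveI : IsClosedImmersion mU.left := MorphismProperty.of_isPullback sqm₁'.flip hc
  haveI : Surjective mU.left := MorphismProperty.of_isPullback sqm₁'.flip hs
  haveI : IsAffineHom qRf.left := MorphismProperty.of_isPullback sqσ₁'.flip ‹IsAffineHom fU.left›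
  obtain ⟨R', pR, qR, hRpo⟩ := exists_isPushout_over mU qRf
  have hRpo' : IsPushout mU.left qRf.left pR.left qR.left := hRpo.map (Over.forget S)
  have H₂ : Pinch2.HasPairs mU.left qRf.left := Pinch2.hasPairs_thickening
  haveI : IsClosedImmersion qR.left := Pinch2.isClosedImmersion_inr H₂ hRpo'
  haveI : Surjective qR.left := ⟨fun p => by
    rcases Pinch2.jointly_surjective' H₂ hRpo' p with ⟨x, rfl⟩ | hy
    · obtain ⟨z, rfl⟩ := mU.left.surjective x
      exact ⟨qRf.left z, (congrArg (fun f : _ ⟶ R'.left => f z) hRpo'.w).symm⟩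
    · exact hy⟩
  obtain ⟨s₁, hs₁a, hs₁b⟩ := hRpo.exists_desc (u₁ ≫ a) (r₁ ≫ b)
    (by rw [reassoc_of% hm₁, hpo.w, ← reassoc_of% sqσ₁.w])
  obtain ⟨s₂, hs₂a, hs₂b⟩ := hRpo.exists_desc (u₂ ≫ a) (r₂ ≫ b)
    (by rw [reassoc_of% hm₂, hpo.w, reassoc_of% hσf])
  have hsa₁ : pR.left ≫ s₁.left = u₁.left ≫ a.left := congrArg CommaMorphism.left hs₁a
  have hsb₁ : qR.left ≫ s₁.left = r₁.left ≫ b.left := congrArg CommaMorphism.left hs₁b
  have hsa₂ : pR.left ≫ s₂.left = u₂.left ≫ a.left := congrArg CommaMorphism.left hs₂a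
  have hsb₂ : qR.left ≫ s₂.left = r₂.left ≫ b.left := congrArg CommaMorphism.left hs₂b
  obtain ⟨fa₁', fb₁'⟩ := isPullback_faces hpo' sqm₁' sqσ₁' hRpo' hsa₁ hsb₁
  obtain ⟨fa₂', fb₂'⟩ := isPullback_faces hpo' sqm₂' sqσ₂' hRpo' hsa₂ hsb₂
  have fa₁ : IsPullback pR u₁ s₁ a := IsPullback.of_map (Over.forget S) hs₁a fa₁'
  have fb₁ : IsPullback qR r₁ s₁ b := IsPullback.of_map (Over.forget S) hs₁b fb₁'
  have fa₂ : IsPullback pR u₂ s₂ a := IsPullback.of_map (Over.forget S) hs₂a fa₂'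
  have fb₂ : IsPullback qR r₂ s₂ b := IsPullback.of_map (Over.forget S) hs₂b fb₂'
  haveI : Etale s₁.left := (descend_thick hpo' sqm₁' sqσ₁' hRpo' hsa₁ hsb₁).2.2.2.2 ‹_› ‹_›
  haveI : Etale s₂.left := (descend_thick hpo' sqm₂' sqσ₂' hRpo' hsa₂ hsb₂).2.2.2.2 ‹_› ‹_›
  have hinj : ∀ {T : Over S} {x y : T ⟶ R'}, x ≫ s₁ = y ≫ s₁ → x ≫ s₂ = y ≫ s₂ → x = y :=
    fun e₁ e₂ => hom_ext_of_thick_cover hs₁b hs₂b (fun T x y h₁ h₂ => (yon S).map_injective (hR.hom_ext
      (by simp only [← Functor.map_comp, h₁]) (by simp only [← Functor.map_comp, h₂]))) e₁ e₂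
  -- reflexivity
  obtain ⟨eR, heR₁, heR₂⟩ : ∃ e : V ⟶ R, e ≫ r₁ = 𝟙 V ∧ e ≫ r₂ = 𝟙 V := by
    obtain ⟨e, he⟩ := (yon S).map_surjective (hR.lift (𝟙 _) (𝟙 _) rfl)
    exact ⟨e, (yon S).map_injective (by rw [Functor.map_comp, he, hR.lift_fst, CategoryTheory.Functor.map_id]),
      (yon S).map_injective (by rw [Functor.map_comp, he, hR.lift_snd, CategoryTheory.Functor.map_id])⟩
  obtain ⟨eU, heU₁, heU₂⟩ : ∃ e : U' ⟶ RU', e ≫ u₁ = 𝟙 U' ∧ e ≫ u₂ = 𝟙 U' := by
    obtain ⟨e, he⟩ := (yon S).map_surjective (hRU'.lift (𝟙 _) (𝟙 _) rfl)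
    exact ⟨e, (yon S).map_injective (by rw [Functor.map_comp, he, hRU'.lift_fst, CategoryTheory.Functor.map_id]),
      (yon S).map_injective (by rw [Functor.map_comp, he, hRU'.lift_snd, CategoryTheory.Functor.map_id])⟩
  obtain ⟨e, hea, heb⟩ := hpo.exists_desc (eU ≫ pR) (eR ≫ qR) (hinj
    (by simp only [Category.assoc, hs₁a, hs₁b, reassoc_of% heU₁, reassoc_of% heR₁, hpo.w])
    (by simp only [Category.assoc, hs₂a, hs₂b, reassoc_of% heU₂, reassoc_of% heR₂, hpo.w]))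
  have he₁ : e ≫ s₁ = 𝟙 V' := hpo.hom_ext (by rw [reassoc_of% hea, hs₁a, reassoc_of% heU₁, Category.comp_id])
    (by rw [reassoc_of% heb, hs₁b, reassoc_of% heR₁, Category.comp_id])
  have he₂ : e ≫ s₂ = 𝟙 V' := hpo.hom_ext (by rw [reassoc_of% hea, hs₂a, reassoc_of% heU₂, Category.comp_id])
    (by rw [reassoc_of% heb, hs₂b, reassoc_of% heR₂, Category.comp_id])
  -- symmetry
  obtain ⟨iR, hiR₁, hiR₂⟩ : ∃ i : R ⟶ R, i ≫ r₁ = r₂ ∧ i ≫ r₂ = r₁ := by
    obtain ⟨e, he⟩ := (yon S).map_surjective (hR.lift _ _ hR.w.symm)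
    exact ⟨e, (yon S).map_injective (by rw [Functor.map_comp, he, hR.lift_fst]),
      (yon S).map_injective (by rw [Functor.map_comp, he, hR.lift_snd])⟩
  obtain ⟨iU, hiU₁, hiU₂⟩ : ∃ i : RU' ⟶ RU', i ≫ u₁ = u₂ ∧ i ≫ u₂ = u₁ := by
    obtain ⟨e, he⟩ := (yon S).map_surjective (hRU'.lift _ _ hRU'.w.symm)
    exact ⟨e, (yon S).map_injective (by rw [Functor.map_comp, he, hRU'.lift_fst]),
      (yon S).map_injective (by rw [Functor.map_comp, he, hRU'.lift_snd])⟩
  obtain ⟨ι, hιa, hιb⟩ := hRpo.exists_desc (iU ≫ pR) (iR ≫ qR) (hinj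
    (by simp only [Category.assoc, hs₁a, hs₁b, reassoc_of% hiU₁, reassoc_of% hiR₁]
        rw [reassoc_of% hm₂, hpo.w, reassoc_of% hσf])
    (by simp only [Category.assoc, hs₂a, hs₂b, reassoc_of% hiU₂, reassoc_of% hiR₂]
        rw [reassoc_of% hm₁, hpo.w, ← reassoc_of% sqσ₁.w]))
  have hι₁ : ι ≫ s₁ = s₂ := hRpo.hom_ext (by rw [reassoc_of% hιa, hs₁a, reassoc_of% hiU₁, hs₂a])
    (by rw [reassoc_of% hιb, hs₁b, reassoc_of% hiR₁, hs₂b])
  have hι₂ : ι ≫ s₂ = s₁ := hRpo.hom_ext (by rw [reassoc_of% hιa, hs₂a, reassoc_of% hiU₂, hs₁a])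
    (by rw [reassoc_of% hιb, hs₂b, reassoc_of% hiR₂, hs₁b])
  -- transitivity
  let x : pullback s₂ s₁ ⟶ R' := pullback.fst s₂ s₁
  let y : pullback s₂ s₁ ⟶ R' := pullback.snd s₂ s₁
  have hxy : x ≫ s₂ = y ≫ s₁ := pullback.condition
  let c := x ≫ s₂
  haveI : Etale x.left := MorphismProperty.of_isPullback
    (((IsPullback.of_hasPullback s₂ s₁).map (Over.forget S)).flip :
      IsPullback _ _ s₁.left s₂.left) (inferInstance : Etale s₁.left)
  haveI : Flat c.left := inferInstanceAs (Flat (x.left ≫ s₂.left))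
  let CU := pullback tU (pullback.fst a c)
  let k : CU ⟶ pullback b c := pullback.lift (pullback.fst tU _ ≫ fU) (pullback.snd tU _ ≫ pullback.snd a c)
    (by rw [Category.assoc, ← hpo.w, Category.assoc, ← pullback.condition, pullback.condition_assoc])
  have hCpo := isPushout_flat H hpo (IsPullback.of_hasPullback a c) (IsPullback.of_hasPullback b c)
    (IsPullback.of_hasPullback tU (pullback.fst a c)) (pullback.lift_fst _ _ _ : k ≫ pullback.fst b c = _)
    (pullback.lift_snd _ _ _).symm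
  obtain ⟨dV, hdV₁, hdV₂⟩ : ∃ d : pullback b c ⟶ R', d ≫ s₁ = pullback.snd b c ≫ x ≫ s₁ ∧
      d ≫ s₂ = pullback.snd b c ≫ y ≫ s₂ := by
    let α := fb₂.lift (pullback.snd b c ≫ x) (pullback.fst b c) (by rw [Category.assoc]; exact pullback.condition.symm)
    let β := fb₁.lift (pullback.snd b c ≫ y) (pullback.fst b c)
      (by rw [Category.assoc, ← hxy]; exact pullback.condition.symm)
    have hαβ : α ≫ r₂ = β ≫ r₁ := (fb₂.lift_snd _ _ _).trans (fb₁.lift_snd _ _ _).symm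
    obtain ⟨d, hd⟩ := (yon S).map_surjective (hR.lift ((yon S).map (α ≫ r₁)) ((yon S).map (β ≫ r₂)) (by
      rw [Functor.map_comp_assoc, Functor.map_comp_assoc, hR.w, ← Functor.map_comp_assoc, hαβ,
        Functor.map_comp_assoc, hR.w]))
    have hd₁ : d ≫ r₁ = α ≫ r₁ := (yon S).map_injective (by rw [Functor.map_comp, hd, hR.lift_fst])
    have hd₂ : d ≫ r₂ = β ≫ r₂ := (yon S).map_injective (by rw [Functor.map_comp, hd, hR.lift_snd])
    exact ⟨d ≫ qR, by rw [Category.assoc, hs₁b, reassoc_of% hd₁, ← hs₁b, ← Category.assoc, fb₂.lift_fst,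
      Category.assoc], by rw [Category.assoc, hs₂b, reassoc_of% hd₂, ← hs₂b, ← Category.assoc, fb₁.lift_fst,
      Category.assoc]⟩
  obtain ⟨dU, hdU₁, hdU₂⟩ : ∃ d : pullback a c ⟶ R', d ≫ s₁ = pullback.snd a c ≫ x ≫ s₁ ∧
      d ≫ s₂ = pullback.snd a c ≫ y ≫ s₂ := by
    let α := fa₂.lift (pullback.snd a c ≫ x) (pullback.fst a c) (by rw [Category.assoc]; exact pullback.condition.symm)
    let β := fa₁.lift (pullback.snd a c ≫ y) (pullback.fst a c)
      (by rw [Category.assoc, ← hxy]; exact pullback.condition.symm)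
    have hαβ : α ≫ u₂ = β ≫ u₁ := (fa₂.lift_snd _ _ _).trans (fa₁.lift_snd _ _ _).symm
    obtain ⟨d, hd⟩ := (yon S).map_surjective (hRU'.lift ((yon S).map (α ≫ u₁)) ((yon S).map (β ≫ u₂)) (by
      rw [Functor.map_comp_assoc, Functor.map_comp_assoc, hRU'.w, ← Functor.map_comp_assoc, hαβ,
        Functor.map_comp_assoc, hRU'.w]))
    have hd₁ : d ≫ u₁ = α ≫ u₁ := (yon S).map_injective (by rw [Functor.map_comp, hd, hRU'.lift_fst])
    have hd₂ : d ≫ u₂ = β ≫ u₂ := (yon S).map_injective (by rw [Functor.map_comp, hd, hRU'.lift_snd])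
    exact ⟨d ≫ pR, by rw [Category.assoc, hs₁a, reassoc_of% hd₁, ← hs₁a, ← Category.assoc, fa₂.lift_fst,
      Category.assoc], by rw [Category.assoc, hs₂a, reassoc_of% hd₂, ← hs₂a, ← Category.assoc, fa₁.lift_fst,
      Category.assoc]⟩
  have hCw : pullback.snd tU (pullback.fst a c) ≫ pullback.snd a c = k ≫ pullback.snd b c :=
    (pullback.lift_snd _ _ _).symm
  obtain ⟨μ, hμa, hμb⟩ := hCpo.exists_desc dU dV (hinj
    (by rw [Category.assoc, Category.assoc, hdU₁, hdV₁, reassoc_of% hCw])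
    (by rw [Category.assoc, Category.assoc, hdU₂, hdV₂, reassoc_of% hCw]))
  have hμ₁ : μ ≫ s₁ = x ≫ s₁ := hCpo.hom_ext (by rw [reassoc_of% hμa, hdU₁]) (by rw [reassoc_of% hμb, hdV₁])
  have hμ₂ : μ ≫ s₂ = y ≫ s₂ := hCpo.hom_ext (by rw [reassoc_of% hμa, hdU₂]) (by rw [reassoc_of% hμb, hdV₂])
  have heqv : IsEtaleEqvRel s₂ s₁ := by
    refine ⟨⟨fun T r r' h₁ h₂ => hinj h₁ h₂, fun T => ⟨fun p => ⟨p ≫ e, ?_, ?_⟩, ?_, ?_⟩⟩, ‹_›, ‹_›⟩
    · rw [Category.assoc, he₁, Category.comp_id]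
    · rw [Category.assoc, he₂, Category.comp_id]
    · rintro p p' ⟨r, rfl, rfl⟩
      exact ⟨r ≫ ι, by rw [Category.assoc, hι₁], by rw [Category.assoc, hι₂]⟩
    · rintro p p' p'' ⟨r, rfl, rfl⟩ ⟨r', hr', rfl⟩
      refine ⟨pullback.lift r r' hr'.symm ≫ μ, ?_, ?_⟩
      · rw [Category.assoc, hμ₁, ← Category.assoc, pullback.lift_fst]
      · rw [Category.assoc, hμ₂, ← Category.assoc, pullback.lift_snd]
  -- the quotient
  obtain ⟨hY', hq, hqs⟩ := quotMap_atlas heqv
  have hker := quotMap_kernelPair heqv.toIsEqvRel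
  let q₀ := quotMap s₂ s₁
  have hql : LocLift q₀ := locLift_of_atlas hq hqs
  have hpYl : LocLift pY := locLift_of_atlas hpY hpYs
  have hpX'l : LocLift pX' := locLift_of_atlas hpX' hpX's
  obtain ⟨t', ht'⟩ := exists_desc hpYl ((yon S).map b ≫ q₀) fun W l l' h => by
    obtain ⟨r, hr⟩ := (yon S).map_surjective (hR.lift _ _ h)
    obtain rfl : r ≫ r₁ = l := (yon S).map_injective (by rw [Functor.map_comp, hr, hR.lift_fst])
    obtain rfl : r ≫ r₂ = l' := (yon S).map_injective (by rw [Functor.map_comp, hr, hR.lift_snd])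
    simp only [Functor.map_comp, Category.assoc]
    simp only [Category.assoc, ← Functor.map_comp_assoc]
    rw [← hs₁b, ← hs₂b]
    simp only [Functor.map_comp, Category.assoc]
    rw [hker.w]
  obtain ⟨f', hf'⟩ := exists_desc hpX'l ((yon S).map a ≫ q₀) fun W l l' h => by
    obtain ⟨r, hr⟩ := (yon S).map_surjective (hRU'.lift _ _ h)
    obtain rfl : r ≫ u₁ = l := (yon S).map_injective (by rw [Functor.map_comp, hr, hRU'.lift_fst])
    obtain rfl : r ≫ u₂ = l' := (yon S).map_injective (by rw [Functor.map_comp, hr, hRU'.lift_snd])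
    simp only [Functor.map_comp, Category.assoc]
    simp only [Category.assoc, ← Functor.map_comp_assoc]
    rw [← hs₁a, ← hs₂a]
    simp only [Functor.map_comp, Category.assoc]
    rw [hker.w]
  have sqt' : IsPullback pY ((yon S).map b) t' q₀ := isPullback_of_relations hpYl ht' hR hker fb₁ hs₂b
  have sqf' : IsPullback pX' ((yon S).map a) f' q₀ := isPullback_of_relations hpX'l hf' hRU' hker fa₁ hs₂a
  have htf : t ≫ f' = f ≫ t' := hom_ext_of_locLift (locLift_of_atlas hpX hpXs) (by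
    rw [← Category.assoc, sqt.w, Category.assoc, hf', reassoc_of% sqf.w, ht',
      ← Functor.map_comp_assoc, ← Functor.map_comp_assoc, hpo.w])
  have hcov : IsFpqcCover (fun _ : PUnit.{u + 1} => (yon S).obj V') (fun _ => q₀) :=
    isFpqcCover_of_isFppfCover _ _ hY' (fun _ => IsAlgSpace.yon_obj V')
      ⟨fun _ => ⟨locP_of_repWith (IsAlgSpace.yon_obj V').diag hY' (Groth.Agent.SpPts86.repWith_mono (fun _ _ k (hk : Etale k) => (inferInstance : Flat k)) hq),
        locP_of_repWith (IsAlgSpace.yon_obj V').diag hY' (Groth.Agent.SpPts86.repWith_mono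
          (fun _ _ k (hk : Etale k) => (inferInstance : LocallyOfFinitePresentation k)) hq)⟩,
        fun y => ⟨PUnit.unit, (repWith_surjective_iff hq.rep).1 hqs y⟩⟩
  have ht'thick : IsThickMor t' :=
    (isLocalOnBase_fpqc_thick (fun _ : PUnit.{u + 1} => (yon S).obj V') (fun _ => q₀) hY'
      (fun _ => IsAlgSpace.yon_obj V') hcov t' hY (fun _ => (yon S).obj V) (fun _ => (yon S).map b)
      (fun _ => pY) (fun _ => IsAlgSpace.yon_obj V) (fun _ => sqt')).2
      fun _ => (repWith_yon_map_iff thick b).2 ⟨inferInstance, inferInstance⟩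
  refine ⟨_, f', t', hY', htf, ht'thick,
    ⟨⟨U, U', V, V', tU, fU, a, b, hc, hs, inferInstance, hpo, pX, pX', pY, q₀, hpX, hpXs, hpX', hpX's,
      hpY, hpYs, hq, hqs, sqt, sqf, sqt', sqf'⟩⟩, fun Z hZ u v huv => ?_⟩
  obtain ⟨m, hm₁', hm₂'⟩ := exists_desc_of_cover hpo hRpo hql hpX'l hpYl
    (πX := pX) sqt.w.symm sqf.w.symm hf' ht' hker (x₁ := u₁) (x₂ := u₂) hs₁a.symm hs₂a.symm hRU'.w
    (y₁ := r₁) (y₂ := r₂) hs₁b.symm hs₂b.symm hR.w hZ u v huv
  exact ⟨m, ⟨hm₁', hm₂'⟩, fun m' hm' => hom_ext_of_cover hpo hql hf' ht' hZ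
    (hm'.1.trans hm₁'.symm) (hm'.2.trans hm₂'.symm)⟩

end Groth.Agent.SpProper61
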