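import Groth.Agent.SpProper61.PushThick
import Groth.Agent.SpPts86.Quot
import Groth.Agent.SpPts86.DenseDesc

/-!
Pushouts of spaces from charts.
-/

set_option autoImplicit false
set_option linter.style.haveILetI false

universe u

open CategoryTheory CategoryTheory.Limits AlgebraicGeometry
open AlgSp Groth.Agent.SpFP87 Groth.Agent.SpPts86

namespace Groth.Agent.SpProper61

variable {S : Scheme.{u}} {X' Y Y' : Sp S}

/-- Maps out of a space covered by a pushout of schemes are determined by their restrictions. -/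
theorem hom_ext_of_cover {A A' B T : Over S} {i : A ⟶ A'} {j : A ⟶ B} {p : A' ⟶ T} {q : B ⟶ T}
    (hT : IsPushout i j p q) {π : (yon S).obj T ⟶ Y'} (hπ : LocLift π) {πX' : (yon S).obj A' ⟶ X'}
    {πY : (yon S).obj B ⟶ Y} {aX : X' ⟶ Y'} {aY : Y ⟶ Y'} (hp : πX' ≫ aX = (yon S).map p ≫ π)
    (hq : πY ≫ aY = (yon S).map q ≫ π) {Z : Sp S} (hZ : IsAlgSpace Z) {m₁ m₂ : Y' ⟶ Z}
    (e₁ : aX ≫ m₁ = aX ≫ m₂) (e₂ : aY ≫ m₁ = aY ≫ m₂) : m₁ = m₂ := by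
  refine hom_ext_of_locLift hπ (hom_ext_of_scheme_pushout hZ hT ?_ ?_)
  · rw [← Category.assoc, ← Category.assoc, ← hp, Category.assoc, Category.assoc, e₁]
  · rw [← Category.assoc, ← Category.assoc, ← hq, Category.assoc, Category.assoc, e₂]

/-- Existence of maps out of a space covered by a pushout of schemes along a thickening. -/
theorem exists_desc_of_cover {X : Sp S} {A A' B T A₂ A₂' B₂ T₂ : Over S} {i : A ⟶ A'} {j : A ⟶ B} {p : A' ⟶ T}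
    {q : B ⟶ T} [IsClosedImmersion i.left] [Surjective i.left] [IsAffineHom j.left]
    (hT : IsPushout i j p q) {i₂ : A₂ ⟶ A₂'} {j₂ : A₂ ⟶ B₂} {p₂ : A₂' ⟶ T₂} {q₂ : B₂ ⟶ T₂}
    (hT₂ : IsPushout i₂ j₂ p₂ q₂) {π : (yon S).obj T ⟶ Y'} (hπ : LocLift π)
    {πX : (yon S).obj A ⟶ X} {πX' : (yon S).obj A' ⟶ X'} {πY : (yon S).obj B ⟶ Y}
    (hπX' : LocLift πX') (hπY : LocLift πY)
    {t : X ⟶ X'} {f : X ⟶ Y} {aX : X' ⟶ Y'} {aY : Y ⟶ Y'}
    (hi : (yon S).map i ≫ πX' = πX ≫ t) (hj : (yon S).map j ≫ πY = πX ≫ f)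
    (hp : πX' ≫ aX = (yon S).map p ≫ π) (hq : πY ≫ aY = (yon S).map q ≫ π)
    {l₁ l₂ : T₂ ⟶ T} (hker : IsPullback ((yon S).map l₁) ((yon S).map l₂) π π)
    {x₁ x₂ : A₂' ⟶ A'} (hx₁ : x₁ ≫ p = p₂ ≫ l₁) (hx₂ : x₂ ≫ p = p₂ ≫ l₂)
    (hx : (yon S).map x₁ ≫ πX' = (yon S).map x₂ ≫ πX')
    {y₁ y₂ : B₂ ⟶ B} (hy₁ : y₁ ≫ q = q₂ ≫ l₁) (hy₂ : y₂ ≫ q = q₂ ≫ l₂)
    (hy : (yon S).map y₁ ≫ πY = (yon S).map y₂ ≫ πY)
    {Z : Sp S} (hZ : IsAlgSpace Z) (u : X' ⟶ Z) (v : Y ⟶ Z) (huv : t ≫ u = f ≫ v) :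
    ∃ m : Y' ⟶ Z, aX ≫ m = u ∧ aY ≫ m = v := by
  obtain ⟨m₀, hm₁, hm₂⟩ := exists_desc_of_thickening hT hZ (πX' ≫ u) (πY ≫ v)
    (by rw [← Category.assoc, hi, Category.assoc, huv, ← Category.assoc, ← hj, Category.assoc])
  have heq : (yon S).map l₁ ≫ m₀ = (yon S).map l₂ ≫ m₀ := by
    refine hom_ext_of_scheme_pushout hZ hT₂ ?_ ?_
    · rw [← Functor.map_comp_assoc, ← hx₁, ← Functor.map_comp_assoc, ← hx₂, Functor.map_comp_assoc,
        Functor.map_comp_assoc, hm₁, ← Category.assoc, hx, Category.assoc]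
    · rw [← Functor.map_comp_assoc, ← hy₁, ← Functor.map_comp_assoc, ← hy₂, Functor.map_comp_assoc,
        Functor.map_comp_assoc, hm₂, ← Category.assoc, hy, Category.assoc]
  obtain ⟨m, hm⟩ := exists_desc hπ m₀ fun W l l' h => by
    obtain ⟨r, hr⟩ := (yon S).map_surjective (hker.lift _ _ h)
    rw [← hker.lift_fst _ _ h, ← hr, Category.assoc, heq, ← Category.assoc, hr, hker.lift_snd]
  refine ⟨m, ?_, ?_⟩
  · refine hom_ext_of_locLift hπX' ?_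
    rw [← Category.assoc, hp, Category.assoc, hm, hm₁]
  · refine hom_ext_of_locLift hπY ?_
    rw [← Category.assoc, hq, Category.assoc, hm, hm₂]

end Groth.Agent.SpProper61
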