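import Groth.Agent.Henz21.IndEtale
import Groth.Agent.Henz21.IntegralPair
import Groth.Agent.Hensel20.PairEtale
import Groth.Agent.Hens22.PairHens
import Mathlib.Algebra.Category.Ring.Under.Basic
import Mathlib.Algebra.Category.Ring.FinitePresentation

/-!
Sections of étale algebras over an integral algebra extend over an étale neighbourhood of the base.
-/

set_option autoImplicit false
set_option linter.style.haveILetI false
set_option backward.isDefEq.respectTransparency false

universe u

open CategoryTheory CategoryTheory.Limits TensorProduct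

noncomputable section

namespace Groth.Agent.SpProper61

/-- The base changes of the stages of `H R K`, under `A`. -/
def stageDiagram (R K : Type u) [CommRing R] [CommRing K] [Algebra R K] (A : Type u) [CommRing A] [Algebra R A] :
    Henz21.Pt R K ⥤ Under (CommRingCat.of A) where
  obj i := CommRingCat.mkUnder (CommRingCat.of A) (A ⊗[R] i.S)
  map f := (Algebra.TensorProduct.map (AlgHom.id A A) f.φ).toUnder
  map_id i := by
    refine Under.UnderMorphism.ext (CommRingCat.hom_ext (RingHom.ext fun z => ?_))
    show Algebra.TensorProduct.map (AlgHom.id A A) (AlgHom.id R i.S) z = z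
    rw [Algebra.TensorProduct.map_id]; rfl
  map_comp {i j k} f g := by
    refine Under.UnderMorphism.ext (CommRingCat.hom_ext (RingHom.ext fun z => ?_))
    show Algebra.TensorProduct.map (AlgHom.id A A) (g.φ.comp f.φ) z = _
    rw [Algebra.TensorProduct.map_id_comp]; rfl

/-- `A ⊗ H R K` as a cocone on the stages. -/
def stageCocone (R K : Type u) [CommRing R] [CommRing K] [Algebra R K] (A : Type u) [CommRing A] [Algebra R A] :
    Cocone (stageDiagram R K A) where
  pt := CommRingCat.mkUnder (CommRingCat.of A) (A ⊗[R] Henz21.H R K)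
  ι :=
    { app := fun i => (Algebra.TensorProduct.map (AlgHom.id A A) (Henz21.H.incl i)).toUnder
      naturality := fun i j f => by
        refine Under.UnderMorphism.ext (CommRingCat.hom_ext (RingHom.ext fun z => ?_))
        show Algebra.TensorProduct.map (AlgHom.id A A) (Henz21.H.incl j)
          (Algebra.TensorProduct.map (AlgHom.id A A) f.φ z) = Algebra.TensorProduct.map (AlgHom.id A A) (Henz21.H.incl i) z
        rw [← AlgHom.comp_apply, ← Algebra.TensorProduct.map_id_comp, Henz21.H.incl_comp] }

/-- `A ⊗ H R K` is the colimit of its stages. -/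
def isColimitStageCocone (R K : Type u) [CommRing R] [CommRing K] [Algebra R K] (A : Type u) [CommRing A]
    [Algebra R A] : IsColimit (stageCocone R K A) :=
  IsColimit.ofExistsUnique fun s => by
    letI : Algebra A s.pt.right := s.pt.hom.hom.toAlgebra
    letI : Algebra R s.pt.right := ((algebraMap A s.pt.right).comp (algebraMap R A)).toAlgebra
    haveI : IsScalarTower R A s.pt.right := IsScalarTower.of_algebraMap_eq' rfl
    let φ : ∀ i : Henz21.Pt R K, A ⊗[R] i.S →ₐ[A] s.pt.right := fun i =>
      { (s.ι.app i).right.hom with commutes' := fun a => congrArg (fun f => f.hom a) (Under.w (s.ι.app i)) }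
    have hφ : ∀ {i j : Henz21.Pt R K} (f : i ⟶ j) (z : A ⊗[R] i.S), φ j (Algebra.TensorProduct.map (AlgHom.id A A) f.φ z) = φ i z :=
      fun f z => congrArg (fun g => g.right.hom z) (s.w f)
    let β : Henz21.H R K →ₐ[R] s.pt.right := Henz21.H.lift
      (fun i => ((φ i).restrictScalars R).comp Algebra.TensorProduct.includeRight)
      (fun i j f => AlgHom.ext fun x => by
        simpa using hφ f (1 ⊗ₜ[R] x))
    let d : A ⊗[R] Henz21.H R K →ₐ[A] s.pt.right :=
      Algebra.TensorProduct.lift (Algebra.ofId A _) β fun _ _ => .all _ _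
    have hd : ∀ i (z : A ⊗[R] i.S), d (Algebra.TensorProduct.map (AlgHom.id A A) (Henz21.H.incl i) z) = φ i z := by
      intro i
      refine DFunLike.congr_fun (Algebra.TensorProduct.ext (AlgHom.ext fun a => ?_) (AlgHom.ext fun x => ?_) :
        d.comp (Algebra.TensorProduct.map (AlgHom.id A A) (Henz21.H.incl i)) = φ i)
      · simp [d]
        exact ((φ i).commutes a).symm
      · simp [d, β]
    refine ⟨Under.homMk (CommRingCat.ofHom d.toRingHom) (CommRingCat.hom_ext (RingHom.ext fun a => d.commutes a)),
      fun i => Under.UnderMorphism.ext (CommRingCat.hom_ext (RingHom.ext (hd i))), fun m hm => ?_⟩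
    refine Under.UnderMorphism.ext (CommRingCat.hom_ext (RingHom.ext fun z => ?_))
    show m.right.hom z = d z
    induction z using TensorProduct.induction_on with
    | zero => exact (map_zero _).trans (map_zero _).symm
    | tmul a x =>
      obtain ⟨i, x, rfl⟩ := Henz21.H.exists_rep x
      exact (congrArg (fun g => g.right.hom (a ⊗ₜ[R] x)) (hm i)).trans (hd i (a ⊗ₜ[R] x)).symm
    | add z w hz hw => exact (map_add _ z w).trans ((congrArg₂ (· + ·) hz hw).trans (map_add _ z w).symm)

/-- A map from a finitely presented `A`-algebra to `A ⊗ H R K` comes from a stage. -/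
theorem exists_stage {R K : Type u} [CommRing R] [CommRing K] [Algebra R K] {A : Type u} [CommRing A] [Algebra R A]
    {A₁ : Type u} [CommRing A₁] [Algebra A A₁] [Algebra.FinitePresentation A A₁]
    (τ : A₁ →ₐ[A] A ⊗[R] Henz21.H R K) :
    ∃ (i : Henz21.Pt R K) (p : A₁ →ₐ[A] A ⊗[R] i.S),
      (Algebra.TensorProduct.map (AlgHom.id A A) (Henz21.H.incl i)).comp p = τ := by
  haveI : IsFiltered (Henz21.Pt R K) := Henz21.Pt.isFiltered
  let X : Under (CommRingCat.of A) := CommRingCat.mkUnder (CommRingCat.of A) A₁
  haveI : IsFinitelyPresentable.{u} X := CommRingCat.isFinitelyPresentable_under (CommRingCat.of A) X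
    ((RingHom.finitePresentation_algebraMap (A := A) (B := A₁)).2 inferInstance)
  obtain ⟨i, p, hp⟩ := IsFinitelyPresentable.exists_hom_of_isColimit (isColimitStageCocone R K A) (X := X)
    τ.toUnder
  exact ⟨i, { p.right.hom with commutes' := fun a => congrArg (fun f => f.hom a) (Under.w p) },
    AlgHom.ext fun x => congrArg (fun g => g.right.hom x) hp⟩

/-- A section of an étale algebra over `A / J A`, `A` integral over `R`, extends after an étale
neighbourhood of `(R, J)`. -/
theorem exists_etale_nbhd_section {R : Type u} [CommRing R] (J : Ideal R) (A : Type u) [CommRing A]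
    [Algebra R A] [Algebra.IsIntegral R A] (A₁ : Type u) [CommRing A₁] [Algebra A A₁] [Algebra.Etale A A₁]
    (σ : A₁ →ₐ[A] A ⊗[R] (R ⧸ J)) :
    ∃ (S : Type u) (_ : CommRing S) (_ : Algebra R S) (_ : Algebra.Etale R S) (π : S →ₐ[R] R ⧸ J)
      (τ : A₁ →ₐ[A] A ⊗[R] S), (Algebra.TensorProduct.map (AlgHom.id A A) π).comp τ = σ := by
  let H' := Henz21.H R (R ⧸ J)
  haveI : HenselianRing H' (J.map (algebraMap R H')) := (Hens22.isPairHenselization_H (A := R) J).1
  letI : Algebra H' (A ⊗[R] H') := Algebra.TensorProduct.rightAlgebra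
  haveI : Algebra.IsIntegral H' (H' ⊗[R] A) := inferInstance
  haveI : Algebra.IsIntegral H' (A ⊗[R] H') := by
    let c : H' ⊗[R] A →ₐ[H'] A ⊗[R] H' := Algebra.TensorProduct.lift
      (Algebra.ofId H' _) Algebra.TensorProduct.includeLeft (fun _ _ => .all _ _)
    refine ⟨fun x => ?_⟩
    induction x using TensorProduct.induction_on with
    | zero => exact isIntegral_zero
    | tmul a h =>
      have := (Algebra.IsIntegral.isIntegral (R := H') (h ⊗ₜ[R] a)).map c
      simpa [c, Algebra.TensorProduct.right_algebraMap_apply] using this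
    | add x y hx hy => exact hx.add hy
  let K := (J.map (algebraMap R H')).map (algebraMap H' (A ⊗[R] H'))
  haveI : HenselianRing (A ⊗[R] H') K := Henz21.henselianRing_of_isIntegral _ _
  let q : A ⊗[R] H' →ₐ[A] A ⊗[R] (R ⧸ J) :=
    Algebra.TensorProduct.map (AlgHom.id A A) (Henz21.H.proj R (R ⧸ J))
  have hq : Function.Surjective q :=
    Algebra.TensorProduct.map_surjective _ _ Function.surjective_id (Hens22.proj_surjective J)
  have hK : RingHom.ker q = K := by
    refine (Algebra.TensorProduct.lTensor_ker (R := R) (A := A) _ (Hens22.proj_surjective J)).trans ?_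
    rw [Hens22.ker_proj_eq J]
    rfl
  let e : ((A ⊗[R] H') ⧸ K) ≃ₐ[A] A ⊗[R] (R ⧸ J) :=
    (Ideal.quotientEquivAlgOfEq A hK.symm).trans (Ideal.quotientKerAlgEquivOfSurjective hq)
  obtain ⟨τ₀, hτ₀⟩ := Hensel20.exists_algHom_lift K (e.symm.toAlgHom.comp σ)
  have hqτ : q.comp τ₀ = σ := by
    refine AlgHom.ext fun x => ?_
    have h1 := congrArg e (DFunLike.congr_fun hτ₀ x)
    simp only [AlgHom.comp_apply, AlgEquiv.coe_algHom, AlgEquiv.apply_symm_apply] at h1
    rw [← h1]
    rfl
  obtain ⟨i, p, hp⟩ := exists_stage τ₀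
  refine ⟨i.S, inferInstance, inferInstance, inferInstance, i.pt, p, ?_⟩
  rw [← hqτ, ← hp, ← AlgHom.comp_assoc]
  congr 1
  rw [← Algebra.TensorProduct.map_id_comp]
  congr 1
  exact AlgHom.ext fun s => (Henz21.H.proj_incl i s).symm

end Groth.Agent.SpProper61
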