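import Groth.Agent.Pinch2.MapRing

/-!
Maps of fibre squares of rings with one surjective leg.
-/

set_option autoImplicit false
set_option linter.style.haveILetI false
set_option backward.isDefEq.respectTransparency.types false

universe u

open CategoryTheory CategoryTheory.Limits TensorProduct

noncomputable section

namespace Groth.Agent.SpProper61

open Pinch2

variable {R A B C R' A' B' C' : CommRingCat.{u}}

/-- A map of fibre squares of rings (one leg surjective) which is cocartesian on the two right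
hand sides is cocartesian on both projections. -/
theorem isPushout_legs_of_fibProp {φa : R ⟶ A} {φb : R ⟶ B} {f : A ⟶ C} {g : B ⟶ C}
    {φa' : R' ⟶ A'} {φb' : R' ⟶ B'} {f' : A' ⟶ C'} {g' : B' ⟶ C'}
    {ρ : R ⟶ R'} {α : A ⟶ A'} {β : B ⟶ B'} {γ : C ⟶ C'}
    (h : FibProp φa φb f g) (h' : FibProp φa' φb' f' g') (hw : φa ≫ f = φb ≫ g) (hw' : φa' ≫ f' = φb' ≫ g')
    (ha : φa ≫ α = ρ ≫ φa') (hb : φb ≫ β = ρ ≫ φb') (hfC : IsPushout f α γ f') (hgC : IsPushout g β γ g')
    (hf : Function.Surjective f) (hφb : Function.Surjective φb) (hφb' : Function.Surjective φb') :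
    IsPushout φa ρ α φa' ∧ IsPushout φb ρ β φb' := by
  algebraize [φa.hom, ρ.hom]
  let P : CommRingCat.{u} := CommRingCat.of (A ⊗[R] R')
  let l : A ⟶ P := CommRingCat.ofHom (Algebra.TensorProduct.includeLeftRingHom : A →+* A ⊗[R] R')
  let r : R' ⟶ P := CommRingCat.ofHom (Algebra.TensorProduct.includeRight : R' →ₐ[R] A ⊗[R] R').toRingHom
  have hP : IsPushout φa ρ l r := CommRingCat.isPushout_tensorProduct R A R'
  let m : P ⟶ A' := hP.desc α φa' ha
  have hl : l ≫ m = α := hP.inl_desc _ _ _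
  have hr : r ≫ m = φa' := hP.inr_desc _ _ _
  have hkerf : ∀ y, f' y = 0 → ∃ w, φb' w = 0 ∧ φa' w = y := fun y hy => by
    obtain ⟨w, h₁, h₂⟩ := h'.2 y 0 (by rw [hy, map_zero])
    exact ⟨w, h₂, h₁⟩
  -- `A'` is generated by `A` and `R'`
  have hsurj : Function.Surjective (m ≫ f') := by
    let T := (m ≫ f').hom.range
    have hγ : ∀ c, γ c ∈ T := fun c => by
      obtain ⟨x, rfl⟩ := hf c
      exact ⟨l x, by rw [← CommRingCat.comp_apply f, hfC.w, ← hl]; rfl⟩
    have hg' : ∀ y, g' y ∈ T := fun y => by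
      obtain ⟨x, rfl⟩ := hφb' y
      exact ⟨r x, by rw [← CommRingCat.comp_apply φb', ← hw', ← hr]; rfl⟩
    let d : C' ⟶ CommRingCat.of T := hgC.desc (CommRingCat.ofHom (γ.hom.codRestrict T hγ))
      (CommRingCat.ofHom (g'.hom.codRestrict T hg'))
      (CommRingCat.hom_ext (RingHom.ext fun x => Subtype.ext (congr($(hgC.w) x))))
    have hd : d ≫ CommRingCat.ofHom T.subtype = 𝟙 C' := hgC.hom_ext
      (by rw [← Category.assoc, hgC.inl_desc, Category.comp_id]; rfl)
      (by rw [← Category.assoc, hgC.inr_desc, Category.comp_id]; rfl)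
    intro c
    obtain ⟨z, hz⟩ := (d c).2
    exact ⟨z, hz.trans congr($hd c)⟩
  have hm : Function.Surjective m := fun y => by
    obtain ⟨z, hz⟩ := hsurj (f' y)
    obtain ⟨w, -, hw₂⟩ := hkerf (y - m z) (by rw [map_sub, ← CommRingCat.comp_apply m f', hz, sub_self])
    refine ⟨z + r w, ?_⟩
    rw [map_add, ← CommRingCat.comp_apply r m, hr, hw₂]
    abel
  let K := (RingHom.ker φb.hom).map ρ.hom
  have hK : ∀ w ∈ K, φb' w = 0 := by
    suffices K ≤ RingHom.ker φb'.hom from fun w hw => this hw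
    refine Ideal.map_le_iff_le_comap.2 fun k hk => ?_
    show φb' (ρ k) = 0
    rw [← CommRingCat.comp_apply, ← hb, CommRingCat.comp_apply, RingHom.mem_ker.1 hk, map_zero]
  have key : ∀ z ∈ (RingHom.ker f.hom).map l.hom, ∃ w ∈ K, r w = z := by
    intro z hz
    induction hz using Submodule.span_induction with
    | mem x hx =>
      obtain ⟨i, hi, rfl⟩ := hx
      obtain ⟨k, hk₁, hk₂⟩ := h.2 i 0 (by rw [map_zero]; exact hi)
      refine ⟨ρ k, Ideal.mem_map_of_mem _ hk₂, ?_⟩
      rw [← CommRingCat.comp_apply, ← hP.w, CommRingCat.comp_apply, hk₁]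
    | zero => exact ⟨0, zero_mem _, map_zero _⟩
    | add x y _ _ hx hy =>
      obtain ⟨w₁, h₁, rfl⟩ := hx
      obtain ⟨w₂, h₂, rfl⟩ := hy
      exact ⟨w₁ + w₂, add_mem h₁ h₂, map_add _ _ _⟩
    | smul p x _ hx =>
      obtain ⟨w, hw₁, rfl⟩ := hx
      induction p using TensorProduct.induction_on with
      | zero => exact ⟨0, zero_mem _, by simp⟩
      | add p q hp hq =>
        obtain ⟨w₁, h₁, e₁⟩ := hp
        obtain ⟨w₂, h₂, e₂⟩ := hq
        exact ⟨w₁ + w₂, add_mem h₁ h₂, by rw [map_add, e₁, e₂, add_smul]⟩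
      | tmul x s =>
        -- `(x ⊗ s) * (1 ⊗ w)` lies in the image of `K`
        suffices ∀ v ∈ K, ∃ v' ∈ K, r v' = l x * r v by
          obtain ⟨v', hv', e⟩ := this (s * w) (Ideal.mul_mem_left _ _ hw₁)
          refine ⟨v', hv', e.trans ?_⟩
          rw [map_mul, ← mul_assoc, smul_eq_mul]
          congr 1
          show (x ⊗ₜ[R] (1 : R')) * ((1 : A) ⊗ₜ[R] s) = _
          rw [Algebra.TensorProduct.tmul_mul_tmul, mul_one, one_mul]
        intro v hv
        induction hv using Submodule.span_induction with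
        | mem y hy =>
          obtain ⟨k, hk, rfl⟩ := hy
          obtain ⟨k', hk₁, hk₂⟩ := h.2 (x * φa k) 0 (by
            rw [map_mul, ← CommRingCat.comp_apply φa, hw, CommRingCat.comp_apply, RingHom.mem_ker.1 hk,
              map_zero, mul_zero])
          refine ⟨ρ k', Ideal.mem_map_of_mem _ hk₂, ?_⟩
          rw [← CommRingCat.comp_apply, ← hP.w, CommRingCat.comp_apply, hk₁, map_mul, ← CommRingCat.comp_apply φa, hP.w]
          rfl
        | zero => exact ⟨0, zero_mem _, by simp⟩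
        | add y z _ _ hy hz =>
          obtain ⟨w₁, h₁, e₁⟩ := hy
          obtain ⟨w₂, h₂, e₂⟩ := hz
          exact ⟨w₁ + w₂, add_mem h₁ h₂, by rw [map_add, e₁, e₂, map_add, mul_add]⟩
        | smul c y _ hy =>
          obtain ⟨w₁, h₁, e₁⟩ := hy
          exact ⟨c * w₁, Ideal.mul_mem_left _ _ h₁, by rw [map_mul, e₁, smul_eq_mul, map_mul]; ring⟩
  have hpb : IsPushout φb ρ β φb' := by
    refine isPushout_of_surjective hb hφb hφb' fun x hx => ?_
    have hfx : f' (φa' x) = 0 := by
      rw [← CommRingCat.comp_apply, hw', CommRingCat.comp_apply, hx, map_zero]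
    have hmem := mem_map_ker_of_isPushout hfC hf hfx
    rw [show α.hom = m.hom.comp l.hom from (congrArg CommRingCat.Hom.hom hl).symm, ← Ideal.map_map,
      Ideal.mem_map_iff_of_surjective _ hm] at hmem
    obtain ⟨z, hz, hzx⟩ := hmem
    obtain ⟨w, hwK, rfl⟩ := key z hz
    rw [show m.hom (r w) = φa' w from congr($hr w)] at hzx
    rwa [h'.1 x w hzx.symm (hx.trans (hK w hwK).symm)]
  refine ⟨?_, hpb⟩
  have hinj : Function.Injective m := by
    rw [injective_iff_map_eq_zero]
    intro z hz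
    have hout : IsPushout (φa ≫ f) ρ γ (r ≫ m ≫ f') := by
      rw [hw, reassoc_of% hr, hw']
      exact hpb.paste_horiz hgC
    have hC := IsPushout.of_left hout (by rw [hfC.w, reassoc_of% hl]) hP
    obtain ⟨w, hwK, rfl⟩ := key z (mem_map_ker_of_isPushout hC hf (by rw [CommRingCat.comp_apply, hz, map_zero]))
    have h0 : w = 0 := h'.1 w 0 (by rw [map_zero, ← hz]; exact congr($hr w).symm) (by rw [map_zero, hK w hwK])
    rw [h0, map_zero]
  haveI : IsIso m := (ConcreteCategory.isIso_iff_bijective m).2 ⟨hinj, hm⟩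
  exact hP.of_iso (Iso.refl _) (Iso.refl _) (Iso.refl _) (asIso m) (by simp) (by simp) (by simp [hl]) (by simp [hr])

end Groth.Agent.SpProper61
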