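import Groth.Agent.SpProper61.Tuples
import Groth.Agent.SpPts86.FreeQuotSep
import Groth.Agent.SpPts86.QuotFinite
import Groth.Agent.SpPts86.EtaleMor
import Groth.Agent.SpFP87.MultLocus
import Groth.Agent.Sga84.FiniteSigma

/-!
The unordered tuples: quotient of the fibre power minus diagonals by the symmetric group.
-/

universe u

set_option autoImplicit false
set_option backward.isDefEq.respectTransparency false

open CategoryTheory CategoryTheory.Limits AlgebraicGeometry Topology
open AlgSp Groth.Agent.SpFP87 Groth.Agent.SpPts86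

namespace Groth.Agent.SpProper61

variable {S : Scheme.{u}} {X : Space S} {U : Over S} {a : (yon S).obj U ⟶ X.obj} {ι : Type}

theorem DTup.exists_perm (W : DTup a ι) (e : Equiv.Perm ι) : ∃ m : W.P ⟶ W.P, ∀ i, m ≫ W.π i = W.π (e i) :=
  W.exists_lift _ (fun i j => W.compat _ _) fun t i j hij => W.dist t _ _ (e.injective.ne hij)

noncomputable def DTup.permHom (W : DTup a ι) (e : Equiv.Perm ι) : W.P ⟶ W.P :=
  (W.exists_perm e).choose

theorem DTup.permHom_π (W : DTup a ι) (e : Equiv.Perm ι) (i : ι) : W.permHom e ≫ W.π i = W.π (e i) :=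
  (W.exists_perm e).choose_spec i

theorem DTup.permHom_mul (W : DTup a ι) (e f : Equiv.Perm ι) :
    W.permHom e ≫ W.permHom f = W.permHom (e * f) :=
  W.ext _ _ fun i => by rw [Category.assoc, W.permHom_π, W.permHom_π, W.permHom_π]; rfl

theorem DTup.permHom_one (W : DTup a ι) : W.permHom 1 = 𝟙 W.P :=
  W.ext _ _ fun i => by rw [W.permHom_π, Category.id_comp]; rfl

noncomputable def DTup.perm (W : DTup a ι) : ULift.{u} (Equiv.Perm ι) →* Aut W.P where
  toFun g :=
    { hom := W.permHom g.down⁻¹
      inv := W.permHom g.down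
      hom_inv_id := by rw [W.permHom_mul, inv_mul_cancel, W.permHom_one]
      inv_hom_id := by rw [W.permHom_mul, mul_inv_cancel, W.permHom_one] }
  map_one' := by ext; simp [W.permHom_one]; rfl
  map_mul' g h := by
    refine Aut.ext ?_
    show W.permHom (g * h).down⁻¹ = W.permHom h.down⁻¹ ≫ W.permHom g.down⁻¹
    rw [W.permHom_mul, ← mul_inv_rev]
    rfl

theorem DTup.perm_π (W : DTup a ι) (g : ULift.{u} (Equiv.Perm ι)) (i : ι) :
    (W.perm g).hom ≫ W.π i = W.π (g.down⁻¹ i) :=
  W.permHom_π _ i

theorem DTup.perm_free (W : DTup a ι) (g : ULift.{u} (Equiv.Perm ι)) (x : ↥W.P.left) (hg : g ≠ 1) :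
    W.P.left.fromSpecResidueField x ≫ (W.perm g).hom.left ≠ W.P.left.fromSpecResidueField x := by
  intro h
  obtain ⟨i, hi⟩ : ∃ i, g.down⁻¹ i ≠ i := by
    by_contra hh
    push Not at hh
    exact hg (ULift.ext _ _ (inv_eq_one.1 (Equiv.ext hh)))
  refine W.dist x _ _ hi ?_
  rw [← W.perm_π g i, Over.comp_left, ← Category.assoc, h]

theorem isSeparated_of_finite_cover {W V : Scheme.{u}} (m : W ⟶ V) [IsFinite m] [Surjective m] [W.IsSeparated] :
    V.IsSeparated := by
  let δ : V ⟶ pullback (terminal.from V) (terminal.from V) := pullback.diagonal (terminal.from V)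
  let M : pullback (terminal.from W) (terminal.from W) ⟶ pullback (terminal.from V) (terminal.from V) :=
    pullback.map _ _ _ _ m m (𝟙 _) (terminal.hom_ext _ _) (terminal.hom_ext _ _)
  have hM : UniversallyClosed M :=
    MorphismProperty.pullbackMap (P := @UniversallyClosed) (inferInstance : UniversallyClosed m)
      (inferInstance : UniversallyClosed m) (terminal.hom_ext _ _) (terminal.hom_ext _ _)
  let r : pullback m m ⟶ pullback (terminal.from W) (terminal.from W) :=
    pullback.lift (pullback.fst m m) (pullback.snd m m) (terminal.hom_ext _ _)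
  have : AlgebraicGeometry.IsSeparated (terminal.from W) := Scheme.IsSeparated.isSeparated_terminal_from
  have : UniversallyClosed (r ≫ pullback.fst (terminal.from W) (terminal.from W)) := by
    rw [pullback.lift_fst]; infer_instance
  have hr : UniversallyClosed r := UniversallyClosed.of_comp_of_isSeparated r (pullback.fst (terminal.from W) (terminal.from W))
  have hsq : r ≫ M = (pullback.fst m m ≫ m) ≫ δ := by
    apply pullback.hom_ext
    · simp [r, M, δ]
    · simp [r, M, δ, pullback.condition]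
  have hrange : Set.range δ = M '' Set.range r := by
    ext z
    constructor
    · rintro ⟨v, rfl⟩
      obtain ⟨w, rfl⟩ := m.surjective v
      refine ⟨r (pullback.lift (𝟙 W) (𝟙 W) rfl w), ⟨_, rfl⟩, ?_⟩
      rw [← Scheme.Hom.comp_apply r, hsq, ← Scheme.Hom.comp_apply, ← Category.assoc, ← Category.assoc,
        pullback.lift_fst, Category.id_comp, Scheme.Hom.comp_apply]
    · rintro ⟨_, ⟨p, rfl⟩, rfl⟩
      exact ⟨(pullback.fst m m ≫ m) p, by rw [← Scheme.Hom.comp_apply, ← hsq]; rfl⟩
  have : IsClosedImmersion δ := IsClosedImmersion.of_isPreimmersion δ (by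
    rw [hrange]
    exact M.isClosedMap _ r.isClosedMap.isClosed_range)
  exact ⟨⟨this⟩⟩

theorem exists_tuple_quot_finite [IsAffine U.left] (ha : RepWith @Etale a) (n : ℕ) :
    ∃ (W : DTup a (Fin (n + 1))) (V : Over S) (m : W.P ⟶ V) (f : (yon S).obj V ⟶ X.obj),
      V.left.IsSeparated ∧ Etale m.left ∧ Surjective m.left ∧ IsFinite m.left ∧ RepWith @Etale f ∧
      (yon S).map m ≫ f = (yon S).map (W.π 0) ≫ a ∧
      (∀ g, (W.perm g).hom ≫ m = m) ∧ (RepWith @QuasiCompact a → CompactSpace ↥W.P.left ∧ CompactSpace ↥V.left) := by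
  obtain ⟨W, hπ, ⟨Z, q, hZ, hqm, hql⟩, hqc⟩ := exists_dtup ha n
  have := hZ
  have : LocallyQuasiFinite q := by
    have := mono_inf_lft_le_sepLQF q ⟨hqm, hql⟩
    exact this.2.1
  have hfin : ∀ A : Set ↥W.P.left, A.Finite → ∃ O : W.P.left.Opens, IsAffineOpen O ∧ A ⊆ (O : Set ↥W.P.left) :=
    fun A hA => ConstQuot97.exists_affineOpen_of_finite q hA
  have : W.P.left.IsSeparated := by
    have : AlgebraicGeometry.IsSeparated (terminal.from W.P.left) := by
      rw [← terminal.comp_from q]
      infer_instance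
    exact ⟨this⟩
  let G := ULift.{u} (Equiv.Perm (Fin (n + 1)))
  let c : Cofan (fun _ : G => W.P) := Cofan.mk (sigmaOver fun _ : G => W.P) (sigmaIn _)
  have hc : IsColimit c := sigmaOverIsColimit _
  let s : c.pt ⟶ W.P := sigmaOut fun _ : G => 𝟙 W.P
  let t : c.pt ⟶ W.P := sigmaOut fun g : G => (W.perm g).hom
  have hs : ∀ g, c.inj g ≫ s = 𝟙 W.P := fun g => sigmaIn_out _ g
  have ht : ∀ g, c.inj g ≫ t = (W.perm g).hom := fun g => sigmaIn_out _ g
  have hrel := isEtaleEqvRel_free_action W.perm W.perm_free hc hs ht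
  have hse : Etale s.left := hrel.etale_left
  have : IsFinite s.left := FiniteSigma84.isFinite_sigmaDesc (fun _ : G => (𝟙 W.P : W.P ⟶ W.P).left)
  obtain ⟨hQ, hp, hps⟩ := quotMap_atlas hrel
  have hk := quotMap_kernelPair hrel.toIsEqvRel
  obtain ⟨V, ⟨e⟩⟩ := exists_iso_of_finLocFree_cover (locLift_quotMap s t) hk hfin
  obtain ⟨m, hm⟩ := (yon S).map_surjective (quotMap s t ≫ e.inv)
  have hme : Etale m.left := (repWith_yon_map_iff _ m).1
    (by rw [hm]; exact (MorphismProperty.cancel_right_of_respectsIso (RepWith @Etale) _ _).2 hp)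
  have hms : Surjective m.left := (repWith_yon_map_iff _ m).1
    (by rw [hm]; exact (MorphismProperty.cancel_right_of_respectsIso (RepWith @Surjective) _ _).2 hps)
  have hinv : ∀ g, (W.perm g).hom ≫ m = m := fun g => by
    have h1 : t ≫ m = s ≫ m := (yon S).map_injective (by
      rw [Functor.map_comp, Functor.map_comp, hm, ← Category.assoc, hk.w, Category.assoc])
    rw [← ht g, Category.assoc, h1, ← Category.assoc, hs, Category.id_comp]
  have hkV : IsPullback t.left s.left m.left m.left := by
    refine isPullback_left_of_yon ?_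
    rw [hm]
    exact isPullback_comp_mono hk e.inv
  have : IsFinite m.left := by
    have : MorphismProperty.DescendsAlong (@IsFinite : MorphismProperty Scheme.{u}) fppfSurj := isFinite_descends.{u}
    exact MorphismProperty.of_isPullback_of_descendsAlong (P := @IsFinite) (Q := fppfSurj) hkV.flip
      (etale_surjective_le_fppfSurj _ ⟨hme, hms⟩) ‹IsFinite s.left›
  obtain ⟨hcol⟩ := isColimit_cofork (locLift_quotMap s t) hk
  obtain ⟨f₀, hf₀⟩ := Cofork.IsColimit.desc' hcol ((yon S).map (W.π 0) ≫ a) (by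
    rw [← Category.assoc, ← Category.assoc, ← Functor.map_comp, ← Functor.map_comp]
    obtain ⟨hio, hcov⟩ := cofan_cover hc
    refine open_cover_hom_ext (fun _ : G => W.P) (fun g => c.inj g) hio hcov fun g => ?_
    rw [← Category.assoc, ← Category.assoc, ← Functor.map_comp, ← Functor.map_comp, ← Category.assoc (c.inj g),
      ← Category.assoc (c.inj g), ht, hs, W.perm_π, Category.id_comp, W.compat])
  change quotMap s t ≫ f₀ = (yon S).map (W.π 0) ≫ a at hf₀
  have hfm : (yon S).map m ≫ e.hom ≫ f₀ = (yon S).map (W.π 0) ≫ a := by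
    rw [hm, Category.assoc, e.inv_hom_id_assoc, hf₀]
  refine ⟨W, V, m, e.hom ≫ f₀, isSeparated_of_finite_cover m.left, hme, hms, ‹IsFinite m.left›, ?_, hfm, hinv, fun hq => ?_⟩
  · refine repWith_etale_of_precomp X.property m ?_
    rw [hfm]
    exact MorphismProperty.comp_mem _ _ _ ((repWith_yon_map_iff _ _).2 hπ) ha
  · have := hqc hq
    exact ⟨this, m.left.surjective.compactSpace m.left.continuous⟩

/-- The quotient of the tuples by permutations, without the finiteness of the quotient map. -/
theorem exists_tuple_quot [IsAffine U.left] (ha : RepWith @Etale a) (n : ℕ) :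
    ∃ (W : DTup a (Fin (n + 1))) (V : Over S) (m : W.P ⟶ V) (f : (yon S).obj V ⟶ X.obj),
      V.left.IsSeparated ∧ Etale m.left ∧ Surjective m.left ∧ RepWith @Etale f ∧
      (yon S).map m ≫ f = (yon S).map (W.π 0) ≫ a ∧
      (∀ g, (W.perm g).hom ≫ m = m) ∧ (RepWith @QuasiCompact a → CompactSpace ↥W.P.left ∧ CompactSpace ↥V.left) := by
  obtain ⟨W, V, m, f, h1, h2, h3, -, h4⟩ := exists_tuple_quot_finite ha n
  exact ⟨W, V, m, f, h1, h2, h3, h4⟩

end Groth.Agent.SpProper61
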